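import Cfsg.Agent.Cit.Nil.Three.Lem_m3
import Cfsg.Agent.Cit.Nil.RTwoM.Base_m3
import Cfsg.Agent.Cit.Nil.RG.Tri
import Cfsg.Agent.FastGrp
import Cfsg.Agent.Prune
set_option linter.all false
prune_inst 0x7f00000000000000000000000000000000000000000000000000000000000000000000000000000000000000000000000000000000000000000000000000000000000000000000000000000000000000003fffffffffffffffffffffffffffbeffbdffffffff
open scoped Cfsg.Agent.FastGrp

/-!
# S1309 (n6), COMP, `r = 2`, the section of a block: the stabiliser of a block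

* `NB A` : the stabiliser of the set `A`; `OBl Om A` : the members over `A`; `BA Om A` : the group generated by them;
  `PB Om A` : the members over `A` as subgroups of `NB A`;
* `Blk Om A` : `A` is a block without C-pairs; `Blk.w2 : W2 (PB Om A)`;
* `Blk.inZ_iff`, `Blk.mem_iff`, `Blk.cx_iff`, `Blk.sw_iff`, `Blk.sSup_map` : the dictionary.
-/

set_option autoImplicit false
set_option linter.style.haveILetI false
set_option linter.unusedSectionVars false

namespace Cfsg.Agent.Cit.Nil.CompR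

open Subgroup Cfsg Cfsg.Agent.Cit Cfsg.Agent.Cit.Nil.RTwo
open RG (WR ZZ Ov RR)
open RTwoM (WM)

variable {G : Type*} [Group G]

/-- the stabiliser of `A` -/
def NB (A : Set G) : Subgroup G where
  carrier := {g | ∀ x, x ∈ A ↔ g * x * g⁻¹ ∈ A}
  one_mem' := fun x => by rw [one_mul, inv_one, mul_one]
  mul_mem' := by
    intro a b ha hb x
    rw [hb x, ha (b * x * b⁻¹)]
    have e : a * (b * x * b⁻¹) * a⁻¹ = a * b * x * (a * b)⁻¹ := by group
    rw [e]
  inv_mem' := by
    intro a ha x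
    have e : a * (a⁻¹ * x * a⁻¹⁻¹) * a⁻¹ = x := by group
    rw [ha (a⁻¹ * x * a⁻¹⁻¹), e]

theorem mem_NB {A : Set G} {g : G} : g ∈ NB A ↔ ∀ x, x ∈ A ↔ g * x * g⁻¹ ∈ A := Iff.rfl

/-- the members over `A` -/
def OBl (Om : Set (Subgroup G)) (A : Set G) : Set (Subgroup G) := {K | K ∈ Om ∧ zz K ∈ A}

/-- the group generated by the members over `A` -/
def BA (Om : Set (Subgroup G)) (A : Set G) : Subgroup G := sSup (OBl Om A)

/-- the members over `A` in the stabiliser of `A` -/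
def PB (Om : Set (Subgroup G)) (A : Set G) : Set (Subgroup ↥(NB A)) := {K | K.map (NB A).subtype ∈ OBl Om A}

/-- `A` is a block without C-pairs -/
structure Blk (Om : Set (Subgroup G)) (A : Set G) : Prop where
  w : WM Om
  sub : A ⊆ ZZ Om
  cen : ∀ a ∈ A, centralizer {a} ≤ NB A
  nc : ∀ K ∈ OBl Om A, ∀ L ∈ OBl Om A, (∀ k ∈ K, ∀ l ∈ L, k * l = l * k) → zz K = zz L

namespace Blk

variable [Finite G] {Om : Set (Subgroup G)} {A : Set G} {K L : Subgroup G} {v : ↥(NB A)} {x g : ↥(NB A)} (b : Blk Om A)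

include b

theorem wr : WR Om := WR.of_hyp b.w.hyp b.w.card

/-- `C(v) ≤ N` -/
theorem mem_NB_of {a g : G} (ha : a ∈ A) (hg : g * a = a * g) : g ∈ NB A :=
  b.cen a ha (mem_centralizer_singleton_iff.2 hg)

theorem le (hK : K ∈ OBl Om A) : K ≤ NB A := fun _ hk =>
  b.mem_NB_of hK.2 (b.w.hyp.comm_zz hK.1 (le_normalizer hk))

theorem subgroupOf_mem (hK : K ∈ OBl Om A) : K.subgroupOf (NB A) ∈ PB Om A := by
  change (K.subgroupOf (NB A)).map (NB A).subtype ∈ OBl Om A
  rw [map_subgroupOf_eq_of_le (b.le hK)]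
  exact hK

theorem PB_sub : PB Om A ⊆ restr Om (NB A) := fun _ hK => hK.1

theorem zz_coe {K : Subgroup ↥(NB A)} (hK : K ∈ PB Om A) : ((zz K : ↥(NB A)) : G) = zz (K.map (NB A).subtype) :=
  zz_map b.w.hyp (b.PB_sub hK)

theorem zz_subOf (hK : K ∈ OBl Om A) : ((zz (K.subgroupOf (NB A)) : ↥(NB A)) : G) = zz K := by
  rw [b.zz_coe (b.subgroupOf_mem hK), map_subgroupOf_eq_of_le (b.le hK)]

theorem w2 : W2 (PB Om A) := by
  refine ⟨QuoCen.hyp_subset (b.w.hyp.restr (NB A)) b.PB_sub ?_, ?_, ?_, ?_⟩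
  · intro K hK g
    have h1 : (cj g K).map (NB A).subtype = cj (g : G) (K.map (NB A).subtype) := cj_map _ g K
    change (cj g K).map (NB A).subtype ∈ OBl Om A
    rw [h1]
    refine ⟨b.w.hyp.conj _ hK.1 _, ?_⟩
    rw [b.w.hyp.zz_cj hK.1]
    exact (mem_NB.1 g.2 _).1 hK.2
  · intro K hK
    rw [← b.w.card _ hK.1, card_map_of_injective (NB A).subtype_injective]
  · intro K hK
    obtain ⟨L, hL, hne, hzL, hall⟩ := b.w.two _ hK.1
    have hLA : L ∈ OBl Om A := ⟨hL, by rw [hzL]; exact hK.2⟩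
    refine ⟨L.subgroupOf (NB A), b.subgroupOf_mem hLA, ?_, ?_, ?_⟩
    · rintro rfl
      exact hne (map_subgroupOf_eq_of_le (b.le hLA)).symm
    · apply Subtype.ext
      rw [b.zz_subOf hLA, b.zz_coe hK, hzL]
    · intro M hM hz
      have h1 : zz (M.map (NB A).subtype) = zz (K.map (NB A).subtype) := by
        rw [← b.zz_coe hM, ← b.zz_coe hK, hz]
      rcases hall _ hM.1 h1 with h2 | h2
      · left; exact map_injective (NB A).subtype_injective h2
      · right
        apply map_injective (NB A).subtype_injective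
        rw [h2, map_subgroupOf_eq_of_le (b.le hLA)]
  · intro K hK L hL hc
    apply Subtype.ext
    rw [b.zz_coe hK, b.zz_coe hL]
    refine b.nc _ hK _ hL ?_
    rintro _ ⟨k, hk, rfl⟩ _ ⟨l, hl, rfl⟩
    exact congrArg Subtype.val (hc k hk l hl)

/-- the members over a point of the block -/
theorem mem_iff {K : Subgroup ↥(NB A)} : Mem (PB Om A) v K ↔ (v : G) ∈ A ∧ K.map (NB A).subtype ∈ Ov Om (v : G) := by
  constructor
  · rintro ⟨hK, rfl⟩
    rw [b.zz_coe hK]
    exact ⟨hK.2, hK.1, rfl⟩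
  · rintro ⟨hv, hK, hz⟩
    have h1 : K ∈ PB Om A := ⟨hK, by rw [hz]; exact hv⟩
    exact ⟨h1, Subtype.ext (by rw [b.zz_coe h1, hz])⟩

theorem mem_of (hv : (v : G) ∈ A) (hK : K ∈ Ov Om (v : G)) : Mem (PB Om A) v (K.subgroupOf (NB A)) := by
  have h1 : K ∈ OBl Om A := ⟨hK.1, by rw [hK.2]; exact hv⟩
  exact ⟨b.subgroupOf_mem h1, Subtype.ext (by rw [b.zz_subOf h1, hK.2])⟩

theorem inZ_iff : InZ (PB Om A) v ↔ (v : G) ∈ A := by
  constructor
  · rintro ⟨K, hK⟩
    exact (b.mem_iff.1 hK).1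
  · intro hv
    obtain ⟨K, hK, hz⟩ := b.sub hv
    exact ⟨_, b.mem_of hv ⟨hK, hz⟩⟩

/-- a point of the block lies in the stabiliser -/
theorem point_mem {a : G} (ha : a ∈ A) : a ∈ NB A := b.mem_NB_of ha rfl

theorem cx_iff (hv : (v : G) ∈ A) : x ∈ CX (PB Om A) v ↔ ∀ k ∈ RR Om (v : G), (x : G) * k = k * x := by
  rw [RTwo.mem_CX]
  constructor
  · intro h
    have h1 : RR Om (v : G) ≤ centralizer {(x : G)} := by
      refine RG.SS_le fun K hK k hk => ?_
      have h1 : K ∈ OBl Om A := ⟨hK.1, by rw [hK.2]; exact hv⟩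
      have h2 := h _ (b.mem_of hv hK) ⟨k, b.le h1 hk⟩ hk
      exact mem_centralizer_singleton_iff.2 (congrArg Subtype.val h2).symm
    exact fun k hk => (mem_centralizer_singleton_iff.1 (h1 hk)).symm
  · intro h K hK k hk
    have h1 := (b.mem_iff.1 hK).2
    exact Subtype.ext (h k (WR.le_RR h1 ⟨k, hk, rfl⟩))

theorem sw_iff (hv : (v : G) ∈ A) : Sw (PB Om A) v g ↔ ∀ K ∈ Ov Om (v : G), cj (g : G) K ≠ K := by
  constructor
  · intro h K hK h1
    have h2 : K ∈ OBl Om A := ⟨hK.1, by rw [hK.2]; exact hv⟩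
    refine h _ (b.mem_of hv hK) ?_
    apply map_injective (NB A).subtype_injective
    have h3 : (cj g (K.subgroupOf (NB A))).map (NB A).subtype = cj (g : G) ((K.subgroupOf (NB A)).map (NB A).subtype) :=
      cj_map _ g _
    rw [h3, map_subgroupOf_eq_of_le (b.le h2), h1]
  · intro h K hK h1
    refine h _ (b.mem_iff.1 hK).2 ?_
    have h3 : (cj g K).map (NB A).subtype = cj (g : G) (K.map (NB A).subtype) := cj_map _ g _
    rw [← h3, h1]

theorem BA_le : BA Om A ≤ NB A := sSup_le fun _ hK => b.le hK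

/-- `B` -/
theorem sSup_map : (sSup (PB Om A)).map (NB A).subtype = BA Om A := by
  rw [BA]
  refine le_antisymm ?_ ?_
  · rw [map_le_iff_le_comap]
    refine sSup_le fun K hK => ?_
    rw [← map_le_iff_le_comap]
    exact le_sSup (show K.map (NB A).subtype ∈ OBl Om A from hK)
  · refine sSup_le fun K hK => ?_
    rw [← map_subgroupOf_eq_of_le (b.le hK)]
    exact Subgroup.map_mono (le_sSup (b.subgroupOf_mem hK))

theorem mem_sSup_iff : x ∈ sSup (PB Om A) ↔ (x : G) ∈ BA Om A := by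
  rw [← b.sSup_map]
  exact ⟨fun h => ⟨x, h, rfl⟩, fun ⟨y, hy, h⟩ => by rwa [← Subtype.ext (a1 := y) (a2 := x) h]⟩

end Blk

end Cfsg.Agent.Cit.Nil.CompR

private theorem dce_51d299cd6ff1 : _root_.True := by
  try have : _root_.True := by simp only [_root_.Cfsg.Agent.Cit.Nil.CompR.BA.eq_1]
  exact _root_.True.intro
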