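import Cfsg.Agent.Cit.Nil.SC_m3
import Cfsg.Agent.Cit.Nil.Comp.ProdEnd_m3
import Cfsg.Agent.Cit.WeakCl
import Cfsg.Agent.KFacts.RgdFld.Two_m3
import Cfsg.Agent.Cit.Nil.RFour.Gen_m3
import Cfsg.Agent.Cit.Nil.Comp.MThreeAbs
import Cfsg.Agent.GH.QB.ModelG2_m3
import Mathlib
import Cfsg.Agent.Cit.Nil.RFour.SClosed
import Cfsg.Agent.TwoFusion.StronglyEmbeddedBasic
import Cfsg.Agent.Cit.Nil.AbSyl
import Cfsg.Agent.Lib.KleinGen
import Cfsg.Agent.Cit.TorFunctor_m3
import Cfsg.Agent.Cit.Nil.Three.Lem_m3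
import Cfsg.Agent.Cit.Nil.RTwoM.Base_m3
import Cfsg.Agent.Cit.Nil.End
import Cfsg.Agent.Cit.CorTwo
import Cfsg.Agent.Cit.Nil.RTwoM.L1.GraphC_m3
import Cfsg.Agent.Cit.Nil.RI.Closed_m3
import Cfsg.Agent.Cit.Nil.LO.FormQ_m3
import Cfsg.Agent.Cit.Nil.CVA2.BenSyl
import Cfsg.Agent.Lib.GenFitting
import Cfsg.Agent.Cit.Nil.RG.Closed
import Cfsg.Agent.Cit.Nil.CVT.RkOne
import Cfsg.Agent.Cit.Nil.CVA2.FFive
import Cfsg.Agent.Cit.Nil.CompR.SecBlk
import Cfsg.Agent.FastGrp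
import Cfsg.Agent.Prune
set_option linter.all false

section
prune_inst 0x7ffcfef9afb83ddfffff7e7ffffddffdf9fcffffffdffbfbffedebffbfff6b6ffbe5fbaf7fecd8fd9ef6e0b4b0f87b53f9feee7feb6bdc7ffffd5ff45ffbff9fbfefbf8c51d6b83e1ffe6ffffbf17fce7f3ffffffffffffffffffffffffffffffffdffffffff

-- part: Cit/Nil/SCW
section
set_option linter.all false
open scoped Cfsg.Agent.FastGrp

/-!
# S1309: SC for the worlds `r ≥ 2`, `m = 1`

`Om` : members are 2-groups, commuting members have the same `zz` (`m = 1`), over every `z` there are two different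
members (`r ≥ 2`); `G0 = F*(G)` simple, all members in `G0`.

* `Wd.central` : `K ≤ S` : `zz K` is central in the Sylow 2-subgroup `S`;
* `Wd.false_of_closed` : no strongly closed commutative subgroup in `G0` (Bender's theorem, S1169);
* `Wd.eq_bot` : **SC** : `N z = 1`.
-/

set_option autoImplicit false
set_option linter.style.haveILetI false
set_option linter.unusedSectionVars false

namespace Cfsg.Agent.Cit.Nil.SC

open Subgroup Cfsg Cfsg.Agent.Cit Cfsg.Agent.Cit.Nil.ROne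

variable {G : Type*} [Group G] {Om : Set (Subgroup G)} {G0 K L A : Subgroup G} {N : G → Subgroup G} {z g : G}

/-- the world of SC -/
structure Wd (Om : Set (Subgroup G)) : Prop where
  hyp : Hyp Om
  two : ∀ K ∈ Om, IsPGroup 2 K
  one : ∀ K ∈ Om, ∀ L ∈ Om, (∀ k ∈ K, ∀ l ∈ L, k * l = l * k) → zz K = zz L
  dbl : ∀ K ∈ Om, ∃ L ∈ Om, L ≠ K ∧ zz L = zz K
  ne : Om.Nonempty

namespace Wd

variable [Finite G] (h : Wd Om)

include h

theorem mem_OmS (hK : K ∈ Om) {S : Subgroup G} (hKS : K ≤ S) : K ∈ OmS Om S :=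
  mem_OmS_of_le hK (syl_self (h.two K hK)) hKS

theorem comm {S : Subgroup G} (hS : IsPGroup 2 S) (hK : K ∈ Om) (hL : L ∈ Om) (hKS : K ≤ S) (hLS : L ≤ S)
    (hne : K ≠ L) {k l : G} (hk : k ∈ K) (hl : l ∈ L) : k * l = l * k :=
  h.hyp.comm hS (h.mem_OmS hK hKS) (h.mem_OmS hL hLS) hne ⟨hk, hKS hk⟩ ⟨hl, hLS hl⟩

theorem zz_eq {S : Subgroup G} (hS : IsPGroup 2 S) (hK : K ∈ Om) (hL : L ∈ Om) (hKS : K ≤ S) (hLS : L ≤ S) :
    zz K = zz L := by
  by_cases hne : K = L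
  · rw [hne]
  · exact h.one K hK L hL fun k hk l hl => h.comm hS hK hL hKS hLS hne hk hl

/-- `zz K` is central in `S ≥ K` -/
theorem central {S : Subgroup G} (hS : IsPGroup 2 S) (hK : K ∈ Om) (hKS : K ≤ S) {s : G} (hs : s ∈ S) :
    s * zz K = zz K * s := by
  have h1 : cj s K ≤ S := by
    have h2 := cj_mono s hKS
    rwa [mem_normalizer_iff_cj.1 (le_normalizer hs)] at h2
  have h2 := h.zz_eq hS hK (h.hyp.conj K hK s) hKS h1
  rw [h.hyp.zz_cj hK] at h2
  rw [← mul_inv_eq_iff_eq_mul, ← h2]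

/-- every Sylow 2-subgroup contains two members over the same `z` -/
theorem exists_two (S : Sylow 2 G) : ∃ K ∈ Om, ∃ L ∈ Om, K ≠ L ∧ zz L = zz K ∧ K ≤ S ∧ L ≤ S := by
  obtain ⟨K, hK⟩ := h.ne
  obtain ⟨L, hL, hne, hz⟩ := h.dbl K hK
  have hc : ∀ k ∈ K, ∀ l ∈ L, k * l = l * k := by
    have h1 := h.hyp.comm_of_zz_comm hK hL (h.two K hK) (h.two L hL) (fun k hk => by
      rw [hz]; exact h.hyp.comm_zz hK (le_normalizer hk)) hne.symm
    exact h1
  have h1 : K ≤ normalizer (L : Set G) := by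
    intro k hk
    rw [mem_normalizer_iff_cj]
    ext x
    rw [mem_cj]
    constructor
    · intro hx
      have h2 := hc k hk _ hx
      have h3 : x = k⁻¹ * x * k := by
        have h4 : k * (k⁻¹ * x * k) = x * k := by group
        rw [h4] at h2
        exact mul_right_cancel h2
      rw [h3]; exact hx
    · intro hx
      have h2 := hc k hk _ hx
      have h3 : k⁻¹ * x * k = x := by rw [mul_assoc, ← h2]; group
      rw [h3]; exact hx
  have h2 : IsPGroup 2 (K ⊔ L : Subgroup G) := Cit.OneBasic.isPGroup_sup_of_normalizes (h.two K hK) (h.two L hL) h1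
  obtain ⟨S', hS'⟩ := h2.exists_le_sylow
  obtain ⟨g, hg⟩ := exists_cj_sylow S' S
  refine ⟨cj g K, h.hyp.conj K hK g, cj g L, h.hyp.conj L hL g, fun h3 => hne (cj_inj.1 h3).symm, ?_, ?_, ?_⟩
  · rw [h.hyp.zz_cj hK, h.hyp.zz_cj hL, hz]
  · rw [← hg]; exact cj_mono g (le_sup_left.trans hS')
  · rw [← hg]; exact cj_mono g (le_sup_right.trans hS')

/-- **no strongly closed commutative subgroup in `G0`** -/
theorem false_of_closed (f : FSimp G0) (hle : ∀ K ∈ Om, K ≤ G0) (gold : Cit.ROne.Gold G0) (hB : CloEnd.Bend G0)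
    (S : Sylow 2 G) (hA : A ≠ ⊥) (hAG : A ≤ G0) (hc : ∀ x ∈ A, ∀ y ∈ A, x * y = y * x) :
    ¬ IsStronglyClosed A (S : Subgroup G) := by
  intro hsc
  obtain ⟨K, hK, L, hL, hne, -, hKS, hLS⟩ := h.exists_two S
  obtain ⟨T, hT⟩ := exists_sylow_subgroupOf f.nor S
  have hA' : A.subgroupOf G0 ≠ ⊥ := by
    intro h1
    apply hA
    rw [← map_subgroupOf_eq_of_le hAG, h1, Subgroup.map_bot]
  have hc' : ∀ x ∈ A.subgroupOf G0, ∀ y ∈ A.subgroupOf G0, x * y = y * x := fun x hx y hy =>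
    Subtype.ext (hc x hx y hy)
  have hsc' : IsStronglyClosed (A.subgroupOf G0) (T : Subgroup G0) := by
    refine ⟨?_, fun x hx g hg => ?_⟩
    · rw [hT]
      exact comap_mono hsc.1
    · rw [hT] at hg
      exact hsc.2 x hx g hg
  have key : ∀ K ∈ Om, K ≤ (S : Subgroup G) → K.subgroupOf G0 ∈ OmS (restr Om G0) (T : Subgroup G0) := by
    intro K hK hKS
    refine mem_OmS_of_le (subgroupOf_mem_restr hK (hle K hK)) (syl_self ((h.two K hK).comap_subtype)) ?_
    rw [hT]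
    exact comap_mono hKS
  refine Cit.ROne.false_of_closed (h.hyp.restr G0) T (key K hK hKS) (key L hL hLS) ?_ gold hB hA' hc' hsc'
  intro h1
  apply hne
  rw [← map_subgroupOf_eq_of_le (hle K hK), h1, map_subgroupOf_eq_of_le (hle L hL)]

/-- the situation of SC -/
theorem sit (f : FSimp G0) (hle : ∀ K ∈ Om, K ≤ G0) (gold : Cit.ROne.Gold G0) (hB : CloEnd.Bend G0)
    (cores : ∀ K ∈ Om, OO (centralizer {zz K}) = ⊥)
    (eqv : ∀ K ∈ Om, ∀ g : G, N (g * zz K * g⁻¹) = cj g (N (zz K)))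
    (cent : ∀ K ∈ Om, ∀ n ∈ N (zz K), n * zz K = zz K * n)
    (comm : ∀ K ∈ Om, ∀ L ∈ Om, zz K * zz L = zz L * zz K → N (zz K) = N (zz L)) :
    Sit {z | ∃ K ∈ Om, zz K = z} G0 N where
  sq := by
    rintro _ ⟨K, hK, rfl⟩
    have h1 := pow_orderOf_eq_one (zz K)
    rwa [h.hyp.orderOf_zz hK, pow_two] at h1
  ne := by
    rintro _ ⟨K, hK, rfl⟩ h1
    have h2 := h.hyp.orderOf_zz hK
    rw [h1, orderOf_one] at h2
    omega
  conj := by
    rintro _ ⟨K, hK, rfl⟩ g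
    exact ⟨cj g K, h.hyp.conj K hK g, h.hyp.zz_cj hK g⟩
  fs := f
  sub := by
    rintro _ ⟨K, hK, rfl⟩
    exact hle K hK (h.hyp.zz_mem hK)
  syl S := by
    obtain ⟨K, hK, L, hL, hne, -, hKS, hLS⟩ := h.exists_two S
    exact ⟨_, ⟨K, hK, rfl⟩, fun s hs => h.central S.isPGroup' hK hKS hs⟩
  cores := by
    rintro _ ⟨K, hK, rfl⟩
    exact cores K hK
  closed S A h1 h2 h3 := h.false_of_closed f hle gold hB S h1 h2 h3
  eqv := by
    rintro _ ⟨K, hK, rfl⟩
    exact eqv K hK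
  cent := by
    rintro _ ⟨K, hK, rfl⟩
    exact cent K hK
  comm := by
    rintro _ ⟨K, hK, rfl⟩ _ ⟨L, hL, rfl⟩
    exact comm K hK L hL

/-- **SC** -/
theorem eq_bot (f : FSimp G0) (hle : ∀ K ∈ Om, K ≤ G0) (gold : Cit.ROne.Gold G0) (hB : CloEnd.Bend G0)
    (h1173 : ∀ (S : Sylow 2 G) (T : Subgroup G), IsStronglyClosed T (S : Subgroup G) →
      ((⨅ n : ℕ, derivedSeries ↥(centralizer (T : Set G)) n).map (centralizer (T : Set G)).subtype).Normal)
    (cores : ∀ K ∈ Om, OO (centralizer {zz K}) = ⊥)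
    (eqv : ∀ K ∈ Om, ∀ g : G, N (g * zz K * g⁻¹) = cj g (N (zz K)))
    (cent : ∀ K ∈ Om, ∀ n ∈ N (zz K), n * zz K = zz K * n)
    (comm : ∀ K ∈ Om, ∀ L ∈ Om, zz K * zz L = zz L * zz K → N (zz K) = N (zz L)) (hK : K ∈ Om) :
    N (zz K) = ⊥ :=
  (h.sit f hle gold hB cores eqv cent comm).eq_bot h1173 ⟨K, hK, rfl⟩

end Wd

end Cfsg.Agent.Cit.Nil.SC
end

-- part: Cit/Nil/RTwo/World
section
set_option linter.all false
open scoped Cfsg.Agent.FastGrp

/-!
# `r = 2`, `m = 1`: the leaf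

* `LeafR2One` : the part `m = 1` of `AssemblyNil.LeafR2`, core-free;
* `MOne`, `OneCls`, `C3E` (elementwise (C3)), `W2.of_w3`, `CF.of_free`, `W2.wd`;
* `ClSL.cl` : `ClSL G` implies `AssemblyNil.Cl G`;
* `W2.mem_of_fsimp` : `Z ⊆ F*(G)`; `W2.inf_cases` : `K ≤ X` or `K ∩ X = ⟨z⟩`;
* `W2.sc` : SC' if the members lie in `G0`.
-/

set_option autoImplicit false
set_option linter.style.haveILetI false
set_option linter.unusedSectionVars false

namespace Cfsg.Agent.Cit.Nil.RTwo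

open Subgroup Cfsg Cfsg.Agent.Cit

universe u

variable {G : Type*} [Group G]

/-- all members are conjugate -/
def OneCls (Om : Set (Subgroup G)) : Prop := ∀ K ∈ Om, ∀ L ∈ Om, ∃ g, cj g K = L

/-- elementwise (C3) for all members -/
def C3E (Om : Set (Subgroup G)) : Prop :=
  ∀ z K, Mem Om z K → ∀ y ∈ K, y * y = z → ∃ g, g * z = z * g ∧ cj g K = K ∧ g * y * g⁻¹ ≠ y ∧ g * y * g⁻¹ ≠ z * y

/-- commuting members have the same involution (`m = 1`) -/
def MOne (Om : Set (Subgroup G)) : Prop := ∀ K ∈ Om, ∀ L ∈ Om, (∀ k ∈ K, ∀ l ∈ L, k * l = l * k) → zz K = zz L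

/-- **the leaf `r = 2`, `m = 1`**, core-free -/
def LeafR2One : Prop := ∀ (G : Type u) [Group G] [Finite G] (K : Subgroup G), AssemblyNil.W3 G K →
  (∀ t : G, orderOf t = 2 → centralizerPPrimeCore 2 t = ⊥) → (AssemblyNil.ovr K).ncard = 2 → MOne (cls K) →
  AssemblyNil.Concl ↥(generalizedFittingSubgroup G)

section

variable [Finite G] {Om : Set (Subgroup G)} {K L X G0 A : Subgroup G} {z t g y : G} {N : G → Subgroup G}

/-- members over the same involution are conjugate under its centraliser -/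
theorem OneCls.exists (hc : OneCls Om) (h : W2 Om) (hK : Mem Om z K) (hL : Mem Om z L) :
    ∃ g, g * z = z * g ∧ cj g K = L := by
  obtain ⟨g, rfl⟩ := hc K hK.1 L hL.1
  have h1 := hK.cj h g
  have h2 : g * z * g⁻¹ = z := h1.2.symm.trans hL.2
  exact ⟨g, by rwa [mul_inv_eq_iff_eq_mul] at h2, rfl⟩

/-- `Z` is one class -/
theorem OneCls.conj (hc : OneCls Om) (h : W2 Om) (hz : InZ Om z) (ht : InZ Om t) : ∃ g, g * z * g⁻¹ = t := by
  obtain ⟨K, hK⟩ := hz
  obtain ⟨L, hL⟩ := ht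
  obtain ⟨g, rfl⟩ := hc K hK.1 L hL.1
  exact ⟨g, (hK.cj h g).2.symm.trans hL.2⟩

theorem CF.of_free (h : W2 Om) (hf : ∀ t : G, orderOf t = 2 → centralizerPPrimeCore 2 t = ⊥) : CF Om := by
  intro z hz
  exact hf z (hz.orderOf h)

theorem oneCls_cls (K : Subgroup G) : OneCls (cls K) := by
  rintro _ ⟨g, rfl⟩ _ ⟨g', rfl⟩
  exact ⟨g' * g⁻¹, by rw [cj_mul, cj_inv_cj]⟩

theorem W2.of_w3 {K : Subgroup G} (w : AssemblyNil.W3 G K) (h4 : (AssemblyNil.ovr K).ncard = 2)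
    (hf : ∀ t : G, orderOf t = 2 → centralizerPPrimeCore 2 t = ⊥) (h1 : MOne (cls K)) : W2 (cls K) := by
  have hyp := w.hyp
  have hO : ∀ L ∈ cls K, OO L = ⊥ := fun L hL => ROne.OO_eq_bot hyp hL (hf _ (hyp.orderOf_zz hL))
  refine ⟨hyp, ?_, ?_, h1⟩
  · rintro L ⟨g, rfl⟩
    rw [card_cj]
    exact ROne.card_eight w.nil w.c3 (hO K (self_mem_cls K))
  · rintro L ⟨g, rfl⟩
    have h2 : {M | M ∈ cls K ∧ zz M = zz (cj g K)} = (cj g) '' (AssemblyNil.ovr K) := by
      ext M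
      constructor
      · rintro ⟨hM, hz⟩
        refine ⟨cj g⁻¹ M, ⟨hyp.conj M hM _, ?_⟩, cj_cj_inv g M⟩
        rw [hyp.zz_cj hM, hz, hyp.zz_cj (self_mem_cls K)]
        group
      · rintro ⟨M, ⟨hM, hz⟩, rfl⟩
        refine ⟨hyp.conj M hM g, ?_⟩
        rw [hyp.zz_cj hM, hz, hyp.zz_cj (self_mem_cls K)]
    have h3 : {M | M ∈ cls K ∧ zz M = zz (cj g K)}.ncard = 2 := by
      rw [h2, Set.ncard_image_of_injective _ (fun A B hAB => cj_inj.1 hAB), h4]
    obtain ⟨A, B, hAB, h5⟩ := Set.ncard_eq_two.1 h3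
    have hA : A ∈ {M | M ∈ cls K ∧ zz M = zz (cj g K)} := by rw [h5]; exact Set.mem_insert _ _
    have hB : B ∈ {M | M ∈ cls K ∧ zz M = zz (cj g K)} := by
      rw [h5]; exact Set.mem_insert_of_mem _ (Set.mem_singleton _)
    have hg : cj g K ∈ {M | M ∈ cls K ∧ zz M = zz (cj g K)} := ⟨⟨g, rfl⟩, rfl⟩
    have hall : ∀ M ∈ cls K, zz M = zz (cj g K) → M = A ∨ M = B := by
      intro M hM hz
      have h6 : M ∈ {M | M ∈ cls K ∧ zz M = zz (cj g K)} := ⟨hM, hz⟩
      rw [h5] at h6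
      simpa using h6
    rw [h5] at hg
    rcases hg with hg | hg
    · refine ⟨B, hB.1, ?_, hB.2, ?_⟩
      · rw [hg]; exact hAB.symm
      · intro M hM hz
        rw [hg]
        rw [hg] at hz hall
        exact hall M hM hz
    · rw [Set.mem_singleton_iff] at hg
      refine ⟨A, hA.1, ?_, hA.2, ?_⟩
      · rw [hg]; exact hAB
      · intro M hM hz
        rw [hg]
        rw [hg] at hz hall
        exact (hall M hM hz).symm

/-! ### elementwise (C3) -/

set_option maxRecDepth 100000 in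
theorem w_perm_cube (σ : Equiv.Perm (Fin 3)) : σ ^ 3 * σ ^ 3 = 1 := by
  have h5 : ∀ σ : Equiv.Perm (Fin 3), ∀ i, (σ ^ 3) ((σ ^ 3) i) = i := by decide
  exact Equiv.ext fun i => h5 σ i

/-- powers -/
theorem w_act_pow {x : Fin 3 → G} {σ : Equiv.Perm (Fin 3)} (hz : z * z = 1) (hg : g * z = z * g)
    (ha : Act z x x g σ) (n : ℕ) : g ^ n * z = z * g ^ n ∧ Act z x x (g ^ n) (σ ^ n) := by
  induction n with
  | zero => simp only [pow_zero, one_mul, mul_one, true_and]; exact Act.one x z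
  | succ n ih =>
    obtain ⟨h1, h2⟩ := ih
    rw [pow_succ, pow_succ]
    refine ⟨?_, ha.comp hz h2 h1⟩
    rw [mul_assoc, hg, ← mul_assoc, h1, mul_assoc]

/-- a 3-element acting nontrivially on a member moves all axes -/
theorem W2.axes (h : W2 Om) (hK : Mem Om z K) {c : G} (hcK : cj c K = K) (hc3 : IsPGroup 3 (zpowers c)) {q : G}
    (hq : q ∈ K) (hcq : c * q ≠ q * c) {y : G} (hy : y ∈ K) (hyy : y * y = z) :
    c * y * c⁻¹ ≠ y ∧ c * y * c⁻¹ ≠ z * y := by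
  have hcz : c * z = z * c := hK.of_cj h hcK
  obtain ⟨x, qx⟩ := h.exists_q3 hK
  obtain ⟨σ, hσ⟩ := qx.exists_act qx hcK hcz
  obtain ⟨k, hk⟩ := hc3 ⟨c, mem_zpowers c⟩
  have hk' : c ^ 3 ^ k = 1 := congrArg Subtype.val hk
  have h1 := (w_act_pow qx.z2 hcz hσ (3 ^ k)).2
  rw [hk'] at h1
  have h2 : σ ^ 3 ^ k = 1 := h1.unique qx (Act.one x z)
  have h3 : σ ^ 3 = 1 := by
    have h4 : ∀ σ : Equiv.Perm (Fin 3), σ ^ 6 = 1 := by
      intro σ
      have h5 := w_perm_cube σ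
      have h6 : σ ^ 6 = (σ ^ 3) ^ 2 := by rw [← pow_mul]
      rw [h6, pow_two]
      exact h5
    have h5 : ∀ n, σ ^ 3 ^ (n + 1) = σ ^ 3 := by
      intro n
      induction n with
      | zero => simp
      | succ n ih =>
        rw [pow_succ, pow_mul, ih, ← pow_mul, show 3 * 3 = 6 + 3 by norm_num, pow_add, h4, one_mul]
    rcases k with _ | k
    · rw [pow_zero, pow_one] at h2
      rw [h2, one_pow]
    · rw [← h5 k]; exact h2
  have h4 : σ = 1 ∨ ∀ i, σ i ≠ i := by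
    have h5 : ∀ σ : Equiv.Perm (Fin 3), σ * σ * σ = 1 → σ = 1 ∨ ∀ i, σ i ≠ i := by decide
    exact h5 σ (by rw [← h3]; simp only [pow_succ, pow_zero, one_mul])
  rcases h4 with h4 | h4
  · -- inner: `c² ∈ C(K)`
    exfalso
    subst h4
    have h5 := hσ.inner qx hcz
    have h6 : ∀ n : ℕ, ∀ k ∈ K, c ^ (2 * n) * k = k * c ^ (2 * n) := by
      have h7 : ∀ k ∈ K, c ^ 2 * k = k * c ^ 2 := by
        intro k hk
        have h8 : c * (c * k * c⁻¹) * c⁻¹ = k := by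
          rcases qx.inner_cases h5 with h9 | ⟨j, h9⟩
          · rw [h9 k hk, h9 k hk]
          · have hk' : x j * k * (x j)⁻¹ ∈ K := mul_mem (mul_mem (qx.mem j) hk) (inv_mem (qx.mem j))
            rw [h9 k hk, h9 _ hk']
            calc x j * (x j * k * (x j)⁻¹) * (x j)⁻¹ = (x j * x j) * k * (x j * x j)⁻¹ := by group
              _ = k := by rw [qx.sq, ← hK.comm_z h hk, mul_inv_cancel_right]
        rw [← mul_inv_eq_iff_eq_mul]
        calc c ^ 2 * k * (c ^ 2)⁻¹ = c * (c * k * c⁻¹) * c⁻¹ := by rw [pow_two]; group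
          _ = k := h8
      intro n k hk
      rw [pow_mul]
      exact (show Commute (c ^ 2) k from h7 k hk).pow_left n
    -- `c = c^{odd}`
    obtain ⟨m, hm⟩ : Odd (3 ^ k) := Odd.pow (by decide)
    have h7 : c ^ (2 * m) * c = 1 := by rw [← pow_succ, ← hm, hk']
    have h8 := h6 m q hq
    apply hcq
    have h9 : c = (c ^ (2 * m))⁻¹ := by rw [eq_inv_iff_mul_eq_one, ← pow_succ', ← hm, hk']
    rw [h9, inv_mul_eq_iff_eq_mul, ← mul_assoc, h8, mul_inv_cancel_right]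
  · obtain ⟨i, hi⟩ := qx.of_sq hy hyy
    have key : ∀ w, (w = x i ∨ w = z * x i) → c * y * c⁻¹ = w → False := by
      intro w hw hcy
      have e : c * (z * x i) * c⁻¹ = z * (c * x i * c⁻¹) := by
        calc c * (z * x i) * c⁻¹ = (c * z) * x i * c⁻¹ := by group
          _ = (z * c) * x i * c⁻¹ := by rw [hcz]
          _ = _ := by group
      have h5 : c * y * c⁻¹ = x (σ i) ∨ c * y * c⁻¹ = z * x (σ i) := by
        rcases hi with rfl | rfl
        · exact hσ i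
        · rw [e]
          rcases hσ i with h6 | h6
          · right; rw [h6]
          · left; rw [h6, qx.zzx]
      rw [hcy] at h5
      apply h4 i
      rcases hw with rfl | rfl <;> rcases h5 with h5 | h5
      · exact (qx.inj (Or.inl h5)).symm
      · exact (qx.inj (Or.inr h5)).symm
      · exact qx.inj (Or.inr h5.symm)
      · exact (qx.inj (Or.inl (mul_left_cancel h5))).symm
    constructor
    · intro h5; exact key y hi h5
    · intro h5
      refine key (z * y) ?_ h5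
      rcases hi with rfl | rfl
      · exact Or.inr rfl
      · left; exact qx.zzx _

theorem C3E.of_c3 {K : Subgroup G} (h : W2 (cls K)) (h3 : Nil.C3 K) : C3E (cls K) := by
  obtain ⟨Q, hQ, hQ8, c, hcK, hcQ, hc3, q, hq, hcq⟩ := h3
  have hQK : Q = K := eq_of_le_of_card_ge hQ.1 (by rw [hQ8, h.card K (self_mem_cls K)])
  subst hQK
  intro z L hL y hy hyy
  obtain ⟨g, hg⟩ := hL.1
  have hL0 : Mem (cls Q) (g⁻¹ * z * g) Q := by
    have h1 := hL.cj h g⁻¹
    rw [hg, cj_inv_cj, inv_inv] at h1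
    exact h1
  have h2 := h.axes hL0 (mem_normalizer_iff_cj.1 hcK) hc3 hq hcq (y := g⁻¹ * y * g)
    (by rw [hg, mem_cj] at hy; exact hy) (by rw [← hyy]; group)
  have hcc : cj (g * c * g⁻¹) L = L := by
    rw [hg, cj_mul, cj_mul, cj_inv_cj, mem_normalizer_iff_cj.1 hcK]
  refine ⟨g * c * g⁻¹, hL.of_cj h hcc, hcc, ?_, ?_⟩
  · intro h3
    apply h2.1
    have h4 : c * (g⁻¹ * y * g) * c⁻¹ = g⁻¹ * (g * c * g⁻¹ * y * (g * c * g⁻¹)⁻¹) * g := by group
    rw [h4, h3]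
  · intro h3
    apply h2.2
    have h4 : c * (g⁻¹ * y * g) * c⁻¹ = g⁻¹ * (g * c * g⁻¹ * y * (g * c * g⁻¹)⁻¹) * g := by group
    rw [h4, h3]
    group

/-! ### a classical involution of type SL(2,3) -/

theorem ClSL.cl (h : ClSL G) : AssemblyNil.Cl G := by
  obtain ⟨z, J, h1, h2, h3, h4, h5, ⟨e⟩⟩ := h
  refine ⟨z, J, h1, h2, h3, h4, Or.inl ⟨ZMod 3, inferInstance, inferInstance, ?_, ⟨?_⟩⟩⟩
  · rw [ZMod.card]; decide
  · exact ((QuotientGroup.quotientMulEquivOfEq h5).trans QuotientGroup.quotientBot).trans e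

/-! ### `F*(G)` -/

/-- `Z ⊆ X` -/
theorem W2.mem_of_fsimp (h : W2 Om) (f : ROne.FSimp X) (h2 : 2 ∣ Nat.card X) (hz : InZ Om z) : z ∈ X := by
  haveI := f.nor
  haveI := f.sim
  have hO : OO X = ⊥ := by
    have h3 : (OO X).Normal := by
      refine ⟨fun n hn g => ?_⟩
      have h4 : cj g X = X := mem_normalizer_iff_cj.1 (by rw [normalizer_eq_top_iff.2 f.nor]; exact mem_top g)
      have h5 : cj g (OO X) = OO X := by rw [← OO_cj, h4]
      rw [← h5]
      exact conj_mem_cj hn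
    by_contra hne
    have h4 := f.le (N := OO X) (fun g _ n hn => h3.conj_mem n hn g) hne
    exact odd_OO X (h2.trans (card_dvd_of_le h4))
  by_contra hn
  obtain ⟨K, hK, rfl⟩ := hz
  have h4 := h.hyp.lemma_two (K := K) (M := X) (fun L hL => h.isPGroup hL) hK
    (by rw [normalizer_eq_top_iff.2 f.nor]; exact le_top) hO hn
  apply h.hyp.zz_ne hK
  have h5 : zz K ∈ centralizer (X : Set G) := by
    rw [mem_centralizer_iff]
    exact fun g hg => mem_centralizer_singleton_iff.1 (h4 hg)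
  rwa [f.cen, mem_bot] at h5

/-- `K ≤ X` or `K ∩ X = ⟨z⟩` -/
theorem W2.inf_cases (h : W2 Om) (c3 : C3E Om) (hn : X.Normal) (hK : Mem Om z K) :
    K ≤ X ∨ ∀ y ∈ K, y ∈ X → y = 1 ∨ y = z := by
  by_contra hcon
  push Not at hcon
  obtain ⟨h1, y, hy, hyX, hy1, hyz⟩ := hcon
  obtain ⟨x, qx⟩ := h.exists_q3 hK
  have hcase : ∃ i, y = x i ∨ y = z * x i := by
    rcases qx.cov y hy with h2 | h2 | h2
    · exact absurd h2 hy1
    · exact absurd h2 hyz
    · exact h2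
  obtain ⟨i, hi⟩ := hcase
  have hyy : y * y = z := by
    rcases hi with rfl | rfl
    · exact qx.sq i
    · rw [mul_assoc, ← mul_assoc (x i), ← qx.zc, mul_assoc, qx.sq, ← mul_assoc, qx.z2, one_mul]
  obtain ⟨g, hgz, hgK, hg1, hg2⟩ := c3 z K hK y hy hyy
  obtain ⟨σ, hσ⟩ := qx.exists_act qx hgK hgz
  have hiX : z * x i ∈ X ∨ x i ∈ X := by
    rcases hi with rfl | rfl
    · exact Or.inr hyX
    · exact Or.inl hyX
  have hzX : z ∈ X := by rw [← hyy]; exact mul_mem hyX hyX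
  have hxi : x i ∈ X := by
    rcases hiX with h3 | h3
    · have h4 := mul_mem hzX h3
      rwa [qx.zzx] at h4
    · exact h3
  have hxs : x (σ i) ∈ X := by
    have h3 := hn.conj_mem _ hxi g
    rcases hσ i with h4 | h4
    · rwa [h4] at h3
    · rw [h4] at h3
      have h5 := mul_mem hzX h3
      rwa [qx.zzx] at h5
  have hne : i ≠ σ i := by
    intro e
    have e3 : g * (z * x i) * g⁻¹ = z * (g * x i * g⁻¹) := by
      calc g * (z * x i) * g⁻¹ = (g * z) * x i * g⁻¹ := by group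
        _ = (z * g) * x i * g⁻¹ := by rw [hgz]
        _ = _ := by group
    have h3 := hσ i
    rw [← e] at h3
    rcases hi with rfl | rfl <;> rcases h3 with h3 | h3
    · exact hg1 h3
    · exact hg2 h3
    · apply hg1; rw [e3, h3]
    · apply hg2; rw [e3, h3]
  exact h1 (qx.le_of_mem hne hxi hxs)

end

end Cfsg.Agent.Cit.Nil.RTwo
end

-- part: Cit/Nil/RFour/Asm_mg
section
prune_inst 0x1000005000000000000000000020400000000000000000210000000008004180000000300022001100002000080020110800490000000000000200400404010002104210000000000000008800000000000000000000000000000000000000200000000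
set_option linter.all false
open scoped Cfsg.Agent.FastGrp

-- part: Cit/Nil/RFour/TSBase
section
/-!
# S1309, (6b), (C3), `r = 4`, `m = 1`, section 3: preparations which do not use the world `W4`

* `Q3.transp` : an involution normalising `K`, not inner on `K`, inverts one axis and interchanges the others;
* `AA` : the elementary abelian group `{a | a² = 1, a t ∈ t^R}` (if `z t ∈ t^R`);
* `two_mul_card` : counting by centralisers.
-/

set_option autoImplicit false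

namespace Cfsg.Agent.Cit.Nil.RFour.TSBase

open Subgroup Cfsg Cfsg.Agent.Cit Cfsg.Agent.Cit.Nil.RTwo

variable {G : Type*} [Group G]

section Q3

variable {K : Subgroup G} {z t : G} {x : Fin 3 → G}

theorem perm_transp : ∀ σ : Equiv.Perm (Fin 3), σ * σ = 1 → σ ≠ 1 →
    ∃ i, σ (i + 1) = i + 2 ∧ σ (i + 2) = i + 1 := by decide +kernel

theorem perm_comm : ∀ σ τ : Equiv.Perm (Fin 3), σ * σ = 1 → τ * τ = 1 → σ * τ = τ * σ →
    σ = 1 ∨ τ = 1 ∨ σ * τ = 1 := by decide +kernel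

/-- an involution normalising `K`, not inner on `K` -/
theorem transp (q : Q3 K z x) (ht2 : t * t = 1) (hg : cj t K = K) (htz : t * z = z * t)
    (hni : ¬ ∀ k ∈ K, t * k * t⁻¹ = k ∨ t * k * t⁻¹ = z * k) :
    ∃ i, t * x i * t⁻¹ = z * x i ∧ (t * x (i + 1) * t⁻¹ = x (i + 2) ∨ t * x (i + 1) * t⁻¹ = z * x (i + 2)) := by
  obtain ⟨σ, hσ⟩ := q.exists_act q hg htz
  have h1 : σ ≠ 1 := by
    rintro rfl
    exact hni (hσ.inner q htz)
  have h2 : σ * σ = 1 := by
    have h3 := hσ.comp q.z2 hσ htz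
    rw [ht2] at h3
    exact h3.unique q (Act.one x z)
  obtain ⟨i, hi1, hi2⟩ := perm_transp σ h2 h1
  have e1 := hσ (i + 1)
  rw [hi1] at e1
  refine ⟨i, ?_, e1⟩
  have htt : ∀ g : G, t * (t * g * t⁻¹) * t⁻¹ = g := by
    intro g
    calc t * (t * g * t⁻¹) * t⁻¹ = (t * t) * g * (t * t)⁻¹ := by group
      _ = g := by rw [ht2]; group
  have hzc : ∀ g : G, t * (z * g) * t⁻¹ = z * (t * g * t⁻¹) := by
    intro g
    calc t * (z * g) * t⁻¹ = (t * z) * g * t⁻¹ := by group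
      _ = (z * t) * g * t⁻¹ := by rw [htz]
      _ = _ := by group
  -- `t x_{i+2} t⁻¹`
  have e2 : (t * x (i + 1) * t⁻¹ = x (i + 2) ∧ t * x (i + 2) * t⁻¹ = x (i + 1)) ∨
      (t * x (i + 1) * t⁻¹ = z * x (i + 2) ∧ t * x (i + 2) * t⁻¹ = z * x (i + 1)) := by
    rcases e1 with e1 | e1
    · left
      refine ⟨e1, ?_⟩
      rw [← e1, htt]
    · right
      refine ⟨e1, ?_⟩
      have h3 := htt (x (i + 1))
      rw [e1, hzc] at h3
      calc t * x (i + 2) * t⁻¹ = z * (z * (t * x (i + 2) * t⁻¹)) := (q.zzx _).symm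
        _ = z * x (i + 1) := by rw [h3]
  have h4 : t * x i * t⁻¹ = (t * x (i + 1) * t⁻¹) * (t * x (i + 2) * t⁻¹) := by
    rw [← q.mul12 i]; group
  rw [h4]
  rcases e2 with ⟨h5, h6⟩ | ⟨h5, h6⟩
  · rw [h5, h6, q.mul21]
  · rw [h5, h6]
    calc z * x (i + 2) * (z * x (i + 1)) = z * (x (i + 2) * z) * x (i + 1) := by group
      _ = z * (z * x (i + 2)) * x (i + 1) := by rw [q.zc]
      _ = x (i + 2) * x (i + 1) := by rw [q.zzx]
      _ = _ := q.mul21 i

/-- the conjugates of `t` under a normalised member -/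
theorem conj_axis (q : Q3 K z x) {i : Fin 3} (h0 : t * x i * t⁻¹ = z * x i) :
    x i * t * (x i)⁻¹ = z * t := by
  have h1 : t * (x i)⁻¹ * t⁻¹ = x i := by
    calc t * (x i)⁻¹ * t⁻¹ = (t * x i * t⁻¹)⁻¹ := by group
      _ = (x i)⁻¹ * z⁻¹ := by rw [h0]; group
      _ = z * x i * z := by rw [q.inv, q.zinv]
      _ = x i := by rw [mul_assoc, ← q.zc, q.zzx]
  calc x i * t * (x i)⁻¹ = x i * (t * (x i)⁻¹ * t⁻¹) * t := by group
    _ = z * t := by rw [h1, q.sq]

theorem conj_other (q : Q3 K z x) {i : Fin 3}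
    (h0 : t * x (i + 1) * t⁻¹ = x (i + 2) ∨ t * x (i + 1) * t⁻¹ = z * x (i + 2)) :
    x (i + 1) * t * (x (i + 1))⁻¹ = x i * t ∨ x (i + 1) * t * (x (i + 1))⁻¹ = z * x i * t := by
  have h1 : x (i + 1) * t * (x (i + 1))⁻¹ = x (i + 1) * (t * x (i + 1) * t⁻¹)⁻¹ * t := by group
  rw [h1]
  rcases h0 with h0 | h0
  · right
    rw [h0, q.inv, ← mul_assoc, ← q.zc, mul_assoc z, q.mul12]
  · left
    rw [h0, mul_inv_rev, q.inv, q.zinv]
    calc x (i + 1) * (z * x (i + 2) * z) * t = x (i + 1) * (z * (x (i + 2) * z)) * t := by group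
      _ = x (i + 1) * (z * (z * x (i + 2))) * t := by rw [q.zc (i + 2)]
      _ = _ := by rw [q.zzx, q.mul12]

end Q3

/-! ### The group `{a | a² = 1, a t ∈ t^R}` -/

section AA

variable {R : Subgroup G} {z t k : G}

/-- hypotheses for `AA` -/
structure Pre (R : Subgroup G) (z t k : G) : Prop where
  t2 : t * t = 1
  z2 : z * z = 1
  tz : t * z = z * t
  zr : ∀ r ∈ R, r * z = z * r
  rr : ∀ r ∈ R, ∀ s ∈ R, r * s * r⁻¹ = s ∨ r * s * r⁻¹ = z * s
  tn : ∀ r ∈ R, t * r * t⁻¹ ∈ R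
  hk : k ∈ R
  kt : k * t * k⁻¹ = z * t

theorem Pre.mem (p : Pre R z t k) {a w : G} (hw : w ∈ R) (h : w * t * w⁻¹ = a * t) : a ∈ R := by
  have h1 : a = w * (t * w⁻¹ * t⁻¹) := by
    calc a = (a * t) * t⁻¹ := by group
      _ = (w * t * w⁻¹) * t⁻¹ := by rw [h]
      _ = _ := by group
  rw [h1]
  exact mul_mem hw (p.tn _ (inv_mem hw))

theorem Pre.inverts (p : Pre R z t k) {a w : G} (h : w * t * w⁻¹ = a * t) : t * a * t⁻¹ = a⁻¹ := by
  have h1 : (a * t) * (a * t) = 1 := by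
    rw [← h]
    calc w * t * w⁻¹ * (w * t * w⁻¹) = w * (t * t) * w⁻¹ := by group
      _ = 1 := by rw [p.t2]; group
  have hti : t⁻¹ = t := inv_eq_of_mul_eq_one_right p.t2
  have h2 : a * (t * a * t⁻¹) = 1 := by
    rw [hti]
    calc a * (t * a * t) = (a * t) * (a * t) := by group
      _ = 1 := h1
  exact eq_inv_of_mul_eq_one_right h2

theorem Pre.zmul (p : Pre R z t k) {a w : G} (hw : w ∈ R) (h : w * t * w⁻¹ = a * t) :
    ∃ w' ∈ R, w' * t * w'⁻¹ = z * a * t := by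
  refine ⟨w * k, mul_mem hw p.hk, ?_⟩
  calc w * k * t * (w * k)⁻¹ = w * (k * t * k⁻¹) * w⁻¹ := by group
    _ = (w * z) * t * w⁻¹ := by rw [p.kt]; group
    _ = (z * w) * t * w⁻¹ := by rw [p.zr w hw]
    _ = z * (w * t * w⁻¹) := by group
    _ = _ := by rw [h]; group

theorem Pre.mul (p : Pre R z t k) {a b v w : G} (hv : v ∈ R) (hw : w ∈ R) (ha : v * t * v⁻¹ = a * t)
    (hb : w * t * w⁻¹ = b * t) : ∃ u ∈ R, u * t * u⁻¹ = b * a * t := by
  have h1 : v * w * t * (v * w)⁻¹ = (v * b * v⁻¹) * a * t := by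
    calc v * w * t * (v * w)⁻¹ = v * (w * t * w⁻¹) * v⁻¹ := by group
      _ = v * (b * t) * v⁻¹ := by rw [hb]
      _ = (v * b * v⁻¹) * (v * t * v⁻¹) := by group
      _ = _ := by rw [ha]; group
  have hvw : v * w ∈ R := mul_mem hv hw
  rcases p.rr v hv b (p.mem hw hb) with h2 | h2
  · exact ⟨v * w, hvw, by rw [h1, h2]⟩
  · rw [h2] at h1
    obtain ⟨u, hu, hu2⟩ := p.zmul hvw (a := z * b * a) h1
    refine ⟨u, hu, ?_⟩
    rw [hu2]
    calc z * (z * b * a) * t = (z * z) * b * a * t := by group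
      _ = _ := by rw [p.z2, one_mul]

theorem Pre.comm (p : Pre R z t k) {a b v w : G} (hv : v ∈ R) (hw : w ∈ R) (ha : v * t * v⁻¹ = a * t)
    (hb : w * t * w⁻¹ = b * t) : a * b = b * a := by
  obtain ⟨u, -, hu⟩ := p.mul hv hw ha hb
  have h1 := p.inverts hu
  have h2 : t * (b * a) * t⁻¹ = b⁻¹ * a⁻¹ := by
    calc t * (b * a) * t⁻¹ = (t * b * t⁻¹) * (t * a * t⁻¹) := by group
      _ = _ := by rw [p.inverts hb, p.inverts ha]
  rw [h2, mul_inv_rev] at h1
  have h3 : (a * b)⁻¹ = (b * a)⁻¹ := by rw [mul_inv_rev, mul_inv_rev, h1]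
  exact inv_injective h3

/-- `{a | a² = 1, a t ∈ t^R}` -/
def AA (p : Pre R z t k) : Subgroup G where
  carrier := {a | a * a = 1 ∧ ∃ w ∈ R, w * t * w⁻¹ = a * t}
  one_mem' := ⟨mul_one 1, 1, one_mem _, by group⟩
  mul_mem' := by
    rintro a b ⟨ha, v, hv, hva⟩ ⟨hb, w, hw, hwb⟩
    have hab := p.comm hv hw hva hwb
    refine ⟨?_, ?_⟩
    · calc a * b * (a * b) = a * (b * a) * b := by group
        _ = a * (a * b) * b := by rw [hab]
        _ = (a * a) * (b * b) := by group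
        _ = 1 := by rw [ha, hb, one_mul]
    · rw [hab]
      exact p.mul hv hw hva hwb
  inv_mem' := by
    rintro a ⟨ha, h⟩
    have h1 : a⁻¹ = a := inv_eq_of_mul_eq_one_right ha
    rw [h1]
    exact ⟨ha, h⟩

theorem AA_comm (p : Pre R z t k) {a : G} (ha : a ∈ AA p) : a * t = t * a := by
  obtain ⟨h2, w, hw, h⟩ := ha
  have h1 := p.inverts h
  have h3 : a⁻¹ = a := inv_eq_of_mul_eq_one_right h2
  rw [h3, mul_inv_eq_iff_eq_mul] at h1
  exact h1.symm

theorem z_mem_AA (p : Pre R z t k) : z ∈ AA p := ⟨p.z2, k, p.hk, p.kt⟩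

/-- counting with centralisers -/
theorem two_mul_card [Finite G] (H : Subgroup G) {m g : G} (hg : g ∈ H) (hm : g * m ≠ m * g) :
    2 * Nat.card ↥(H ⊓ centralizer {m} : Subgroup G) ≤ Nat.card H := by
  have h1 : (H ⊓ centralizer {m} : Subgroup G) < H := by
    refine lt_of_le_of_ne inf_le_left fun h2 => hm ?_
    have h3 : g ∈ (H ⊓ centralizer {m} : Subgroup G) := by rw [h2]; exact hg
    have h4 := mem_centralizer_singleton_iff.1 h3.2
    exact h4
  obtain ⟨c, hc⟩ := card_dvd_of_le h1.le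
  have hpos : 0 < Nat.card ↥(H ⊓ centralizer {m} : Subgroup G) := Nat.card_pos
  have hlt : Nat.card ↥(H ⊓ centralizer {m} : Subgroup G) < Nat.card H := by
    refine lt_of_le_of_ne (card_le_of_le h1.le) fun h2 => h1.ne ?_
    exact eq_of_le_of_card_ge h1.le h2.ge
  rw [hc] at hlt ⊢
  have hc2 : 2 ≤ c := by
    rcases c with _ | _ | c
    · simp only [_root_.Subgroup.mem_inf, _root_.MulZeroClass.mul_zero, _root_.not_lt_zero] at hlt
    · simp only [_root_.Subgroup.mem_inf, _root_.zero_add, _root_.mul_one, _root_.lt_self_iff_false] at hlt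
    · omega
  rw [mul_comm]
  exact Nat.mul_le_mul_left _ hc2

/-- three steps -/
theorem card_ge [Finite G] (H : Subgroup G) {z m₁ m₂ m₃ g₁ g₂ g₃ : G} (hz : z ∈ H) (hz1 : z ≠ 1)
    (z1 : z * m₁ = m₁ * z) (z2 : z * m₂ = m₂ * z) (z3 : z * m₃ = m₃ * z)
    (h1 : g₁ ∈ H) (n1 : g₁ * m₁ ≠ m₁ * g₁)
    (h2 : g₂ ∈ H) (c21 : g₂ * m₁ = m₁ * g₂) (n2 : g₂ * m₂ ≠ m₂ * g₂)
    (h3 : g₃ ∈ H) (c31 : g₃ * m₁ = m₁ * g₃) (c32 : g₃ * m₂ = m₂ * g₃) (n3 : g₃ * m₃ ≠ m₃ * g₃) :
    16 ≤ Nat.card H := by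
  have a1 := two_mul_card H h1 n1
  have a2 := two_mul_card (H ⊓ centralizer {m₁}) (m := m₂) (g := g₂)
    ⟨h2, mem_centralizer_singleton_iff.2 c21⟩ n2
  have a3 := two_mul_card (H ⊓ centralizer {m₁} ⊓ centralizer {m₂}) (m := m₃) (g := g₃)
    ⟨⟨h3, mem_centralizer_singleton_iff.2 c31⟩, mem_centralizer_singleton_iff.2 c32⟩ n3
  have a4 : 2 ≤ Nat.card ↥(H ⊓ centralizer {m₁} ⊓ centralizer {m₂} ⊓ centralizer {m₃} : Subgroup G) := by
    have hmem : z ∈ (H ⊓ centralizer {m₁} ⊓ centralizer {m₂} ⊓ centralizer {m₃} : Subgroup G) :=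
      ⟨⟨⟨hz, mem_centralizer_singleton_iff.2 z1⟩, mem_centralizer_singleton_iff.2 z2⟩,
        mem_centralizer_singleton_iff.2 z3⟩
    have : 1 < Nat.card ↥(H ⊓ centralizer {m₁} ⊓ centralizer {m₂} ⊓ centralizer {m₃} : Subgroup G) := by
      rw [Finite.one_lt_card_iff_nontrivial]
      exact ⟨⟨⟨z, hmem⟩, 1, fun h => hz1 (by simpa only [_root_.OneMemClass.coe_one] using congrArg Subtype.val h)⟩⟩
    omega
  omega

end AA

end Cfsg.Agent.Cit.Nil.RFour.TSBase
end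

-- part: Cit/Nil/RFour/TS
section
/-!
# S1309, (6b), (C3), `r = 4`, `m = 1`: pairs which are not of type I (section 3, (3.0)-(3.2), (3.4))

* `lemma16` : (3.1);
* `exists_conj` : (3.2): `t` fixes a member over `z` ⟹ `∃ w ∈ R_z, TI t (w t w⁻¹)`;
* `exists_common` : (3.4): every commuting pair of `Z` is of type I or has a common type I neighbour
  (input: `Exc` = (3.3)).
-/

set_option autoImplicit false
set_option linter.unusedSectionVars false

namespace Cfsg.Agent.Cit.Nil.RFour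

open Subgroup Cfsg Cfsg.Agent.Cit

open RTwo (Q3 Act)

variable {G : Type*} [Group G] [Finite G] {Om : Set (Subgroup G)} {K L M : Subgroup G} {t z : G}

theorem perm_fix : ∀ σ : Equiv.Perm (Fin 4), σ * σ = 1 → σ 0 = 0 → ∃ i, i ≠ 0 ∧ σ i = i := by decide +kernel

theorem perm_two : ∀ σ : Equiv.Perm (Fin 4), σ * σ = 1 → σ 0 = 0 → σ 1 = 1 → (σ 2 = 2 ∧ σ 3 = 3) ∨ σ 2 = 3 := by
  decide +kernel

/-- **(3.1)** -/
theorem lemma16 (h : W4 Om) (ht : InZ Om t) {A : Subgroup G} (hA : ∀ a ∈ A, a * a = 1)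
    (hAt : ∀ a ∈ A, a * t = t * a) (hAZ : ∀ a ∈ A, InZ Om (a * t)) (hc : 9 ≤ Nat.card A) :
    ∃ a ∈ A, TI Om t (a * t) := by
  obtain ⟨F, f⟩ := ht.exists_fr h
  have h1 : ∀ a : A, ∃ i, F i = cj (a : G) (F 0) := fun a => f.cov _ ((f.mem 0).cj_comm h (hAt a a.2))
  choose φ hφ using h1
  have : Fintype A := Fintype.ofFinite A
  obtain ⟨i, hi⟩ := Fintype.exists_lt_card_fiber_of_mul_lt_card (n := 2) φ (by
    rw [Fintype.card_fin, ← Nat.card_eq_fintype_card]; omega)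
  obtain ⟨a, ha, b, hb, c, hc', hab, hac, hbc⟩ := Finset.two_lt_card.1 hi
  simp only [Finset.mem_filter, Finset.mem_univ, true_and] at ha hb hc'
  -- `u = a⁻¹ b`, `v = a⁻¹ c`
  have hfix : ∀ b : A, φ b = i → cj ((a : G)⁻¹ * b) (F 0) = F 0 := by
    intro b hb
    rw [cj_mul, ← hφ b, hb, ← ha, hφ a, cj_inv_cj]
  obtain ⟨u, hu⟩ : ∃ u : G, u = (a : G)⁻¹ * b := ⟨_, rfl⟩
  obtain ⟨v, hv⟩ : ∃ v : G, v = (a : G)⁻¹ * c := ⟨_, rfl⟩
  have huA : u ∈ A := by rw [hu]; exact mul_mem (inv_mem a.2) b.2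
  have hvA : v ∈ A := by rw [hv]; exact mul_mem (inv_mem a.2) c.2
  have hu1 : u ≠ 1 := by
    intro h1
    rw [hu, inv_mul_eq_one] at h1
    exact hab (Subtype.ext h1)
  have hv1 : v ≠ 1 := by
    intro h1
    rw [hv, inv_mul_eq_one] at h1
    exact hac (Subtype.ext h1)
  have huv : u * v ≠ 1 := by
    intro h1
    have h2 : u = v := by
      have h3 := eq_inv_of_mul_eq_one_left h1
      rw [h3, inv_eq_of_mul_eq_one_right (hA v hvA)]
    rw [hu, hv] at h2
    exact hbc (Subtype.ext (mul_left_cancel h2))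
  have hufix : cj u (F 0) = F 0 := by rw [hu]; exact hfix b hb
  have hvfix : cj v (F 0) = F 0 := by rw [hv]; exact hfix c hc'
  have hcomm : u * v = v * u := by
    have h1 := hA _ (mul_mem huA hvA)
    have h2 : (u * v)⁻¹ = u * v := inv_eq_of_mul_eq_one_right h1
    rw [mul_inv_rev, inv_eq_of_mul_eq_one_right (hA u huA), inv_eq_of_mul_eq_one_right (hA v hvA)] at h2
    exact h2.symm
  obtain ⟨x, q⟩ := h.exists_q3 (f.mem 0)
  obtain ⟨σ, hσ⟩ := q.exists_act q hufix (hAt u huA)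
  obtain ⟨τ, hτ⟩ := q.exists_act q hvfix (hAt v hvA)
  have hσ2 : σ * σ = 1 := by
    have h3 := hσ.comp q.z2 hσ (hAt u huA)
    rw [hA u huA] at h3
    exact h3.unique q (Act.one x t)
  have hτ2 : τ * τ = 1 := by
    have h3 := hτ.comp q.z2 hτ (hAt v hvA)
    rw [hA v hvA] at h3
    exact h3.unique q (Act.one x t)
  have h3 : Act t x x (u * v) (σ * τ) := hτ.comp q.z2 hσ (hAt u huA)
  have h4 : Act t x x (v * u) (τ * σ) := hσ.comp q.z2 hτ (hAt v hvA)
  have hστ : σ * τ = τ * σ := by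
    rw [← hcomm] at h4
    exact h3.unique q h4
  -- an element `w ≠ 1` of `A` inner on `F 0`
  have key : ∀ w ∈ A, w ≠ 1 → Act t x x w 1 → ∃ a ∈ A, TI Om t (a * t) := by
    intro w hw hw1 hact
    refine ⟨w, hw, TI.of_one h (f.mem 0) (hAZ w hw) (fun h5 => hw1 (mul_eq_right.1 h5.symm)) ?_⟩
    intro k hk
    have h6 : w * t * k * (w * t)⁻¹ = w * k * w⁻¹ := by
      calc w * t * k * (w * t)⁻¹ = w * (t * k) * t⁻¹ * w⁻¹ := by group
        _ = w * (k * t) * t⁻¹ * w⁻¹ := by rw [(f.mem 0).comm_z h hk]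
        _ = _ := by group
    rw [h6]
    exact hact.inner q (hAt w hw) k hk
  rcases TSBase.perm_comm σ τ hσ2 hτ2 hστ with h5 | h5 | h5
  · exact key u huA hu1 (h5 ▸ hσ)
  · exact key v hvA hv1 (h5 ▸ hτ)
  · exact key (u * v) (mul_mem huA hvA) huv (h5 ▸ h3)

/-- `r s r⁻¹ ∈ {s, z s}` for `r, s ∈ R_z` -/
theorem RZ_rr (h : W4 Om) (hz : InZ Om z) {r s : G} (hr : r ∈ RZ Om z) (hs : s ∈ RZ Om z) :
    r * s * r⁻¹ = s ∨ r * s * r⁻¹ = z * s := by
  obtain ⟨F, f⟩ := hz.exists_fr h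
  obtain ⟨k, hk, rfl⟩ := (mem_RZ f h).1 hs
  have hz2 := hz.z2 h
  have hi := Inn.of_RZ hz h hr
  have key : ∀ a b : G, a * z = z * a → (r * a * r⁻¹ = a ∨ r * a * r⁻¹ = z * a) →
      (r * b * r⁻¹ = b ∨ r * b * r⁻¹ = z * b) → (r * (a * b) * r⁻¹ = a * b ∨ r * (a * b) * r⁻¹ = z * (a * b)) := by
    intro a b haz ha hb
    have h1 : r * (a * b) * r⁻¹ = (r * a * r⁻¹) * (r * b * r⁻¹) := by group
    rw [h1]
    rcases ha with ha | ha <;> rcases hb with hb | hb <;> rw [ha, hb]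
    · exact Or.inl rfl
    · right
      rw [← mul_assoc, haz, mul_assoc]
    · right
      rw [mul_assoc]
    · left
      calc z * a * (z * b) = z * (a * z) * b := by group
        _ = z * (z * a) * b := by rw [haz]
        _ = (z * z) * (a * b) := by group
        _ = _ := by rw [hz2, one_mul]
  have hc : ∀ i, k i * z = z * k i := fun i => (f.mem i).comm_z h (hk i)
  have hp : ∀ i, r * k i * r⁻¹ = k i ∨ r * k i * r⁻¹ = z * k i := fun i => hi _ (f.mem i) _ (hk i)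
  have c01 : k 0 * k 1 * z = z * (k 0 * k 1) := by rw [mul_assoc, hc 1, ← mul_assoc, hc 0, mul_assoc]
  have c012 : k 0 * k 1 * k 2 * z = z * (k 0 * k 1 * k 2) := by rw [mul_assoc, hc 2, ← mul_assoc, c01, mul_assoc]
  exact key _ _ c012 (key _ _ c01 (key _ _ (hc 0) (hp 0) (hp 1)) (hp 2)) (hp 3)

/-- the axis of a member normalised by `t` -/
theorem exists_axis (h : W4 Om) (ht : InZ Om t) (hne : z ≠ t) (hzt : z * t = t * z) (hn : ¬ TI Om z t)
    (hM : Mem Om z M) (hfix : cj t M = M) :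
    ∃ k b, k ∈ M ∧ b ∈ M ∧ k * k = z ∧ k * b ≠ b * k ∧ k * t * k⁻¹ = z * t ∧ b * t * b⁻¹ = k * t := by
  obtain ⟨x, q⟩ := h.exists_q3 hM
  obtain ⟨i, h1, h2⟩ := TSBase.transp q (ht.z2 h) hfix hzt.symm (fun hi => hn (TI.of_one h hM ht hne hi))
  have h3 := TSBase.conj_axis q h1
  have hanti : x i * x (i + 1) ≠ x (i + 1) * x i := by
    intro h4
    have h5 := q.sw (RTwo.i_ne1 i)
    rw [h4] at h5
    exact q.zne _ h5.symm
  rcases TSBase.conj_other q h2 with h4 | h4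
  · exact ⟨x i, x (i + 1), q.mem _, q.mem _, q.sq i, hanti, h3, h4⟩
  · refine ⟨z * x i, x (i + 1), mul_mem q.zmem (q.mem _), q.mem _, ?_, ?_, ?_, h4⟩
    · calc z * x i * (z * x i) = z * (x i * z) * x i := by group
        _ = z * (z * x i) * x i := by rw [q.zc]
        _ = z := by rw [q.zzx, q.sq]
    · intro h5
      apply hanti
      rw [mul_assoc, ← mul_assoc (x (i + 1)), ← q.zc, mul_assoc] at h5
      exact mul_left_cancel h5
    · calc z * x i * t * (z * x i)⁻¹ = z * (x i * t * (x i)⁻¹) * z⁻¹ := by group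
        _ = z * (z * t) * z⁻¹ := by rw [h3]
        _ = z * (t * z) * z⁻¹ := by rw [hzt]
        _ = _ := by group

/-- **(3.2)** -/
theorem exists_conj (h : W4 Om) (hz : InZ Om z) (ht : InZ Om t) (hne : z ≠ t) (hzt : z * t = t * z)
    (hn : ¬ TI Om z t) (hK : Mem Om z K) (hfix : cj t K = K) : ∃ w ∈ RZ Om z, TI Om t (w * t * w⁻¹) := by
  have ht2 := ht.z2 h
  have hz2 := hz.z2 h
  -- a second member normalised by `t`
  obtain ⟨K', hK', hKK', hfix'⟩ : ∃ K', Mem Om z K' ∧ K ≠ K' ∧ cj t K' = K' := by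
    obtain ⟨F, f, rfl⟩ := hK.exists_fr1 h
    have h1 : ∀ i, ∃ j, F j = cj t (F i) := fun i => f.cov _ ((f.mem i).cj_comm h hzt.symm)
    choose τ hτ using h1
    have hττ : ∀ i, τ (τ i) = i := by
      intro i
      apply f.inj
      rw [hτ, hτ, ← cj_mul, ht2, cj_one]
    have h0 : τ 0 = 0 := f.inj (by rw [hτ, hfix])
    obtain ⟨i, hi0, hi⟩ := perm_fix ⟨τ, τ, hττ, hττ⟩ (Equiv.ext hττ) h0
    change τ i = i at hi
    exact ⟨F i, f.mem i, f.ne hi0.symm, by rw [← hτ, hi]⟩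
  obtain ⟨F, f, rfl, rfl⟩ := hK.exists_fr2 hK' h hKK'
  have h1 : ∀ i, ∃ j, F j = cj t (F i) := fun i => f.cov _ ((f.mem i).cj_comm h hzt.symm)
  choose τ hτ using h1
  have hττ : ∀ i, τ (τ i) = i := by
    intro i
    apply f.inj
    rw [hτ, hτ, ← cj_mul, ht2, cj_one]
  have h0 : τ 0 = 0 := f.inj (by rw [hτ, hfix])
  have h1' : τ 1 = 1 := f.inj (by rw [hτ, hfix'])
  obtain ⟨k₀, b₀, hk₀, hb₀, sq₀, n₀, kt₀, bt₀⟩ := exists_axis h ht hne hzt hn (f.mem 0) hfix
  obtain ⟨k₁, b₁, hk₁, hb₁, sq₁, n₁, kt₁, bt₁⟩ := exists_axis h ht hne hzt hn (f.mem 1) hfix'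
  have p : TSBase.Pre (RZ Om z) z t k₀ :=
    { t2 := ht2
      z2 := hz2
      tz := hzt.symm
      zr := fun r hr => RZ_le_centralizer h hr
      rr := fun r hr s hs => RZ_rr h hz hr hs
      tn := fun r hr => RZ_conj_comm h hzt.symm hr
      hk := (f.mem 0).le_RZ hk₀
      kt := kt₀ }
  have hcm : ∀ {i j : Fin 4} {a b : G}, i ≠ j → a ∈ F i → b ∈ F j → a * b = b * a := fun hij ha hb =>
    (f.mem _).comm (f.mem _) h (f.ne hij) ha hb
  -- products of two axes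
  have hprod : ∀ {i j : Fin 4} {k b k' b' : G}, i ≠ j → k ∈ F i → b ∈ F i → k' ∈ F j → b' ∈ F j → k * k = z →
      k' * k' = z → b * t * b⁻¹ = k * t → b' * t * b'⁻¹ = k' * t → k * k' ∈ TSBase.AA p := by
    intro i j k b k' b' hij hk hb hk' hb' hsq hsq' hbt hbt'
    refine ⟨?_, b' * b, mul_mem ((f.mem _).le_RZ hb') ((f.mem _).le_RZ hb), ?_⟩
    · calc k * k' * (k * k') = k * (k' * k) * k' := by group
        _ = k * (k * k') * k' := by rw [hcm hij hk hk']
        _ = (k * k) * (k' * k') := by group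
        _ = 1 := by rw [hsq, hsq', hz2]
    · calc b' * b * t * (b' * b)⁻¹ = b' * (b * t * b⁻¹) * b'⁻¹ := by group
        _ = (b' * k) * t * b'⁻¹ := by rw [hbt]; group
        _ = (k * b') * t * b'⁻¹ := by rw [hcm hij hk hb']
        _ = k * (b' * t * b'⁻¹) := by group
        _ = _ := by rw [hbt', mul_assoc]
  -- `k k'` does not commute with `b`
  have hnc : ∀ {i j : Fin 4} {k b k' : G}, i ≠ j → k ∈ F i → b ∈ F i → k' ∈ F j → k * b ≠ b * k →
      k * k' * b ≠ b * (k * k') := by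
    intro i j k b k' hij hk hb hk' hkb h2
    apply hkb
    rw [mul_assoc, ← hcm hij hb hk', ← mul_assoc, ← mul_assoc] at h2
    exact mul_right_cancel h2
  have hcc : ∀ {i j l : Fin 4} {k k' m : G}, i ≠ l → j ≠ l → k ∈ F i → k' ∈ F j → m ∈ F l →
      k * k' * m = m * (k * k') := by
    intro i j l k k' m hil hjl hk hk' hm
    rw [mul_assoc, hcm hjl hk' hm, ← mul_assoc, hcm hil hk hm, mul_assoc]
  have hzm : ∀ {i : Fin 4} {m : G}, m ∈ F i → z * m = m * z := fun hm => ((f.mem _).comm_z h hm).symm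
  have hcard : 16 ≤ Nat.card (TSBase.AA p) := by
    have hdec := perm_two ⟨τ, τ, hττ, hττ⟩ (Equiv.ext hττ) h0 h1'
    change (τ 2 = 2 ∧ τ 3 = 3) ∨ τ 2 = 3 at hdec
    rcases hdec with ⟨h2, h3⟩ | h2
    · -- all members are normalised
      obtain ⟨k₂, b₂, hk₂, hb₂, sq₂, n₂, kt₂, bt₂⟩ := exists_axis h ht hne hzt hn (f.mem 2) (by rw [← hτ, h2])
      obtain ⟨k₃, b₃, hk₃, hb₃, sq₃, n₃, kt₃, bt₃⟩ := exists_axis h ht hne hzt hn (f.mem 3) (by rw [← hτ, h3])
      exact TSBase.card_ge (TSBase.AA p) (TSBase.z_mem_AA p) (hz.z1 h) (hzm hb₀) (hzm hb₁) (hzm hb₂)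
        (g₁ := k₀ * k₁) (g₂ := k₁ * k₂) (g₃ := k₂ * k₃)
        (hprod (by decide) hk₀ hb₀ hk₁ hb₁ sq₀ sq₁ bt₀ bt₁) (hnc (by decide) hk₀ hb₀ hk₁ n₀)
        (hprod (by decide) hk₁ hb₁ hk₂ hb₂ sq₁ sq₂ bt₁ bt₂) (hcc (by decide) (by decide) hk₁ hk₂ hb₀)
        (hnc (by decide) hk₁ hb₁ hk₂ n₁)
        (hprod (by decide) hk₂ hb₂ hk₃ hb₃ sq₂ sq₃ bt₂ bt₃) (hcc (by decide) (by decide) hk₂ hk₃ hb₀)
        (hcc (by decide) (by decide) hk₂ hk₃ hb₁) (hnc (by decide) hk₂ hb₂ hk₃ n₂)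
    · -- `F 2` and `F 3` are interchanged
      obtain ⟨x, q⟩ := h.exists_q3 (f.mem 2)
      have hF3 : F 3 = cj t (F 2) := by rw [← hτ, h2]
      have hm3 : ∀ b ∈ F 2, (t * b * t⁻¹)⁻¹ ∈ F 3 := by
        intro b hb
        rw [hF3]; exact inv_mem (conj_mem_cj hb)
      have hA : ∀ b ∈ F 2, b * b = z → b * (t * b * t⁻¹)⁻¹ ∈ TSBase.AA p := by
        intro b hb hbb
        refine ⟨?_, b, (f.mem 2).le_RZ hb, by group⟩
        have h3 : (t * b * t⁻¹)⁻¹ * (t * b * t⁻¹)⁻¹ = z := by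
          calc (t * b * t⁻¹)⁻¹ * (t * b * t⁻¹)⁻¹ = t * (b * b)⁻¹ * t⁻¹ := by group
            _ = (t * z) * t⁻¹ := by rw [hbb, hz.inv h]
            _ = (z * t) * t⁻¹ := by rw [hzt]
            _ = z := by group
        calc b * (t * b * t⁻¹)⁻¹ * (b * (t * b * t⁻¹)⁻¹)
            = b * ((t * b * t⁻¹)⁻¹ * b) * (t * b * t⁻¹)⁻¹ := by group
          _ = b * (b * (t * b * t⁻¹)⁻¹) * (t * b * t⁻¹)⁻¹ := by
            rw [hcm (show (3 : Fin 4) ≠ 2 by decide) (hm3 b hb) hb]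
          _ = (b * b) * ((t * b * t⁻¹)⁻¹ * (t * b * t⁻¹)⁻¹) := by group
          _ = 1 := by rw [hbb, h3, hz2]
      have hx : x 0 * x 1 ≠ x 1 * x 0 := q.not_comm
      exact TSBase.card_ge (TSBase.AA p) (TSBase.z_mem_AA p) (hz.z1 h) (hzm hb₀) (hzm (q.mem 1)) (hzm (q.mem 0))
        (g₁ := k₀ * k₁) (g₂ := x 0 * (t * x 0 * t⁻¹)⁻¹) (g₃ := x 1 * (t * x 1 * t⁻¹)⁻¹)
        (hprod (by decide) hk₀ hb₀ hk₁ hb₁ sq₀ sq₁ bt₀ bt₁) (hnc (by decide) hk₀ hb₀ hk₁ n₀)
        (hA _ (q.mem 0) (q.sq 0)) (hcc (by decide) (by decide) (q.mem 0) (hm3 _ (q.mem 0)) hb₀)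
        (hnc (by decide) (q.mem 0) (q.mem 1) (hm3 _ (q.mem 0)) hx)
        (hA _ (q.mem 1) (q.sq 1)) (hcc (by decide) (by decide) (q.mem 1) (hm3 _ (q.mem 1)) hb₀)
        (by
          rw [mul_assoc, hcm (show (3 : Fin 4) ≠ 2 by decide) (hm3 _ (q.mem 1)) (q.mem 1)])
        (hnc (by decide) (q.mem 1) (q.mem 0) (hm3 _ (q.mem 1)) hx.symm)
  obtain ⟨a, ⟨-, w, hw, hwa⟩, hti⟩ := lemma16 h ht (A := TSBase.AA p) (fun a ha => ha.1)
    (fun a ha => TSBase.AA_comm p ha)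
    (fun a ha => by
      obtain ⟨-, w, -, hw⟩ := ha
      rw [← hw]; exact ht.conj h w) (by omega)
  exact ⟨w, hw, by rw [hwa]; exact hti⟩

/-! ### (3.4) -/

/-- (3.3) -/
def Exc (Om : Set (Subgroup G)) : Prop := ∀ z t : G, InZ Om z → InZ Om t → z ≠ t → z * t = t * z → ¬ TI Om z t →
  (∀ K, Mem Om z K → cj t K ≠ K) → (∀ L, Mem Om t L → cj z L ≠ L) → ∃ w ∈ RZ Om z, TI Om t (w * t * w⁻¹)

/-- the common neighbour in terms of a conjugate -/
theorem common_of (h : W4 Om) (hz : InZ Om z) (hzt : z * t = t * z) (hn : ¬ TI Om z t) {w : G}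
    (hw : w ∈ RZ Om z) (hti : TI Om t (w * t * w⁻¹)) : ∃ e, TI Om z e ∧ TI Om t e := by
  have h1 := hti.inZ_mul h
  have h2 := hti.mul_right h
  refine ⟨t * (w * t * w⁻¹), TI.of_mem_RZ h hz h1 ?_ ?_, h2⟩
  · intro h3
    apply hn
    rw [← h3] at h2
    exact h2.symm h
  · have h4 : t * (w * t * w⁻¹) = (t * w * t⁻¹) * (t * t) * w⁻¹ := by group
    rw [h4, hti.inZ.z2 h, mul_one]
    exact mul_mem (RZ_conj_comm h hzt.symm hw) (inv_mem hw)

/-- **(3.4)** -/
theorem exists_common (h : W4 Om) (hexc : Exc Om) (hz : InZ Om z) (ht : InZ Om t) (hne : z ≠ t)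
    (hzt : z * t = t * z) : TI Om z t ∨ ∃ e, TI Om z e ∧ TI Om t e := by
  by_cases hn : TI Om z t
  · exact Or.inl hn
  right
  by_cases h1 : ∃ K, Mem Om z K ∧ cj t K = K
  · obtain ⟨K, hK, hfix⟩ := h1
    obtain ⟨w, hw, hti⟩ := exists_conj h hz ht hne hzt hn hK hfix
    exact common_of h hz hzt hn hw hti
  have hn' : ¬ TI Om t z := fun h2 => hn (h2.symm h)
  by_cases h2 : ∃ L, Mem Om t L ∧ cj z L = L
  · obtain ⟨L, hL, hfix⟩ := h2
    obtain ⟨w, hw, hti⟩ := exists_conj h ht hz hne.symm hzt.symm hn' hL hfix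
    obtain ⟨e, he1, he2⟩ := common_of h ht hzt.symm hn' hw hti
    exact ⟨e, he2, he1⟩
  push Not at h1 h2
  obtain ⟨w, hw, hti⟩ := hexc z t hz ht hne hzt hn h1 h2
  exact common_of h hz hzt hn hw hti

end Cfsg.Agent.Cit.Nil.RFour
end

-- part: Cit/Nil/RFour/NZero
section
/-!
# `r = 4`, `m = 1`: the action of `X_z` on `R_t` (section 2 of `blueprints/CIT-6b-r4m1-helper449.md`)

* `TI.fix` : `n ∈ X_z` normalises all members over a type I neighbour `t`;
* `TI.transfer` : `n ∈ X_z` trivial on one member over `t` is trivial on all members over `z t`;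
* `TI.CX_or` : `n ∈ X_z` implies `n ∈ X_t` or `z n ∈ X_t`;
* `TI.CX_const` : `n ∈ X_z ∩ X_t` implies `n ∈ X_t'` for all type I neighbours `t'` of `z`;
* `N0 Om z`, `mem_N0`, `TI.N0_or`, `TI.N0_eq`, `N0_conj`, `N0_le`.
-/

set_option autoImplicit false
set_option linter.style.haveILetI false
set_option linter.unusedSectionVars false

namespace Cfsg.Agent.Cit.Nil.RFour

open Subgroup Cfsg Cfsg.Agent.Cit

open RTwo (Q3 Act i11 i12 i21 i22 i_ne1 i_ne2 i_ne12 i_cases i_cases3)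

variable {G : Type*} [Group G] [Finite G] {Om : Set (Subgroup G)} {K K' L L' M : Subgroup G}
  {z t t' g n x x' y y' u s : G}

theorem CX_as (hn : n ∈ CX Om z) (hK : Mem Om z K) : As K n 1 := As.one_iff.2 (mem_CX.1 hn K hK)

theorem mem_CX_of_as (hn : ∀ K, Mem Om z K → As K n 1) : n ∈ CX Om z :=
  mem_CX.2 fun K hK => As.one_iff.1 (hn K hK)

/-- **(2.1)** -/
theorem TI.fix (hti : TI Om z t) (h : W4 Om) (hn : n ∈ CX Om z) (hL : Mem Om t L) : cj n L = L := by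
  have hnt : n * t = t * n := CX_comm (hti.mem_RZ h) hn
  by_contra hne
  obtain ⟨x, hx, hxx⟩ := (hti.symm h).exists_as h hL
  have hLn : Mem Om t (cj n L) := hL.cj_comm h hnt
  have key : ∀ L', Mem Om t L' → L ≠ L' → cj n L' = L := by
    intro L' hL' hLL'
    by_contra hne'
    obtain ⟨x', hx', -⟩ := (hti.symm h).exists_as h hL'
    have hc : n * (x * x') = (x * x') * n := CX_comm (hti.xx_mem h hL hL' hLL' hx hx') hn
    have h1 : (n * x * n⁻¹) * (n * x' * n⁻¹) = x * x' := by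
      calc (n * x * n⁻¹) * (n * x' * n⁻¹) = n * (x * x') * n⁻¹ := by group
        _ = x * x' := by rw [hc, mul_inv_cancel_right]
    have h2 : As L (x * x') x := by
      have := (As.self hx.1).mul (hL.as_one hL' h hLL' hx'.1)
      rwa [mul_one] at this
    have h3 : As L (x * x') 1 := by
      rw [← h1]
      have := (hL.as_one hLn h (Ne.symm hne) (conj_mem_cj (g := n) hx.1)).mul
        (hL.as_one (hL'.cj_comm h hnt) h (Ne.symm hne') (conj_mem_cj (g := n) hx'.1))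
      rwa [mul_one] at this
    exact hL.not_as_one h h2 hxx h3
  obtain ⟨L', hL', h1⟩ := hL.other h
  obtain ⟨L'', hL'', h2, h3⟩ := hL.third hL' h
  exact h3 (cj_inj.1 ((key L'' hL'' (Ne.symm h2)).trans (key L' hL' h1).symm))

/-- **(2.3)** -/
theorem TI.transfer (hti : TI Om z t) (h : W4 Om) (hn : n ∈ CX Om z) (hL : Mem Om t L) (hnL : As L n 1)
    (hM : Mem Om (z * t) M) : As M n 1 := by
  obtain ⟨x, hx, hxx⟩ := (hti.symm h).exists_as h hL
  obtain ⟨u, hu, huu, hxu⟩ := hL.exists_nc h hx.1 hxx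
  have e1 := hti.conj_z h hL hx hu huu hxu
  have hK : Mem Om z (cj u⁻¹ M) := by
    have := hM.cj h u⁻¹
    rw [← e1] at this
    have h2 : u⁻¹ * (u * z * u⁻¹) * u⁻¹⁻¹ = z := by group
    rwa [h2] at this
  have hnu : u * n = n * u := (As.one_iff.1 hnL u hu).symm
  refine As.one_iff.2 fun m hm => ?_
  have h1 : u⁻¹ * m * u⁻¹⁻¹ ∈ cj u⁻¹ M := conj_mem_cj hm
  have h2 := mem_CX.1 hn _ hK _ h1
  have h3 : m = u * (u⁻¹ * m * u⁻¹⁻¹) * u⁻¹ := by group
  have h4 : n * u⁻¹ = u⁻¹ * n := by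
    rw [eq_inv_mul_iff_mul_eq, ← mul_assoc, hnu, mul_inv_cancel_right]
  calc n * m = n * (u * (u⁻¹ * m * u⁻¹⁻¹) * u⁻¹) := by rw [← h3]
    _ = (n * u) * (u⁻¹ * m * u⁻¹⁻¹) * u⁻¹ := by group
    _ = (u * n) * (u⁻¹ * m * u⁻¹⁻¹) * u⁻¹ := by rw [hnu]
    _ = u * (n * (u⁻¹ * m * u⁻¹⁻¹)) * u⁻¹ := by group
    _ = u * ((u⁻¹ * m * u⁻¹⁻¹) * n) * u⁻¹ := by rw [h2]
    _ = u * (u⁻¹ * m * u⁻¹⁻¹) * (n * u⁻¹) := by group
    _ = u * (u⁻¹ * m * u⁻¹⁻¹) * (u⁻¹ * n) := by rw [h4]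
    _ = m * n := by group

theorem zzt (hz : InZ Om z) (h : W4 Om) : z * (z * t) = t := by rw [← mul_assoc, hz.z2 h, one_mul]

/-- **(2.3)**: all members over `t` -/
theorem TI.transfer' (hti : TI Om z t) (h : W4 Om) (hn : n ∈ CX Om z) (hL : Mem Om t L) (hnL : As L n 1)
    (hL' : Mem Om t L') : As L' n 1 := by
  obtain ⟨M, hM⟩ := hti.inZ_mul h
  have h1 := hti.transfer h hn hL hnL hM
  refine (hti.mul_right h).transfer h hn hM h1 ?_
  rw [zzt hti.inZ h]
  exact hL'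

theorem TI.CX_of_as (hti : TI Om z t) (h : W4 Om) (hn : n ∈ CX Om z) (hL : Mem Om t L) (hnL : As L n 1) :
    n ∈ CX Om t :=
  mem_CX_of_as fun _ hL' => hti.transfer' h hn hL hnL hL'

theorem TI.CX_mul (hti : TI Om z t) (h : W4 Om) (hn : n ∈ CX Om z) (hnt : n ∈ CX Om t) : n ∈ CX Om (z * t) := by
  obtain ⟨L, hL⟩ := hti.inT
  exact mem_CX_of_as fun _ hM => hti.transfer h hn hL (CX_as hnt hL) hM

theorem z_mul_CX (h : W4 Om) (hn : n ∈ CX Om z) : z * n ∈ CX Om z := mul_mem (z_mem_CX h) hn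

/-- **(2.2)** -/
theorem TI.cases_L (hti : TI Om z t) (h : W4 Om) (hn : n ∈ CX Om z) (hL : Mem Om t L) (hx : As L z x) :
    As L n 1 ∨ As L (z * n) 1 ∨ ∃ w ∈ L, As L z w ∧ w * w = t ∧ ∀ M, Mem Om (z * t) M → ∀ m ∈ M,
      n * m * n⁻¹ = w * m * w⁻¹ := by
  have hxx := (hti.symm h).sq_of_as h hL hx
  obtain ⟨u, hu, huu, hxu⟩ := hL.exists_nc h hx.1 hxx
  obtain ⟨K, hK⟩ := hti.inZ
  obtain ⟨y, hy, hyy⟩ := hti.exists_as h hK
  have hnt : n * t = t * n := CX_comm (hti.mem_RZ h) hn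
  have hnz : n * z = z * n := CX_le hK.inZ h hn
  have hny : n * y = y * n := mem_CX.1 hn K hK y hy.1
  have hfix := hti.fix h hn hL
  have htt := hL.inZ.z2 h
  have htx : t * x = x * t := (hL.comm_z h hx.1).symm
  have htu : t * u = u * t := (hL.comm_z h hu).symm
  obtain ⟨c, qc, hc0, hc1⟩ := hL.exists_q2 h hx.1 hxx hu huu hxu
  -- the case `n u = u n`
  have caseA : ∀ n, n ∈ CX Om z → n * u = u * n → As L n 1 := by
    intro n hn hnu
    have hny : n * y = y * n := mem_CX.1 hn K hK y hy.1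
    have hnt : n * t = t * n := CX_comm (hti.mem_RZ h) hn
    obtain ⟨-, h1, h2⟩ := hti.rot h hK hL hy hx
    have h3 : n * (x * u) = (x * u) * n := by
      have h4 : n * (y * u * y⁻¹) = (y * u * y⁻¹) * n := by
        have h5 : n * y⁻¹ = y⁻¹ * n := by
          rw [eq_inv_mul_iff_mul_eq, ← mul_assoc, ← hny, mul_inv_cancel_right]
        calc n * (y * u * y⁻¹) = (n * y) * u * y⁻¹ := by group
          _ = y * (n * u) * y⁻¹ := by rw [hny]; group
          _ = y * u * (n * y⁻¹) := by rw [hnu]; group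
          _ = _ := by rw [h5]; group
      rcases h2 u hu huu hxu with h6 | h6
      · rwa [h6] at h4
      · rw [h6] at h4
        have h7 : n * (t * (x * u)) = t * (n * (x * u)) := by
          rw [← mul_assoc, hnt, mul_assoc]
        rw [h7, mul_assoc t] at h4
        exact mul_left_cancel h4
    have h4 : n * x = x * n := by
      apply mul_right_cancel (b := u)
      calc n * x * u = n * (x * u) := by group
        _ = x * (u * n) := by rw [h3]; group
        _ = x * n * u := by rw [← hnu]; group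
    refine As.one_iff.2 fun k hk => ?_
    refine qc.comm_of ?_ ?_ hk
    · rw [hc0]; exact h4
    · rw [hc1]; exact hnu
  -- `n u n⁻¹`
  have hnx : n * x * n⁻¹ = x ∨ n * x * n⁻¹ = t * x := by
    have h1 := hx.conj n
    rw [hfix, hnz, mul_inv_cancel_right] at h1
    exact hL.as_unique h hx h1
  have hnuL : n * u * n⁻¹ ∈ L := by
    have := conj_mem_cj (g := n) hu
    rwa [hfix] at this
  have hnuu : (n * u * n⁻¹) * (n * u * n⁻¹) = t := by
    calc (n * u * n⁻¹) * (n * u * n⁻¹) = n * (u * u) * n⁻¹ := by group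
      _ = t := by rw [huu, hnt, mul_inv_cancel_right]
  obtain ⟨i, hi⟩ := qc.of_sq hnuL hnuu
  rw [← hc0] at hnx
  have hi0 : i ≠ 0 := by
    intro hi0
    rw [hi0] at hi
    -- `n u n⁻¹ = ± x = ± n x n⁻¹`
    have h1 : u = x ∨ u = t * x := by
      have key : ∀ p q : G, n * p * n⁻¹ = n * q * n⁻¹ → p = q := fun p q hpq =>
        mul_left_cancel (mul_right_cancel hpq)
      have e : n * (t * x) * n⁻¹ = t * (n * x * n⁻¹) := by
        calc n * (t * x) * n⁻¹ = (n * t) * x * n⁻¹ := by group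
          _ = (t * n) * x * n⁻¹ := by rw [hnt]
          _ = _ := by group
      rw [hc0] at hi hnx
      rcases hi with hi | hi <;> rcases hnx with hnx | hnx
      · left; exact key _ _ (hi.trans hnx.symm)
      · right; apply key; rw [e, hnx, ← mul_assoc, htt, one_mul, hi]
      · right; apply key; rw [e, hnx, hi]
      · left; exact key _ _ (hi.trans hnx.symm)
    rcases h1 with h1 | h1
    · exact hxu (by rw [h1])
    · exact hxu (by rw [h1, ← mul_assoc, ← htx, mul_assoc])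
  have hi12 : i = 1 ∨ i = 2 := by
    have hf : ∀ i : Fin 3, i ≠ 0 → i = 1 ∨ i = 2 := by decide
    exact hf i hi0
  rcases hi12 with rfl | rfl
  · rw [hc1] at hi
    rcases hi with hi | hi
    · left; exact caseA n hn (by rwa [mul_inv_eq_iff_eq_mul] at hi)
    · right; left
      refine caseA (z * n) (z_mul_CX h hn) ?_
      rw [mul_inv_eq_iff_eq_mul] at hi
      have h1 : z * u * z⁻¹ = t * u := by
        rw [hx.2 u hu]; exact hL.anti h hu huu hx.1 hxx (fun h3 => hxu h3.symm)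
      rw [mul_inv_eq_iff_eq_mul] at h1
      calc z * n * u = z * (n * u) := by group
        _ = z * (t * u * n) := by rw [hi]
        _ = (z * t) * u * n := by group
        _ = (t * z) * u * n := by rw [hti.comm]
        _ = t * (z * u) * n := by group
        _ = t * (t * u * z) * n := by rw [h1]
        _ = (t * t) * u * (z * n) := by group
        _ = u * (z * n) := by rw [htt, one_mul]
  · right; right
    have hc2 : c 2 = x * u := by
      have := qc.mul 0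
      simp only [zero_add] at this
      rw [hc0, hc1] at this
      exact this.symm
    rw [hc2] at hi
    -- `n u n⁻¹ = w u`
    have h1 : ∃ w ∈ L, As L z w ∧ w * w = t ∧ n * u * n⁻¹ = w * u := by
      rcases hi with hi | hi
      · exact ⟨x, hx.1, hx, hxx, hi⟩
      · refine ⟨t * x, mul_mem (hL.zmem h) hx.1, ?_, ?_, by rw [hi, mul_assoc]⟩
        · refine ⟨mul_mem (hL.zmem h) hx.1, fun k hk => ?_⟩
          rw [hx.2 k hk]
          have h2 : t * (x * k * x⁻¹) * t⁻¹ = x * k * x⁻¹ := by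
            rw [← hL.comm_z h (mul_mem (mul_mem hx.1 hk) (inv_mem hx.1)), mul_inv_cancel_right]
          rw [← h2]; group
        · calc t * x * (t * x) = t * (x * t) * x := by group
            _ = t * (t * x) * x := by rw [htx]
            _ = (t * t) * (x * x) := by group
            _ = t := by rw [htt, hxx, one_mul]
    obtain ⟨w, hwL, hw, hww, hwu⟩ := h1
    refine ⟨w, hwL, hw, hww, fun M hM m hm => ?_⟩
    have e1 := hti.conj_z h hL hx hu huu hxu
    have hK' : Mem Om z (cj u⁻¹ M) := by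
      have := hM.cj h u⁻¹
      rw [← e1] at this
      have h2 : u⁻¹ * (u * z * u⁻¹) * u⁻¹⁻¹ = z := by group
      rwa [h2] at this
    have h1 : u⁻¹ * m * u⁻¹⁻¹ ∈ cj u⁻¹ M := conj_mem_cj hm
    have h2 := mem_CX.1 hn _ hK' _ h1
    calc n * m * n⁻¹ = (n * u * n⁻¹) * (n * (u⁻¹ * m * u⁻¹⁻¹)) * n⁻¹ * (n * u * n⁻¹)⁻¹ := by group
      _ = (w * u) * ((u⁻¹ * m * u⁻¹⁻¹) * n) * n⁻¹ * (w * u)⁻¹ := by rw [hwu, h2]
      _ = w * m * w⁻¹ := by group

/-- **(2.4)** : `n` or `z n` centralises `R_t` -/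
theorem TI.CX_or (hti : TI Om z t) (h : W4 Om) (hn : n ∈ CX Om z) : n ∈ CX Om t ∨ z * n ∈ CX Om t := by
  obtain ⟨L, hL⟩ := hti.inT
  obtain ⟨L', hL', hne⟩ := hL.other h
  obtain ⟨x, hx, hxx⟩ := (hti.symm h).exists_as h hL
  obtain ⟨x', hx', hxx'⟩ := (hti.symm h).exists_as h hL'
  rcases hti.cases_L h hn hL hx with h1 | h1 | ⟨w, hwL, hw, hww, h1⟩
  · exact Or.inl (hti.CX_of_as h hn hL h1)
  · exact Or.inr (hti.CX_of_as h (z_mul_CX h hn) hL h1)
  rcases hti.cases_L h hn hL' hx' with h2 | h2 | ⟨w', hwL', hw', hww', h2⟩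
  · exact Or.inl (hti.CX_of_as h hn hL' h2)
  · exact Or.inr (hti.CX_of_as h (z_mul_CX h hn) hL' h2)
  exfalso
  -- `w⁻¹ w'` centralises all members over `z t`
  have hst : TI Om (z * t) t := (hti.mul_left h).symm h
  have hLt : As L t 1 := hL.as_z h
  have hLt' : As L' t 1 := hL'.as_z h
  have a1 : As L (z * t) w⁻¹ := by
    have h3 : As L (z * t) w := by
      have := hw.mul hLt
      rwa [mul_one] at this
    rw [hL.inv_eq h hwL hww]
    refine ⟨mul_mem (hL.zmem h) hwL, fun k hk => ?_⟩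
    rw [h3.2 k hk]
    have h4 : t * (w * k * w⁻¹) * t⁻¹ = w * k * w⁻¹ := by
      rw [← hL.comm_z h (mul_mem (mul_mem hwL hk) (inv_mem hwL)), mul_inv_cancel_right]
    rw [← h4]; group
  have a2 : As L' (z * t) w' := by
    have := hw'.mul hLt'
    rwa [mul_one] at this
  refine hst.xx_not_cent h hL hL' hne a1 a2 fun M hM => As.one_iff.2 fun m hm => ?_
  have h3 := (h1 M hM m hm).symm.trans (h2 M hM m hm)
  calc w⁻¹ * w' * m = w⁻¹ * (w' * m * w'⁻¹) * w' := by group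
    _ = w⁻¹ * (w * m * w⁻¹) * w' := by rw [h3]
    _ = m * (w⁻¹ * w') := by group

/-- `n ∈ X_z` commutes with the elements of `R_t` commuting with `z` -/
theorem TI.comm_of (hti : TI Om z t) (h : W4 Om) (hn : n ∈ CX Om z) (hx : x ∈ RZ Om t) (hxz : z * x = x * z) :
    n * x = x * n := by
  rcases hti.CX_or h hn with h1 | h1
  · exact CX_comm hx h1
  · have h2 : z * n * x = x * (z * n) := CX_comm hx h1
    apply mul_left_cancel (a := z)
    calc z * (n * x) = z * n * x := by group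
      _ = x * (z * n) := h2
      _ = (x * z) * n := by group
      _ = (z * x) * n := by rw [hxz]
      _ = z * (x * n) := by group

/-- **(2.5)** -/
theorem TI.CX_const (hti : TI Om z t) (hti' : TI Om z t') (h : W4 Om) (hn : n ∈ CX Om z) (hnt : n ∈ CX Om t) :
    n ∈ CX Om t' := by
  obtain ⟨L, hL⟩ := hti.inT
  obtain ⟨x, hx, hxx⟩ := (hti.symm h).exists_as h hL
  have hxz : x * z = z * x := hx.comm.symm
  -- `t'' = x t' x⁻¹`
  obtain ⟨t'', ht''⟩ : ∃ t'', t'' = x * t' * x⁻¹ := ⟨_, rfl⟩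
  have hti'' : TI Om z t'' := by
    have := hti'.conj h x
    rwa [hxz, mul_inv_cancel_right, ← ht''] at this
  obtain ⟨L'', hL''⟩ := hti''.inT
  obtain ⟨x'', hx'', hxx''⟩ := (hti''.symm h).exists_as h hL''
  have hxz'' : x'' * z = z * x'' := hx''.comm.symm
  obtain ⟨s, hs⟩ : ∃ s, s = x'' * t * x''⁻¹ := ⟨_, rfl⟩
  have htis : TI Om z s := by
    have := hti.conj h x''
    rwa [hxz'', mul_inv_cancel_right, ← hs] at this
  have hns : n ∈ CX Om s := by
    have h1 : n * x'' = x'' * n := hti''.comm_of h hn (hL''.le_RZ hx''.1) hxz''.symm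
    have h2 := (CX_conj h x'').2 hnt
    rwa [← h1, mul_inv_cancel_right, ← hs] at h2
  -- `s` and `t'` have the same action
  have hact : ∀ K, Mem Om z K → ∃ y, As K s y ∧ As K t' y := by
    intro K hK
    obtain ⟨y, hy, hyy⟩ := hti.exists_as h hK
    obtain ⟨y', hy', hyy'⟩ := hti'.exists_as h hK
    have hzy : z * y = y * z := (hK.comm_z h hy.1).symm
    have hzy' : z * y' = y' * z := (hK.comm_z h hy'.1).symm
    have hzz := hK.inZ.z2 h
    have e1 : ∀ g : G, z * (z * g) = g := fun g => by rw [← mul_assoc, hzz, one_mul]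
    obtain ⟨r1, r2, r3⟩ := (hti.symm h).rot h hL hK hx hy
    have hy'' : As K t'' (x * y' * x⁻¹) := by
      have := hy'.conj x
      rwa [r1, ← ht''] at this
    obtain ⟨y'', hy''e⟩ : ∃ y'', y'' = x * y' * x⁻¹ := ⟨_, rfl⟩
    rw [← hy''e] at hy''
    have hyy'' := hti''.sq_of_as h hK hy''
    obtain ⟨s1, s2, s3⟩ := (hti''.symm h).rot h hL'' hK hx'' hy''
    have hys : As K s (x'' * y * x''⁻¹) := by
      have := hy.conj x''
      rwa [s1, ← hs] at this
    -- `As` is insensitive to `z`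
    have hzas : ∀ {g w}, As K g w → As K g (z * w) := by
      intro g w hw
      refine ⟨mul_mem (hK.zmem h) hw.1, fun k hk => ?_⟩
      rw [hw.2 k hk]
      have h4 : z * (w * k * w⁻¹) * z⁻¹ = w * k * w⁻¹ := by
        rw [← hK.comm_z h (mul_mem (mul_mem hw.1 hk) (inv_mem hw.1)), mul_inv_cancel_right]
      rw [← h4]; group
    by_cases hc : y * y' = y' * y
    · -- same axis
      have h1 : y' = y ∨ y' = z * y := by
        rcases hK.of_comm h hy.1 hyy hy'.1 hc with h2 | h2 | h2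
        · rw [h2, one_mul] at hyy'
          exact absurd hyy'.symm (hK.inZ.z1 h)
        · rw [h2, hzz] at hyy'
          exact absurd hyy'.symm (hK.inZ.z1 h)
        · exact h2
      have h2 : y'' = y' := by
        rw [hy''e]
        rcases h1 with h1 | h1
        · rw [h1, r2, mul_inv_cancel_right]
        · rw [h1]
          calc x * (z * y) * x⁻¹ = (x * z) * y * x⁻¹ := by group
            _ = z * (x * y) * x⁻¹ := by rw [hxz]; group
            _ = z * (y * x) * x⁻¹ := by rw [r2]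
            _ = z * y := by group
      have h3 : x'' * y * x''⁻¹ = y := by
        rw [h2] at s2
        have h4 : x'' * y = y * x'' := by
          rcases h1 with h1 | h1
          · rw [← h1]; exact s2
          · have h5 : y = z * y' := by rw [h1, e1]
            rw [h5]
            calc x'' * (z * y') = (x'' * z) * y' := by group
              _ = (z * x'') * y' := by rw [hxz'']
              _ = z * (x'' * y') := by group
              _ = z * (y' * x'') := by rw [s2]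
              _ = z * y' * x'' := by group
        rw [h4, mul_inv_cancel_right]
      rw [h3] at hys
      rcases h1 with h1 | h1
      · exact ⟨y, hys, by rw [← h1]; exact hy'⟩
      · exact ⟨y', by rw [h1]; exact hzas hys, hy'⟩
    · -- different axes
      have hanti : y' * y = z * (y * y') := by
        have h1 := hK.anti h hy.1 hyy hy'.1 hyy' hc
        rw [mul_inv_eq_iff_eq_mul] at h1
        rw [h1, mul_assoc]
      have h1 : y'' = y * y' ∨ y'' = z * (y * y') := by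
        rw [hy''e]
        exact r3 y' hy'.1 hyy' hc
      have e2 : y * (y * y') = z * y' := by rw [← mul_assoc, hyy]
      have e3 : y * y' * y = y' := by
        rw [mul_assoc, hanti, ← mul_assoc, ← hzy, mul_assoc, e2, e1]
      have hc2 : y'' * y ≠ y * y'' := by
        intro h2
        apply hK.inZ.z1 h
        rcases h1 with h1 | h1
        · rw [h1, e3, e2] at h2
          exact (mul_eq_right.1 h2.symm)
        · rw [h1] at h2
          have h3 : z * (y * y') * y = z * y' := by rw [mul_assoc, e3]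
          have h4 : y * (z * (y * y')) = y' := by
            rw [← mul_assoc, ← hzy, mul_assoc, e2, e1]
          rw [h3, h4] at h2
          exact (mul_eq_right.1 h2)
      have h3 : y'' * y = y' ∨ y'' * y = z * y' := by
        rcases h1 with h1 | h1
        · left; rw [h1, e3]
        · right; rw [h1, mul_assoc, e3]
      have h4 : x'' * y * x''⁻¹ = y' ∨ x'' * y * x''⁻¹ = z * y' := by
        rcases s3 y hy.1 hyy hc2 with h5 | h5 <;> rcases h3 with h6 | h6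
        · left; rw [h5, h6]
        · right; rw [h5, h6]
        · right; rw [h5, h6]
        · left; rw [h5, h6, e1]
      rcases h4 with h4 | h4
      · exact ⟨y', by rw [h4] at hys; exact hys, hy'⟩
      · refine ⟨z * y', by rw [h4] at hys; exact hys, hzas hy'⟩
  rcases eq_or_of_as h hti.inZ (hti'.mem_RZ h) (htis.mem_RZ h) (fun K hK => by
    obtain ⟨y, h1, h2⟩ := hact K hK
    exact ⟨y, h2, h1⟩) with h1 | h1
  · rwa [h1] at hns
  · have h2 := htis.CX_mul h hn hns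
    rwa [h1, zzt hti.inZ h] at h2

/-! ### `N⁰` -/

/-- `N⁰_z` -/
def N0 (Om : Set (Subgroup G)) (z : G) : Subgroup G := CX Om z ⊓ ⨅ (t : G) (_ : TI Om z t), CX Om t

theorem mem_N0 : n ∈ N0 Om z ↔ n ∈ CX Om z ∧ ∀ t, TI Om z t → n ∈ CX Om t := by
  rw [N0, mem_inf, Subgroup.mem_iInf]
  refine and_congr_right fun _ => forall_congr' fun t => ?_
  rw [Subgroup.mem_iInf]

theorem TI.mem_N0 (hti : TI Om z t) (h : W4 Om) : n ∈ N0 Om z ↔ n ∈ CX Om z ∧ n ∈ CX Om t := by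
  rw [RFour.mem_N0]
  exact ⟨fun h1 => ⟨h1.1, h1.2 t hti⟩, fun h1 => ⟨h1.1, fun t' ht' => hti.CX_const ht' h h1.1 h1.2⟩⟩

theorem TI.N0_or (hti : TI Om z t) (h : W4 Om) (hn : n ∈ CX Om z) : n ∈ N0 Om z ∨ z * n ∈ N0 Om z := by
  rcases hti.CX_or h hn with h1 | h1
  · exact Or.inl ((hti.mem_N0 h).2 ⟨hn, h1⟩)
  · exact Or.inr ((hti.mem_N0 h).2 ⟨z_mul_CX h hn, h1⟩)

/-- **(2.6)** -/
theorem TI.N0_eq (hti : TI Om z t) (h : W4 Om) : N0 Om z = N0 Om t := by
  ext n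
  rw [hti.mem_N0 h, (hti.symm h).mem_N0 h, and_comm]

theorem N0_conj (h : W4 Om) (g : G) : N0 Om (g * z * g⁻¹) = cj g (N0 Om z) := by
  have key : ∀ (g z n : G), n ∈ N0 Om z → g * n * g⁻¹ ∈ N0 Om (g * z * g⁻¹) := by
    intro g z n hn
    rw [mem_N0] at hn ⊢
    refine ⟨(CX_conj h g).2 hn.1, fun t ht => ?_⟩
    have h1 := ht.conj h g⁻¹
    have h2 : g⁻¹ * (g * z * g⁻¹) * g⁻¹⁻¹ = z := by group
    rw [h2] at h1
    have h3 := (CX_conj h g).2 (hn.2 _ h1)
    have h4 : g * (g⁻¹ * t * g⁻¹⁻¹) * g⁻¹ = t := by group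
    rwa [h4] at h3
  ext n
  constructor
  · intro hn
    rw [mem_cj]
    have h1 := key g⁻¹ _ _ hn
    have h2 : g⁻¹ * (g * z * g⁻¹) * g⁻¹⁻¹ = z := by group
    rwa [h2, inv_inv] at h1
  · intro hn
    have h1 := key g _ _ (mem_cj.1 hn)
    have h2 : g * (g⁻¹ * n * g) * g⁻¹ = n := by group
    rwa [h2] at h1

theorem N0_le (h : W4 Om) (hz : InZ Om z) : N0 Om z ≤ centralizer {z} := by
  intro n hn
  rw [mem_centralizer_singleton_iff]
  exact CX_le hz h (mem_N0.1 hn).1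

end Cfsg.Agent.Cit.Nil.RFour
end

-- part: Cit/Nil/RFour/World
section
/-!
# `r = 4`, `m = 1`: the leaf

* `C3' Om` : (C3) elementwise for all members; `OneCls Om`; `CF Om` : `O(C(z)) = 1` for `z ∈ Z`;
* `LeafR4One` : the part `m = 1` of `AssemblyNil.LeafR4`, core-free;
* `W4.of_w3`, `c3'_of`, `CF.of_free`.
-/

set_option autoImplicit false
set_option linter.style.haveILetI false
set_option linter.unusedSectionVars false

namespace Cfsg.Agent.Cit.Nil.RFour

open Subgroup Cfsg Cfsg.Agent.Cit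

open RTwo (Q3 Act i11 i12 i21 i22 i_ne1 i_ne2 i_ne12 i_cases i_cases3)

universe u

variable {G : Type*} [Group G]

/-- (C3) for all members -/
def C3' (Om : Set (Subgroup G)) : Prop :=
  ∀ z K, Mem Om z K → ∀ y ∈ K, y * y = z → ∃ g, g * z = z * g ∧ cj g K = K ∧ g * y * g⁻¹ ≠ y ∧ g * y * g⁻¹ ≠ z * y

/-- all members are conjugate -/
def OneCls (Om : Set (Subgroup G)) : Prop := ∀ K ∈ Om, ∀ L ∈ Om, ∃ g, cj g K = L

/-- `O(C(z)) = 1` for `z ∈ Z` -/
def CF (Om : Set (Subgroup G)) : Prop := ∀ z : G, InZ Om z → OO (centralizer {z}) = ⊥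

/-- commuting members have the same involution (`m = 1`) -/
def MOne (Om : Set (Subgroup G)) : Prop := ∀ K ∈ Om, ∀ L ∈ Om, (∀ k ∈ K, ∀ l ∈ L, k * l = l * k) → zz K = zz L

/-- **the leaf `r = 4`, `m = 1`**, core-free -/
def LeafR4One : Prop := ∀ (G : Type u) [Group G] [Finite G] (K : Subgroup G), AssemblyNil.W3 G K →
  (∀ t : G, orderOf t = 2 → centralizerPPrimeCore 2 t = ⊥) → (AssemblyNil.ovr K).ncard = 4 → MOne (cls K) →
  AssemblyNil.Concl ↥(generalizedFittingSubgroup G)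

section

variable [Finite G] {Om : Set (Subgroup G)} {K L : Subgroup G} {z g : G}

/-- members over the same involution are conjugate under its centraliser -/
theorem OneCls.exists (hc : OneCls Om) (h : W4 Om) (hK : Mem Om z K) (hL : Mem Om z L) :
    ∃ g, g * z = z * g ∧ cj g K = L := by
  obtain ⟨g, rfl⟩ := hc K hK.1 L hL.1
  have h1 := hK.cj h g
  have h2 : g * z * g⁻¹ = z := h1.2.symm.trans hL.2
  exact ⟨g, by rwa [mul_inv_eq_iff_eq_mul] at h2, rfl⟩

theorem CF.of_free (h : W4 Om) (hf : ∀ t : G, orderOf t = 2 → centralizerPPrimeCore 2 t = ⊥) : CF Om := by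
  intro z hz
  exact hf z (hz.orderOf h)

set_option maxRecDepth 100000 in
theorem perm3_cube (σ : Equiv.Perm (Fin 3)) : σ ^ 3 * σ ^ 3 = 1 := by
  have h5 : ∀ σ : Equiv.Perm (Fin 3), ∀ i, (σ ^ 3) ((σ ^ 3) i) = i := by decide +kernel
  exact Equiv.ext fun i => h5 σ i

/-- powers -/
theorem act_pow_z {x : Fin 3 → G} {σ : Equiv.Perm (Fin 3)} (hz : z * z = 1) (hg : g * z = z * g)
    (ha : Act z x x g σ) (n : ℕ) : g ^ n * z = z * g ^ n ∧ Act z x x (g ^ n) (σ ^ n) := by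
  induction n with
  | zero => simp only [pow_zero, one_mul, mul_one, true_and]; exact Act.one x z
  | succ n ih =>
    obtain ⟨h1, h2⟩ := ih
    rw [pow_succ, pow_succ]
    refine ⟨?_, ha.comp hz h2 h1⟩
    rw [mul_assoc, hg, ← mul_assoc, h1, mul_assoc]

/-- a 3-element acting nontrivially on a member moves all axes -/
theorem W4.axes (h : W4 Om) (hK : Mem Om z K) {c : G} (hcK : cj c K = K) (hc3 : IsPGroup 3 (zpowers c)) {q : G}
    (hq : q ∈ K) (hcq : c * q ≠ q * c) {y : G} (hy : y ∈ K) (hyy : y * y = z) :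
    c * y * c⁻¹ ≠ y ∧ c * y * c⁻¹ ≠ z * y := by
  have hcz : c * z = z * c := hK.of_cj h hcK
  obtain ⟨x, qx⟩ := h.exists_q3 hK
  obtain ⟨σ, hσ⟩ := qx.exists_act qx hcK hcz
  obtain ⟨k, hk⟩ := hc3 ⟨c, mem_zpowers c⟩
  have hk' : c ^ 3 ^ k = 1 := congrArg Subtype.val hk
  have h1 := (act_pow_z qx.z2 hcz hσ (3 ^ k)).2
  rw [hk'] at h1
  have h2 : σ ^ 3 ^ k = 1 := h1.unique qx (Act.one x z)
  have h3 : σ ^ 3 = 1 := by
    have h4 : ∀ σ : Equiv.Perm (Fin 3), σ ^ 6 = 1 := by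
      intro σ
      have h5 := perm3_cube σ
      have h6 : σ ^ 6 = (σ ^ 3) ^ 2 := by rw [← pow_mul]
      rw [h6, pow_two]
      exact h5
    have h5 : ∀ n, σ ^ 3 ^ (n + 1) = σ ^ 3 := by
      intro n
      induction n with
      | zero => simp
      | succ n ih =>
        rw [pow_succ, pow_mul, ih, ← pow_mul, show 3 * 3 = 6 + 3 by norm_num, pow_add, h4, one_mul]
    rcases k with _ | k
    · rw [pow_zero, pow_one] at h2
      rw [h2, one_pow]
    · rw [← h5 k]; exact h2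
  have h4 : σ = 1 ∨ ∀ i, σ i ≠ i := by
    have h5 : ∀ σ : Equiv.Perm (Fin 3), σ * σ * σ = 1 → σ = 1 ∨ ∀ i, σ i ≠ i := by decide +kernel
    exact h5 σ (by rw [← h3]; simp only [pow_succ, pow_zero, one_mul])
  rcases h4 with h4 | h4
  · -- inner: `c² ∈ C(K)`
    exfalso
    rw [h4] at hσ
    have h5 := hσ.inner qx hcz
    have h6 : ∀ n : ℕ, ∀ k ∈ K, c ^ (2 * n) * k = k * c ^ (2 * n) := by
      have h7 : ∀ k ∈ K, c ^ 2 * k = k * c ^ 2 := by
        intro k hk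
        rw [← mul_inv_eq_iff_eq_mul]
        have h8 : c ^ 2 * k * (c ^ 2)⁻¹ = c * (c * k * c⁻¹) * c⁻¹ := by rw [pow_two]; group
        rw [h8]
        rcases h5 k hk with h9 | h9
        · rw [h9, h9]
        · rw [h9]
          have h10 : c * (z * k) * c⁻¹ = z * (c * k * c⁻¹) := by
            calc c * (z * k) * c⁻¹ = (c * z) * k * c⁻¹ := by group
              _ = (z * c) * k * c⁻¹ := by rw [hcz]
              _ = _ := by group
          rw [h10, h9, ← mul_assoc, qx.z2, one_mul]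
      intro n k hk
      rw [pow_mul]
      exact (show Commute (c ^ 2) k from h7 k hk).pow_left n
    -- `c = c^{odd}`
    obtain ⟨m, hm⟩ : Odd (3 ^ k) := Odd.pow (by decide)
    have h7 : c ^ (2 * m) * c = 1 := by rw [← pow_succ, ← hm, hk']
    have h8 := h6 m q hq
    apply hcq
    have h9 : c = (c ^ (2 * m))⁻¹ := by rw [eq_inv_iff_mul_eq_one, ← pow_succ', ← hm, hk']
    rw [h9, inv_mul_eq_iff_eq_mul, ← mul_assoc, h8, mul_inv_cancel_right]
  · obtain ⟨i, hi⟩ := qx.of_sq hy hyy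
    have key : ∀ w, (w = x i ∨ w = z * x i) → c * y * c⁻¹ = w → False := by
      intro w hw hcy
      have e : c * (z * x i) * c⁻¹ = z * (c * x i * c⁻¹) := by
        calc c * (z * x i) * c⁻¹ = (c * z) * x i * c⁻¹ := by group
          _ = (z * c) * x i * c⁻¹ := by rw [hcz]
          _ = _ := by group
      have h5 : c * y * c⁻¹ = x (σ i) ∨ c * y * c⁻¹ = z * x (σ i) := by
        rcases hi with rfl | rfl
        · exact hσ i
        · rw [e]
          rcases hσ i with h6 | h6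
          · right; rw [h6]
          · left; rw [h6, qx.zzx]
      rw [hcy] at h5
      apply h4 i
      rcases hw with rfl | rfl <;> rcases h5 with h5 | h5
      · exact (qx.inj (Or.inl h5)).symm
      · exact (qx.inj (Or.inr h5)).symm
      · exact qx.inj (Or.inr h5.symm)
      · exact (qx.inj (Or.inl (mul_left_cancel h5))).symm
    constructor
    · intro h5; exact key y hi h5
    · intro h5
      refine key (z * y) ?_ h5
      rcases hi with rfl | rfl
      · exact Or.inr rfl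
      · left; exact qx.zzx _

theorem W4.of_w3 {K : Subgroup G} (w : AssemblyNil.W3 G K) (h4 : (AssemblyNil.ovr K).ncard = 4)
    (hf : ∀ t : G, orderOf t = 2 → centralizerPPrimeCore 2 t = ⊥) (h1 : MOne (cls K)) : W4 (cls K) := by
  have hyp := w.hyp
  have hO : ∀ L ∈ cls K, OO L = ⊥ := fun L hL => ROne.OO_eq_bot hyp hL (hf _ (hyp.orderOf_zz hL))
  refine ⟨hyp, ?_, ?_, h1⟩
  · rintro L ⟨g, rfl⟩
    rw [card_cj]
    exact ROne.card_eight w.nil w.c3 (hO K (self_mem_cls K))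
  · rintro L ⟨g, rfl⟩
    have h2 : {M | M ∈ cls K ∧ zz M = zz (cj g K)} = (cj g) '' (AssemblyNil.ovr K) := by
      ext M
      constructor
      · rintro ⟨hM, hz⟩
        refine ⟨cj g⁻¹ M, ⟨hyp.conj M hM _, ?_⟩, cj_cj_inv g M⟩
        rw [hyp.zz_cj hM, hz, hyp.zz_cj (self_mem_cls K)]
        group
      · rintro ⟨M, ⟨hM, hz⟩, rfl⟩
        refine ⟨hyp.conj M hM g, ?_⟩
        rw [hyp.zz_cj hM, hz, hyp.zz_cj (self_mem_cls K)]
    rw [h2, Set.ncard_image_of_injective _ (fun A B hAB => cj_inj.1 hAB), h4]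

theorem oneCls_cls (K : Subgroup G) : OneCls (cls K) := by
  rintro _ ⟨g, rfl⟩ _ ⟨g', rfl⟩
  exact ⟨g' * g⁻¹, by rw [cj_mul, cj_inv_cj]⟩

theorem c3'_of {K : Subgroup G} (h : W4 (cls K)) (h3 : Nil.C3 K) : C3' (cls K) := by
  obtain ⟨Q, hQ, hQ8, c, hcK, hcQ, hc3, q, hq, hcq⟩ := h3
  have hQK : Q = K := eq_of_le_of_card_ge hQ.1 (by rw [hQ8, h.card K (self_mem_cls K)])
  subst hQK
  intro z L hL y hy hyy
  obtain ⟨g, hg⟩ := hL.1
  have hL0 : Mem (cls Q) (g⁻¹ * z * g) Q := by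
    have h1 := hL.cj h g⁻¹
    rw [hg, cj_inv_cj, inv_inv] at h1
    exact h1
  have h2 := h.axes hL0 (mem_normalizer_iff_cj.1 hcK) hc3 hq hcq (y := g⁻¹ * y * g)
    (by rw [hg, mem_cj] at hy; exact hy) (by rw [← hyy]; group)
  have hcc : cj (g * c * g⁻¹) L = L := by
    rw [hg, cj_mul, cj_mul, cj_inv_cj, mem_normalizer_iff_cj.1 hcK]
  refine ⟨g * c * g⁻¹, hL.of_cj h hcc, hcc, ?_, ?_⟩
  · intro h3
    apply h2.1
    have h4 : c * (g⁻¹ * y * g) * c⁻¹ = g⁻¹ * (g * c * g⁻¹ * y * (g * c * g⁻¹)⁻¹) * g := by group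
    rw [h4, h3]
  · intro h3
    apply h2.2
    have h4 : c * (g⁻¹ * y * g) * c⁻¹ = g⁻¹ * (g * c * g⁻¹ * y * (g * c * g⁻¹)⁻¹) * g := by group
    rw [h4, h3]
    group

end

end Cfsg.Agent.Cit.Nil.RFour
end

-- part: Cit/Nil/RFour/SC
section
/-!
# `r = 4`, `m = 1`: SC (section 5 of `blueprints/CIT-6b-r4m1-helper449.md`)

* `W4.wd` : the world of `Cit.Nil.SC`;
* `W4.central` : `z` is central in every 2-subgroup containing a member over `z`;
* `W4.exists_sylow` : every Sylow 2-subgroup contains two members;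
* `W4.false_of_closed` : no strongly closed commutative subgroup in `G0 = F*(G)`;
* `W4.sc` : **SC** : `N z ≤ C(z)` equivariant, `N z = N t` for commuting pairs: `N z = 1`;
* `W4.N0_eq_of_comm` : `N0 z = N0 t` for all commuting pairs of `Z` (3.4);
* `CX_eq` : (5.1) from `CX_cases` and `N z = 1`;
* `W4.N0_eq_bot`, `W4.exists_ti_of_bot`, `W4.CX_eq_zpowers` : (5.1).
-/

set_option autoImplicit false
set_option linter.unusedSectionVars false

namespace Cfsg.Agent.Cit.Nil.RFour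

open Subgroup Cfsg Cfsg.Agent.Cit
open Cfsg.Agent.Cit.Nil.ROne (FSimp)

variable {G : Type*} [Group G] [Finite G] {Om : Set (Subgroup G)} {G0 K L A : Subgroup G} {N : G → Subgroup G}
  {z t g : G}

theorem W4.wd (h : W4 Om) (hne : Om.Nonempty) : SC.Wd Om where
  hyp := h.hyp
  two _ hK := h.isPGroup hK
  one := h.one
  dbl K hK := by
    obtain ⟨L, hL, h1⟩ := Mem.other (z := zz K) (K := K) ⟨hK, rfl⟩ h
    exact ⟨L, hL.1, h1.symm, hL.2⟩
  ne := hne

/-- `z` is central in `S ≥ K`, `K` a member over `z` -/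
theorem W4.central (h : W4 Om) (hK : Mem Om z K) {S : Subgroup G} (hS : IsPGroup 2 S) (hKS : K ≤ S) {s : G}
    (hs : s ∈ S) : s * z = z * s := by
  obtain ⟨hK, rfl⟩ := hK
  exact (h.wd ⟨K, hK⟩).central hS hK hKS hs

/-- two members in a common 2-group are over the same `z` -/
theorem W4.eq_of_le (h : W4 Om) (hK : Mem Om z K) (hL : Mem Om t L) {S : Subgroup G} (hS : IsPGroup 2 S)
    (hKS : K ≤ S) (hLS : L ≤ S) : z = t := by
  obtain ⟨hK, rfl⟩ := hK
  obtain ⟨hL, rfl⟩ := hL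
  exact (h.wd ⟨K, hK⟩).zz_eq hS hK hL hKS hLS

/-- **no strongly closed commutative subgroup in `G0`** -/
theorem W4.false_of_closed (h : W4 Om) (hne : Om.Nonempty) (f : FSimp G0) (hle : ∀ K ∈ Om, K ≤ G0)
    (gold : Cit.ROne.Gold G0) (hB : CloEnd.Bend G0) (S : Sylow 2 G) (hA : A ≠ ⊥) (hAG : A ≤ G0)
    (hc : ∀ x ∈ A, ∀ y ∈ A, x * y = y * x) (hsc : IsStronglyClosed A (S : Subgroup G)) : False :=
  (h.wd hne).false_of_closed f hle gold hB S hA hAG hc hsc

/-- **SC** -/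
theorem W4.sc (h : W4 Om) (f : FSimp G0) (hle : ∀ K ∈ Om, K ≤ G0) (gold : Cit.ROne.Gold G0)
    (hB : CloEnd.Bend G0)
    (h1173 : ∀ (S : Sylow 2 G) (T : Subgroup G), IsStronglyClosed T (S : Subgroup G) →
      ((⨅ n : ℕ, derivedSeries ↥(centralizer (T : Set G)) n).map (centralizer (T : Set G)).subtype).Normal)
    (cores : CF Om)
    (eqv : ∀ z, InZ Om z → ∀ g : G, N (g * z * g⁻¹) = cj g (N z))
    (cent : ∀ z, InZ Om z → ∀ n ∈ N z, n * z = z * n)
    (comm : ∀ z t, InZ Om z → InZ Om t → z ≠ t → z * t = t * z → N z = N t) (hz : InZ Om z) : N z = ⊥ := by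
  have key : ∀ K ∈ Om, InZ Om (zz K) := fun K hK => ⟨K, hK, rfl⟩
  obtain ⟨K, hK, rfl⟩ := hz
  refine (h.wd ⟨K, hK⟩).eq_bot f hle gold hB h1173 (fun K hK => cores _ (key K hK))
    (fun K hK g => eqv _ (key K hK) g) (fun K hK n hn => cent _ (key K hK) n hn) (fun K hK L hL hc => ?_) hK
  by_cases hne : zz K = zz L
  · rw [hne]
  · exact comm _ _ (key K hK) (key L hL) hne hc

/-- `N0 z = N0 t` for all commuting `z, t ∈ Z` -/
theorem W4.N0_eq_of_comm (h : W4 Om) (hexc : Exc Om) (hz : InZ Om z) (ht : InZ Om t) (hzt : z * t = t * z) :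
    N0 Om z = N0 Om t := by
  by_cases hne : z = t
  · rw [hne]
  rcases exists_common h hexc hz ht hne hzt with h1 | ⟨e, h1, h2⟩
  · exact h1.N0_eq h
  · rw [h1.N0_eq h, h2.N0_eq h]

/-- **`N0 z = 1`** -/
theorem W4.N0_eq_bot (h : W4 Om) (hexc : Exc Om) (f : FSimp G0) (hle : ∀ K ∈ Om, K ≤ G0)
    (gold : Cit.ROne.Gold G0) (hB : CloEnd.Bend G0)
    (h1173 : ∀ (S : Sylow 2 G) (T : Subgroup G), IsStronglyClosed T (S : Subgroup G) →
      ((⨅ n : ℕ, derivedSeries ↥(centralizer (T : Set G)) n).map (centralizer (T : Set G)).subtype).Normal)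
    (cores : CF Om) (hz : InZ Om z) : N0 Om z = ⊥ :=
  h.sc (N := N0 Om) f hle gold hB h1173 cores (fun _ _ g => N0_conj h g)
    (fun _ hz _ hn => mem_centralizer_singleton_iff.1 (N0_le h hz hn))
    (fun _ _ hz ht _ hzt => h.N0_eq_of_comm hexc hz ht hzt) hz

/-- every `z ∈ Z` has a type I neighbour -/
theorem W4.exists_ti_of_bot (h : W4 Om) (hz : InZ Om z) (hN : N0 Om z = ⊥) : ∃ t, TI Om z t := by
  by_contra hcon
  push Not at hcon
  have h1 : z ∈ N0 Om z := mem_N0.2 ⟨z_mem_CX h, fun t ht => absurd ht (hcon t)⟩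
  rw [hN, mem_bot] at h1
  exact hz.z1 h h1

/-- **(5.1)** -/
theorem W4.CX_eq_zpowers (h : W4 Om) (hz : InZ Om z) (hN : N0 Om z = ⊥) : CX Om z = zpowers z := by
  obtain ⟨t, hti⟩ := h.exists_ti_of_bot hz hN
  refine le_antisymm (fun n hn => ?_) (by rw [zpowers_le]; exact z_mem_CX h)
  rcases hti.N0_or h hn with h1 | h1
  · rw [hN, mem_bot] at h1
    rw [h1]; exact one_mem _
  · rw [hN, mem_bot] at h1
    have h2 : n = z⁻¹ := eq_inv_of_mul_eq_one_right h1
    rw [h2]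
    exact inv_mem (mem_zpowers z)

end Cfsg.Agent.Cit.Nil.RFour
end

-- part: Cit/Nil/RFour/Closed
section
/-!
# `r = 4`, `m = 1`: `R_z` is a 2-group, contained in the Sylow 2-subgroups which contain a member over `z`

* `W4.two_RZ`, `W4.RZ_le_sylow`.
-/

set_option autoImplicit false
set_option linter.style.haveILetI false
set_option linter.unusedSectionVars false

namespace Cfsg.Agent.Cit.Nil.RFour

open Subgroup Cfsg Cfsg.Agent.Cit

open RTwo (Q3 Act i11 i12 i21 i22 i_ne1 i_ne2 i_ne12 i_cases i_cases3)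

variable {G : Type*} [Group G] [Finite G] {Om : Set (Subgroup G)} {K L : Subgroup G} {X : Subgroup G} {z g s : G}

end Cfsg.Agent.Cit.Nil.RFour
end

-- part: Cit/Nil/RFour/FStar
section
/-!
# `r = 4`, `m = 1`: the members lie in `X = F*(G)` (section 4 of `blueprints/CIT-6b-r4m1-helper449.md`)

* `C3R Om` : (C3) for the members; `C3R.of_c3` : it follows from `Nil.C3 K` for a class;
* `W4.mem_of_fsimp` : (4.1) `Z ⊆ X`;
* `W4.inf_cases` : `K ≤ X` or `K ∩ X = ⟨z⟩`;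
* `TrX Om X` : `K ∩ X = ⟨z⟩` for the members; `TrX.pm` (a), `TrX.not_ti` (b), `TrX.false_of` (c);
* `W4.mem_le` : **all members lie in `X`**.
-/

set_option autoImplicit false
set_option linter.style.haveILetI false
set_option linter.unusedSectionVars false

namespace Cfsg.Agent.Cit.Nil.RFour

open Subgroup Cfsg Cfsg.Agent.Cit

open RTwo (Q3 Act i11 i12 i21 i22 i_ne1 i_ne2 i_ne12 i_cases i_cases3)

variable {G : Type*} [Group G]

/-- (C3) -/
def C3R (Om : Set (Subgroup G)) : Prop :=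
  ∀ z K, Mem Om z K → ∀ y ∈ K, y * y = z → ∃ g, Cit.cj g K = K ∧ g * y * g⁻¹ ≠ y ∧ g * y * g⁻¹ ≠ y⁻¹

variable [Finite G] {Om : Set (Subgroup G)} {K L M X : Subgroup G} {g g' t x y z s d : G}

/-- an automorphism of order 3 of `K` moves all axes -/
theorem Mem.axes (hK : Mem Om z K) (h : W4 Om) (hg : Cit.cj g K = K) (hodd : Odd (orderOf g))
    (hn : ¬ ∀ k ∈ K, g * k = k * g) (hy : y ∈ K) (hyy : y * y = z) : g * y * g⁻¹ ≠ y ∧ g * y * g⁻¹ ≠ y⁻¹ := by
  obtain ⟨a, qa, rfl⟩ := hK.exists_q h hy hyy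
  have hgz : g * z = z * g := hK.of_cj h hg
  obtain ⟨σ, hσ⟩ := qa.exists_act qa hg hgz
  -- powers of `g`
  have hpow : ∀ n : ℕ, Act z a a (g ^ n) (σ ^ n) := by
    intro n
    induction n with
    | zero => rw [pow_zero, pow_zero]; exact Act.one a z
    | succ n ih =>
      rw [pow_succ', pow_succ']
      exact ih.comp (hK.inZ.z2 h) hσ hgz
  have h1 := hpow (orderOf g)
  rw [pow_orderOf_eq_one] at h1
  have h2 : σ ^ orderOf g = 1 := h1.unique qa (Act.one a z)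
  have h3 : σ = 1 ∨ ∀ i, σ i ≠ i := by
    have h4 : σ ^ 6 = 1 := by
      have h5 : ∀ σ : Equiv.Perm (Fin 3), σ * σ = 1 ∨ σ * σ * σ = 1 := by decide +kernel
      rcases h5 σ with h6 | h6
      · calc σ ^ 6 = (σ * σ) * (σ * σ) * (σ * σ) := by simp only [pow_succ, pow_zero, one_mul, mul_assoc]
          _ = 1 := by rw [h6, one_mul, one_mul]
      · calc σ ^ 6 = (σ * σ * σ) * (σ * σ * σ) := by simp only [pow_succ, pow_zero, one_mul, mul_assoc]
          _ = 1 := by rw [h6, one_mul]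
    have h5 : σ ^ 3 = 1 := by
      have h6 : orderOf σ ∣ 3 := by
        have h7 : orderOf σ ∣ 6 := orderOf_dvd_of_pow_eq_one h4
        have h8 : Odd (orderOf σ) := Odd.of_dvd_nat hodd (orderOf_dvd_of_pow_eq_one h2)
        exact (Nat.Coprime.dvd_of_dvd_mul_left (k := orderOf σ) (m := 2) (n := 3)
          (Nat.coprime_two_right.2 h8) h7)
      exact orderOf_dvd_iff_pow_eq_one.1 h6
    have h6 : ∀ σ : Equiv.Perm (Fin 3), σ * σ * σ = 1 → σ = 1 ∨ ∀ i, σ i ≠ i := by decide +kernel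
    refine h6 σ ?_
    rw [← h5]; simp only [pow_succ, pow_zero, one_mul]
  rcases h3 with h3 | h3
  · exfalso
    subst h3
    apply hn
    rcases qa.inner_cases (hσ.inner qa hgz) with h4 | ⟨j, h4⟩
    · intro k hk
      rw [← mul_inv_eq_iff_eq_mul, h4 k hk]
    · -- `g²` centralises `K`
      have hgg : ∀ k ∈ K, (g ^ 2) * k = k * g ^ 2 := by
        intro k hk
        have h5 : a j * k * (a j)⁻¹ ∈ K := mul_mem (mul_mem (qa.mem j) hk) (inv_mem (qa.mem j))
        have h6 : g ^ 2 * k * (g ^ 2)⁻¹ = k := by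
          calc g ^ 2 * k * (g ^ 2)⁻¹ = g * (g * k * g⁻¹) * g⁻¹ := by rw [pow_two]; group
            _ = g * (a j * k * (a j)⁻¹) * g⁻¹ := by rw [h4 k hk]
            _ = a j * (a j * k * (a j)⁻¹) * (a j)⁻¹ := h4 _ h5
            _ = (a j * a j) * k * (a j * a j)⁻¹ := by group
            _ = k := by rw [qa.sq, ← hK.comm_z h hk, mul_inv_cancel_right]
        rwa [mul_inv_eq_iff_eq_mul] at h6
      intro k hk
      obtain ⟨m, hm⟩ := hodd
      have h7 : g = (g ^ 2) ^ (m + 1) := by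
        rw [← pow_mul]
        have h8 : 2 * (m + 1) = orderOf g + 1 := by omega
        rw [h8, pow_succ, pow_orderOf_eq_one, one_mul]
      have h9 : Commute (g ^ 2) k := hgg k hk
      have h10 := h9.pow_left (m + 1)
      rw [← h7] at h10
      exact h10.eq
  · have h4 := h3 0
    rw [qa.inv]
    constructor <;> intro h5
    · apply h4
      rcases hσ 0 with h6 | h6
      · exact qa.inj (Or.inl (h6.symm.trans h5))
      · exact (qa.inj (Or.inr (h5.symm.trans h6))).symm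
    · apply h4
      rcases hσ 0 with h6 | h6
      · exact qa.inj (Or.inr (h6.symm.trans h5))
      · exact qa.inj (Or.inl (mul_left_cancel (h6.symm.trans h5)))

/-- (C3) from `Nil.C3 K` for one member of a class -/
theorem C3R.of_c3 (h : W4 Om) (cls : ∀ K ∈ Om, ∀ L ∈ Om, ∃ g, cj g K = L) (hK : K ∈ Om) (c3 : Nil.C3 K) : C3R Om := by
  obtain ⟨Q, hQ, h8, c, hcK, -, hc3, q, hq, hcq⟩ := c3
  have hodd : Odd (orderOf c) := by
    obtain ⟨k, hk⟩ := hc3 ⟨c, mem_zpowers c⟩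
    have hk' : c ^ 3 ^ k = 1 := congrArg Subtype.val hk
    exact Odd.of_dvd_nat (Odd.pow (by decide)) (orderOf_dvd_of_pow_eq_one hk')
  intro z L hL y hy hyy
  obtain ⟨g, rfl⟩ := cls K hK L hL.1
  have h1 : cj (g * c * g⁻¹) (cj g K) = cj g K := by
    rw [cj_mul, cj_mul, cj_inv_cj, mem_normalizer_iff_cj.1 hcK]
  refine ⟨g * c * g⁻¹, h1, hL.axes h h1 ?_ ?_ hy hyy⟩
  · have h2 := (MulAut.conj g).orderOf_eq c
    rw [MulAut.conj_apply] at h2
    rw [h2]; exact hodd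
  · intro h2
    apply hcq
    have h3 := h2 _ (conj_mem_cj (g := g) (hQ.1 hq))
    have h4 : g * (c * q) * g⁻¹ = g * (q * c) * g⁻¹ := by
      calc g * (c * q) * g⁻¹ = g * c * g⁻¹ * (g * q * g⁻¹) := by group
        _ = g * q * g⁻¹ * (g * c * g⁻¹) := h3
        _ = g * (q * c) * g⁻¹ := by group
    exact mul_left_cancel (mul_right_cancel h4)

/-- **(4.1)** `Z ⊆ X` -/
theorem W4.mem_of_fsimp (h : W4 Om) (f : ROne.FSimp X) (h2 : 2 ∣ Nat.card X) (hz : InZ Om z) : z ∈ X := by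
  haveI := f.nor
  haveI := f.sim
  have hO : OO X = ⊥ := by
    have h3 : (OO X).Normal := by
      refine ⟨fun n hn g => ?_⟩
      have h4 : cj g X = X := mem_normalizer_iff_cj.1 (by rw [normalizer_eq_top_iff.2 f.nor]; exact mem_top g)
      have h5 : cj g (OO X) = OO X := by rw [← OO_cj, h4]
      rw [← h5]
      exact conj_mem_cj hn
    by_contra hne
    have h4 := f.le (N := OO X) (fun g _ n hn => h3.conj_mem n hn g) hne
    exact odd_OO X (h2.trans (card_dvd_of_le h4))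
  by_contra hn
  obtain ⟨K, hK, rfl⟩ := hz
  have h4 := h.hyp.lemma_two (K := K) (M := X) (fun L hL => h.isPGroup hL) hK
    (by rw [normalizer_eq_top_iff.2 f.nor]; exact le_top) hO hn
  apply h.hyp.zz_ne hK
  have h5 : zz K ∈ centralizer (X : Set G) := by
    rw [mem_centralizer_iff]
    exact fun g hg => mem_centralizer_singleton_iff.1 (h4 hg)
  rwa [f.cen, mem_bot] at h5

/-- **(4.2)** -/
theorem W4.inf_cases (h : W4 Om) (c3 : C3R Om) (hn : X.Normal) (hK : Mem Om z K) :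
    K ≤ X ∨ ∀ y ∈ K, y ∈ X → y = 1 ∨ y = z := by
  by_contra hcon
  push Not at hcon
  obtain ⟨h1, y, hy, hyX, hy1, hyz⟩ := hcon
  have hyy : y * y = z := ((hK.sq_cases h hy).resolve_left hy1).resolve_left hyz
  obtain ⟨g, hg, hg1, hg2⟩ := c3 z K hK y hy hyy
  have hgz := hK.of_cj h hg
  have hgy : g * y * g⁻¹ ∈ K := by
    have := conj_mem_cj (g := g) hy
    rwa [hg] at this
  have hgg : g * y * g⁻¹ * (g * y * g⁻¹) = z := by
    calc g * y * g⁻¹ * (g * y * g⁻¹) = g * (y * y) * g⁻¹ := by group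
      _ = z := by rw [hyy, hgz, mul_inv_cancel_right]
  have hnc : y * (g * y * g⁻¹) ≠ (g * y * g⁻¹) * y := by
    intro hc
    rcases hK.of_comm h hy hyy hgy hc with h3 | h3 | h3 | h3
    · rw [h3, one_mul] at hgg; exact hK.inZ.z1 h hgg.symm
    · rw [h3, hK.inZ.z2 h] at hgg; exact hK.inZ.z1 h hgg.symm
    · exact hg1 h3
    · exact hg2 (h3.trans (hK.inv_eq h hy hyy).symm)
  obtain ⟨a, qa, h3, h4⟩ := hK.exists_q2 h hy hyy hgy hgg hnc
  refine h1 (qa.le_of_mem (i_ne1 0) ?_ ?_)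
  · rw [h3]; exact hyX
  · rw [zero_add, h4]; exact hn.conj_mem _ hyX g

/-- `K ∩ X = ⟨z⟩` -/
structure TrX (Om : Set (Subgroup G)) (X : Subgroup G) : Prop where
  w : W4 Om
  nor : X.Normal
  inf : ∀ z K, Mem Om z K → ∀ y ∈ K, y ∈ X → y = 1 ∨ y = z

namespace TrX

variable (r : TrX Om X)

include r

/-- (a) -/
theorem pm (hK : Mem Om z K) (hd : d ∈ X) (hdK : cj d K = K) : ∀ k ∈ K, d * k * d⁻¹ = k ∨ d * k * d⁻¹ = z * k := by
  intro k hk
  have h0 : d * k * d⁻¹ ∈ K := by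
    have := conj_mem_cj (g := d) hk
    rwa [hdK] at this
  have h2 : d * k * d⁻¹ * k⁻¹ ∈ X := by
    have h3 : d * k * d⁻¹ * k⁻¹ = d * (k * d⁻¹ * k⁻¹) := by group
    rw [h3]
    exact mul_mem hd (r.nor.conj_mem _ (inv_mem hd) k)
  rcases r.inf z K hK _ (mul_mem h0 (inv_mem hk)) h2 with h3 | h3
  · exact Or.inl (mul_inv_eq_one.1 h3)
  · right; rwa [mul_inv_eq_iff_eq_mul] at h3

/-- (b) -/
theorem not_ti (hg : g ∈ X) : ¬ TI Om z (g * z * g⁻¹) := by
  intro hti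
  obtain ⟨K, hK⟩ := hti.inZ
  have hL : Mem Om (g * z * g⁻¹) (cj g K) := hK.cj r.w g
  obtain ⟨x, hx, hxx⟩ := (hti.symm r.w).exists_as r.w hL
  obtain ⟨y, hy, hyy⟩ := hti.exists_as r.w hK
  obtain ⟨h1, -, h2⟩ := (hti.symm r.w).rot r.w hL hK hx hy
  -- `x = g k g⁻¹`
  have hk : g⁻¹ * x * g ∈ K := mem_cj.1 hx.1
  set k := g⁻¹ * x * g with hkdef
  have hd : x * k⁻¹ ∈ X := by
    have h4 : x * k⁻¹ = (x * g⁻¹ * x⁻¹) * g := by rw [hkdef]; group
    rw [h4]
    exact mul_mem (r.nor.conj_mem _ (inv_mem hg) x) hg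
  have hdK : cj (x * k⁻¹) K = K := by
    rw [cj_mul, mem_normalizer_iff_cj.1 (le_normalizer (inv_mem hk)), h1]
  obtain ⟨u, hu, huu, hyu⟩ := hK.exists_nc r.w hy.1 hyy
  have h3 := h2 u hu huu hyu
  have huk : k * u * k⁻¹ ∈ K := mul_mem (mul_mem hk hu) (inv_mem hk)
  have h4 := r.pm hK hd hdK _ huk
  have h5 : x * k⁻¹ * (k * u * k⁻¹) * (x * k⁻¹)⁻¹ = x * u * x⁻¹ := by group
  rw [h5] at h4
  have hz2 := hK.inZ.z2 r.w
  have hz1 := hK.inZ.z1 r.w
  have e1 : ∀ g : G, z * (z * g) = g := fun g => by rw [← mul_assoc, hz2, one_mul]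
  -- `x u x⁻¹ ∈ {u, z u}`
  have h6 : x * u * x⁻¹ = u ∨ x * u * x⁻¹ = z * u := by
    rcases hK.comm_or r.w hu hk with h7 | h7 <;> rw [h7] at h4
    · exact h4
    · rcases h4 with h4 | h4
      · exact Or.inr h4
      · left; rw [h4, e1]
  have h8 : y = 1 ∨ y = z := by
    rcases h3 with h3 | h3 <;> rcases h6 with h6 | h6 <;> rw [h3] at h6
    · left; exact mul_eq_right.1 h6
    · right; exact mul_right_cancel h6
    · right
      have h7 := congrArg (z * ·) h6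
      simp only [e1] at h7
      exact mul_right_cancel h7
    · left
      exact mul_eq_right.1 (mul_left_cancel h6)
  rcases h8 with h8 | h8
  · rw [h8, one_mul] at hyy; exact hz1 hyy.symm
  · rw [h8, hz2] at hyy; exact hz1 hyy.symm

/-- (c) -/
theorem false_of (h33 : Exc Om) (f : ROne.FSimp X) (hz : InZ Om z) (hzX : z ∈ X) : False := by
  haveI := f.sim
  have hnc : ¬ IsMulCommutative X := by
    intro h2
    exact f.na fun x hx y hy => congrArg Subtype.val (h2.is_comm.comm ⟨x, hx⟩ ⟨y, hy⟩)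
  have hz2 := hz.z2 r.w
  have hz1 := hz.z1 r.w
  obtain ⟨⟨g, hg⟩, h2, h3⟩ := GH.QA.not_isolated f.sim hnc (u := (⟨z, hzX⟩ : X))
    (Subtype.ext hz2) (fun h2 => hz1 (congrArg Subtype.val h2))
  have h2' : z * (g * z * g⁻¹) = g * z * g⁻¹ * z := congrArg Subtype.val h2
  have h3' : z ≠ g * z * g⁻¹ := fun h4 => h3 (Subtype.ext h4.symm)
  have ht := hz.conj r.w g
  have hnti : ¬ TI Om z (g * z * g⁻¹) := r.not_ti hg
  have htX : g * z * g⁻¹ ∈ X := r.nor.conj_mem _ hzX g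
  obtain ⟨w, hw, h4⟩ := h33 z (g * z * g⁻¹) hz ht h3' h2' hnti (fun K hK h5 =>
    hnti (TI.of_one r.w hK ht h3' (r.pm hK htX h5))) (fun L hL h5 =>
    hnti ((TI.of_one r.w hL hz h3'.symm (r.pm hL hzX h5)).symm r.w))
  have hwz : w * z = z * w := RZ_le_centralizer r.w hw
  -- `w t w⁻¹ = c t c⁻¹`
  have hc : w * g * w⁻¹ * g⁻¹ ∈ X := mul_mem (r.nor.conj_mem _ hg w) (inv_mem hg)
  apply r.not_ti (z := g * z * g⁻¹) hc
  have h5 : w * g * w⁻¹ * g⁻¹ * (g * z * g⁻¹) * (w * g * w⁻¹ * g⁻¹)⁻¹ = w * (g * z * g⁻¹) * w⁻¹ := by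
    have h6 : w⁻¹ * z * w = z := by rw [mul_assoc, ← hwz, inv_mul_cancel_left]
    calc w * g * w⁻¹ * g⁻¹ * (g * z * g⁻¹) * (w * g * w⁻¹ * g⁻¹)⁻¹ = w * g * (w⁻¹ * z * w) * g⁻¹ * w⁻¹ := by group
      _ = _ := by rw [h6]; group
  rw [h5]
  exact h4

end TrX

/-- **all members lie in `X`** -/
theorem W4.mem_le (h : W4 Om) (cls : ∀ K ∈ Om, ∀ L ∈ Om, ∃ g, cj g K = L) (c3 : C3R Om) (f : ROne.FSimp X)
    (h2 : 2 ∣ Nat.card X) (h33 : Exc Om) (hK : K ∈ Om) : K ≤ X := by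
  by_contra hKX
  refine TrX.false_of (z := zz K) (X := X) ⟨h, f.nor, fun z L hL => ?_⟩ h33 f ⟨K, hK, rfl⟩
    (h.mem_of_fsimp f h2 ⟨K, hK, rfl⟩)
  refine (h.inf_cases c3 f.nor hL).resolve_left fun h1 => hKX ?_
  obtain ⟨g, rfl⟩ := cls L hL.1 K hK
  intro x hx
  have h3 := f.nor.conj_mem _ (h1 (mem_cj.1 hx)) g
  have h4 : g * (g⁻¹ * x * g) * g⁻¹ = x := by group
  rwa [h4] at h3

end Cfsg.Agent.Cit.Nil.RFour
end

-- part: Cit/Nil/RFour/Code
section
/-!
# Affine ternary codes of length four with even distances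

`Code C` : a set of points of `(Fin 3)^4`, closed under third points, such that distances are even.

* `Code.overlap` : supports of differences overlap evenly;
* `Code.exists_rr`, `no_supp`.
-/

set_option autoImplicit false
set_option linter.style.header false

namespace Cfsg.Agent.Cit.Nil.RFour

/-- a set of points closed under third points, distances are even -/
structure Code (C : (Fin 4 → Fin 3) → Prop) : Prop where
  m : ∀ a b, C a → C b → C (fun i => -(a i + b i))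
  even : ∀ a b, C a → C b → Even (∑ i, if a i = b i then 0 else 1 : ℕ)

theorem bool_compl : ∀ e f : Fin 4 → Bool, ∀ i1 : Fin 4, Even (∑ i, (e i).toNat) → Even (∑ i, (f i).toNat) →
    Even (∑ i, (e i && f i).toNat) → e i1 = false → f i1 = true → (∃ i, e i = true) → (∃ i, f i = false) →
    ∀ i, f i = !(e i) := by
  decide +kernel

/-- there are no three supports -/
theorem no_supp : ∀ e f : Fin 4 → Bool, Even (∑ i, (e i).toNat) → Even (∑ i, (f i).toNat) →
    Even (∑ i, (e i && f i).toNat) → (∃ i, e i = true) → (∃ i, e i = false) → (∃ i, f i = true) →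
    (∃ i, f i = false) → (∃ i, e i = f i) → (∃ i, e i ≠ f i) → False := by
  decide +kernel

namespace Code

variable {C : (Fin 4 → Fin 3) → Prop} {a b c c' : Fin 4 → Fin 3}

theorem overlap (h : Code C) (hb : C b) (hc : C c) (hc' : C c') :
    Even (∑ i, (decide (c i ≠ b i) && decide (c' i ≠ b i)).toNat) := by
  have h1 := h.even _ _ hb (h.m _ _ (h.m _ _ hc hc') hb)
  have h2 := h.even _ _ hb (h.m _ _ (h.m _ _ hc hb) hc')
  have h3 : Even (∑ i, ((if b i = -(-(c i + c' i) + b i) then 0 else 1) + (if b i = -(-(c i + b i) + c' i) then 0 else 1) +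
      (decide (c i ≠ b i) && decide (c' i ≠ b i)).toNat : ℕ)) := by
    have key : ∀ b c c' : Fin 3, Even ((if b = -(-(c + c') + b) then 0 else 1) + (if b = -(-(c + b) + c') then 0 else 1) +
      (decide (c ≠ b) && decide (c' ≠ b)).toNat : ℕ) := by decide
    exact Finset.even_sum _ fun i _ => key _ _ _
  rw [Finset.sum_add_distrib, Finset.sum_add_distrib] at h3
  exact (Nat.even_add.1 h3).1 (h1.add h2)

theorem even' (h : Code C) (hb : C b) (hc : C c) : Even (∑ i, (decide (c i ≠ b i)).toNat) := by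
  have h1 := h.even _ _ hc hb
  have h2 : ∀ i, (if c i = b i then 0 else 1 : ℕ) = (decide (c i ≠ b i)).toNat := by
    intro i
    by_cases hi : c i = b i <;> simp [hi]
  simpa only [h2] using h1

/-- a half difference and the transitivity: -/
theorem exists_rr (h : Code C) (ha : C a) (hb : C b) (h1 : ∃ i, a i ≠ b i) (h0 : ∃ i, a i = b i)
    (tr : ∀ k, ∃ a' b', C a' ∧ C b' ∧ a' k ≠ b' k ∧ ∃ j, a' j = b' j) :
    ∃ r r', C r ∧ C r' ∧ (∀ i, a i ≠ r i) ∧ (∀ i, a i ≠ r' i) ∧ ∀ i, b i = -(r i + r' i) := by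
  obtain ⟨i1, hi1⟩ := h0
  obtain ⟨i0, hi0⟩ := h1
  obtain ⟨a', b', ha', hb', hk, j, hj⟩ := tr i1
  have hpt : C (fun i => -(-(a i + b' i) + a' i)) := h.m _ _ (h.m _ _ ha hb') ha'
  have hd : ∀ a a' b' : Fin 3, -(-(a + b') + a') = a ↔ a' = b' := by decide
  have key := bool_compl (fun i => decide (b i ≠ a i)) (fun i => decide (-(-(a i + b' i) + a' i) ≠ a i)) i1
    (h.even' ha hb) (h.even' ha hpt) (h.overlap ha hb hpt) (by simp [hi1])
    (by simp only [decide_eq_true_eq, ne_eq, hd]; exact hk)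
    ⟨i0, by simp only [decide_eq_true_eq]; exact Ne.symm hi0⟩
    ⟨j, by simp only [decide_eq_false_iff_not, ne_eq, hd, not_not]; exact hj⟩
  have key2 : ∀ i, (b i = a i ∧ a' i ≠ b' i) ∨ (b i ≠ a i ∧ a' i = b' i) := by
    intro i
    have h2 : decide (-(-(a i + b' i) + a' i) ≠ a i) = !(decide (b i ≠ a i)) := key i
    by_cases h3 : b i = a i
    · left
      refine ⟨h3, fun h4 => ?_⟩
      have h5 := (hd (a i) (a' i) (b' i)).2 h4
      rw [decide_eq_false (not_not.2 h5), decide_eq_false (not_not.2 h3)] at h2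
      exact absurd h2 (by decide)
    · right
      refine ⟨h3, ?_⟩
      by_contra h4
      have h5 : -(-(a i + b' i) + a' i) ≠ a i := fun h6 => h4 ((hd _ _ _).1 h6)
      rw [decide_eq_true h5, decide_eq_true h3] at h2
      exact absurd h2 (by decide)
  refine ⟨fun i => -(-(b i + b' i) + a' i), fun i => -(-(b i + a' i) + b' i), h.m _ _ (h.m _ _ hb hb') ha',
    h.m _ _ (h.m _ _ hb ha') hb', ?_, ?_, ?_⟩
  · intro i
    have h2 : ∀ a b a' b' : Fin 3, (b = a ∧ a' ≠ b') ∨ (b ≠ a ∧ a' = b') → a ≠ -(-(b + b') + a') := by decide +kernel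
    exact h2 _ _ _ _ (key2 i)
  · intro i
    have h2 : ∀ a b a' b' : Fin 3, (b = a ∧ a' ≠ b') ∨ (b ≠ a ∧ a' = b') → a ≠ -(-(b + a') + b') := by decide +kernel
    exact h2 _ _ _ _ (key2 i)
  · intro i
    have h2 : ∀ b a' b' : Fin 3, b = -(-(-(b + b') + a') + -(-(b + a') + b')) := by decide
    exact h2 _ _ _

end Code

end Cfsg.Agent.Cit.Nil.RFour
end

-- part: Cit/Nil/RFour/CaseTwo
section
/-!
# `r = 4`, `m = 1`, section 6 (CASE 2): any two type I neighbours of `z` commute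

* `As.zl` : actions up to sign;
* `Fc Om z F x` : a frame with coordinates, `Fc.P a` the product, `Fc.exists_P`, `Fc.code`;
* `opp` (6.1), `six3` (6.3), `T1`, `comZ` (6.4), `exists_closed`.
-/

set_option autoImplicit false
set_option linter.style.haveILetI false
set_option linter.unusedSectionVars false

namespace Cfsg.Agent.Cit.Nil.RFour

open Subgroup Cfsg Cfsg.Agent.Cit

open RTwo (Q3 Act i11 i12 i21 i22 i_ne1 i_ne2 i_ne12 i_cases i_cases3)

variable {G : Type*} [Group G]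

section

variable [Finite G] {Om : Set (Subgroup G)} {K K' L L' M : Subgroup G} {z t t' g n x x' y y' u s p q : G}
  {F : Fin 4 → Subgroup G} {c : Fin 4 → Fin 3 → G} {a b : Fin 4 → Fin 3}

omit [Finite G] in
theorem n_add0 : ∀ k : Fin 3, k = -(k + k) := by decide
omit [Finite G] in
theorem n_add1 : ∀ j : Fin 3, -(j + (j + 1)) = j + 2 := by decide
omit [Finite G] in
theorem n_add2 : ∀ j : Fin 3, -(j + (j + 2)) = j + 1 := by decide

/-- the action determines `y` up to `z` -/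
theorem As.zl (hy : As K t y) (hK : Mem Om z K) (h : W4 Om) : As K t (z * y) := by
  refine ⟨mul_mem (hK.zmem h) hy.1, fun k hk => ?_⟩
  have h1 := hy.2 k hk
  have h2 : z * y * k * (z * y)⁻¹ = z * (y * k * y⁻¹) * z⁻¹ := by group
  rw [h2, h1, ← hK.comm_z h (mul_mem (mul_mem hy.1 hk) (inv_mem hy.1)), mul_inv_cancel_right]

theorem As.z_iff (hK : Mem Om z K) (h : W4 Om) : As K t z ↔ As K t 1 := by
  constructor
  · intro h1
    have := h1.zl hK h
    rwa [hK.inZ.z2 h] at this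
  · intro h1
    have := h1.zl hK h
    rwa [mul_one] at this

theorem As.of_eq (hy : As K t y) (hK : Mem Om z K) (h : W4 Om) (he : x = y ∨ x = z * y) : As K t x := by
  rcases he with rfl | rfl
  · exact hy
  · exact hy.zl hK h

/-- `t` and `t'` have the same axis on `K` -/
def Same (K : Subgroup G) (t t' : G) : Prop := ∃ y, As K t y ∧ As K t' y

theorem Same.symm (h : Same K t t') : Same K t' t := by
  obtain ⟨y, h1, h2⟩ := h; exact ⟨y, h2, h1⟩

theorem Same.conj (h : Same K t t') (g : G) : Same (cj g K) (g * t * g⁻¹) (g * t' * g⁻¹) := by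
  obtain ⟨y, h1, h2⟩ := h; exact ⟨_, h1.conj g, h2.conj g⟩

/-- a frame with coordinates -/
structure Fc (Om : Set (Subgroup G)) (z : G) (F : Fin 4 → Subgroup G) (c : Fin 4 → Fin 3 → G) : Prop where
  f : Fr Om z F
  q : ∀ i, Q3 (F i) z (c i)

/-- the product with the coordinates `a` -/
def PP (c : Fin 4 → Fin 3 → G) (a : Fin 4 → Fin 3) : G := c 0 (a 0) * c 1 (a 1) * c 2 (a 2) * c 3 (a 3)

theorem exists_fc (hz : InZ Om z) (h : W4 Om) : ∃ F c, Fc Om z F c := by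
  obtain ⟨F, f⟩ := hz.exists_fr h
  have h1 := fun i => h.exists_q3 (f.mem i)
  choose c hc using h1
  exact ⟨F, c, f, hc⟩

namespace Fc

variable (f : Fc Om z F c) (h : W4 Om)

include f h

theorem as_P (a : Fin 4 → Fin 3) (i : Fin 4) : As (F i) (PP c a) (c i (a i)) :=
  f.f.as_prod h (k := fun i => c i (a i)) (fun i => (f.q i).mem _) i

theorem mem_P (a : Fin 4 → Fin 3) : PP c a ∈ RZ Om z :=
  (mem_RZ f.f h).2 ⟨fun i => c i (a i), fun i => (f.q i).mem _, rfl⟩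

theorem P_comm_z (a : Fin 4 → Fin 3) : z * PP c a = PP c a * z := (RZ_le_centralizer h (f.mem_P h a)).symm

theorem P_ne (a : Fin 4 → Fin 3) : z ≠ PP c a := by
  intro h1
  have h2 := f.as_P h a 0
  rw [← h1] at h2
  exact (f.f.mem 0).not_as_one h h2 ((f.q 0).sq _) ((f.f.mem 0).as_z h)

theorem ti_P : TI Om z (PP c a) ↔ InZ Om (PP c a) :=
  ⟨fun h1 => h1.inT, fun h1 => TI.of_mem_RZ h f.f.inZ h1 (f.P_ne h a) (f.mem_P h a)⟩

/-- an element of `R_z` with nontrivial axes -/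
theorem exists_P (hg : g ∈ RZ Om z) (hy : ∀ i, ∃ y, As (F i) g y ∧ y * y = z) : ∃ a, g = PP c a ∨ g = z * PP c a := by
  have h1 : ∀ i, ∃ j, As (F i) g (c i j) := by
    intro i
    obtain ⟨y, h2, h3⟩ := hy i
    obtain ⟨j, h4⟩ := (f.q i).of_sq h2.1 h3
    refine ⟨j, h2.of_eq (f.f.mem i) h ?_⟩
    rcases h4 with h4 | h4
    · exact Or.inl h4.symm
    · right; rw [h4, (f.q i).zzx]
  choose a ha using h1
  refine ⟨a, ?_⟩
  exact eq_or_of_as h f.f.inZ (f.mem_P h a) hg fun K hK => by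
    obtain ⟨i, rfl⟩ := f.f.cov K hK
    exact ⟨_, f.as_P h a i, ha i⟩

theorem exists_of_ti (ht : TI Om z t) : ∃ a, InZ Om (PP c a) ∧ (t = PP c a ∨ t = z * PP c a) := by
  obtain ⟨a, ha⟩ := f.exists_P h (ht.mem_RZ h) fun i => ht.exists_as h (f.f.mem i)
  refine ⟨a, ?_, ha⟩
  rcases ha with rfl | rfl
  · exact ht.inT
  · have h1 := (ht.mul_right h).inT
    rwa [← mul_assoc, f.f.inZ.z2 h, one_mul] at h1

theorem as_iff (ha : t = PP c a ∨ t = z * PP c a) (i : Fin 4) : As (F i) t (c i (a i)) := by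
  rcases ha with rfl | rfl
  · exact f.as_P h a i
  · have := ((f.f.mem i).as_z h).mul (f.as_P h a i)
    rwa [one_mul] at this

theorem same_iff (ha : t = PP c a ∨ t = z * PP c a) (hb : t' = PP c b ∨ t' = z * PP c b) (i : Fin 4) :
    Same (F i) t t' ↔ a i = b i := by
  have h1 := f.as_iff h ha i
  have h2 := f.as_iff h hb i
  constructor
  · rintro ⟨y, h3, h4⟩
    rcases (f.f.mem i).as_unique h h1 h3 with h5 | h5 <;> rcases (f.f.mem i).as_unique h h2 h4 with h6 | h6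
    · exact (f.q i).inj (Or.inl (h5.symm.trans h6))
    · exact (f.q i).inj (Or.inr (h5.symm.trans h6))
    · exact ((f.q i).inj (Or.inr (h6.symm.trans h5))).symm
    · exact (f.q i).inj (Or.inl (mul_left_cancel (h5.symm.trans h6)))
  · intro h3
    rw [h3] at h1
    exact ⟨_, h1, h2⟩

/-- commuting: an even number of different axes -/
theorem even_of_comm (hc : PP c a * PP c b = PP c b * PP c a) : Even (∑ i, if a i = b i then 0 else 1 : ℕ) := by
  have hzz := f.f.inZ.z2 h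
  set e : Fin 4 → ℕ := fun i => if a i = b i then 0 else 1 with he
  have h1 : ∀ i, PP c a * c i (b i) * (PP c a)⁻¹ = z ^ (e i) * c i (b i) := by
    intro i
    rw [(f.as_P h a i).2 _ ((f.q i).mem _), he]
    by_cases hi : a i = b i
    · simp only [hi, if_true, pow_zero, one_mul, Q3.conj_self]
    · simp only [hi, if_false, pow_one]
      exact (f.q i).conj_ne hi
  have hzc : ∀ i j, c i j * z = z * c i j := fun i j => ((f.q i).zc j).symm
  have hzp : ∀ n i j, c i j * z ^ n = z ^ n * c i j := fun n i j =>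
    (Commute.pow_right (show Commute (c i j) z from hzc i j) n).eq
  have h2 : PP c a * PP c b * (PP c a)⁻¹ = z ^ (e 0 + e 1 + e 2 + e 3) * PP c b := by
    calc PP c a * PP c b * (PP c a)⁻¹
        = (PP c a * c 0 (b 0) * (PP c a)⁻¹) * (PP c a * c 1 (b 1) * (PP c a)⁻¹) *
          (PP c a * c 2 (b 2) * (PP c a)⁻¹) * (PP c a * c 3 (b 3) * (PP c a)⁻¹) := by
          rw [show PP c b = c 0 (b 0) * c 1 (b 1) * c 2 (b 2) * c 3 (b 3) from rfl]
          group
      _ = (z ^ (e 0) * c 0 (b 0)) * (z ^ (e 1) * c 1 (b 1)) * (z ^ (e 2) * c 2 (b 2)) * (z ^ (e 3) * c 3 (b 3)) := by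
          rw [h1, h1, h1, h1]
      _ = z ^ (e 0) * (c 0 (b 0) * z ^ (e 1)) * c 1 (b 1) * (z ^ (e 2) * c 2 (b 2)) * (z ^ (e 3) * c 3 (b 3)) := by
          group
      _ = z ^ (e 0) * z ^ (e 1) * c 0 (b 0) * (c 1 (b 1) * z ^ (e 2)) * c 2 (b 2) * (z ^ (e 3) * c 3 (b 3)) := by
          rw [hzp]; group
      _ = z ^ (e 0) * z ^ (e 1) * (c 0 (b 0) * z ^ (e 2)) * c 1 (b 1) * (c 2 (b 2) * z ^ (e 3)) * c 3 (b 3) := by
          rw [hzp (e 2) 1]; group
      _ = z ^ (e 0) * z ^ (e 1) * z ^ (e 2) * c 0 (b 0) * (c 1 (b 1) * z ^ (e 3)) * c 2 (b 2) * c 3 (b 3) := by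
          rw [hzp (e 2) 0, hzp (e 3) 2]; group
      _ = z ^ (e 0) * z ^ (e 1) * z ^ (e 2) * (c 0 (b 0) * z ^ (e 3)) * c 1 (b 1) * c 2 (b 2) * c 3 (b 3) := by
          rw [hzp (e 3) 1]; group
      _ = z ^ (e 0) * z ^ (e 1) * z ^ (e 2) * z ^ (e 3) * (c 0 (b 0) * c 1 (b 1) * c 2 (b 2) * c 3 (b 3)) := by
          rw [hzp (e 3) 0]; group
      _ = _ := by rw [← pow_add, ← pow_add, ← pow_add]; rfl
  rw [hc, mul_inv_cancel_right] at h2
  have h3 : z ^ (e 0 + e 1 + e 2 + e 3) = 1 := (mul_eq_right.1 h2.symm)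
  have h4 : 2 ∣ e 0 + e 1 + e 2 + e 3 := by
    rw [← f.f.inZ.orderOf h]
    exact orderOf_dvd_of_pow_eq_one h3
  have h5 : (∑ i, e i) = e 0 + e 1 + e 2 + e 3 := by
    rw [Fin.sum_univ_four]
  show Even (∑ i, e i)
  rw [h5]
  exact even_iff_two_dvd.2 h4

/-- the reflection at the axis of `s` -/
theorem refl (hti : TI Om z s) (hL : Mem Om s L) (hx : As L z x) (i : Fin 4) {j : Fin 3} (hs : As (F i) s (c i j))
    (k : Fin 3) : cj x (F i) = F i ∧ (x * c i k * x⁻¹ = c i (-(j + k)) ∨ x * c i k * x⁻¹ = z * c i (-(j + k))) := by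
  obtain ⟨h1, h2, h3⟩ := (hti.symm h).rot h hL (f.f.mem i) hx hs
  refine ⟨h1, ?_⟩
  have q := f.q i
  rcases i_cases3 j k with rfl | rfl | rfl
  · left
    rw [h2, mul_inv_cancel_right]
    congr 1
    exact n_add0 k
  · have h4 : -(j + (j + 1)) = j + 2 := n_add1 j
    have h5 := h3 _ (q.mem (j + 1)) (q.sq _) fun h6 => by
      have h7 := q.anti (i_ne1 j)
      rw [h6, mul_assoc] at h7
      exact q.zne _ h7.symm
    rw [q.mul] at h5
    rw [h4]; exact h5
  · have h4 : -(j + (j + 2)) = j + 1 := n_add2 j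
    have h5 := h3 _ (q.mem (j + 2)) (q.sq _) fun h6 => by
      have h7 := q.anti (i_ne2 j)
      rw [h6, mul_assoc] at h7
      exact q.zne _ h7.symm
    rw [q.mul2', q.zzx] at h5
    rw [h4]; exact h5.symm

theorem refl_P (hti : TI Om z s) (hL : Mem Om s L) (hx : As L z x) (hb : s = PP c b ∨ s = z * PP c b) :
    x * PP c a * x⁻¹ = PP c (fun i => -(b i + a i)) ∨ x * PP c a * x⁻¹ = z * PP c (fun i => -(b i + a i)) := by
  have hxz : x * z = z * x := hx.comm.symm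
  have h1 : x * PP c a * x⁻¹ ∈ RZ Om z := RZ_conj_comm h hxz (f.mem_P h a)
  refine eq_or_of_as h f.f.inZ (f.mem_P h _) h1 fun K hK => ?_
  obtain ⟨i, rfl⟩ := f.f.cov K hK
  refine ⟨_, f.as_P h _ i, ?_⟩
  obtain ⟨h2, h3⟩ := f.refl h hti hL hx i (f.as_iff h hb i) (a i)
  have h4 := (f.as_P h a i).conj x
  rw [h2] at h4
  refine h4.of_eq (f.f.mem i) h ?_
  rcases h3 with h3 | h3
  · exact Or.inl h3.symm
  · right; rw [h3, (f.q i).zzx]

theorem inZ_of (hs : InZ Om s) (ha : s = PP c a ∨ s = z * PP c a) : InZ Om (PP c a) := by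
  rcases ha with rfl | rfl
  · exact hs
  have h4 : z ≠ z * PP c a := by
    intro h5
    have h6 : PP c a = 1 := (mul_eq_left.1 h5.symm)
    have h7 := f.as_P h a 0
    rw [h6] at h7
    exact (f.f.mem 0).not_as_one h h7 ((f.q 0).sq _) (As.self (one_mem _))
  have h5 := TI.of_mem_RZ h f.f.inZ hs h4 (mul_mem (z_mem_RZ f.f.inZ h) (f.mem_P h _))
  have h6 := (h5.mul_right h).inT
  rwa [← mul_assoc, f.f.inZ.z2 h, one_mul] at h6

/-- the set of neighbours is a code -/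
theorem code (hcm : ∀ t t', TI Om z t → TI Om z t' → t * t' = t' * t) : Code (fun a => InZ Om (PP c a)) where
  m a b ha hb := by
    have h1 := (f.ti_P h).2 ha
    obtain ⟨L, hL⟩ := ha
    obtain ⟨x, hx, -⟩ := (h1.symm h).exists_as h hL
    have h2 := ((f.ti_P h).2 hb).inT.conj h x
    exact f.inZ_of h h2 (f.refl_P h h1 hL hx (Or.inl rfl) (a := b))
  even a b ha hb := f.even_of_comm h (hcm _ _ ((f.ti_P h).2 ha) ((f.ti_P h).2 hb))

end Fc

/-! ### (6.0) -/

theorem as_one_of {d : Fin 3 → G} (qd : Q3 L t d) (h0 : s * d 0 = d 0 * s) (h1 : s * d 1 = d 1 * s) : As L s 1 := by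
  refine As.one_iff.2 fun k hk => ?_
  have h2 : L ≤ centralizer {s} :=
    qd.le_of_mem (i_ne1 0) (mem_centralizer_singleton_iff.2 h0.symm)
      (mem_centralizer_singleton_iff.2 (by rw [zero_add]; exact h1.symm))
  exact (mem_centralizer_singleton_iff.1 (h2 hk)).symm

/-- `y y'` or `z y y'` centralises `L` -/
theorem TI.s_or (hti : TI Om z t) (h : W4 Om) (hK : Mem Om z K) (hK' : Mem Om z K') (hL : Mem Om t L)
    (hy : As K t y) (hy' : As K' t y') : ∃ s, (s = y * y' ∨ s = z * (y * y')) ∧ As L s 1 := by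
  obtain ⟨x, hx, hxx⟩ := (hti.symm h).exists_as h hL
  obtain ⟨u, hu, huu, hxu⟩ := hL.exists_nc h hx.1 hxx
  obtain ⟨d, qd, rfl, rfl⟩ := hL.exists_q2 h hx.1 hxx hu huu hxu
  obtain ⟨-, h1, h2⟩ := hti.rot h hK hL hy hx
  obtain ⟨-, h1', h2'⟩ := hti.rot h hK' hL hy' hx
  have h3 := h2 _ hu huu hxu
  have h3' := h2' _ hu huu hxu
  have hyt : y * t = t * y := hy.comm.symm
  have htx : t * d 0 = d 0 * t := qd.zc 0
  have h4 : y * (d 0 * d 1) * y⁻¹ = d 1 ∨ y * (d 0 * d 1) * y⁻¹ = t * d 1 := by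
    have h5 : y * (d 0 * d 1) * y⁻¹ = d 0 * (y * d 1 * y⁻¹) := by
      calc y * (d 0 * d 1) * y⁻¹ = (y * d 0) * d 1 * y⁻¹ := by group
        _ = (d 0 * y) * d 1 * y⁻¹ := by rw [h1]
        _ = _ := by group
    rw [h5]
    rcases h3 with h3 | h3 <;> rw [h3]
    · right; rw [← mul_assoc, qd.sq]
    · left
      calc d 0 * (t * (d 0 * d 1)) = (d 0 * t) * (d 0 * d 1) := by group
        _ = (t * d 0) * (d 0 * d 1) := by rw [htx]
        _ = t * (d 0 * d 0) * d 1 := by group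
        _ = d 1 := by rw [qd.sq, qd.z2, one_mul]
  have h6 : y * y' * d 1 * (y * y')⁻¹ = d 1 ∨ y * y' * d 1 * (y * y')⁻¹ = t * d 1 := by
    have h7 : y * y' * d 1 * (y * y')⁻¹ = y * (y' * d 1 * y'⁻¹) * y⁻¹ := by group
    have h8 : y * (t * (d 0 * d 1)) * y⁻¹ = t * (y * (d 0 * d 1) * y⁻¹) := by
      calc y * (t * (d 0 * d 1)) * y⁻¹ = (y * t) * (d 0 * d 1) * y⁻¹ := by group
        _ = (t * y) * (d 0 * d 1) * y⁻¹ := by rw [hyt]
        _ = _ := by group
    rw [h7]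
    rcases h3' with h3' | h3' <;> rw [h3']
    · exact h4
    · rw [h8]
      rcases h4 with h4 | h4 <;> rw [h4]
      · exact Or.inr rfl
      · left; exact qd.zzx _
  have h7 : y * y' * d 0 = d 0 * (y * y') := by
    rw [mul_assoc, h1', ← mul_assoc, h1, mul_assoc]
  rcases h6 with h6 | h6
  · refine ⟨_, Or.inl rfl, as_one_of qd h7 ?_⟩
    rwa [mul_inv_eq_iff_eq_mul] at h6
  · refine ⟨_, Or.inr rfl, as_one_of qd ?_ ?_⟩
    · have h8 : z * d 0 = d 0 * z := by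
        have := hx.2 _ (qd.mem 0)
        rwa [Q3.conj_self, mul_inv_eq_iff_eq_mul] at this
      rw [mul_assoc, h7, ← mul_assoc, h8, mul_assoc]
    · have h8 : z * d 1 = t * d 1 * z := by
        have := hx.2 _ (qd.mem 1)
        rwa [qd.conj_ne (by decide), mul_inv_eq_iff_eq_mul] at this
      rw [mul_inv_eq_iff_eq_mul] at h6
      calc z * (y * y') * d 1 = z * (y * y' * d 1) := by group
        _ = z * (t * d 1 * (y * y')) := by rw [h6]
        _ = (z * t) * d 1 * (y * y') := by group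
        _ = (t * z) * d 1 * (y * y') := by rw [hti.comm]
        _ = t * (z * d 1) * (y * y') := by group
        _ = t * (t * d 1 * z) * (y * y') := by rw [h8]
        _ = (t * t) * d 1 * (z * (y * y')) := by group
        _ = _ := by rw [qd.z2, one_mul]

/-- **(6.0)** `v v'` moves every member over `t` -/
theorem TI.moves (hti : TI Om z t) (h : W4 Om) (hK : Mem Om z K) (hK' : Mem Om z K') (hne : K ≠ K') (hL : Mem Om t L)
    (hy : As K t y) {v v' : G} (hv : v ∈ K) (hvv : v * v = z) (hyv : y * v ≠ v * y)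
    (hv' : v' ∈ K') : cj (v * v') L ≠ L := by
  intro hcj
  have hyy := hti.sq_of_as h hK hy
  obtain ⟨K'', hK'', hn1, hn2⟩ := hK.third hK' h
  obtain ⟨y'', hy'', -⟩ := hti.exists_as h hK''
  obtain ⟨s, hs, hs1⟩ := hti.s_or h hK hK'' hL hy hy''
  have hzv : v * z = z * v := hK.comm_z h hv
  have hzv' : v' * z = z * v' := hK'.comm_z h hv'
  have e1 : v * y * v⁻¹ = z * y := hK.anti h hy.1 hyy hv hvv hyv
  have e2 : v' * y = y * v' := (hK.comm hK' h hne hy.1 hv').symm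
  have e3 : v * y'' = y'' * v := (hK''.comm hK h hn1 hy''.1 hv).symm
  have e4 : v' * y'' = y'' * v' := (hK''.comm hK' h hn2 hy''.1 hv').symm
  have e5 : v * v' * (y * y'') * (v * v')⁻¹ = z * (y * y'') := by
    calc v * v' * (y * y'') * (v * v')⁻¹ = v * (v' * y) * y'' * v'⁻¹ * v⁻¹ := by group
      _ = v * y * (v' * y'') * v'⁻¹ * v⁻¹ := by rw [e2]; group
      _ = v * y * y'' * v⁻¹ := by rw [e4]; group
      _ = (v * y * v⁻¹) * (v * y'') * v⁻¹ := by group
      _ = z * (y * y'') := by rw [e1, e3]; group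
  have e6 : v * v' * z * (v * v')⁻¹ = z := by
    rw [mul_assoc v, hzv', ← mul_assoc, hzv]; group
  have e7 : v * v' * s * (v * v')⁻¹ = z * s := by
    rcases hs with rfl | rfl
    · exact e5
    · calc v * v' * (z * (y * y'')) * (v * v')⁻¹ = (v * v' * z * (v * v')⁻¹) * (v * v' * (y * y'') * (v * v')⁻¹) := by
            group
        _ = _ := by rw [e6, e5]
  have h1 := hs1.conj (v * v')
  rw [hcj, e7, mul_one, mul_inv_cancel] at h1
  have h2 := h1.mul hs1.inv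
  rw [mul_inv_cancel_right, inv_one, mul_one] at h2
  obtain ⟨x, hx, hxx⟩ := (hti.symm h).exists_as h hL
  exact hL.not_as_one h hx hxx h2

theorem cj_eq_of {a b : G} (hab : cj a L = cj b L) : cj (a⁻¹ * b) L = L := by
  rw [cj_mul, ← hab, cj_inv_cj]

/-- **(6.0)** the product of all four fixes every member over `t` -/
theorem TI.fixes (hti : TI Om z t) (h : W4 Om) (f : Fr Om z F) {y v : Fin 4 → G} (hy : ∀ i, As (F i) t (y i))
    (hv : ∀ i, v i ∈ F i) (hvv : ∀ i, v i * v i = z) (hyv : ∀ i, y i * v i ≠ v i * y i) (hL : Mem Om t L) :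
    cj (v 0 * v 1 * v 2 * v 3) L = L := by
  have hyy : ∀ i, y i * y i = z := fun i => hti.sq_of_as h (f.mem i) (hy i)
  have hzz := f.inZ.z2 h
  -- `v i v j` commutes with `t`
  have hvt : ∀ i, v i * t = t * z * v i := by
    intro i
    have := (hti.symm h).conj_z h (f.mem i) (hy i) (hv i) (hvv i) (hyv i)
    rwa [mul_inv_eq_iff_eq_mul] at this
  have hvz : ∀ i, v i * z = z * v i := fun i => (f.mem i).comm_z h (hv i)
  have hvvt : ∀ i j, v i * v j * t = t * (v i * v j) := by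
    intro i j
    calc v i * v j * t = v i * (v j * t) := by group
      _ = v i * (t * z * v j) := by rw [hvt]
      _ = (v i * t) * z * v j := by group
      _ = t * z * (v i * z) * v j := by rw [hvt]; group
      _ = t * (z * z) * (v i * v j) := by rw [hvz]; group
      _ = _ := by rw [hzz, mul_one]
  have hvc : ∀ {i j}, i ≠ j → v i * v j = v j * v i := fun hij => (f.mem _).comm (f.mem _) h (f.ne hij) (hv _) (hv _)
  have hmv : ∀ i j, i ≠ j → ∀ {L}, Mem Om t L → cj (v i * v j) L ≠ L := fun i j hij L hL =>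
    hti.moves h (f.mem i) (f.mem j) (f.ne hij) hL (hy i) (hv i) (hvv i) (hyv i) (hv j)
  have hmv' : ∀ i j, i ≠ j → ∀ {L}, Mem Om t L → cj ((v i)⁻¹ * v j) L ≠ L := fun i j hij L hL =>
    hti.moves h (f.mem i) (f.mem j) (f.ne hij) hL (hy i) (inv_mem (hv i))
      (by rw [← mul_inv_rev, hvv, f.inZ.inv h])
      (fun h1 => hyv i (by
        calc y i * v i = v i * (v i)⁻¹ * y i * v i := by group
          _ = v i * ((v i)⁻¹ * y i) * v i := by group
          _ = v i * (y i * (v i)⁻¹) * v i := by rw [h1]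
          _ = v i * y i := by group)) (hv j)
  have hM : ∀ i j, Mem Om t (cj (v i * v j) L) := fun i j => hL.cj_comm h (hvvt i j)
  have hMw : Mem Om t (cj (v 0 * v 1 * v 2 * v 3) L) := by
    refine hL.cj_comm h ?_
    calc v 0 * v 1 * v 2 * v 3 * t = v 0 * v 1 * (v 2 * v 3 * t) := by group
      _ = v 0 * v 1 * t * (v 2 * v 3) := by rw [hvvt]; group
      _ = _ := by rw [hvvt]; group
  obtain ⟨E, e⟩ := hL.inZ.exists_fr h
  obtain ⟨i0, hi0⟩ := e.cov _ hL
  obtain ⟨i1, hi1⟩ := e.cov _ (hM 0 1)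
  obtain ⟨i2, hi2⟩ := e.cov _ (hM 0 2)
  obtain ⟨i3, hi3⟩ := e.cov _ (hM 1 2)
  obtain ⟨j, hj⟩ := e.cov _ hMw
  have n1 : i1 ≠ i0 := fun h1 => hmv 0 1 (by decide) hL (by rw [← hi1, h1, hi0])
  have n2 : i2 ≠ i0 := fun h1 => hmv 0 2 (by decide) hL (by rw [← hi2, h1, hi0])
  have n3 : i3 ≠ i0 := fun h1 => hmv 1 2 (by decide) hL (by rw [← hi3, h1, hi0])
  have n4 : i1 ≠ i2 := fun h1 => by
    have h2 : cj (v 0 * v 1) L = cj (v 0 * v 2) L := by rw [← hi1, h1, hi2]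
    have h3 := cj_eq_of h2
    rw [show (v 0 * v 1)⁻¹ * (v 0 * v 2) = (v 1)⁻¹ * v 2 by group] at h3
    exact hmv' 1 2 (by decide) hL h3
  have n5 : i1 ≠ i3 := fun h1 => by
    have h2 : cj (v 0 * v 1) L = cj (v 1 * v 2) L := by rw [← hi1, h1, hi3]
    have h3 := cj_eq_of h2
    rw [show (v 0 * v 1)⁻¹ * (v 1 * v 2) = (v 0)⁻¹ * v 2 by
      rw [hvc (show (0 : Fin 4) ≠ 1 by decide)]; group] at h3
    exact hmv' 0 2 (by decide) hL h3
  have n6 : i2 ≠ i3 := fun h1 => by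
    have h2 : cj (v 0 * v 2) L = cj (v 1 * v 2) L := by rw [← hi2, h1, hi3]
    have h3 := cj_eq_of h2
    rw [show (v 0 * v 2)⁻¹ * (v 1 * v 2) = (v 0)⁻¹ * v 1 by
      rw [hvc (show (0 : Fin 4) ≠ 2 by decide), hvc (show (1 : Fin 4) ≠ 2 by decide)]; group] at h3
    exact hmv' 0 1 (by decide) hL h3
  have key : ∀ a b c d j : Fin 4, b ≠ a → c ≠ a → d ≠ a → b ≠ c → b ≠ d → c ≠ d → j = a ∨ j = b ∨ j = c ∨ j = d := by
    decide +kernel
  rcases key i0 i1 i2 i3 j n1 n2 n3 n4 n5 n6 with h1 | h1 | h1 | h1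
  · rw [← hj, h1, hi0]
  · exfalso
    have h2 : cj (v 0 * v 1) L = cj (v 0 * v 1 * v 2 * v 3) L := by rw [← hj, h1, hi1]
    have h3 := cj_eq_of h2
    rw [show (v 0 * v 1)⁻¹ * (v 0 * v 1 * v 2 * v 3) = v 2 * v 3 by group] at h3
    exact hmv 2 3 (by decide) hL h3
  · exfalso
    have h2 : cj (v 0 * v 2) L = cj (v 0 * v 1 * v 2 * v 3) L := by rw [← hj, h1, hi2]
    have h3 := cj_eq_of h2
    rw [show (v 0 * v 2)⁻¹ * (v 0 * v 1 * v 2 * v 3) = v 1 * v 3 by
      rw [mul_assoc (v 0) (v 1) (v 2), hvc (show (1 : Fin 4) ≠ 2 by decide)]; group] at h3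
    exact hmv 1 3 (by decide) hL h3
  · exfalso
    have h2 : cj (v 1 * v 2) L = cj (v 0 * v 1 * v 2 * v 3) L := by rw [← hj, h1, hi3]
    have h3 := cj_eq_of h2
    rw [show (v 1 * v 2)⁻¹ * (v 0 * v 1 * v 2 * v 3) = v 0 * v 3 by
      rw [mul_assoc (v 0) (v 1) (v 2), (show v 0 * (v 1 * v 2) = v 1 * v 2 * v 0 by
        rw [← mul_assoc, hvc (show (0 : Fin 4) ≠ 1 by decide), mul_assoc, hvc (show (0 : Fin 4) ≠ 2 by decide),
          mul_assoc])]; group] at h3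
    exact hmv 0 3 (by decide) hL h3

/-! ### (6.1) -/

theorem TI.xx_supp (hti : TI Om z t) (h : W4 Om) (f : Fr Om z F) {y : Fin 4 → G} (hy : ∀ i, As (F i) t (y i))
    (hL : Mem Om t L) (hL' : Mem Om t L') (hne : L ≠ L') (hx : As L z x) (hx' : As L' z x') {e : G}
    (he : e = 1 ∨ e = t) : ∃ S : Fin 4 → Bool, (∀ i, As (F i) (e * (x * x')) (if S i = true then y i else 1)) ∧
      (∃ i, S i = true) ∧ ∃ i, S i = false := by
  have hyy : ∀ i, y i * y i = z := fun i => hti.sq_of_as h (f.mem i) (hy i)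
  have hzz := f.inZ.z2 h
  obtain ⟨K', y', v, hK', hKK', hy', hv, e1⟩ := hti.hh h (f.mem 0) hL hL' hne (hy 0) hx hx'
  obtain ⟨j, rfl⟩ := f.cov K' hK'
  have hj : j ≠ 0 := fun h1 => hKK' (by rw [h1])
  have as1 : ∀ {i j : Fin 4} {x : G}, i ≠ j → x ∈ F j → As (F i) x 1 := fun hij hx =>
    (f.mem _).as_one (f.mem _) h (f.ne hij) hx
  have h1 : ∀ i, As (F i) (y 0 * y') (if i = 0 ∨ i = j then y i else 1) := by
    intro i
    by_cases hi : i = 0
    · subst hi
      rw [if_pos (Or.inl rfl)]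
      have := (As.self (hy 0).1).mul (as1 (Ne.symm hj) hy'.1)
      rwa [mul_one] at this
    · by_cases hij : i = j
      · subst hij
        rw [if_pos (Or.inr rfl)]
        have := (as1 hi (hy 0).1).mul (As.self hy'.1)
        rw [one_mul] at this
        exact this.of_eq (f.mem i) h ((f.mem i).as_unique h hy' (hy i))
      · rw [if_neg (by (clear * - hi hij; tauto))]
        have := (as1 hi (hy 0).1).mul (as1 hij hy'.1)
        rwa [one_mul] at this
  have hev : VV z t (e * v) := by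
    refine VV.mul hzz (hL.inZ.z2 h) hti.comm ?_ hv
    rcases he with he | he
    · exact Or.inl he
    · exact Or.inr (Or.inr (Or.inl he))
  have e2 : e * (x * x') = e * v * (y 0 * y') := by rw [e1]; group
  rw [e2]
  obtain ⟨k, hk1, hk2⟩ : ∃ k : Fin 4, k ≠ 0 ∧ k ≠ j := by
    have : ∀ i j : Fin 4, ∃ k, k ≠ i ∧ k ≠ j := by decide
    exact this 0 j
  rcases hev.act hti h with h2 | h2
  · refine ⟨fun i => decide (i = 0 ∨ i = j), fun i => ?_, ⟨0, by simp⟩, ⟨k, by simp [hk1, hk2]⟩⟩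
    have := (h2 _ (f.mem i)).mul (h1 i)
    rw [one_mul] at this
    simpa only [decide_eq_true_eq] using this
  · refine ⟨fun i => !(decide (i = 0 ∨ i = j)), fun i => ?_, ⟨k, by simp [hk1, hk2]⟩, ⟨0, by simp⟩⟩
    have h3 := (h2 _ (f.mem i) _ (hy i)).mul (h1 i)
    by_cases hi : i = 0 ∨ i = j
    · rw [if_pos hi, hyy] at h3
      have h4 := (As.z_iff (f.mem i) h).1 h3
      have h5 : (if (!(decide (i = 0 ∨ i = j))) = true then y i else 1) = 1 := by
        simp [hi]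
      rw [h5]; exact h4
    · rw [if_neg hi, mul_one] at h3
      have h5 : (if (!(decide (i = 0 ∨ i = j))) = true then y i else 1) = y i := by
        simp [hi]
      rw [h5]; exact h3

theorem perm3_one : ∀ σ : Equiv.Perm (Fin 3), σ 0 = 0 → σ 1 = 1 → σ = 1 := by decide
theorem perm3_two : ∀ σ : Equiv.Perm (Fin 3), σ 0 = 0 → σ 1 ≠ 1 → σ 1 = 2 := by decide

/-- **(6.1)** different axes on all `K`: type I -/
theorem opp (h : W4 Om) (hcm : ∀ z t t', TI Om z t → TI Om z t' → t * t' = t' * t) (hti : TI Om z t)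
    (hti' : TI Om z t') (hax : ∀ K, Mem Om z K → ¬ Same K t t') : TI Om t t' := by
  by_contra hcon
  obtain ⟨F, f⟩ := hti.inZ.exists_fr h
  choose y hy hyy using fun i => hti.exists_as h (f.mem i)
  choose v hv hvv using fun i => hti'.exists_as h (f.mem i)
  have hzz := f.inZ.z2 h
  have hz1 := f.inZ.z1 h
  have htt := hti.inT.z2 h
  have htt' : t * t' = t' * t := hcm z t t' hti hti'
  have hyv : ∀ i, y i * v i ≠ v i * y i := by
    intro i hc
    rcases (f.mem i).of_comm h (hy i).1 (hyy i) (hv i).1 hc with h1 | h1 | h1 | h1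
    · have h2 := hvv i
      rw [h1, one_mul] at h2
      exact hz1 h2.symm
    · have h2 := hvv i
      rw [h1, hzz] at h2
      exact hz1 h2.symm
    · exact hax _ (f.mem i) ⟨v i, (hy i).of_eq (f.mem i) h (Or.inl h1), hv i⟩
    · exact hax _ (f.mem i) ⟨v i, (hy i).of_eq (f.mem i) h (Or.inr h1), hv i⟩
  choose c hc hc0 hc1 using fun i => (f.mem i).exists_q2 h (hy i).1 (hyy i) (hv i).1 (hvv i) (hyv i)
  have fc : Fc Om z F c := ⟨f, hc⟩
  have hne : t ≠ t' := fun h1 => hax _ (f.mem 0) ⟨y 0, hy 0, by rw [← h1]; exact hy 0⟩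
  have hb : t' = PP c (fun _ => 1) ∨ t' = z * PP c (fun _ => 1) := by
    refine eq_or_of_as h f.inZ (fc.mem_P h _) (hti'.mem_RZ h) fun K hK => ?_
    obtain ⟨i, rfl⟩ := f.cov K hK
    exact ⟨_, fc.as_P h _ i, by rw [hc1]; exact hv i⟩
  have hfix : ∀ L, Mem Om t L → cj t' L = L := by
    intro L hL
    have h1 : cj (PP c (fun _ => 1)) L = L := by
      have := hti.fixes h f hy (fun i => (hv i).1) hvv hyv hL
      show cj (c 0 1 * c 1 1 * c 2 1 * c 3 1) L = L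
      rw [hc1, hc1, hc1, hc1]; exact this
    have h2 : cj z L = L := (hti.symm h).inn.cj_eq hL h
    rcases hb with hb | hb
    · rw [hb]; exact h1
    · rw [hb, cj_mul, h1, h2]
  have step : ∀ L x, Mem Om t L → As L z x → ∃ u ∈ L, ∃ e, (e = 1 ∨ e = t) ∧ u⁻¹ * t' * u = e * (x * t') := by
    intro L x hL hx
    have hxx := (hti.symm h).sq_of_as h hL hx
    obtain ⟨d, qd, rfl⟩ := hL.exists_q h hx.1 hxx
    obtain ⟨σ, hσ⟩ := qd.exists_act qd (hfix L hL) htt'.symm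
    have h1 : As L z (t' * d 0 * t'⁻¹) := by
      have := hx.conj_comm hti'.comm.symm
      rwa [hfix L hL] at this
    have h2 : σ 0 = 0 := by
      rcases hL.as_unique h hx h1 with h3 | h3 <;> rcases hσ 0 with h4 | h4
      · exact (qd.inj (Or.inl (h3.symm.trans h4))).symm
      · exact (qd.inj (Or.inr (h3.symm.trans h4))).symm
      · exact qd.inj (Or.inr (h4.symm.trans h3))
      · exact (qd.inj (Or.inl (mul_left_cancel (h3.symm.trans h4)))).symm
    have h3 : σ 1 ≠ 1 := by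
      intro h3
      have h4 := perm3_one σ h2 h3
      subst h4
      exact hcon (TI.of_one h hL hti'.inT hne (hσ.inner qd htt'.symm))
    have h4 := perm3_two σ h2 h3
    have h5 : d 0 * d 1 = d 2 := qd.mul 0
    have h6 : (d 1)⁻¹ * (d 0 * d 1) = t * d 0 := by
      have h7 := qd.anti (show (0 : Fin 3) ≠ 1 by decide)
      have h8 : (d 1)⁻¹ * t = t * (d 1)⁻¹ := by
        rw [inv_mul_eq_iff_eq_mul, ← mul_assoc, ← qd.zc, mul_inv_cancel_right]
      calc (d 1)⁻¹ * (d 0 * d 1) = (d 1)⁻¹ * (t * d 1 * d 0) := by rw [h7]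
        _ = (d 1)⁻¹ * t * d 1 * d 0 := by group
        _ = t * (d 1)⁻¹ * d 1 * d 0 := by rw [h8]
        _ = _ := by group
    have h7 : t' * d 1 = d 2 * t' ∨ t' * d 1 = t * d 2 * t' := by
      rcases hσ 1 with h8 | h8
      · left; rw [h4, mul_inv_eq_iff_eq_mul] at h8; exact h8
      · right; rw [h4, mul_inv_eq_iff_eq_mul] at h8; exact h8
    have htd : (d 1)⁻¹ * t = t * (d 1)⁻¹ := by
      rw [inv_mul_eq_iff_eq_mul, ← mul_assoc, ← qd.zc, mul_inv_cancel_right]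
    refine ⟨d 1, qd.mem 1, ?_⟩
    rcases h7 with h7 | h7
    · refine ⟨t, Or.inr rfl, ?_⟩
      calc (d 1)⁻¹ * t' * d 1 = (d 1)⁻¹ * (t' * d 1) := by group
        _ = (d 1)⁻¹ * (d 0 * d 1) * t' := by rw [h7, h5]; group
        _ = t * (d 0 * t') := by rw [h6]; group
    · refine ⟨1, Or.inl rfl, ?_⟩
      calc (d 1)⁻¹ * t' * d 1 = (d 1)⁻¹ * (t' * d 1) := by group
        _ = ((d 1)⁻¹ * t) * (d 0 * d 1) * t' := by rw [h7, h5]; group
        _ = t * ((d 1)⁻¹ * (d 0 * d 1)) * t' := by rw [htd]; group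
        _ = (t * t) * (d 0 * t') := by rw [h6]; group
        _ = _ := by rw [htt]
  have step2 : ∀ L L' x x', Mem Om t L → Mem Om t L' → L ≠ L' → As L z x → As L' z x' →
      ∃ e, (e = 1 ∨ e = t) ∧ InZ Om (e * (x * x') * t') := by
    intro L L' x x' hL hL' hLL hx hx'
    obtain ⟨u, hu, e1, he1, h1⟩ := step L x hL hx
    obtain ⟨u', hu', e2, he2, h2⟩ := step L' x' hL' hx'
    have hu't : u'⁻¹ * t = t * u'⁻¹ := hL'.comm_z h (inv_mem hu')
    have hu'x : u'⁻¹ * x = x * u'⁻¹ := hL'.comm hL h hLL.symm (inv_mem hu') hx.1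
    have hxt : x * t = t * x := hL.comm_z h hx.1
    have h3 : u'⁻¹ * e1 = e1 * u'⁻¹ := by
      rcases he1 with rfl | rfl
      · group
      · exact hu't
    have h4 : x * e2 = e2 * x := by
      rcases he2 with rfl | rfl
      · group
      · exact hxt
    refine ⟨e1 * e2, ?_, ?_⟩
    · rcases he1 with rfl | rfl <;> rcases he2 with rfl | rfl <;> simp [htt]
    · have h5 := hti'.inT.conj h (u * u')⁻¹
      have h6 : (u * u')⁻¹ * t' * (u * u')⁻¹⁻¹ = e1 * e2 * (x * x') * t' := by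
        calc (u * u')⁻¹ * t' * (u * u')⁻¹⁻¹ = u'⁻¹ * (u⁻¹ * t' * u) * u' := by group
          _ = (u'⁻¹ * e1) * x * t' * u' := by rw [h1]; group
          _ = e1 * (u'⁻¹ * x) * t' * u' := by rw [h3]; group
          _ = e1 * x * (u'⁻¹ * t' * u') := by rw [hu'x]; group
          _ = e1 * (x * e2) * x' * t' := by rw [h2]; group
          _ = _ := by rw [h4]; group
      rwa [h6] at h5
  have step3 : ∀ L L' x x', Mem Om t L → Mem Om t L' → L ≠ L' → As L z x → As L' z x' →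
      ∃ e, (e = 1 ∨ e = t) ∧ ∃ S : Fin 4 → Bool, (∀ i, As (F i) (e * (x * x')) (if S i = true then y i else 1)) ∧
      (∃ i, S i = true) ∧ (∃ i, S i = false) ∧ InZ Om (PP c (fun i => if S i = true then 2 else 1)) := by
    intro L L' x x' hL hL' hLL hx hx'
    obtain ⟨e, he, h1⟩ := step2 L L' x x' hL hL' hLL hx hx'
    obtain ⟨S, h2, h3, h4⟩ := hti.xx_supp h f hy hL hL' hLL hx hx' he
    refine ⟨e, he, S, h2, h3, h4, ?_⟩
    have heR : e ∈ RZ Om z := by
      rcases he with rfl | rfl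
      · exact one_mem _
      · exact hti.mem_RZ h
    have hsR : e * (x * x') * t' ∈ RZ Om z :=
      mul_mem (mul_mem heR (hti.xx_mem h hL hL' hLL hx hx')) (hti'.mem_RZ h)
    refine fc.inZ_of h h1 ?_
    refine eq_or_of_as h f.inZ (fc.mem_P h _) hsR fun K hK => ?_
    obtain ⟨i, rfl⟩ := f.cov K hK
    refine ⟨_, fc.as_P h _ i, ?_⟩
    have h5 := (h2 i).mul (hv i)
    by_cases hS : S i = true
    · have h6 : c i 2 = y i * v i := by
        rw [← hc0, ← hc1]; exact ((hc i).mul 0).symm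
      simp only [hS, if_true] at h5 ⊢
      rw [h6]; exact h5
    · rw [if_neg hS, one_mul] at h5
      show As (F i) (e * (x * x') * t') (c i (if S i = true then 2 else 1))
      rw [if_neg hS, hc1]; exact h5
  obtain ⟨L, hL⟩ := hti.inT
  obtain ⟨L', hL', hLL⟩ := hL.other h
  obtain ⟨L'', hL'', hn1, hn2⟩ := hL.third hL' h
  obtain ⟨x, hx, hxx⟩ := (hti.symm h).exists_as h hL
  obtain ⟨x', hx', hxx'⟩ := (hti.symm h).exists_as h hL'
  obtain ⟨x'', hx'', hxx''⟩ := (hti.symm h).exists_as h hL''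
  obtain ⟨e1, he1, S, hS1, hS2, hS3, hS4⟩ := step3 L L' x x' hL hL' hLL hx hx'
  obtain ⟨e2, he2, T, hT1, hT2, hT3, hT4⟩ := step3 L L'' x x'' hL hL'' hn1.symm hx hx''
  have hti1 : InZ Om (PP c (fun _ => 1)) := fc.inZ_of h hti'.inT hb
  have cd := fc.code h (hcm z)
  have hd : ∀ S : Fin 4 → Bool, ∀ i, decide ((if S i = true then (2 : Fin 3) else 1) ≠ 1) = S i := by
    intro S i
    cases S i <;> simp
  have ev1 : Even (∑ i, (S i).toNat) := by
    have := cd.even' hti1 hS4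
    simpa only [hd] using this
  have ev2 : Even (∑ i, (T i).toNat) := by
    have := cd.even' hti1 hT4
    simpa only [hd] using this
  have ev3 : Even (∑ i, (S i && T i).toNat) := by
    have := cd.overlap hti1 hS4 hT4
    simpa only [hd] using this
  -- `S`, `T` differ and agree somewhere
  obtain ⟨U, hU1, ⟨i, hi⟩, ⟨j, hj⟩⟩ := hti.xx_supp h f hy hL' hL'' hn2.symm hx' hx'' (e := e1⁻¹ * e2 * t) (by
    rcases he1 with rfl | rfl <;> rcases he2 with rfl | rfl <;> simp [htt])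
  have e3 : (e1 * (x * x'))⁻¹ * (e2 * (x * x'')) = e1⁻¹ * e2 * t * (x' * x'') := by
    have g1 : x'⁻¹ = t * x' := hL'.inv_eq h hx'.1 hxx'
    have g2 : ∀ e, e = 1 ∨ e = t → x * e = e * x := by
      rintro e (rfl | rfl)
      · group
      · exact hL.comm_z h hx.1
    have g3 : ∀ e, e = 1 ∨ e = t → x' * e = e * x' := by
      rintro e (rfl | rfl)
      · group
      · exact hL'.comm_z h hx'.1
    have g4 : ∀ e, e = 1 ∨ e = t → e⁻¹ = e := by
      rintro e (rfl | rfl)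
      · group
      · exact inv_eq_of_mul_eq_one_right htt
    have g5 : ∀ e e', (e = 1 ∨ e = t) → (e' = 1 ∨ e' = t) → e * e' = e' * e := by
      rintro e e' (rfl | rfl) (rfl | rfl) <;> simp
    have g6 : x⁻¹ * (e1⁻¹ * e2) = e1⁻¹ * e2 * x⁻¹ := by
      rw [inv_mul_eq_iff_eq_mul, ← mul_assoc, ← mul_assoc, g4 e1 he1, g2 e1 he1, mul_assoc e1, g2 e2 he2]
      group
    calc (e1 * (x * x'))⁻¹ * (e2 * (x * x'')) = x'⁻¹ * (x⁻¹ * (e1⁻¹ * e2)) * x * x'' := by group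
      _ = x'⁻¹ * e1⁻¹ * e2 * x'' := by rw [g6]; group
      _ = t * (x' * e1) * e2 * x'' := by rw [g1, g4 e1 he1]; group
      _ = t * e1 * (x' * e2) * x'' := by rw [g3 e1 he1]; group
      _ = (t * e1) * e2 * x' * x'' := by rw [g3 e2 he2]; group
      _ = e1 * (t * e2) * x' * x'' := by rw [g5 t e1 (Or.inr rfl) he1]; group
      _ = e1 * (e2 * t) * x' * x'' := by rw [g5 t e2 (Or.inr rfl) he2]
      _ = _ := by rw [g4 e1 he1]; group
  have hW : ∀ i, As (F i) (e1⁻¹ * e2 * t * (x' * x'')) ((if S i = true then y i else 1)⁻¹ * (if T i = true then y i else 1)) := by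
    intro i
    rw [← e3]
    exact (hS1 i).inv.mul (hT1 i)
  have hdiff : ∃ i, S i ≠ T i := by
    refine ⟨i, fun h1 => ?_⟩
    have h2 := hW i
    rw [h1, inv_mul_cancel] at h2
    have h3 := hU1 i
    rw [if_pos hi] at h3
    exact (f.mem i).not_as_one h h3 (hyy i) h2
  have hsame : ∃ i, S i = T i := by
    refine ⟨j, ?_⟩
    by_contra h1
    have h2 := hW j
    have h3 := hU1 j
    rw [if_neg (by rw [hj]; decide)] at h3
    have h4 : (S j = true ∧ T j = false) ∨ (S j = false ∧ T j = true) := by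
      revert h1; cases S j <;> cases T j <;> simp
    rcases h4 with ⟨h5, h6⟩ | ⟨h5, h6⟩
    · rw [if_pos h5, if_neg (by rw [h6]; decide), mul_one] at h2
      exact (f.mem j).not_as_one h h2 (by rw [← mul_inv_rev, hyy, f.inZ.inv h]) h3
    · rw [if_neg (by rw [h5]; decide), if_pos h6, inv_one, one_mul] at h2
      exact (f.mem j).not_as_one h h2 (hyy j) h3
  exact no_supp S T ev1 ev2 ev3 hS2 hS3 hT2 hT3 hsame hdiff

/-! ### Third points -/

/-- the axis of `q` on `K` is the third point of the axes of `p`, `p'` -/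
def Third (K : Subgroup G) (p p' q : G) : Prop :=
  (∃ y, As K p y ∧ As K p' y ∧ As K q y) ∨ ∃ y y', As K p y ∧ As K p' y' ∧ y * y' ≠ y' * y ∧ As K q (y * y')

omit [Finite G] in
theorem Third.conj {p' : G} (h : Third K p p' q) (g : G) : Third (cj g K) (g * p * g⁻¹) (g * p' * g⁻¹) (g * q * g⁻¹) := by
  rcases h with ⟨y, h1, h2, h3⟩ | ⟨y, y', h1, h2, h3, h4⟩
  · exact Or.inl ⟨_, h1.conj g, h2.conj g, h3.conj g⟩
  · refine Or.inr ⟨_, _, h1.conj g, h2.conj g, fun h5 => h3 ?_, ?_⟩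
    · have h6 : g * (y * y') * g⁻¹ = g * (y' * y) * g⁻¹ := by
        calc g * (y * y') * g⁻¹ = g * y * g⁻¹ * (g * y' * g⁻¹) := by group
          _ = g * y' * g⁻¹ * (g * y * g⁻¹) := h5
          _ = _ := by group
      exact mul_left_cancel (mul_right_cancel h6)
    · have h6 : g * y * g⁻¹ * (g * y' * g⁻¹) = g * (y * y') * g⁻¹ := by group
      rw [h6]; exact h4.conj g

theorem Third.unique {p' q' : G} (h : W4 Om) (hK : Mem Om z K) (h1 : Third K p p' q) (h2 : Third K p p' q') :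
    Same K q q' := by
  have hcz : ∀ {y}, y ∈ K → y * z = z * y := fun hy => hK.comm_z h hy
  have hcc : ∀ {y w w'}, y ∈ K → (w = y ∨ w = z * y) → (w' = y ∨ w' = z * y) → w * w' = w' * w := by
    intro y w w' hy hw hw'
    rcases hw with rfl | rfl <;> rcases hw' with rfl | rfl
    · rfl
    · rw [← mul_assoc, hcz hy, mul_assoc]
    · rw [← mul_assoc, hcz hy, mul_assoc]
    · rfl
  rcases h1 with ⟨y, a1, a2, a3⟩ | ⟨y, y', a1, a2, a3, a4⟩ <;>
    rcases h2 with ⟨w, b1, b2, b3⟩ | ⟨w, w', b1, b2, b3, b4⟩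
  · exact ⟨w, a3.of_eq hK h (hK.as_unique h a1 b1), b3⟩
  · exact absurd (hcc a1.1 (hK.as_unique h a1 b1) (hK.as_unique h a2 b2)) b3
  · exact absurd (hcc b1.1 (hK.as_unique h b1 a1) (hK.as_unique h b2 a2)) a3
  · refine ⟨w * w', a4.of_eq hK h ?_, b4⟩
    have hzz := hK.inZ.z2 h
    rcases hK.as_unique h a1 b1 with rfl | rfl <;> rcases hK.as_unique h a2 b2 with rfl | rfl
    · exact Or.inl rfl
    · right; rw [← mul_assoc, hcz a1.1, mul_assoc]
    · right; rw [mul_assoc]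
    · left
      calc z * y * (z * y') = z * (y * z) * y' := by group
        _ = z * (z * y) * y' := by rw [hcz a1.1]
        _ = (z * z) * (y * y') := by group
        _ = _ := by rw [hzz, one_mul]

theorem Fc.third (f : Fc Om z F c) (h : W4 Om) {r r' : Fin 4 → Fin 3} (hb : q = PP c b ∨ q = z * PP c b)
    (hr : ∀ i, b i = -(r i + r' i)) (i : Fin 4) : Third (F i) (PP c r) (PP c r') q := by
  have h1 := f.as_P h r i
  have h2 := f.as_P h r' i
  have h3 := f.as_iff h hb i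
  have qi := f.q i
  rcases i_cases3 (r i) (r' i) with h4 | h4 | h4
  · left
    rw [hr, h4, ← n_add0] at h3
    rw [h4] at h2
    exact ⟨_, h1, h2, h3⟩
  · right
    rw [hr, h4, n_add1] at h3
    rw [h4] at h2
    refine ⟨_, _, h1, h2, fun h6 => ?_, ?_⟩
    · have h7 := qi.anti (i_ne1 (r i))
      rw [h6, mul_assoc] at h7
      exact qi.zne _ h7.symm
    · rw [qi.mul]; exact h3
  · right
    rw [hr, h4, n_add2] at h3
    rw [h4] at h2
    refine ⟨_, _, h1, h2, fun h6 => ?_, ?_⟩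
    · have h7 := qi.anti (i_ne2 (r i))
      rw [h6, mul_assoc] at h7
      exact qi.zne _ h7.symm
    · rw [qi.mul2']; exact h3.zl (f.f.mem i) h

/-! ### (6.3) -/

/-- CASE 2 -/
structure Two (Om : Set (Subgroup G)) : Prop where
  w : W4 Om
  comm : ∀ z t t', TI Om z t → TI Om z t' → t * t' = t' * t
  adj : ∀ z t, InZ Om z → InZ Om t → z ≠ t → z * t = t * z → TI Om z t ∨ ∃ e, TI Om z e ∧ TI Om t e
  cls : ∀ K ∈ Om, ∀ L ∈ Om, ∃ g, cj g K = L

namespace Two

variable (w : Two Om)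

include w

theorem exists_g (hK : Mem Om z K) (hL : Mem Om z L) : ∃ g, cj g K = L ∧ g * z = z * g := by
  obtain ⟨g, hg⟩ := w.cls K hK.1 L hL.1
  refine ⟨g, hg, ?_⟩
  have h1 := hK.cj w.w g
  rw [hg] at h1
  have h2 : g * z * g⁻¹ = z := h1.2.symm.trans hL.2
  rwa [mul_inv_eq_iff_eq_mul] at h2

theorem tr (f : Fc Om z F c) (hti : TI Om z t) (hti' : TI Om z t') (ha : t = PP c a ∨ t = z * PP c a)
    (hb : t' = PP c b ∨ t' = z * PP c b) (h1 : ∃ i, a i ≠ b i) (h0 : ∃ i, a i = b i) (k : Fin 4) :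
    ∃ a' b', InZ Om (PP c a') ∧ InZ Om (PP c b') ∧ a' k ≠ b' k ∧ ∃ j, a' j = b' j := by
  have h := w.w
  obtain ⟨i0, hi0⟩ := h1
  obtain ⟨i1, hi1⟩ := h0
  obtain ⟨g, hg, hgz⟩ := w.exists_g (f.f.mem i0) (f.f.mem k)
  have e1 : g * z * g⁻¹ = z := by rw [hgz, mul_inv_cancel_right]
  have t1 := hti.conj h g
  have t2 := hti'.conj h g
  rw [e1] at t1 t2
  obtain ⟨a', ha', ha2⟩ := f.exists_of_ti h t1
  obtain ⟨b', hb', hb2⟩ := f.exists_of_ti h t2
  refine ⟨a', b', ha', hb', fun h2 => hi0 ?_, ?_⟩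
  · have h3 := (f.same_iff h ha2 hb2 k).2 h2
    rw [← f.same_iff h ha hb]
    have h4 := h3.conj g⁻¹
    rw [← hg, cj_inv_cj] at h4
    have h5 : ∀ t, g⁻¹ * (g * t * g⁻¹) * g⁻¹⁻¹ = t := fun t => by group
    rwa [h5, h5] at h4
  · obtain ⟨j, hj⟩ := f.f.cov _ ((f.f.mem i1).cj_comm h hgz)
    refine ⟨j, ?_⟩
    rw [← f.same_iff h ha2 hb2, hj]
    exact ((f.same_iff h ha hb i1).2 hi1).conj g

theorem six3_aux (hti : TI Om z t) (hst : TI Om s t) (hti' : TI Om z t') (hzs : z * s = s * z) :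
    s * t' * s⁻¹ = t' ∨ s * t' * s⁻¹ = z * t' := by
  have h := w.w
  obtain ⟨F, c, f⟩ := exists_fc hti.inZ h
  obtain ⟨a, ha, ha'⟩ := f.exists_of_ti h hti
  obtain ⟨b, hb, hb'⟩ := f.exists_of_ti h hti'
  have fin : s * t' = t' * s → s * t' * s⁻¹ = t' := fun h1 => by rw [h1, mul_inv_cancel_right]
  by_cases h0 : ∃ i, a i = b i
  · by_cases h1 : ∃ i, a i ≠ b i
    · obtain ⟨r, r', hr, hr', d, d', hrr⟩ := (f.code h (w.comm z)).exists_rr ha hb h1 h0
        (w.tr f hti hti' ha' hb' h1 h0)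
      have key : ∀ r : Fin 4 → Fin 3, InZ Om (PP c r) → (∀ i, a i ≠ r i) → s * PP c r * s⁻¹ = PP c r := by
        intro r hr d
        have h2 : TI Om t (PP c r) := opp h w.comm hti ((f.ti_P h).2 hr) fun K hK h3 => by
          obtain ⟨i, rfl⟩ := f.f.cov K hK
          exact d i ((f.same_iff h ha' (Or.inl rfl) i).1 h3)
        rw [w.comm t s _ (hst.symm h) h2, mul_inv_cancel_right]
      have h3 := f.third h hb' hrr
      refine eq_or_of_as h f.f.inZ (hti'.mem_RZ h) (RZ_conj_comm h hzs.symm (hti'.mem_RZ h)) fun K hK => ?_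
      have h4 := hK.cj_comm h (g := s⁻¹) (by rw [inv_mul_eq_iff_eq_mul, ← mul_assoc, ← hzs, mul_inv_cancel_right])
      obtain ⟨i, hi⟩ := f.f.cov _ h4
      obtain ⟨j, rfl⟩ := f.f.cov K hK
      have h5 := (h3 i).conj s
      rw [hi, cj_cj_inv, key r hr d, key r' hr' d'] at h5
      exact Third.unique h hK (h3 j) h5
    · push Not at h1
      left
      apply fin
      have h2 : b = a := funext fun i => (h1 i).symm
      have hs : s * t = t * s := hst.comm
      have hzt := f.f.inZ.z2 h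
      have h3 : t' = t ∨ t' = z * t := by
        rw [h2] at hb'
        rcases ha' with rfl | rfl <;> rcases hb' with rfl | rfl
        · exact Or.inl rfl
        · exact Or.inr rfl
        · right; rw [← mul_assoc, hzt, one_mul]
        · exact Or.inl rfl
      rcases h3 with rfl | rfl
      · exact hs
      · rw [← mul_assoc, ← hzs, mul_assoc, hs, mul_assoc]
  · push Not at h0
    left
    apply fin
    have h2 : TI Om t t' := opp h w.comm hti hti' fun K hK h3 => by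
      obtain ⟨i, rfl⟩ := f.f.cov K hK
      exact h0 i ((f.same_iff h ha' hb' i).1 h3)
    exact w.comm t s t' (hst.symm h) h2

/-- **(6.3)** -/
theorem six3 (hti : TI Om z t) (hst : TI Om s t) (hti' : TI Om z t') (hzs : z * s = s * z) : s * t' = t' * s := by
  have h := w.w
  have h1 := w.six3_aux hti hst hti' hzs
  have h2 := w.six3_aux (hti.symm h) (hti'.symm h) (hst.symm h) (w.comm z t t' hti hti')
  rcases h1 with h1 | h1
  · rwa [mul_inv_eq_iff_eq_mul] at h1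
  rcases h2 with h2 | h2
  · rw [mul_inv_eq_iff_eq_mul] at h2; exact h2.symm
  exfalso
  rw [mul_inv_eq_iff_eq_mul] at h1 h2
  -- `s t' = z t' s = z t s t'`
  have h3 : s * t' = z * t * (s * t') := by
    calc s * t' = z * t' * s := h1
      _ = z * (t' * s) := by group
      _ = z * (t * s * t') := by rw [h2]
      _ = _ := by group
  have h4 : z * t = 1 := (mul_eq_right.1 h3.symm)
  apply hti.ne
  rw [← hti.inT.inv h]
  exact mul_eq_one_iff_eq_inv.1 h4

/-- **(6.4)**, one type I pair -/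
theorem comm_of_ti (hti : TI Om z t) (hs : InZ Om s) (hzs : z * s = s * z) : s * t = t * s := by
  by_cases h1 : z = s
  · subst h1; exact hti.comm
  rcases w.adj z s hti.inZ hs h1 hzs with h2 | ⟨e, h2, h3⟩
  · exact (w.comm z t s hti h2).symm
  · exact w.six3 h2 h3 hti hzs

/-- **(6.4)** commuting is transitive on `Z` -/
theorem comZ : ComZ {z | InZ Om z} where
  sq z hz := InZ.z2 hz w.w
  ne z hz := InZ.z1 hz w.w
  conj z hz g := InZ.conj hz w.w g
  tr z hz s hs s' hs' hzs hzs' := by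
    by_cases h1 : z = s'
    · subst h1; exact hzs.symm
    rcases w.adj z s' hz hs' h1 hzs' with h2 | ⟨e, h2, h3⟩
    · exact w.comm_of_ti h2 hs hzs
    · have h4 := w.comm_of_ti h2 hs hzs
      exact w.comm_of_ti (h3.symm w.w) hs h4.symm

/-- `z` is central in the Sylow 2-subgroups containing a member over `z` -/
theorem central (S : Sylow 2 G) (hK : Mem Om z K) (hKS : K ≤ S) : ∀ s ∈ S, s * z = z * s := by
  have h := w.w
  have hS : ∀ L ∈ Om, L ≤ (S : Subgroup G) → L ∈ OmS Om (S : Subgroup G) := fun L hL hLS => by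
    refine ⟨hL, ?_⟩
    rw [relIndex_eq_one.2 hLS]
    decide
  intro s hs
  have h1 := hK.cj h s
  have h2 : cj s K ≤ (S : Subgroup G) := by
    rintro _ ⟨k, hk, rfl⟩
    exact mul_mem (mul_mem hs (hKS hk)) (inv_mem hs)
  by_cases h3 : cj s K = K
  · exact hK.of_cj h h3
  · have h4 : ∀ k ∈ cj s K, ∀ l ∈ K, k * l = l * k := fun k hk l hl =>
      h.hyp.comm S.isPGroup' (hS _ h1.1 h2) (hS _ hK.1 hKS) h3 ⟨hk, h2 hk⟩ ⟨hl, hKS hl⟩
    have h5 := h.one _ h1.1 _ hK.1 h4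
    rw [h1.2, hK.2] at h5
    rwa [mul_inv_eq_iff_eq_mul] at h5

/-- **CASE 2**: a strongly closed commutative subgroup -/
theorem exists_closed (S : Sylow 2 G) (hK : Mem Om z K) (hKS : K ≤ S) :
    IsStronglyClosed (AZ {z | InZ Om z} z) (S : Subgroup G) ∧
    (∀ x ∈ AZ {z | InZ Om z} z, ∀ y ∈ AZ {z | InZ Om z} z, x * y = y * x) ∧ AZ {z | InZ Om z} z ≠ ⊥ := by
  have hz : z ∈ {z | InZ Om z} := hK.inZ
  have hc := w.central S hK hKS
  refine ⟨w.comZ.exists_closed S hz (hKS (hK.zmem w.w)) hc, w.comZ.AZ_comm hz, fun h1 => ?_⟩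
  have h2 : z ∈ AZ {z | InZ Om z} z := ComZ.self_mem hz
  rw [h1, mem_bot] at h2
  exact hK.inZ.z1 w.w h2

end Two

end

end Cfsg.Agent.Cit.Nil.RFour
end

-- part: Cit/Nil/RFour/Asm
section
/-!
# `r = 4`, `m = 1`: the assembly up to (3.3), section 6 and section 7

* `W4.CX_eq_one` : (5.1) `C(R_z) = ⟨z⟩`;
* `concl_plus` : `PΩ₈⁺(3)`, `PΩ₈⁺(2)` satisfy the conclusion of S1309;
* `LIn` : the external inputs (S1169, Bender's theorem, S1173), all proved in `Cit/ExtIn.lean`, `Cit/CoreOneFull.lean`;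
* `W4.false_of_two` : Case 2 is impossible;
* `main_of` : `LeafR4One` for one group from `Exc` (3.3) and Case 1 (section 7);
* `leafR4_of` : `AssemblyNil.LeafR4` from `LeafR4One` and the part `m ≥ 2`.
-/

set_option autoImplicit false
set_option linter.style.haveILetI false
set_option linter.unusedSectionVars false

namespace Cfsg.Agent.Cit.Nil.RFour

open Subgroup Cfsg Cfsg.Agent.Cit

universe u

variable {G : Type*} [Group G] [Finite G] {Om : Set (Subgroup G)} {K L : Subgroup G} {X : Subgroup G} {z g s : G}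

/-- **(5.1)** -/
theorem W4.CX_eq_one (h : W4 Om) (hz : InZ Om z) (hN : N0 Om z = ⊥) {n : G} (hn : n ∈ CX Om z) :
    n = 1 ∨ n = z := by
  rw [h.CX_eq_zpowers hz hN] at hn
  obtain ⟨k, rfl⟩ := mem_zpowers_iff.1 hn
  have h1 : z ^ k = 1 ∨ z ^ k = z := by
    have h2 : orderOf z = 2 := hz.orderOf h
    rcases Int.even_or_odd' k with ⟨m, rfl | rfl⟩
    · left
      rw [zpow_mul, zpow_two, hz.z2 h, one_zpow]
    · right
      rw [zpow_add, zpow_mul, zpow_two, hz.z2 h, one_zpow, one_mul, zpow_one]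
  exact h1

/-- `PΩ₈⁺(3)`, `PΩ₈⁺(2)` -/
theorem concl_plus {X : Type*} [Group X]
    (h : (∃ (F : Type) (_ : Field F) (_ : Fintype F), Fintype.card F = 3 ∧
        Nonempty (X ≃* Cfsg.POmega F (Cfsg.quadFormPlus 4 F))) ∨
      (∃ (F : Type) (_ : Field F) (_ : Fintype F), Fintype.card F = 2 ∧
        Nonempty (X ≃* Cfsg.POmega F (Cfsg.quadFormPlus 4 F)))) : AssemblyNil.Concl X := by
  rcases h with ⟨F, _, _, hF, ⟨e⟩⟩ | ⟨F, i1, i2, hF, ⟨e⟩⟩
  · left
    have h3 : CharP F 3 := by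
      obtain ⟨n, hn, hc⟩ := FiniteField.card F (ringChar F)
      rw [hF] at hc
      have h4 : ringChar F = 3 := by
        have h5 : ringChar F ∣ 3 := by rw [hc]; exact dvd_pow_self _ n.pos.ne'
        exact (Nat.prime_dvd_prime_iff_eq hn Nat.prime_three).1 h5
      rw [← h4]; infer_instance
    exact ⟨3, Nat.prime_three, by norm_num, Or.inr (Or.inr (Or.inr (Or.inr (Or.inl
      ⟨F, inferInstance, inferInstance, h3, 4, le_rfl, ⟨e⟩⟩))))⟩
  · exact Or.inr (Or.inr (Or.inr ⟨F, i1, i2, hF, Or.inr ⟨e⟩⟩))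

/-- the external inputs -/
structure LIn : Prop where
  /-- S1169 -/
  gold : ∀ (X : Type u) [Group X] [Finite X] [IsSimpleGroup X] (S : Sylow 2 X) (A : Subgroup X), A ≠ ⊥ →
    IsMulCommutative A → IsStronglyClosed A (S : Subgroup X) →
    IsMulCommutative (S : Subgroup X) ∨ ∃ H : Subgroup X, IsStronglyEmbedded H
  /-- Bender's theorem -/
  bend : ∀ (X : Type u) [Group X] [Finite X] [IsSimpleGroup X], CloEnd.Bend X
  /-- S1173 -/
  h1173 : ∀ (G : Type u) [Group G] [Finite G], oddCore G = ⊥ → OneF.H1173 G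

/-- **Case 2 is impossible** -/
theorem W4.false_of_two (h : W4 Om) (hK : K ∈ Om) (hc : OneCls Om) (exc : Exc Om) (f : ROne.FSimp X)
    (hle : ∀ K ∈ Om, K ≤ X) (gold : Cit.ROne.Gold X) (hB : CloEnd.Bend X)
    (comm : ∀ z t t', TI Om z t → TI Om z t' → t * t' = t' * t) : False := by
  obtain ⟨S, hS⟩ := (h.isPGroup hK).exists_le_sylow
  have w : Two Om := ⟨h, comm, fun z t hz ht hne hzt => exists_common h exc hz ht hne hzt, hc⟩
  obtain ⟨h1, h2, h3⟩ := w.exists_closed S (z := zz K) ⟨hK, rfl⟩ hS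
  refine h.false_of_closed ⟨K, hK⟩ f hle gold hB S h3 ?_ h2 h1
  unfold AZ
  rw [closure_le]
  rintro s ⟨⟨L, hL⟩, -⟩
  exact hle L hL.1 (hL.zmem h)

theorem oddCore_eq_bot (f : ROne.FSimp X) (h2 : 2 ∣ Nat.card X) : oddCore G = ⊥ := by
  by_contra hb
  have h3 := f.le (N := oddCore G) (fun g _ n hn => (Lib.Cores.pPrimeCore_normal 2 (G := G)).conj_mem n hn g) hb
  have h4 := h2.trans (card_dvd_of_le h3)
  have h5 := Lib.Cores.pPrimeCore_coprime (G := G) 2
  have h6 := Nat.dvd_gcd h4 (dvd_refl 2)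
  rw [h5] at h6
  omega

theorem main_of {G : Type u} [Group G] [Finite G] {K : Subgroup G} (i : LIn.{u}) (w : AssemblyNil.W3 G K)
    (hf : ∀ t : G, orderOf t = 2 → centralizerPPrimeCore 2 t = ⊥) (h4 : (AssemblyNil.ovr K).ncard = 4)
    (hm : MOne (cls K)) (exc : W4 (cls K) → Exc (cls K))
    (one : W4 (cls K) → OneCls (cls K) → C3' (cls K) → ROne.FSimp (generalizedFittingSubgroup G) →
      (∀ L ∈ cls K, L ≤ generalizedFittingSubgroup G) →
      (∀ z, InZ (cls K) z → ∀ n ∈ CX (cls K) z, n = 1 ∨ n = z) → ∀ z t t', TI (cls K) z t → TI (cls K) z t' →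
      t * t' ≠ t' * t →
      (∃ (F : Type) (_ : Field F) (_ : Fintype F), Fintype.card F = 3 ∧
        Nonempty (↥(generalizedFittingSubgroup G) ≃* Cfsg.POmega F (Cfsg.quadFormPlus 4 F))) ∨
      (∃ (F : Type) (_ : Field F) (_ : Fintype F), Fintype.card F = 2 ∧
        Nonempty (↥(generalizedFittingSubgroup G) ≃* Cfsg.POmega F (Cfsg.quadFormPlus 4 F)))) :
    AssemblyNil.Concl ↥(generalizedFittingSubgroup G) := by
  have h := W4.of_w3 w h4 hf hm
  have hc := oneCls_cls K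
  have c3 := c3'_of h w.c3
  have c3r := C3R.of_c3 h hc (self_mem_cls K) w.c3
  have cf := CF.of_free h hf
  have f := ROne.fsimp_of w.simple w.na
  have e := exc h
  have hle : ∀ L ∈ cls K, L ≤ generalizedFittingSubgroup G := fun L hL => h.mem_le hc c3r f w.even e hL
  haveI := f.sim
  have gold : Cit.ROne.Gold ↥(generalizedFittingSubgroup G) := fun S A h1 h2 h3 => i.gold _ S A h1 h2 h3
  have hB : CloEnd.Bend ↥(generalizedFittingSubgroup G) := i.bend _
  have h1173 : OneF.H1173 G := i.h1173 G (oddCore_eq_bot f w.even)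
  have hN : ∀ z, InZ (cls K) z → N0 (cls K) z = ⊥ := fun z hz => h.N0_eq_bot e f hle gold hB h1173 cf hz
  have hcx : ∀ z, InZ (cls K) z → ∀ n ∈ CX (cls K) z, n = 1 ∨ n = z := fun z hz n hn =>
    h.CX_eq_one hz (hN z hz) hn
  by_cases h2 : ∀ z t t', TI (cls K) z t → TI (cls K) z t' → t * t' = t' * t
  · exact (h.false_of_two (self_mem_cls K) hc e f hle gold hB h2).elim
  · push Not at h2
    obtain ⟨z, t, t', h5, h6, h7⟩ := h2
    exact concl_plus (one h hc c3 f hle hcx z t t' h5 h6 h7)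

end Cfsg.Agent.Cit.Nil.RFour
end

-- part: Cit/Nil/RFour/ExcBase
section
/-!
# S1309, (6b), (C3), `r = 4`, `m = 1`: (3.3), the group `E`

`R` a 2-group with `R' ≤ ⟨z⟩`, `t` an involution normalising `R`, `w` commutes with `w^t` for `w ∈ R`.
`E = ⟨z⟩ {[w, t] | w ∈ R}` is an elementary abelian group. Among the seven products of three elements of `E` one is a
commutator `[w, t]`.
-/

set_option autoImplicit false

namespace Cfsg.Agent.Cit.Nil.RFour.ExcBase

open Subgroup Cfsg Cfsg.Agent.Cit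

variable {G : Type*} [Group G]

structure Side (R : Subgroup G) (z t : G) : Prop where
  z2 : z * z = 1
  t2 : t * t = 1
  zt : z * t = t * z
  hz : z ∈ R
  zr : ∀ r ∈ R, r * z = z * r
  rr : ∀ r ∈ R, ∀ s ∈ R, r * s * r⁻¹ = s ∨ r * s * r⁻¹ = z * s
  tn : ∀ r ∈ R, t * r * t⁻¹ ∈ R
  ww : ∀ w ∈ R, w * w = 1 ∨ w * w = z
  wt : ∀ w ∈ R, w * (t * w * t⁻¹) = t * w * t⁻¹ * w

/-- the commutator `[w, t]` -/
def cm (t w : G) : G := w * t * w⁻¹ * t⁻¹

/-- `d = [w, t]`, `w ∈ R` -/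
def Cm (R : Subgroup G) (t d : G) : Prop := ∃ w ∈ R, d = cm t w

variable {R : Subgroup G} {z t a b u v w e d g : G}

namespace Side

theorem cm_mem (S : Side R z t) (ha : a ∈ R) : cm t a ∈ R := by
  have h1 : cm t a = a * (t * a⁻¹ * t⁻¹) := by rw [cm]; group
  rw [h1]
  exact mul_mem ha (S.tn _ (inv_mem ha))

theorem zz (S : Side R z t) (g : G) : z * (z * g) = g := by rw [← mul_assoc, S.z2, one_mul]

/-- `[a,t][b,t] = [ba,t]` up to `z` -/
theorem key (S : Side R z t) (ha : a ∈ R) (hb : b ∈ R) :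
    (cm t a * b = b * cm t a ∧ cm t a * cm t b = cm t (b * a)) ∨
      (cm t a * b = z * (b * cm t a) ∧ cm t a * cm t b = z * cm t (b * a)) := by
  have e : ∀ c : G, c * b * t * b⁻¹ * t⁻¹ = c * cm t b := fun c => by rw [cm]; group
  have e2 : b * cm t a * t * b⁻¹ * t⁻¹ = cm t (b * a) := by rw [cm, cm]; group
  rcases S.rr _ (S.cm_mem ha) b hb with h | h
  · left
    rw [mul_inv_eq_iff_eq_mul] at h
    exact ⟨h, by rw [← e, h, e2]⟩
  · right
    rw [mul_inv_eq_iff_eq_mul, mul_assoc] at h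
    refine ⟨h, ?_⟩
    rw [← e, h, ← e2]
    group

theorem cm_sq (S : Side R z t) (ha : a ∈ R) : cm t a * cm t a = 1 := by
  have hc := S.wt a ha
  have e : cm t a = a * (t * a * t⁻¹)⁻¹ := by rw [cm]; group
  have hti : t⁻¹ * z = z * t⁻¹ := by
    rw [inv_mul_eq_iff_eq_mul, ← mul_assoc, ← S.zt, mul_inv_cancel_right]
  have hsq : t * a * t⁻¹ * (t * a * t⁻¹) = a * a := by
    have h1 : t * a * t⁻¹ * (t * a * t⁻¹) = t * (a * a) * t⁻¹ := by group
    rw [h1]
    rcases S.ww a ha with h | h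
    · rw [h]; group
    · rw [h, ← S.zt, mul_inv_cancel_right]
  have hc' : (t * a * t⁻¹)⁻¹ * a = a * (t * a * t⁻¹)⁻¹ := by
    rw [inv_mul_eq_iff_eq_mul, ← mul_assoc, ← hc, mul_inv_cancel_right]
  rw [e]
  calc a * (t * a * t⁻¹)⁻¹ * (a * (t * a * t⁻¹)⁻¹) = a * ((t * a * t⁻¹)⁻¹ * a) * (t * a * t⁻¹)⁻¹ := by group
    _ = a * (a * (t * a * t⁻¹)⁻¹) * (t * a * t⁻¹)⁻¹ := by rw [hc']
    _ = (a * a) * (t * a * t⁻¹ * (t * a * t⁻¹))⁻¹ := by group
    _ = 1 := by rw [hsq, mul_inv_cancel]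

theorem cm_z (S : Side R z t) (ha : a ∈ R) : cm t a * z = z * cm t a := S.zr _ (S.cm_mem ha)

/-- the group `E` -/
def EE (S : Side R z t) : Subgroup G where
  carrier := {e | ∃ w ∈ R, e = cm t w ∨ e = z * cm t w}
  one_mem' := ⟨1, one_mem _, Or.inl (by rw [cm]; group)⟩
  mul_mem' := by
    rintro x y ⟨a, ha, hx⟩ ⟨b, hb, hy⟩
    refine ⟨b * a, mul_mem hb ha, ?_⟩
    have hza := S.cm_z ha
    have e1 : cm t a * (z * cm t b) = z * (cm t a * cm t b) := by
      rw [← mul_assoc, hza, mul_assoc]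
    rcases S.key ha hb with ⟨-, h⟩ | ⟨-, h⟩ <;> rcases hx with rfl | rfl <;> rcases hy with rfl | rfl
    · exact Or.inl h
    · right; rw [e1, h]
    · right; rw [mul_assoc, h]
    · left; rw [mul_assoc, e1, h, S.zz]
    · exact Or.inr h
    · left; rw [e1, h, S.zz]
    · left; rw [mul_assoc, h, S.zz]
    · right; rw [mul_assoc, e1, h, S.zz]
  inv_mem' := by
    rintro x ⟨a, ha, hx⟩
    refine ⟨a, ha, ?_⟩
    have h1 : x * x = 1 := by
      rcases hx with rfl | rfl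
      · exact S.cm_sq ha
      · calc z * cm t a * (z * cm t a) = z * (cm t a * z) * cm t a := by group
          _ = z * (z * cm t a) * cm t a := by rw [S.cm_z ha]
          _ = (z * z) * (cm t a * cm t a) := by group
          _ = 1 := by rw [S.z2, S.cm_sq ha, one_mul]
    rw [inv_eq_of_mul_eq_one_right h1]
    exact hx

theorem cm_mem_EE (S : Side R z t) (ha : a ∈ R) : cm t a ∈ S.EE := ⟨a, ha, Or.inl rfl⟩

theorem z_mem_EE (S : Side R z t) : z ∈ S.EE := ⟨1, one_mem _, Or.inr (by rw [cm]; group)⟩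

theorem EE_sq (S : Side R z t) (he : e ∈ S.EE) : e * e = 1 := by
  obtain ⟨a, ha, hx⟩ := he
  rcases hx with rfl | rfl
  · exact S.cm_sq ha
  · calc z * cm t a * (z * cm t a) = z * (cm t a * z) * cm t a := by group
      _ = z * (z * cm t a) * cm t a := by rw [S.cm_z ha]
      _ = (z * z) * (cm t a * cm t a) := by group
      _ = 1 := by rw [S.z2, S.cm_sq ha, one_mul]

theorem EE_inv (S : Side R z t) (he : e ∈ S.EE) : e⁻¹ = e := inv_eq_of_mul_eq_one_right (S.EE_sq he)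

theorem EE_comm (S : Side R z t) (he : e ∈ S.EE) (hd : d ∈ S.EE) : e * d = d * e := by
  have h1 := S.EE_inv (mul_mem he hd)
  rw [mul_inv_rev, S.EE_inv he, S.EE_inv hd] at h1
  exact h1.symm

theorem EE_le (S : Side R z t) (he : e ∈ S.EE) : e ∈ R := by
  obtain ⟨a, ha, hx⟩ := he
  rcases hx with rfl | rfl
  · exact S.cm_mem ha
  · exact mul_mem S.hz (S.cm_mem ha)

theorem EE_z (S : Side R z t) (he : e ∈ S.EE) : e * z = z * e := S.zr _ (S.EE_le he)

theorem cm_t (S : Side R z t) (ha : a ∈ R) : cm t a * t = t * cm t a := by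
  have h1 := S.cm_sq ha
  have hti : t⁻¹ = t := inv_eq_of_mul_eq_one_right S.t2
  have h2 : t * cm t a * t⁻¹ = (cm t a)⁻¹ := by
    have : t * cm t a * t⁻¹ = t * a * t * a⁻¹ * (t * t)⁻¹ := by rw [cm]; group
    rw [this, S.t2]
    have : (cm t a)⁻¹ = t * a * t⁻¹ * a⁻¹ := by rw [cm]; group
    rw [this, hti]
    group
  rw [inv_eq_of_mul_eq_one_right h1, mul_inv_eq_iff_eq_mul] at h2
  exact h2.symm

theorem EE_t (S : Side R z t) (he : e ∈ S.EE) : e * t = t * e := by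
  obtain ⟨a, ha, hx⟩ := he
  rcases hx with rfl | rfl
  · exact S.cm_t ha
  · rw [mul_assoc, S.cm_t ha, ← mul_assoc, S.zt, mul_assoc]

/-- elements of `C(z) ∩ C(t)` normalising `R` normalise `E` -/
theorem EE_conj (S : Side R z t) (hgz : g * z = z * g) (hgt : g * t = t * g) (hgR : ∀ r ∈ R, g * r * g⁻¹ ∈ R)
    (he : e ∈ S.EE) : g * e * g⁻¹ ∈ S.EE := by
  obtain ⟨a, ha, hx⟩ := he
  have h1 : g * cm t a * g⁻¹ = cm t (g * a * g⁻¹) := by
    have h2 : g * cm t a * g⁻¹ = g * a * g⁻¹ * (g * t * g⁻¹) * (g * a * g⁻¹)⁻¹ * (g * t * g⁻¹)⁻¹ := by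
      rw [cm]; group
    rw [h2, hgt, mul_inv_cancel_right, cm]
  refine ⟨g * a * g⁻¹, hgR a ha, ?_⟩
  rcases hx with rfl | rfl
  · exact Or.inl h1
  · right
    calc g * (z * cm t a) * g⁻¹ = (g * z) * cm t a * g⁻¹ := by group
      _ = z * (g * cm t a * g⁻¹) := by rw [hgz]; group
      _ = _ := by rw [h1]

/-- **among the products of three elements of `E` there is a commutator** -/
theorem exists_cm (S : Side R z t) (hu : u ∈ S.EE) (hv : v ∈ S.EE) (hw : w ∈ S.EE) :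
    Cm R t u ∨ Cm R t v ∨ Cm R t w ∨ Cm R t (u * v) ∨ Cm R t (u * w) ∨ Cm R t (v * w) ∨
      Cm R t (u * v * w) := by
  obtain ⟨a, ha, hu⟩ := hu
  obtain ⟨b, hb, hv⟩ := hv
  obtain ⟨c, hc, hw⟩ := hw
  rcases hu with hu | hu
  · exact Or.inl ⟨a, ha, hu⟩
  rcases hv with hv | hv
  · exact Or.inr (Or.inl ⟨b, hb, hv⟩)
  rcases hw with hw | hw
  · exact Or.inr (Or.inr (Or.inl ⟨c, hc, hw⟩))
  have e1 : ∀ {a b : G}, a ∈ R → z * cm t a * (z * cm t b) = cm t a * cm t b := by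
    intro a b ha
    calc z * cm t a * (z * cm t b) = z * (cm t a * z) * cm t b := by group
      _ = z * (z * cm t a) * cm t b := by rw [S.cm_z ha]
      _ = _ := by rw [S.zz]
  right; right; right
  rcases S.key ha hb with ⟨-, h1⟩ | ⟨h1, -⟩
  · left
    exact ⟨b * a, mul_mem hb ha, by rw [hu, hv, e1 ha, h1]⟩
  right
  rcases S.key ha hc with ⟨-, h2⟩ | ⟨h2, -⟩
  · left
    exact ⟨c * a, mul_mem hc ha, by rw [hu, hw, e1 ha, h2]⟩
  right
  rcases S.key hb hc with ⟨-, h3⟩ | ⟨-, h3⟩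
  · left
    exact ⟨c * b, mul_mem hc hb, by rw [hv, hw, e1 hb, h3]⟩
  right
  have hcb := mul_mem hc hb
  refine ⟨c * b * a, mul_mem hcb ha, ?_⟩
  have h4 : u * v * w = cm t a * cm t (c * b) := by
    rw [mul_assoc, hv, hw, e1 hb, h3, hu, e1 ha]
  rw [h4]
  have h5 : cm t a * (c * b) = c * b * cm t a := by
    calc cm t a * (c * b) = (cm t a * c) * b := by group
      _ = z * (c * cm t a) * b := by rw [h2]
      _ = z * (c * (cm t a * b)) := by group
      _ = z * (c * (z * (b * cm t a))) := by rw [h1]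
      _ = z * (c * z) * (b * cm t a) := by group
      _ = z * (z * c) * (b * cm t a) := by rw [S.zr c hc]
      _ = c * b * cm t a := by rw [S.zz]; group
  rcases S.key ha hcb with ⟨-, h6⟩ | ⟨h6, h7⟩
  · exact h6
  · rw [h5] at h6
    have hz1 : z = 1 := mul_eq_right.1 h6.symm
    rw [h7, hz1, one_mul]

end Side

/-- three elements of a large group of exponent 2 -/
theorem exists_three [Finite G] {U : Subgroup G} (hU : ∀ u ∈ U, u * u = 1) (h5 : 5 ≤ Nat.card ↥U) :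
    ∃ u ∈ U, ∃ v ∈ U, ∃ w ∈ U, u ≠ 1 ∧ v ≠ 1 ∧ w ≠ 1 ∧ u * v ≠ 1 ∧ u * w ≠ 1 ∧ v * w ≠ 1 ∧ u * v * w ≠ 1 := by
  classical
  have avoid : ∀ s : Finset G, s.card ≤ 4 → ∃ u ∈ U, u ∉ s := by
    intro s hs
    by_contra hno
    push Not at hno
    have h1 : Nat.card ↥U ≤ s.card := by
      have h2 : (U : Set G) ⊆ (s : Set G) := fun x hx => hno x hx
      have h3 := Set.ncard_le_ncard h2 (Finset.finite_toSet s)
      rwa [Set.ncard_coe_finset, ← Nat.card_coe_set_eq] at h3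
    omega
  obtain ⟨u, hu, hu'⟩ := avoid {1} (by simp)
  obtain ⟨v, hv, hv'⟩ := avoid {1, u} ((Finset.card_le_two).trans (by norm_num))
  obtain ⟨w, hw, hw'⟩ := avoid {1, u, v, u * v} Finset.card_le_four
  simp only [Finset.mem_singleton, Finset.mem_insert, not_or] at hu' hv' hw'
  have inv : ∀ {x y : G}, x ∈ U → x * y = 1 → y = x := by
    intro x y hx h
    have := eq_inv_of_mul_eq_one_right h
    rw [this, inv_eq_of_mul_eq_one_right (hU x hx)]
  exact ⟨u, hu, v, hv, w, hw, hu', hv'.1, hw'.1, fun h => hv'.2 (inv hu h), fun h => hw'.2.1 (inv hu h),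
    fun h => hw'.2.2.1 (inv hv h), fun h => hw'.2.2.2 (inv (mul_mem hu hv) h)⟩

/-- counting cosets -/
theorem card_le_of_map [Finite G] {ι : Type*} [Finite ι] (E H : Subgroup G) (φ : ↥E → ι)
    (h : ∀ e e' : ↥E, φ e = φ e' → (e : G)⁻¹ * e' ∈ H) : Nat.card ↥E ≤ Nat.card ι * Nat.card ↥H := by
  classical
  have h1 : ∀ e : ↥E, ∃ e', φ e' = φ e := fun e => ⟨e, rfl⟩
  obtain ⟨rep, hrep⟩ : ∃ rep : ι → ↥E, ∀ e, φ (rep (φ e)) = φ e := by
    refine ⟨fun i => if hi : ∃ e, φ e = i then hi.choose else 1, fun e => ?_⟩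
    have hi : ∃ e', φ e' = φ e := ⟨e, rfl⟩
    show φ (if hi : ∃ e', φ e' = φ e then hi.choose else 1) = φ e
    rw [dif_pos hi]
    exact hi.choose_spec
  rw [← Nat.card_prod]
  refine Nat.card_le_card_of_injective
    (fun e : ↥E => (φ e, (⟨((rep (φ e) : ↥E) : G)⁻¹ * e, h _ _ (hrep e)⟩ : ↥H))) fun e e' hee => ?_
  simp only [Prod.mk.injEq, Subtype.mk.injEq] at hee
  obtain ⟨h2, h3⟩ := hee
  rw [h2] at h3
  exact Subtype.ext (mul_left_cancel h3)

end Cfsg.Agent.Cit.Nil.RFour.ExcBase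
end

-- part: Cit/Nil/RFour/Exc
section
/-!
# S1309, (6b), (C3), `r = 4`, `m = 1`: (3.3), the exceptional pair

`z ≠ t` commuting elements of `Z`, `t` moves all members over `z`, `z` moves all members over `t`: some
`R_z`-conjugate of `t` is a type I neighbour of `t`.
-/

set_option autoImplicit false
set_option linter.unusedSectionVars false

namespace Cfsg.Agent.Cit.Nil.RFour

open Subgroup Cfsg Cfsg.Agent.Cit ExcBase

open RTwo (Q3 Act)

variable {G : Type*} [Group G] [Finite G] {Om : Set (Subgroup G)} {K L L' M : Subgroup G} {t z : G}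

/-- a frame `K, K^t, K', K'^t` -/
theorem exists_frt (h : W4 Om) (ht : InZ Om t) (hzt : z * t = t * z) (hmv : ∀ K, Mem Om z K → cj t K ≠ K)
    (hK : Mem Om z K) : ∃ F, Fr Om z F ∧ F 0 = K ∧ F 1 = cj t (F 0) ∧ F 3 = cj t (F 2) := by
  have ht2 := ht.z2 h
  obtain ⟨F, f, h0, h1⟩ := hK.exists_fr2 (hK.cj_comm h hzt.symm) h (hmv K hK).symm
  refine ⟨F, f, h0, by rw [h0, h1], ?_⟩
  obtain ⟨j, hj⟩ := f.cov _ ((f.mem 2).cj_comm h hzt.symm)
  have htt : ∀ X : Subgroup G, cj t (cj t X) = X := fun X => by rw [← cj_mul, ht2, cj_one]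
  have h3 : ∀ j : Fin 4, j ≠ 0 → j ≠ 1 → j ≠ 2 → j = 3 := by decide
  have hj3 : j = 3 := by
    refine h3 j ?_ ?_ ?_
    · rintro rfl
      rw [h0] at hj
      have h4 : F 1 = F 2 := by rw [h1, hj, htt]
      exact f.ne (by decide) h4
    · rintro rfl
      rw [h1] at hj
      have h4 : F 0 = F 2 := by rw [h0]; exact cj_inj.1 hj
      exact f.ne (by decide) h4
    · rintro rfl
      exact hmv _ (f.mem 2) hj.symm
  rw [← hj3, hj]

theorem RZ_ww (h : W4 Om) (hz : InZ Om z) {w : G} (hw : w ∈ RZ Om z) : w * w = 1 ∨ w * w = z := by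
  obtain ⟨F, f⟩ := hz.exists_fr h
  obtain ⟨k, hk, rfl⟩ := (mem_RZ f h).1 hw
  have hz2 := hz.z2 h
  have hs : ∀ i, k i ^ 2 = 1 ∨ k i ^ 2 = z := by
    intro i
    rw [pow_two]
    rcases (f.mem i).sq_cases h (hk i) with h1 | h1 | h1
    · left; rw [h1, one_mul]
    · left; rw [h1, hz2]
    · exact Or.inr h1
  have hc : ∀ {i j : Fin 4}, i ≠ j → Commute (k i) (k j) := fun hij =>
    (f.mem _).comm (f.mem _) h (f.ne hij) (hk _) (hk _)
  have c1 : Commute (k 0 * k 1 * k 2) (k 3) :=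
    ((hc (by decide)).mul_left (hc (by decide))).mul_left (hc (by decide))
  have c2 : Commute (k 0 * k 1) (k 2) := (hc (by decide)).mul_left (hc (by decide))
  have c3 : Commute (k 0) (k 1) := hc (by decide)
  rw [← pow_two, c1.mul_pow, c2.mul_pow, c3.mul_pow]
  rcases hs 0 with h1 | h1 <;> rcases hs 1 with h2 | h2 <;> rcases hs 2 with h3 | h3 <;> rcases hs 3 with h4 | h4 <;>
    rw [h1, h2, h3, h4] <;> simp [hz2]

/-- one half: `a ∈ K K^t` commutes with `a^t` -/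
theorem half_comm (hz2 : z * z = 1) (ht2 : t * t = 1) (hzt : z * t = t * z) {A B : Subgroup G}
    (hAB : ∀ a ∈ A, ∀ b ∈ B, a * b = b * a) (hAt : ∀ a ∈ A, t * a * t⁻¹ ∈ B) (hBt : ∀ b ∈ B, t * b * t⁻¹ ∈ A)
    (hA : ∀ a ∈ A, ∀ c ∈ A, a * c = c * a ∨ a * c = z * (c * a)) (hzA : ∀ a ∈ A, a * z = z * a)
    {a b : G} (ha : a ∈ A) (hb : b ∈ B) :
    a * b * (t * (a * b) * t⁻¹) = t * (a * b) * t⁻¹ * (a * b) := by
  obtain ⟨a', ha'⟩ : ∃ a', a' = t * a * t⁻¹ := ⟨_, rfl⟩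
  obtain ⟨b', hb'⟩ : ∃ b', b' = t * b * t⁻¹ := ⟨_, rfl⟩
  have e1 : t * (a * b) * t⁻¹ = a' * b' := by rw [ha', hb']; group
  have ha'B : a' ∈ B := ha' ▸ hAt a ha
  have hb'A : b' ∈ A := hb' ▸ hBt b hb
  have c1 : a * a' = a' * a := hAB a ha a' ha'B
  have c2 : b' * b = b * b' := hAB b' hb'A b hb
  have c3 : a' * b' = b' * a' := (hAB b' hb'A a' ha'B).symm
  have c4 : a * b = b * a := hAB a ha b hb
  have tt : ∀ g : G, t * (t * g * t⁻¹) * t⁻¹ = g := by
    intro g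
    calc t * (t * g * t⁻¹) * t⁻¹ = (t * t) * g * (t * t)⁻¹ := by group
      _ = g := by rw [ht2]; group
  have ea : t * a' * t⁻¹ = a := by rw [ha', tt]
  have eb : t * b' * t⁻¹ = b := by rw [hb', tt]
  rw [e1]
  rcases hA a ha b' hb'A with h | h
  · -- `a b' = b' a`, `a' b = b a'`
    have h' : a' * b = b * a' := by
      calc a' * b = t * (a * b') * t⁻¹ := by rw [← eb, ha']; group
        _ = t * (b' * a) * t⁻¹ := by rw [h]
        _ = (t * b' * t⁻¹) * (t * a * t⁻¹) := by group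
        _ = b * a' := by rw [eb, ← ha']
    calc a * b * (a' * b') = a * (b * a') * b' := by group
      _ = a * (a' * b) * b' := by rw [h']
      _ = (a * a') * (b * b') := by group
      _ = (a' * a) * (b' * b) := by rw [c1, c2]
      _ = a' * (a * b') * b := by group
      _ = a' * (b' * a) * b := by rw [h]
      _ = _ := by group
  · have h' : a' * b = z * (b * a') := by
      calc a' * b = t * (a * b') * t⁻¹ := by rw [← eb, ha']; group
        _ = t * (z * (b' * a)) * t⁻¹ := by rw [h]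
        _ = (t * z) * (b' * a) * t⁻¹ := by group
        _ = (z * t) * (b' * a) * t⁻¹ := by rw [hzt]
        _ = z * ((t * b' * t⁻¹) * (t * a * t⁻¹)) := by group
        _ = z * (b * a') := by rw [eb, ← ha']
    have h'' : b * a' = z * (a' * b) := by rw [h', ← mul_assoc z z, hz2, one_mul]
    have hza : z * a = a * z := (hzA a ha).symm
    have hza' : a' * z = z * a' := by
      calc a' * z = t * a * t⁻¹ * z := by rw [ha']
        _ = t * a * (t⁻¹ * z) := by group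
        _ = t * a * (z * t⁻¹) := by
          congr 1
          rw [inv_mul_eq_iff_eq_mul, ← mul_assoc, ← hzt, mul_inv_cancel_right]
        _ = t * (a * z) * t⁻¹ := by group
        _ = t * (z * a) * t⁻¹ := by rw [hza]
        _ = (t * z) * a * t⁻¹ := by group
        _ = (z * t) * a * t⁻¹ := by rw [hzt]
        _ = z * a' := by rw [ha']; group
    calc a * b * (a' * b') = a * (b * a') * b' := by group
      _ = a * (z * (a' * b)) * b' := by rw [h'']
      _ = (a * z) * (a' * (b * b')) := by group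
      _ = (z * a) * (a' * (b' * b)) := by rw [hza, c2]
      _ = z * (a * a') * (b' * b) := by group
      _ = z * (a' * a) * (b' * b) := by rw [c1]
      _ = z * a' * (a * b') * b := by group
      _ = z * a' * (z * (b' * a)) * b := by rw [h]
      _ = z * (a' * z) * (b' * a * b) := by group
      _ = z * (z * a') * (b' * a * b) := by rw [hza']
      _ = (z * z) * (a' * b' * (a * b)) := by group
      _ = _ := by rw [hz2, one_mul]

theorem Mem.comm_sgn (hK : Mem Om z K) (h : W4 Om) {a c : G} (ha : a ∈ K) (hc : c ∈ K) :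
    a * c = c * a ∨ a * c = z * (c * a) := by
  rcases hK.comm_or h hc ha with h1 | h1
  · left; rw [mul_inv_eq_iff_eq_mul] at h1; exact h1
  · right; rw [mul_inv_eq_iff_eq_mul, mul_assoc] at h1; exact h1

/-- the data of (3.3) for `(z, t)` -/
theorem side (h : W4 Om) (hz : InZ Om z) (ht : InZ Om t) (hzt : z * t = t * z)
    (hmv : ∀ K, Mem Om z K → cj t K ≠ K) : Side (RZ Om z) z t where
  z2 := hz.z2 h
  t2 := ht.z2 h
  zt := hzt
  hz := z_mem_RZ hz h
  zr r hr := RZ_le_centralizer h hr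
  rr r hr s hs := RZ_rr h hz hr hs
  tn r hr := RZ_conj_comm h hzt.symm hr
  ww w hw := RZ_ww h hz hw
  wt w hw := by
    have hz2 := hz.z2 h
    have ht2 := ht.z2 h
    obtain ⟨K, hK⟩ := hz
    obtain ⟨F, f, -, h1, h3⟩ := exists_frt h ht hzt hmv hK
    obtain ⟨k, hk, rfl⟩ := (mem_RZ f h).1 hw
    have htt : ∀ X : Subgroup G, cj t (cj t X) = X := fun X => by rw [← cj_mul, ht2, cj_one]
    have hc : ∀ {i j : Fin 4} {a b : G}, i ≠ j → a ∈ F i → b ∈ F j → a * b = b * a := fun hij ha hb =>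
      (f.mem _).comm (f.mem _) h (f.ne hij) ha hb
    have m0 : ∀ a ∈ F 0, t * a * t⁻¹ ∈ F 1 := fun a ha => by rw [h1]; exact conj_mem_cj ha
    have m1 : ∀ a ∈ F 1, t * a * t⁻¹ ∈ F 0 := fun a ha => by
      have := conj_mem_cj (g := t) ha
      rwa [h1, htt] at this
    have m2 : ∀ a ∈ F 2, t * a * t⁻¹ ∈ F 3 := fun a ha => by rw [h3]; exact conj_mem_cj ha
    have m3 : ∀ a ∈ F 3, t * a * t⁻¹ ∈ F 2 := fun a ha => by
      have := conj_mem_cj (g := t) ha
      rwa [h3, htt] at this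
    have p := half_comm hz2 ht2 hzt (A := F 0) (B := F 1) (fun a ha b hb => hc (by decide) ha hb) m0 m1
      (fun a ha c hc' => (f.mem 0).comm_sgn h ha hc') (fun a ha => (f.mem 0).comm_z h ha) (hk 0) (hk 1)
    have q := half_comm hz2 ht2 hzt (A := F 2) (B := F 3) (fun a ha b hb => hc (by decide) ha hb) m2 m3
      (fun a ha c hc' => (f.mem 2).comm_sgn h ha hc') (fun a ha => (f.mem 2).comm_z h ha) (hk 2) (hk 3)
    -- the halves commute
    have c0 : ∀ {a b c d : G}, a ∈ F 0 → b ∈ F 1 → c ∈ F 2 → d ∈ F 3 → a * b * (c * d) = c * d * (a * b) := by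
      intro a b c d ha hb hc' hd
      have c1 : b * c = c * b := hc (by decide) hb hc'
      have c2 : b * d = d * b := hc (by decide) hb hd
      have c3 : a * c = c * a := hc (by decide) ha hc'
      have c4 : a * d = d * a := hc (by decide) ha hd
      calc a * b * (c * d) = a * (b * c) * d := by group
        _ = (a * c) * (b * d) := by rw [c1]; group
        _ = (c * a) * (d * b) := by rw [c3, c2]
        _ = c * (a * d) * b := by group
        _ = _ := by rw [c4]; group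
    obtain ⟨A, hA⟩ : ∃ A, A = k 0 * k 1 := ⟨_, rfl⟩
    obtain ⟨C, hC⟩ : ∃ C, C = k 2 * k 3 := ⟨_, rfl⟩
    have eA : t * A * t⁻¹ = t * k 1 * t⁻¹ * (t * k 0 * t⁻¹) := by
      have : k 0 * k 1 = k 1 * k 0 := hc (by decide) (hk 0) (hk 1)
      rw [hA, this]; group
    have eC : t * C * t⁻¹ = t * k 3 * t⁻¹ * (t * k 2 * t⁻¹) := by
      have : k 2 * k 3 = k 3 * k 2 := hc (by decide) (hk 2) (hk 3)
      rw [hC, this]; group
    have e : k 0 * k 1 * k 2 * k 3 = A * C := by rw [hA, hC]; group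
    have r1 : A * (t * C * t⁻¹) = t * C * t⁻¹ * A := by
      rw [eC, hA]; exact c0 (hk 0) (hk 1) (m3 _ (hk 3)) (m2 _ (hk 2))
    have r2 : t * A * t⁻¹ * C = C * (t * A * t⁻¹) := by
      rw [eA, hC]; exact c0 (m1 _ (hk 1)) (m0 _ (hk 0)) (hk 2) (hk 3)
    have r3 : A * C = C * A := by rw [hA, hC]; exact c0 (hk 0) (hk 1) (hk 2) (hk 3)
    rw [← hA] at p
    rw [← hC] at q
    rw [e]
    have e2 : t * (A * C) * t⁻¹ = t * A * t⁻¹ * (t * C * t⁻¹) := by group
    rw [e2]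
    calc A * C * (t * A * t⁻¹ * (t * C * t⁻¹)) = A * (C * (t * A * t⁻¹)) * (t * C * t⁻¹) := by group
      _ = A * (t * A * t⁻¹ * C) * (t * C * t⁻¹) := by rw [r2]
      _ = (A * (t * A * t⁻¹)) * (C * (t * C * t⁻¹)) := by group
      _ = (t * A * t⁻¹ * A) * (t * C * t⁻¹ * C) := by rw [p, q]
      _ = t * A * t⁻¹ * (A * (t * C * t⁻¹)) * C := by group
      _ = t * A * t⁻¹ * (t * C * t⁻¹ * A) * C := by rw [r1]
      _ = _ := by group

/-- `|E| ≥ 32` -/
theorem card_EE (h : W4 Om) (hz : InZ Om z) (ht : InZ Om t) (hzt : z * t = t * z)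
    (hmv : ∀ K, Mem Om z K → cj t K ≠ K) : 32 ≤ Nat.card ↥(side h hz ht hzt hmv).EE := by
  obtain ⟨S, hS⟩ : ∃ S, S = side h hz ht hzt hmv := ⟨_, rfl⟩
  rw [← hS]
  obtain ⟨K, hK⟩ := hz
  have hz := hK.inZ
  obtain ⟨F, f, -, h1, h3⟩ := exists_frt h ht hzt hmv hK
  obtain ⟨x, hx⟩ := h.exists_q3 (f.mem 0)
  obtain ⟨y, hy⟩ := h.exists_q3 (f.mem 2)
  have hc : ∀ {i j : Fin 4} {a b : G}, i ≠ j → a ∈ F i → b ∈ F j → a * b = b * a := fun hij ha hb =>
    (f.mem _).comm (f.mem _) h (f.ne hij) ha hb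
  have m0 : ∀ a ∈ F 0, (t * a * t⁻¹)⁻¹ ∈ F 1 := fun a ha => inv_mem (by rw [h1]; exact conj_mem_cj ha)
  have m2 : ∀ a ∈ F 2, (t * a * t⁻¹)⁻¹ ∈ F 3 := fun a ha => inv_mem (by rw [h3]; exact conj_mem_cj ha)
  have ecm : ∀ a, cm t a = a * (t * a * t⁻¹)⁻¹ := fun a => by rw [cm]; group
  -- commutation of `a a'` with `m`
  have cc : ∀ {a a' m : G}, a * m = m * a → a' * m = m * a' → a * a' * m = m * (a * a') := by
    intro a a' m h4 h5
    rw [mul_assoc, h5, ← mul_assoc, h4, mul_assoc]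
  have nc : ∀ {a a' m : G}, a * m ≠ m * a → a' * m = m * a' → a * a' * m ≠ m * (a * a') := by
    intro a a' m h4 h5 h6
    apply h4
    rw [mul_assoc, h5, ← mul_assoc, ← mul_assoc] at h6
    exact mul_right_cancel h6
  have hx01 : x 0 * x 1 ≠ x 1 * x 0 := hx.not_comm
  have hy01 : y 0 * y 1 ≠ y 1 * y 0 := hy.not_comm
  have g1 : cm t (x 0) ∈ S.EE := S.cm_mem_EE ((f.mem 0).le_RZ (hx.mem 0))
  have g2 : cm t (x 1) ∈ S.EE := S.cm_mem_EE ((f.mem 0).le_RZ (hx.mem 1))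
  have g3 : cm t (y 0) ∈ S.EE := S.cm_mem_EE ((f.mem 2).le_RZ (hy.mem 0))
  have g4 : cm t (y 1) ∈ S.EE := S.cm_mem_EE ((f.mem 2).le_RZ (hy.mem 1))
  have n1 : cm t (x 0) * x 1 ≠ x 1 * cm t (x 0) := by
    rw [ecm]; exact nc hx01 (hc (by decide) (m0 _ (hx.mem 0)) (hx.mem 1))
  have c21 : cm t (x 1) * x 1 = x 1 * cm t (x 1) := by
    rw [ecm]; exact cc rfl (hc (by decide) (m0 _ (hx.mem 1)) (hx.mem 1))
  have n2 : cm t (x 1) * x 0 ≠ x 0 * cm t (x 1) := by
    rw [ecm]; exact nc hx01.symm (hc (by decide) (m0 _ (hx.mem 1)) (hx.mem 0))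
  have c3 : ∀ {i : Fin 3} {m : G}, m ∈ F 0 → cm t (y i) * m = m * cm t (y i) := by
    intro i m hm
    rw [ecm]; exact cc (hc (by decide) (hy.mem i) hm) (hc (by decide) (m2 _ (hy.mem i)) hm)
  have n3 : cm t (y 0) * y 1 ≠ y 1 * cm t (y 0) := by
    rw [ecm]; exact nc hy01 (hc (by decide) (m2 _ (hy.mem 0)) (hy.mem 1))
  have c43 : cm t (y 1) * y 1 = y 1 * cm t (y 1) := by
    rw [ecm]; exact cc rfl (hc (by decide) (m2 _ (hy.mem 1)) (hy.mem 1))
  have n4 : cm t (y 1) * y 0 ≠ y 0 * cm t (y 1) := by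
    rw [ecm]; exact nc hy01.symm (hc (by decide) (m2 _ (hy.mem 1)) (hy.mem 0))
  have mc : ∀ {g m : G}, g * m = m * g → g ∈ centralizer {m} := fun h5 => mem_centralizer_singleton_iff.2 h5
  have a1 := TSBase.two_mul_card S.EE g1 n1
  have a2 := TSBase.two_mul_card (S.EE ⊓ centralizer {x 1}) (m := x 0) (g := cm t (x 1)) ⟨g2, mc c21⟩ n2
  have a3 := TSBase.two_mul_card (S.EE ⊓ centralizer {x 1} ⊓ centralizer {x 0}) (m := y 1) (g := cm t (y 0))
    ⟨⟨g3, mc (c3 (hx.mem 1))⟩, mc (c3 (hx.mem 0))⟩ n3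
  have a4 := TSBase.two_mul_card (S.EE ⊓ centralizer {x 1} ⊓ centralizer {x 0} ⊓ centralizer {y 1}) (m := y 0)
    (g := cm t (y 1)) ⟨⟨⟨g4, mc (c3 (hx.mem 1))⟩, mc (c3 (hx.mem 0))⟩, mc c43⟩ n4
  have a5 : 2 ≤ Nat.card ↥(S.EE ⊓ centralizer {x 1} ⊓ centralizer {x 0} ⊓ centralizer {y 1} ⊓
      centralizer {y 0} : Subgroup G) := by
    have hmem : z ∈ (S.EE ⊓ centralizer {x 1} ⊓ centralizer {x 0} ⊓ centralizer {y 1} ⊓
        centralizer {y 0} : Subgroup G) :=
      ⟨⟨⟨⟨S.z_mem_EE, mc (hx.zc 1)⟩, mc (hx.zc 0)⟩, mc (hy.zc 1)⟩, mc (hy.zc 0)⟩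
    have : 1 < Nat.card ↥(S.EE ⊓ centralizer {x 1} ⊓ centralizer {x 0} ⊓ centralizer {y 1} ⊓
        centralizer {y 0} : Subgroup G) := by
      rw [Finite.one_lt_card_iff_nontrivial]
      exact ⟨⟨⟨z, hmem⟩, 1, fun h => hz.z1 ‹_› (by simpa only [_root_.Fin.isValue, _root_.OneMemClass.coe_one] using congrArg Subtype.val h)⟩⟩
    omega
  omega

/-- the elements of `C(t)` inner on `L` -/
def InL (t : G) (L : Subgroup G) (ht2 : t * t = 1) : Subgroup G where
  carrier := {g | g * t = t * g ∧ ∀ k ∈ L, g * k * g⁻¹ = k ∨ g * k * g⁻¹ = t * k}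
  one_mem' := ⟨by group, fun k _ => Or.inl (by group)⟩
  mul_mem' := by
    rintro a b ⟨ha, ha'⟩ ⟨hb, hb'⟩
    refine ⟨by rw [mul_assoc, hb, ← mul_assoc, ha, mul_assoc], fun k hk => ?_⟩
    have h1 : a * b * k * (a * b)⁻¹ = a * (b * k * b⁻¹) * a⁻¹ := by group
    have h2 : a * (t * k) * a⁻¹ = t * (a * k * a⁻¹) := by
      calc a * (t * k) * a⁻¹ = (a * t) * k * a⁻¹ := by group
        _ = (t * a) * k * a⁻¹ := by rw [ha]
        _ = _ := by group
    rw [h1]
    rcases hb' k hk with h3 | h3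
    · rw [h3]; exact ha' k hk
    · rw [h3, h2]
      rcases ha' k hk with h4 | h4
      · right; rw [h4]
      · left; rw [h4, ← mul_assoc, ht2, one_mul]
  inv_mem' := by
    rintro a ⟨ha, ha'⟩
    have hai : a⁻¹ * t = t * a⁻¹ := by
      rw [inv_mul_eq_iff_eq_mul, ← mul_assoc, ha, mul_inv_cancel_right]
    refine ⟨hai, fun k hk => ?_⟩
    rcases ha' k hk with h1 | h1
    · left
      conv_lhs => rw [← h1]
      group
    · right
      have h2 : k = t * (a * k * a⁻¹) := by rw [h1, ← mul_assoc, ht2, one_mul]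
      calc a⁻¹ * k * a⁻¹⁻¹ = a⁻¹ * (t * (a * k * a⁻¹)) * a⁻¹⁻¹ := by rw [← h2]
        _ = (a⁻¹ * t) * a * k := by group
        _ = _ := by rw [hai]; group

/-- two commuting involutions of `N(L)`, not inner on `L` -/
theorem two_inner {x : Fin 3 → G} (q : Q3 L t x) {u v : G} (hu2 : u * u = 1) (hv2 : v * v = 1)
    (hcomm : u * v = v * u) (hut : u * t = t * u) (hvt : v * t = t * v) (hu : cj u L = L) (hv : cj v L = L)
    (nu : ¬ ∀ k ∈ L, u * k * u⁻¹ = k ∨ u * k * u⁻¹ = t * k)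
    (nv : ¬ ∀ k ∈ L, v * k * v⁻¹ = k ∨ v * k * v⁻¹ = t * k) :
    ∀ k ∈ L, u * v * k * (u * v)⁻¹ = k ∨ u * v * k * (u * v)⁻¹ = t * k := by
  obtain ⟨σ, hσ⟩ := q.exists_act q hu hut
  obtain ⟨τ, hτ⟩ := q.exists_act q hv hvt
  have hσ2 : σ * σ = 1 := by
    have h3 := hσ.comp q.z2 hσ hut
    rw [hu2] at h3
    exact h3.unique q (Act.one x t)
  have hτ2 : τ * τ = 1 := by
    have h3 := hτ.comp q.z2 hτ hvt
    rw [hv2] at h3
    exact h3.unique q (Act.one x t)
  have h3 : Act t x x (u * v) (σ * τ) := hτ.comp q.z2 hσ hut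
  have h4 : Act t x x (v * u) (τ * σ) := hσ.comp q.z2 hτ hvt
  have hστ : σ * τ = τ * σ := by
    rw [← hcomm] at h4
    exact h3.unique q h4
  rcases TSBase.perm_comm σ τ hσ2 hτ2 hστ with h5 | h5 | h5
  · exact absurd ((h5 ▸ hσ : Act t x x u 1).inner q hut) nu
  · exact absurd ((h5 ▸ hτ : Act t x x v 1).inner q hvt) nv
  · refine (h5 ▸ h3 : Act t x x (u * v) 1).inner q ?_
    rw [mul_assoc, hvt, ← mul_assoc, hut, mul_assoc]

/-- `[b, z][a, z]⁻¹ ∈ ⟨t⟩` implies `b⁻¹ a ∈ ⟨t⟩` -/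
theorem cm_inj (h : W4 Om) (hL : Mem Om t L) (hzt : z * t = t * z) (hmv : cj z L ≠ L) {a b : G} (ha : a ∈ L)
    (hb : b ∈ L) (hab : cm z b * (cm z a)⁻¹ = 1 ∨ cm z b * (cm z a)⁻¹ = t) : b⁻¹ * a = 1 ∨ b⁻¹ * a = t := by
  have hc := mul_mem (inv_mem hb) ha
  have htm : t ∈ L := hL.zmem h
  have htt := hL.inZ.z2 h
  have hbt : b⁻¹ * t = t * b⁻¹ := hL.comm_z h (inv_mem hb)
  have e : z * (b⁻¹ * a) * z⁻¹ = b⁻¹ * (cm z b * (cm z a)⁻¹) * a := by rw [cm, cm]; group
  have h1 : z * (b⁻¹ * a) * z⁻¹ ∈ L := by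
    rw [e]
    rcases hab with h2 | h2 <;> rw [h2]
    · exact mul_mem (mul_mem (inv_mem hb) (one_mem _)) ha
    · exact mul_mem (mul_mem (inv_mem hb) htm) ha
  have h2 : z * (b⁻¹ * a) * z⁻¹ ∈ cj z L := conj_mem_cj hc
  rcases hL.inf (hL.cj_comm h hzt) h hmv.symm h1 h2 with h3 | h3
  · left
    calc b⁻¹ * a = z⁻¹ * (z * (b⁻¹ * a) * z⁻¹) * z := by group
      _ = 1 := by rw [h3]; group
  · right
    calc b⁻¹ * a = z⁻¹ * (z * (b⁻¹ * a) * z⁻¹) * z := by group
      _ = z⁻¹ * (t * z) := by rw [h3]; group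
      _ = z⁻¹ * (z * t) := by rw [hzt]
      _ = t := by group

theorem cm_mem_sup {a : G} (ha : a ∈ L) : cm z a ∈ L ⊔ cj z L := by
  have e : cm z a = a * (z * a * z⁻¹)⁻¹ := by rw [cm]; group
  rw [e]
  exact mul_mem (mem_sup_left ha) (inv_mem (mem_sup_right (conj_mem_cj ha)))

/-- **(3.3)** -/
theorem exc (h : W4 Om) : Exc Om := by
  intro z t hz ht hne hzt hn hmz hmt
  by_contra hno
  push Not at hno
  obtain ⟨S, hS⟩ : ∃ S, S = side h hz ht hzt hmz := ⟨_, rfl⟩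
  obtain ⟨S', hS'⟩ : ∃ S', S' = side h ht hz hzt.symm hmt := ⟨_, rfl⟩
  have cE : 32 ≤ Nat.card ↥S.EE := card_EE h hz ht hzt hmz
  obtain ⟨L, hL⟩ := ht
  have ht := hL.inZ
  have ht2 := ht.z2 h
  have hz2 := hz.z2 h
  have ht1 := ht.z1 h
  have htL : ∀ l ∈ L, l * t = t * l := fun l hl => hL.comm_z h hl
  have htm : t ∈ L := hL.zmem h
  obtain ⟨q, hq⟩ := h.exists_q3 hL
  -- (i)
  have hi : ∀ d, Cm (RZ Om z) t d → d ≠ 1 → ¬ ∀ k ∈ L, d * k * d⁻¹ = k ∨ d * k * d⁻¹ = t * k := by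
    rintro d ⟨w, hw, rfl⟩ hd1 hin
    refine hno w hw (TI.of_one h hL (ht.conj h w) (fun h1 => hd1 ?_) fun k hk => ?_)
    · rw [cm, ← h1, mul_inv_cancel]
    · have h2 : w * t * w⁻¹ * k * (w * t * w⁻¹)⁻¹ = cm t w * (t * k * t⁻¹) * (cm t w)⁻¹ := by rw [cm]; group
      have h3 : t * k * t⁻¹ = k := by rw [← htL k hk, mul_inv_cancel_right]
      rw [h2, h3]
      exact hin k hk
  -- a commutator among three elements
  have h3 : ∀ u v w, u ∈ S.EE → v ∈ S.EE → w ∈ S.EE → u ≠ 1 → v ≠ 1 → w ≠ 1 → u * v ≠ 1 → u * w ≠ 1 → v * w ≠ 1 →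
      u * v * w ≠ 1 → ∀ U : Subgroup G, u ∈ U → v ∈ U → w ∈ U →
        ∃ d ∈ U, Cm (RZ Om z) t d ∧ d ≠ 1 := by
    intro u v w hu hv hw n1 n2 n3 n4 n5 n6 n7 U h1 h2 h3
    rcases S.exists_cm hu hv hw with h4 | h4 | h4 | h4 | h4 | h4 | h4
    · exact ⟨_, h1, h4, n1⟩
    · exact ⟨_, h2, h4, n2⟩
    · exact ⟨_, h3, h4, n3⟩
    · exact ⟨_, mul_mem h1 h2, h4, n4⟩
    · exact ⟨_, mul_mem h1 h3, h4, n5⟩
    · exact ⟨_, mul_mem h2 h3, h4, n6⟩
    · exact ⟨_, mul_mem (mul_mem h1 h2) h3, h4, n7⟩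
  have h5 : ∀ U ≤ S.EE, 5 ≤ Nat.card ↥U → ∃ d ∈ U, Cm (RZ Om z) t d ∧ d ≠ 1 := by
    intro U hU hc
    obtain ⟨u, hu, v, hv, w, hw, n1, n2, n3, n4, n5, n6, n7⟩ := exists_three
      (fun u hu => S.EE_sq (hU hu)) hc
    exact h3 u v w (hU hu) (hU hv) (hU hw) n1 n2 n3 n4 n5 n6 n7 U hu hv hw
  -- the stabiliser
  obtain ⟨EL, hEL⟩ : ∃ EL, EL = S.EE ⊓ normalizer (L : Set G) := ⟨_, rfl⟩
  have hEL' : ∀ {e}, e ∈ EL ↔ e ∈ S.EE ∧ cj e L = L := by
    intro e
    rw [hEL, mem_inf, mem_normalizer_iff_cj]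
  obtain ⟨EP, hEP⟩ : ∃ EP, EP = EL ⊓ InL t L ht2 := ⟨_, rfl⟩
  have cP : Nat.card ↥EP ≤ 4 := by
    by_contra hc
    push Not at hc
    obtain ⟨d, hd, hd2, hd1⟩ := h5 EP (by rw [hEP]; exact fun e he => (hEL'.1 he.1).1) hc
    rw [hEP] at hd
    exact hi d hd2 hd1 hd.2.2
  have cL : Nat.card ↥EL ≤ 2 * Nat.card ↥EP := by
    classical
    have h6 := card_le_of_map EL EP (fun e => decide ((e : G) ∈ InL t L ht2)) (by
      intro e e' hee
      have he := hEL'.1 e.2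
      have he' := hEL'.1 e'.2
      have hm : (e : G)⁻¹ * (e' : G) ∈ EL := EL.mul_mem (EL.inv_mem e.2) e'.2
      rw [hEP]
      refine ⟨hm, ?_⟩
      by_cases h7 : (e : G) ∈ InL t L ht2
      · have h8 : (e' : G) ∈ InL t L ht2 := by
          simpa [h7] using hee
        exact (InL t L ht2).mul_mem ((InL t L ht2).inv_mem h7) h8
      · have h8 : (e' : G) ∉ InL t L ht2 := by
          simpa [h7] using hee
        rw [S.EE_inv he.1]
        have t1 := S.EE_t he.1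
        have t2 := S.EE_t he'.1
        refine ⟨by rw [mul_assoc, t2, ← mul_assoc, t1, mul_assoc], ?_⟩
        exact two_inner hq (S.EE_sq he.1) (S.EE_sq he'.1) (S.EE_comm he.1 he'.1) t1 t2 he.2 he'.2
          (fun h9 => h7 ⟨t1, h9⟩) (fun h9 => h8 ⟨t2, h9⟩))
    rwa [Nat.card_eq_fintype_card (α := Bool), Fintype.card_bool] at h6
  -- a frame over `t`
  obtain ⟨F, f, f0, f1, f3⟩ := exists_frt h hz hzt.symm hmt hL
  have hzz : ∀ X : Subgroup G, cj z (cj z X) = X := fun X => by rw [← cj_mul, hz2, cj_one]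
  -- `x`
  obtain ⟨x, hxE, hx1, hx2⟩ : ∃ x ∈ S.EE, cj x L ≠ L ∧ cj x L ≠ cj z L := by
    by_contra hcon
    push Not at hcon
    classical
    have h6 := card_le_of_map S.EE EL (fun e => decide (cj (e : G) L = L)) (by
      intro e e' hee
      rw [hEL']
      refine ⟨mul_mem (inv_mem e.2) e'.2, ?_⟩
      have h7 : cj (e : G) L = cj (e' : G) L := by
        by_cases h8 : cj (e : G) L = L
        · have h9 : cj (e' : G) L = L := by simpa [h8] using hee
          rw [h8, h9]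
        · have h9 : cj (e' : G) L ≠ L := by simpa [h8] using hee
          rw [hcon _ e.2 h8, hcon _ e'.2 h9]
      rw [cj_mul, ← h7, cj_inv_cj])
    rw [Nat.card_eq_fintype_card (α := Bool), Fintype.card_bool] at h6
    omega
  -- `g`
  obtain ⟨g, hgE, hgL, hg1, hg2⟩ : ∃ g ∈ S.EE, cj g L = L ∧ Cm (RZ Om z) t g ∧ g ≠ 1 := by
    have h6 : ∀ e : ↥S.EE, ∃ i, F i = cj (e : G) L := fun e => f.cov _ (hL.cj_comm h (S.EE_t e.2))
    choose φ hφ using h6
    have h7 := card_le_of_map S.EE EL φ (by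
      intro e e' hee
      rw [hEL']
      refine ⟨mul_mem (inv_mem e.2) e'.2, ?_⟩
      rw [cj_mul, ← hφ, ← hee, hφ, cj_inv_cj])
    rw [Nat.card_eq_fintype_card (α := Fin 4), Fintype.card_fin] at h7
    obtain ⟨d, hd, hd2, hd1⟩ := h5 EL (fun e he => (hEL'.1 he).1) (by omega)
    exact ⟨d, (hEL'.1 hd).1, (hEL'.1 hd).2, hd2, hd1⟩
  obtain ⟨l, hl, hl1, hl2⟩ : ∃ l ∈ L, g * l * g⁻¹ ≠ l ∧ g * l * g⁻¹ ≠ t * l := by
    have h6 := hi g hg1 hg2
    push Not at h6
    exact h6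
  have hLR : ∀ a ∈ L, a ∈ RZ Om t := fun a ha => hL.le_RZ ha
  have hf : ∀ a ∈ L, cm z a ∈ S'.EE := fun a ha => S'.cm_mem_EE (hLR a ha)
  have hgz := S.EE_z hgE
  have hxz := S.EE_z hxE
  have hxt := S.EE_t hxE
  -- `I`
  have hEI : ∀ {e y : G}, e ∈ S.EE → y ∈ S'.EE → e * y * e⁻¹ * y⁻¹ ∈ S.EE ∧ e * y * e⁻¹ * y⁻¹ ∈ S'.EE := by
    intro e y he hy
    have hyz := S'.EE_t hy
    have hyt := S'.EE_z hy
    constructor
    · have h6 := S.EE_conj hyz hyt (fun r hr => RZ_conj_comm h hyz hr) (inv_mem he)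
      have h7 : e * y * e⁻¹ * y⁻¹ = e * (y * e⁻¹ * y⁻¹) := by group
      rw [h7]
      exact mul_mem he h6
    · have h6 := S'.EE_conj (S.EE_t he) (S.EE_z he) (fun r hr => RZ_conj_comm h (S.EE_t he) hr) hy
      exact mul_mem h6 (inv_mem hy)
  -- `w`
  obtain ⟨w, hw⟩ : ∃ w, w = g * cm z l * g⁻¹ * (cm z l)⁻¹ := ⟨_, rfl⟩
  have hwI := hEI hgE (hf l hl)
  rw [← hw] at hwI
  have hgl : g * l * g⁻¹ ∈ L := by
    have := conj_mem_cj (g := g) hl
    rwa [hgL] at this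
  have ew : w = cm z (g * l * g⁻¹) * (cm z l)⁻¹ := by
    have h6 : g * cm z l * g⁻¹ = g * l * g⁻¹ * (g * z * g⁻¹) * (g * l * g⁻¹)⁻¹ * (g * z * g⁻¹)⁻¹ := by
      rw [cm]; group
    rw [hw, h6, hgz, mul_inv_cancel_right]
    rfl
  have hwM : w ∈ L ⊔ cj z L := by
    rw [ew]
    exact mul_mem (cm_mem_sup hgl) (inv_mem (cm_mem_sup hl))
  have hw1 : w ≠ 1 := by
    intro h6
    rw [ew] at h6
    rcases cm_inj h hL hzt (hmt L hL) hl hgl (Or.inl h6) with h7 | h7
    · exact hl1 (inv_mul_eq_one.1 h7)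
    · apply hl2
      rw [inv_mul_eq_iff_eq_mul] at h7
      calc g * l * g⁻¹ = g * l * g⁻¹ * (t * t) := by rw [ht2, mul_one]
        _ = (g * l * g⁻¹ * t) * t := by group
        _ = l * t := by rw [← h7]
        _ = t * l := htL l hl
  have hww := S'.EE_sq hwI.2
  -- intersection
  have hMM : ∀ y, y ∈ L ⊔ cj z L → y ∈ cj x L ⊔ cj z (cj x L) → y = 1 ∨ y = t := by
    intro y hy hy'
    have hy0 : y ∈ F 0 ⊔ F 1 := by rw [f1, f0]; exact hy
    have hy2 : y ∈ F 2 ⊔ F 3 := by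
      obtain ⟨j, hj⟩ := f.cov _ (hL.cj_comm h hxt)
      have hdec : ∀ j : Fin 4, j = 0 ∨ j = 1 ∨ j = 2 ∨ j = 3 := by decide
      rcases hdec j with rfl | rfl | rfl | rfl
      · exact absurd (hj.symm.trans f0) hx1
      · exact absurd (hj.symm.trans (by rw [f1, f0])) hx2
      · rw [← hj, ← f3] at hy'
        exact hy'
      · rw [← hj, f3, hzz, sup_comm, ← f3] at hy'
        exact hy'
    have hc : ∀ {i j : Fin 4} {a b : G}, i ≠ j → a ∈ F i → b ∈ F j → a * b = b * a := fun hij ha hb =>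
      (f.mem _).comm (f.mem _) h (f.ne hij) ha hb
    have key : ∀ i j k : Fin 4, i ≠ j → i ≠ k → ∀ y ∈ F j ⊔ F k, As (F i) y 1 := by
      intro i j k hij hik y hy
      rw [As.one_iff]
      intro a ha
      have h6 : F j ⊔ F k ≤ centralizer {a} := by
        refine sup_le ?_ ?_
        · intro b hb
          exact mem_centralizer_singleton_iff.2 (hc (Ne.symm hij) hb ha)
        · intro b hb
          exact mem_centralizer_singleton_iff.2 (hc (Ne.symm hik) hb ha)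
      exact mem_centralizer_singleton_iff.1 (h6 hy)
    refine RZ_center h ht ?_ ?_
    · have h6 : L ⊔ cj z L ≤ RZ Om t := sup_le hL.le_RZ (hL.cj_comm h hzt).le_RZ
      exact h6 hy
    · intro M hM
      obtain ⟨i, rfl⟩ := f.cov M hM
      have hdec : ∀ j : Fin 4, j = 0 ∨ j = 1 ∨ j = 2 ∨ j = 3 := by decide
      rcases hdec i with rfl | rfl | rfl | rfl
      · exact key 0 2 3 (by decide) (by decide) y hy2
      · exact key 1 2 3 (by decide) (by decide) y hy2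
      · exact key 2 0 1 (by decide) (by decide) y hy0
      · exact key 3 0 1 (by decide) (by decide) y hy0
  have hxM : ∀ y, y ∈ L ⊔ cj z L → x * y * x⁻¹ ∈ cj x L ⊔ cj z (cj x L) := by
    intro y hy
    have h6 := conj_mem_cj (g := x) hy
    rw [cj_sup, ← cj_mul, hxz, cj_mul] at h6
    exact h6
  have hxi : ∀ y, x * y * x⁻¹ = 1 ∨ x * y * x⁻¹ = t → y = 1 ∨ y = t := by
    intro y hy
    have e : y = x⁻¹ * (x * y * x⁻¹) * x := by group
    rcases hy with h6 | h6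
    · left; rw [e, h6]; group
    · right; rw [e, h6, mul_assoc, ← hxt, inv_mul_cancel_left]
  -- (A) and (B)
  have hA : ∀ y, y ∈ L ⊔ cj z L → x * y * x⁻¹ * y⁻¹ = 1 → y = 1 ∨ y = t := by
    intro y hy h6
    refine hMM y hy ?_
    have h7 := hxM y hy
    rwa [mul_inv_eq_one.1 h6] at h7
  have hB : ∀ y, y ∈ L ⊔ cj z L → x * y * x⁻¹ * y⁻¹ * w ≠ 1 := by
    intro y hy h6
    have h7 : x * y * x⁻¹ * y⁻¹ = w := by
      rw [eq_inv_of_mul_eq_one_left h6]
      exact inv_eq_of_mul_eq_one_right hww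
    have h8 : x * y * x⁻¹ = w * y := by
      rw [← h7]; group
    have h9 := hMM (x * y * x⁻¹) (by rw [h8]; exact mul_mem hwM hy) (hxM y hy)
    apply hw1
    rw [← h7]
    rcases hxi y h9 with h10 | h10
    · rw [h10]; group
    · rw [h10, hxt]; group
  have hq01 : q 0 * q 1 ≠ q 1 * q 0 := hq.not_comm
  obtain ⟨a, ha⟩ : ∃ a, a = q 0 := ⟨_, rfl⟩
  obtain ⟨b, hb⟩ : ∃ b, b = q 1 := ⟨_, rfl⟩
  have haL : a ∈ L := ha ▸ hq.mem 0
  have hbL : b ∈ L := hb ▸ hq.mem 1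
  have hab : a * b ≠ b * a := by rw [ha, hb]; exact hq01
  have n1 : ∀ {c}, c ∈ L → c ≠ 1 → c ≠ t → ¬ (cm z c = 1 ∨ cm z c = t) := by
    intro c hc hc1 hct h6
    have e1 : cm z (1 : G) = 1 := by rw [cm]; group
    have h7 := cm_inj h hL hzt (hmt L hL) (one_mem L) hc (by rw [e1, inv_one, mul_one]; exact h6)
    rw [mul_one] at h7
    rcases h7 with h7 | h7
    · exact hc1 (inv_eq_one.1 h7)
    · apply hct
      rw [← inv_inv c, h7]
      exact inv_eq_of_mul_eq_one_right ht2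
  have hat : ∀ {c : G}, c = 1 ∨ c = t → ∀ d ∈ L, c * d = d * c := by
    rintro c (rfl | rfl) d hd
    · rw [one_mul, mul_one]
    · exact (htL d hd).symm
  have na : ¬ (cm z a = 1 ∨ cm z a = t) := n1 haL (fun h6 => hab (hat (Or.inl h6) b hbL))
    (fun h6 => hab (hat (Or.inr h6) b hbL))
  have nb : ¬ (cm z b = 1 ∨ cm z b = t) := n1 hbL (fun h6 => hab (hat (Or.inl h6) a haL).symm)
    (fun h6 => hab (hat (Or.inr h6) a haL).symm)
  have nab : ¬ (cm z a * cm z b = 1 ∨ cm z a * cm z b = t) := by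
    intro h6
    have h7 : (cm z b)⁻¹ = cm z b := S'.EE_inv (hf b hbL)
    rw [← h7] at h6
    rcases cm_inj h hL hzt (hmt L hL) hbL haL h6 with h8 | h8
    · rw [inv_mul_eq_one] at h8
      rw [h8] at hab
      exact hab rfl
    · rw [inv_mul_eq_iff_eq_mul] at h8
      apply hab
      rw [h8, mul_assoc a t a, ← htL a haL]
  obtain ⟨c, hc⟩ : ∃ c : G → G, c = fun y => x * y * x⁻¹ * y⁻¹ := ⟨_, rfl⟩
  have hcI : ∀ y ∈ S'.EE, c y ∈ S.EE ∧ c y ∈ S'.EE := by
    intro y hy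
    rw [hc]
    exact hEI hxE hy
  have hcm : c (cm z a) * c (cm z b) = c (cm z a * cm z b) := by
    rw [hc]
    have h6 := hf a haL
    have h7 := hf b hbL
    have h8 := S'.EE_conj (S.EE_t hxE) (S.EE_z hxE) (fun r hr => RZ_conj_comm h (S.EE_t hxE) hr) h7
    have h9 : (cm z a)⁻¹ * (x * cm z b * x⁻¹) = x * cm z b * x⁻¹ * (cm z a)⁻¹ := S'.EE_comm (inv_mem h6) h8
    have h10 : (cm z a)⁻¹ * (cm z b)⁻¹ = (cm z b)⁻¹ * (cm z a)⁻¹ := S'.EE_comm (inv_mem h6) (inv_mem h7)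
    show x * cm z a * x⁻¹ * (cm z a)⁻¹ * (x * cm z b * x⁻¹ * (cm z b)⁻¹) = _
    calc x * cm z a * x⁻¹ * (cm z a)⁻¹ * (x * cm z b * x⁻¹ * (cm z b)⁻¹)
        = x * cm z a * x⁻¹ * ((cm z a)⁻¹ * (x * cm z b * x⁻¹)) * (cm z b)⁻¹ := by group
      _ = x * cm z a * x⁻¹ * (x * cm z b * x⁻¹ * (cm z a)⁻¹) * (cm z b)⁻¹ := by rw [h9]
      _ = x * (cm z a * cm z b) * x⁻¹ * ((cm z a)⁻¹ * (cm z b)⁻¹) := by group
      _ = _ := by rw [h10]; group
  have hya := cm_mem_sup (z := z) haL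
  have hyb := cm_mem_sup (z := z) hbL
  have hyab := mul_mem hya hyb
  have hc' : ∀ y, c y = x * y * x⁻¹ * y⁻¹ := fun y => by rw [hc]
  obtain ⟨d, hdU, hdC, hd1⟩ := h3 (c (cm z a)) (c (cm z b)) w (hcI _ (hf a haL)).1 (hcI _ (hf b hbL)).1 hwI.1
    (fun h6 => na (hA _ hya (by rw [← hc']; exact h6)))
    (fun h6 => nb (hA _ hyb (by rw [← hc']; exact h6))) hw1
    (fun h6 => nab (hA _ hyab (by rw [← hc', ← hcm]; exact h6)))
    (fun h6 => hB _ hya (by rw [← hc']; exact h6))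
    (fun h6 => hB _ hyb (by rw [← hc']; exact h6))
    (fun h6 => hB _ hyab (by rw [← hc', ← hcm]; exact h6))
    S'.EE (hcI _ (hf a haL)).2 (hcI _ (hf b hbL)).2 hwI.2
  exact hi d hdC hd1 ((Inn.of_RZ ht h (S'.EE_le hdU)) L hL)

end Cfsg.Agent.Cit.Nil.RFour
end

private theorem dce_d101275b98d8 : _root_.True := by
  try have : _root_.True := by simp only [_root_.Cfsg.Agent.Cit.Nil.RFour.InL.congr_simp]
  try have : _root_.True := by simp only [_root_.Cfsg.Agent.Cit.Nil.RFour.ExcBase.cm.eq_1]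
  try have : _root_.True := by simp only [_root_.Cfsg.Agent.Cit.Nil.RFour.N0.eq_1]
  try have : _root_.True := by simp only [_root_.Cfsg.Agent.Cit.Nil.RFour.ExcBase.Side.EE.congr_simp]
  exact _root_.True.intro
end

-- part: Cit/Nil/RTwo/ElevenA
section
set_option linter.all false
open scoped Cfsg.Agent.FastGrp

/-!
# Section 11 of the blueprint: the members do not lie in `L = F*(G)`

* `Rot Om` : elementwise (C3);
* `EL Om L` : the world: `K ∩ L = ⟨z⟩` for the members `K`;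
* `EL.not_ti` : a type I pair `(z, z ^ g)`, `g ∈ L`, is impossible;
* `EL.exists_pair` : there are commuting `z ≠ t` in `Z`;
* `EL.not_se` (11.3) : `L` has no strongly embedded subgroup.

uses: `W2`, `EL`.
-/

set_option autoImplicit false
set_option linter.style.haveILetI false
set_option linter.unusedSectionVars false

namespace Cfsg.Agent.Cit.Nil.RTwo

open Subgroup Cfsg Cit

variable {G : Type*} [Group G]

/-- elementwise (C3) -/
def Rot (Om : Set (Subgroup G)) : Prop :=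
  ∀ K ∈ Om, ∃ c ∈ normalizer (K : Set G), IsPGroup 3 (zpowers c) ∧ ∃ q ∈ K, c * q ≠ q * c

/-- the world: `L = F*(G)`, `K ∩ L = ⟨z⟩` -/
structure EL [Finite G] (Om : Set (Subgroup G)) (L : Subgroup G) : Prop where
  w : W2 Om
  f : Nil.ROne.FSimp L
  /-- S1169 -/
  gold : Cit.ROne.Gold ↥L
  mem : ∀ z, InZ Om z → z ∈ L
  small : ∀ z K, Mem Om z K → ∀ k ∈ K, k ∈ L → k = 1 ∨ k = z
  rot : Rot Om
  ne : Om.Nonempty

section

variable [Finite G] {Om : Set (Subgroup G)} {z t s g : G} {K L S K1 K2 L1 L2 : Subgroup G} {a b p q : Fin 3 → G}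

/-- an element of 3-power order acting non-trivially rotates the axes -/
theorem exists_rot {c : G} {x : Fin 3 → G} (Q : Q3 K z x) (hcz : c * z = z * c) (hcK : cj c K = K)
    (h3 : IsPGroup 3 (zpowers c)) (hq : ∃ q ∈ K, c * q ≠ q * c) :
    ∃ σ, Act z x x c σ ∧ (∀ i, σ i ≠ i) := by
  obtain ⟨σ, hσ⟩ := Q.exists_act Q hcK hcz
  refine ⟨σ, hσ, ?_⟩
  obtain ⟨n, hn⟩ := h3 ⟨c, mem_zpowers c⟩
  have hn' : c ^ 3 ^ n = 1 := congrArg Subtype.val hn
  have hpow : ∀ m : ℕ, Act z x x (c ^ m) (σ ^ m) := by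
    intro m
    induction m with
    | zero => rw [pow_zero, pow_zero]; exact Act.one x z
    | succ m ih =>
      have h1 := ih.comp Q.z2 hσ hcz
      rw [pow_succ' c, pow_succ' σ]
      exact h1
  have h1 := hpow (3 ^ n)
  rw [hn'] at h1
  have h2 : σ ^ 3 ^ n = 1 := h1.unique Q (Act.one x z)
  have h3' : σ ^ 3 = 1 ∨ σ ^ 2 = 1 := by
    have key : ∀ σ : Equiv.Perm (Fin 3), σ ^ 3 = 1 ∨ σ ^ 2 = 1 := by decide
    exact key σ
  obtain ⟨k, hk⟩ : ∃ k, 3 ^ n = 2 * k + 1 := (show Odd (3 ^ n) from Odd.pow (by decide))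
  have hσ1 : σ ≠ 1 := by
    rintro rfl
    obtain ⟨q, hq, hne⟩ := hq
    apply hne
    -- `c ^ 2` centralises `K`
    have hin := hσ.inner Q hcz
    have e2 : c * c * q = q * (c * c) := by
      rcases hin q hq with e | e
      · rw [mul_inv_eq_iff_eq_mul] at e
        rw [mul_assoc, e, ← mul_assoc, e, mul_assoc]
      · rw [mul_inv_eq_iff_eq_mul] at e
        calc c * c * q = c * (c * q) := by group
          _ = c * (z * q * c) := by rw [e]
          _ = (c * z) * q * c := by group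
          _ = z * (c * q) * c := by rw [hcz]; group
          _ = z * (z * q * c) * c := by rw [e]
          _ = (z * z) * (q * (c * c)) := by group
          _ = _ := by rw [Q.z2, one_mul]
    -- `c` is a power of `c ^ 2`
    have e3 : c * (c * c) ^ k = 1 := by
      rw [← pow_two, ← pow_mul, ← pow_succ', ← hk, hn']
    have e4 : Commute ((c * c) ^ k) q := (show Commute (c * c) q from e2).pow_left k
    have e5 : c = ((c * c) ^ k)⁻¹ := eq_inv_of_mul_eq_one_left e3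
    rw [e5]
    exact e4.inv_left.eq
  have hσ3 : σ ^ 3 = 1 := by
    rcases h3' with h3' | h3'
    · exact h3'
    · exfalso
      apply hσ1
      rw [hk, pow_succ, pow_mul, h3', one_pow, one_mul] at h2
      exact h2
  have key : ∀ σ : Equiv.Perm (Fin 3), σ ≠ 1 → σ ^ 3 = 1 → ∀ i, σ i ≠ i := by decide
  exact key σ hσ1 hσ3

namespace EL

variable (E : EL Om L)

include E

theorem cen {x : G} (h1 : ∀ l ∈ L, x * l = l * x) : x = 1 := by
  have h2 : x ∈ centralizer (L : Set G) := mem_centralizer_iff.2 fun l hl => (h1 l hl).symm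
  rwa [E.f.cen, mem_bot] at h2

theorem syl (S : Sylow 2 G) : Syl ((S : Subgroup G) ⊓ L) L := by
  have h1 : Syl (S : Subgroup G) ⊤ := ⟨le_top, S.isPGroup', by rw [relIndex_top_right]; exact S.not_dvd_index⟩
  exact LB.syl_inf_normal h1 le_top (by rw [normalizer_eq_top_iff.2 E.f.nor])

theorem small4 (hK : Mem Om z K) {x : Fin 3 → G} (Q : Q3 K z x) (i : Fin 3) : x i ∉ L := by
  intro h1
  rcases E.small z K hK _ (Q.mem i) h1 with h2 | h2
  · exact Q.ne_one i h2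
  · exact Q.ne_z i h2

/-- a type I pair `(z, z ^ g)`, `g ∈ L` -/
theorem not_ti (hti : TI Om z s) (hg : g ∈ L) (hgs : g * z * g⁻¹ = s) : False := by
  have h := E.w
  have hn := E.f.nor
  have key : ∀ K1 K2 L1 L2 a b p q, Cf Om z s K1 K2 L1 L2 a b p q → cj g K1 = L1 → False := by
    intro K1 K2 L1 L2 a b p q C hL1
    obtain ⟨k, hk, hkp⟩ : ∃ k ∈ K1, g * k * g⁻¹ = p 0 := by
      have h1 := C.qc.mem 0
      rw [← hL1] at h1
      obtain ⟨k, hk, hk2⟩ := h1
      exact ⟨k, hk, hk2⟩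
    have hzL := E.mem z hti.1
    -- `p 0 = l k`
    obtain ⟨l, hl, hlp⟩ : ∃ l ∈ L, p 0 = l * k := by
      refine ⟨g * k * g⁻¹ * k⁻¹, ?_, by rw [hkp]; group⟩
      have h1 := L.mul_mem hg (hn.conj_mem _ (L.inv_mem hg) k)
      have h2 : g * (k * g⁻¹ * k⁻¹) = g * k * g⁻¹ * k⁻¹ := by group
      rwa [h2] at h1
    have hcomm : a 1 * k * (a 1)⁻¹ * k⁻¹ ∈ L := by
      rcases Inn.of_mem C.k1 h (C.qa.mem 1) K1 C.k1 k hk with h1 | h1
      · rw [h1, mul_inv_cancel]; exact L.one_mem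
      · rw [h1, mul_inv_cancel_right]; exact hzL
    have h3 : a 1 * p 0 * (a 1)⁻¹ * (p 0)⁻¹ ∈ L := by
      have e : a 1 * p 0 * (a 1)⁻¹ * (p 0)⁻¹ = (a 1 * l * (a 1)⁻¹) * (a 1 * k * (a 1)⁻¹ * k⁻¹) * l⁻¹ := by
        rw [hlp]; group
      rw [e]
      exact L.mul_mem (L.mul_mem (hn.conj_mem _ hl _) hcomm) (L.inv_mem hl)
    have h4 : a 0 ∈ L := by
      rcases C.conj_ac h with h5 | h5 <;> rw [h5] at h3
      · rwa [mul_inv_cancel_right] at h3
      · have h6 := L.mul_mem hzL h3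
        have h7 : z * (z * (a 0 * p 0) * (p 0)⁻¹) = (z * z) * a 0 := by group
        rwa [h7, C.z2, one_mul] at h6
    exact E.small4 C.k1 C.qa 0 h4
  obtain ⟨K1, K2, L1, L2, a, b, p, q, C⟩ := hti.exists_cf h
  have h1 : Mem Om s (cj g K1) := by
    have h2 := C.k1.cj h g
    rwa [hgs] at h2
  rcases C.l1.cases C.l2 h C.lne h1 with h2 | h2
  · exact key _ _ _ _ _ _ _ _ C h2
  · exact key _ _ _ _ _ _ _ _ C.swl h2

/-- there are commuting `z ≠ t` in `Z` -/
theorem exists_pair : ∃ z t, InZ Om z ∧ InZ Om t ∧ z ≠ t ∧ z * t = t * z := by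
  haveI : Fact (Nat.Prime 2) := ⟨Nat.prime_two⟩
  have h := E.w
  by_contra hno
  push Not at hno
  obtain ⟨P⟩ := (inferInstance : Nonempty (Sylow 2 G))
  obtain ⟨z, hz, hzP⟩ := h.exists_central E.ne P
  have hz' : z ∈ (P : Subgroup G) := by
    have h1 : IsPGroup 2 ((P : Subgroup G) ⊔ zpowers z : Subgroup G) := by
      refine Cit.OneBasic.isPGroup_sup_of_normalizes P.isPGroup' (hz.isPGroup h) ?_
      intro s hs
      rw [mem_normalizer_iff_cj]
      have h2 : s * z * s⁻¹ = z := by rw [hzP s hs, mul_inv_cancel_right]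
      show (zpowers z).map (MulAut.conj s).toMonoidHom = _
      rw [MonoidHom.map_zpowers]
      show zpowers (s * z * s⁻¹) = _
      rw [h2]
    have h3 := P.is_maximal' h1 le_sup_left
    rw [← h3]
    exact mem_sup_right (mem_zpowers z)
  obtain ⟨N, hN, hNo, hNc⟩ := S0215.result P z (hz.orderOf h) hz' (by
    intro g hg
    by_contra hne
    exact hno z _ hz (hz.conj h g) (Ne.symm hne) (hzP _ hg).symm)
  have hM : N = ⊥ := by
    by_contra hne
    have h1 : L ≤ N := E.f.le (fun g _ n hn => hN.conj_mem n hn g) hne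
    have h2 : z ∈ N := h1 (E.mem z hz)
    have h3 : orderOf z ∣ Nat.card N := by
      rw [← Nat.card_zpowers]
      exact card_dvd_of_le (zpowers_le.2 h2)
    rw [hz.orderOf h] at h3
    rw [Nat.odd_iff] at hNo
    omega
  refine hz.z1 h (E.cen fun l _ => ?_)
  have h2 := hNc l
  rw [hM, mem_bot, mul_inv_eq_one, mul_inv_eq_iff_eq_mul] at h2
  exact h2

/-- (11.3) -/
theorem not_se (H : Subgroup L) : ¬ Cfsg.IsStronglyEmbedded H := by
  intro hH
  have h := E.w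
  have hn := E.f.nor
  have one : ∀ a b, a ∈ L → b ∈ L → orderOf a = 2 → orderOf b = 2 → ∃ g ∈ L, g * a * g⁻¹ = b := by
    intro a b ha hb ha2 hb2
    have h1 := TwoFusion.StronglyEmbeddedBasic.isConj_of_involutions hH (⟨a, ha⟩ : L) ⟨b, hb⟩
      (by rw [← orderOf_coe]; exact ha2) (by rw [← orderOf_coe]; exact hb2)
    obtain ⟨c, hc⟩ := isConj_iff.1 h1
    exact ⟨c, c.2, congrArg Subtype.val hc⟩
  have noti : ∀ z s, TI Om z s → False := by
    intro z s hti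
    obtain ⟨g, hg, hgs⟩ := one z s (E.mem z hti.1) (E.mem s hti.2.1) (hti.1.orderOf h) (hti.2.1.orderOf h)
    exact E.not_ti hti hg hgs
  obtain ⟨z, t, hz, ht, hne, hc⟩ := E.exists_pair
  have htL := E.mem t ht
  rcases tcases h hz ht hne hc with h1 | h1 | h1
  · obtain ⟨K, x, P⟩ := h1.exists_hp h
    have he : ee z t x 0 ∈ L := by
      have e : ee z t x 0 = z * (x 0 * x 0) * ((x 0)⁻¹ * t * (x 0)⁻¹⁻¹) * t⁻¹ := by
        rw [ee]; group
      rw [e, P.q.sq, P.q.z2, one_mul]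
      exact L.mul_mem (hn.conj_mem _ htL _) (L.inv_mem htL)
    obtain ⟨g, hg, hge⟩ := one z _ (E.mem z hz) he (hz.orderOf h)
      (orderOf_eq_prime (by rw [pow_two]; exact P.e_sq h 0) (P.e_ne_one h 0))
    have h2 : InZ Om (ee z t x 0) := by rw [← hge]; exact hz.conj h g
    exact noti z _ ⟨hz, h2, (P.e_ne_z h 0).symm, (RZ_le_centralizer h (P.e_mem h 0)).symm,
      Inn.of_RZ hz h (P.e_mem h 0)⟩
  · obtain ⟨K, hK⟩ := hz
    obtain ⟨x, Q, h2, -, -⟩ := h1.coord h hK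
    have h3 : (x 0)⁻¹ * x 1 ∈ L := by
      have e : (x 0)⁻¹ * x 1 = ((x 0)⁻¹ * t * (x 0)⁻¹⁻¹) * t⁻¹ := by
        rw [← h2]; group
      rw [e]
      exact L.mul_mem (hn.conj_mem _ htL _) (L.inv_mem htL)
    rw [Q.inv, mul_assoc, show x 0 * x 1 = x 2 from Q.mul 0] at h3
    have h4 := L.mul_mem (E.mem z hK.inZ) h3
    rw [Q.zzx] at h4
    exact E.small4 hK Q 2 h4
  · exact noti z t h1

end EL

end

end Cfsg.Agent.Cit.Nil.RTwo
end

-- part: Cit/Nil/RTwo/ElevenA_mg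
section

end

-- part: Cit/Nil/RTwo/ElevenB
section
prune_inst 0x301065044c22000000180000200020603000000200400001014004000008004120040801306026101130a470200a8060111800494038000020008a0040040401040232c29048100001000040e803180c00000000000000000000000000000000200000000
set_option linter.all false
open scoped Cfsg.Agent.FastGrp

/-!
# Section 11 of the blueprint: the Sylow 2-subgroups of `L` are not abelian; `SCe`

* `EL.not_ab` (11.4);
* `EL.closed` : no abelian strongly closed subgroup `≠ 1` in `L`;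
* `EL.sce` : `SCe Om`.
-/

set_option autoImplicit false
set_option linter.style.haveILetI false
set_option linter.unusedSectionVars false
set_option maxHeartbeats 400000

namespace Cfsg.Agent.Cit.Nil.RTwo

open Subgroup Cfsg Cit

variable {G : Type*} [Group G] [Finite G] {Om : Set (Subgroup G)} {z t s g : G} {K L K1 : Subgroup G} {x : Fin 3 → G}

namespace EL

variable (E : EL Om L)

include E

theorem perfect : ⁅L, L⁆ = L := by
  haveI := E.f.nor
  refine le_antisymm (commutator_le_right L L) ?_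
  refine E.f.le (fun g _ n hn => (inferInstance : (⁅L, L⁆).Normal).conj_mem n hn g) ?_
  intro h1
  apply E.f.na
  intro x hx y hy
  have h2 : x * y * x⁻¹ * y⁻¹ ∈ ⁅L, L⁆ := commutator_mem_commutator hx hy
  rw [h1, mem_bot, mul_inv_eq_one, mul_inv_eq_iff_eq_mul] at h2
  exact h2

/-- an element of `L ∩ C(z)` fixing `K` is inner on `K` -/
theorem act_one (hK : Mem Om z K) (Q : Q3 K z x) {l : G} (hl : l ∈ L) (hf : cj l K = K) : Act z x x l 1 := by
  intro i
  have h1 : l * x i * l⁻¹ * (x i)⁻¹ ∈ K := by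
    refine K.mul_mem ?_ (K.inv_mem (Q.mem i))
    have h2 := conj_mem_cj (g := l) (Q.mem i)
    rwa [hf] at h2
  have h2 : l * x i * l⁻¹ * (x i)⁻¹ ∈ L := by
    have h3 := L.mul_mem hl (E.f.nor.conj_mem _ (L.inv_mem hl) (x i))
    have h4 : l * (x i * l⁻¹ * (x i)⁻¹) = l * x i * l⁻¹ * (x i)⁻¹ := by group
    rwa [h4] at h3
  rcases E.small z K hK _ h1 h2 with h3 | h3
  · left; exact mul_inv_eq_one.1 h3
  · right; rw [mul_inv_eq_iff_eq_mul] at h3; exact h3

/-- a rotation normalising the Sylow 2-subgroup `V` of `L` -/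
theorem exists_rotV {V : Subgroup G} (hV : Syl V L) (hzV : ∀ v ∈ V, v * z = z * v) (hK : Mem Om z K)
    (Q : Q3 K z x) : ∃ n σ, cj n V = V ∧ n * z = z * n ∧ Act z x x n σ ∧ ∀ i, σ i ≠ i := by
  have h := E.w
  have hn := E.f.nor
  obtain ⟨c, hcK, h3, hq⟩ := E.rot K hK.1
  have hcK' := mem_normalizer_iff_cj.1 hcK
  have hcz := hK.of_cj h hcK'
  obtain ⟨σ, hσ, hσ1⟩ := exists_rot Q hcz hcK' h3 hq
  obtain ⟨C, hC⟩ : ∃ C, C = centralizer {z} ⊓ L := ⟨_, rfl⟩
  have hcC : cj c C = C := by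
    rw [hC, cj_inf, cj_centralizer, hcz, mul_inv_cancel_right,
      mem_normalizer_iff_cj.1 (by rw [normalizer_eq_top_iff.2 hn]; exact mem_top c)]
  have hVC : Syl V C := by
    rw [hC]
    refine LB.syl_of_le hV (le_inf (fun v hv => mem_centralizer_singleton_iff.2 (hzV v hv)) hV.1) inf_le_right
  have hVC' : Syl (cj c V) C := by
    have := hVC.cj c
    rwa [hcC] at this
  obtain ⟨l, hl, hlV⟩ := hVC'.exists_conj hVC
  rw [hC] at hl
  have hlz : l * z = z * l := mem_centralizer_singleton_iff.1 hl.1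
  have hnV : cj (l * c) V = V := by rw [cj_mul]; exact hlV
  have hnz : l * c * z = z * (l * c) := by rw [mul_assoc, hcz, ← mul_assoc, hlz, mul_assoc]
  rcases fx_or_sw h hK.inZ hlz with hf | hs
  · have h1 := E.act_one hK Q hl.2 (hf K hK)
    have h2 := hσ.comp Q.z2 h1 hlz
    exact ⟨l * c, 1 * σ, hnV, hnz, h2, by rw [one_mul]; exact hσ1⟩
  · -- `(l c)² = l (c l c⁻¹) c²`
    have hs' : Sw Om z (c * l * c⁻¹) := by
      have h1 := hs.conj h c
      rwa [hcz, mul_inv_cancel_right] at h1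
    have hlz' : c * l * c⁻¹ * z = z * (c * l * c⁻¹) := by
      have e1 : Commute c z := hcz
      have e2 : Commute l z := hlz
      exact ((e1.mul_left e2).mul_left e1.inv_left).eq
    have hf : Fx Om z (l * (c * l * c⁻¹)) := hs.mul h hs' hlz hlz'
    have hl2 : l * (c * l * c⁻¹) ∈ L := L.mul_mem hl.2 (hn.conj_mem _ hl.2 c)
    have hlz2 : l * (c * l * c⁻¹) * z = z * (l * (c * l * c⁻¹)) := by
      have e2 : Commute l z := hlz
      exact (e2.mul_left hlz').eq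
    have h1 := E.act_one hK Q hl2 (hf K hK)
    have h2 := hσ.comp Q.z2 hσ hcz
    have h3 := h2.comp Q.z2 h1 hlz2
    have e : l * (c * l * c⁻¹) * (c * c) = (l * c) * (l * c) := by group
    rw [e] at h3
    refine ⟨(l * c) * (l * c), 1 * (σ * σ), ?_, ?_, h3, ?_⟩
    · rw [cj_mul, hnV, hnV]
    · rw [mul_assoc, hnz, ← mul_assoc, hnz, mul_assoc]
    · rw [one_mul]
      have key : ∀ σ : Equiv.Perm (Fin 3), (∀ i, σ i ≠ i) → ∀ i, (σ * σ) i ≠ i := by decide
      exact key σ hσ1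

/-- (11.4) -/
theorem not_ab (S : Sylow 2 G) (hVc : ∀ a ∈ (S : Subgroup G) ⊓ L, ∀ b ∈ (S : Subgroup G) ⊓ L, a * b = b * a) :
    False := by
  haveI : Fact (Nat.Prime 2) := ⟨Nat.prime_two⟩
  have h := E.w
  have hn := E.f.nor
  obtain ⟨V, hVdef⟩ : ∃ V, V = (S : Subgroup G) ⊓ L := ⟨_, rfl⟩
  have hV : Syl V L := by rw [hVdef]; exact E.syl S
  rw [← hVdef] at hVc
  obtain ⟨z, K, hK, hKS, hzS⟩ := h.exists_member_central E.ne S
  have hz := hK.inZ
  have hzV : z ∈ V := by rw [hVdef]; exact ⟨hKS (hK.zmem h), E.mem z hz⟩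
  have hVz : ∀ v ∈ V, v * z = z * v := fun v hv => hVc v hv z hzV
  have hSV : (S : Subgroup G) ≤ normalizer (V : Set G) := by
    intro s hs
    rw [mem_normalizer_iff_cj, hVdef, cj_inf, mem_normalizer_iff_cj.1 (le_normalizer hs),
      mem_normalizer_iff_cj.1 (by rw [normalizer_eq_top_iff.2 hn]; exact mem_top s)]
  obtain ⟨n0, hn0, hn0V, hn0z⟩ : ∃ n ∈ L, n ∈ normalizer (V : Set G) ∧ n * z ≠ z * n := by
    by_contra hcon
    push Not at hcon
    refine hz.z1 h (AbSyl.eq_one_of_syl hV hVc hzV hcon ?_)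
    rw [E.perfect]; exact E.mem z hz
  obtain ⟨x, Q⟩ := h.exists_q3 hK
  obtain ⟨n, σ, hnV, hnz, hσ, hσ1⟩ := E.exists_rotV hV hVz hK Q
  -- `K / ⟨z⟩` acts faithfully on `V`
  have hfaith : ∀ i, ∃ v ∈ V, x i * v ≠ v * x i := by
    intro i
    by_contra hcon
    push Not at hcon
    have hcC : ∀ c : G, (∀ v ∈ V, c * v = v * c) → ∀ v ∈ V, (n * c * n⁻¹) * v = v * (n * c * n⁻¹) := by
      intro c hc v hv
      have h1 : n⁻¹ * v * n ∈ V := by rw [← mem_cj, hnV]; exact hv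
      have h2 := hc _ h1
      calc (n * c * n⁻¹) * v = n * (c * (n⁻¹ * v * n)) * n⁻¹ := by group
        _ = n * ((n⁻¹ * v * n) * c) * n⁻¹ := by rw [h2]
        _ = _ := by group
    have h1 := hcC _ hcon
    have h2 : ∀ v ∈ V, x (σ i) * v = v * x (σ i) := by
      intro v hv
      rcases hσ i with h3 | h3
      · have := h1 v hv; rwa [h3] at this
      · have h4 := h1 v hv
        rw [h3] at h4
        have e1 : Commute z v := (hVz v hv).symm
        have e2 : Commute (z * x (σ i)) v := h4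
        have e3 := e1.mul_left e2
        rw [Q.zzx] at e3
        exact e3.eq
    have h3 : K ≤ centralizer (V : Set G) := by
      refine Q.le_of_mem (Ne.symm (hσ1 i)) ?_ ?_
      · rw [mem_centralizer_iff]; exact fun v hv => (hcon v hv).symm
      · rw [mem_centralizer_iff]; exact fun v hv => (h2 v hv).symm
    have h4 : n0 * z * n0⁻¹ ∈ V := (mem_normalizer_iff.1 hn0V z).1 hzV
    have h5 := (hz.conj h n0).eq_of_cent hK h fun k hk => mem_centralizer_iff.1 (h3 hk) _ h4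
    exact hn0z (mul_inv_eq_iff_eq_mul.1 h5)
  -- the group of automorphisms
  obtain ⟨B, hB⟩ : ∃ B, B = (L.subgroupOf (normalizer (V : Set G))).map V.normalizerMonoidHom := ⟨_, rfl⟩
  have hodd : Odd (Nat.card B) := by rw [hB]; exact AbSyl.odd_aut hV hVc
  let θ := V.normalizerMonoidHom
  have hxN : ∀ i, x i ∈ normalizer (V : Set G) := fun i => hSV (hKS (Q.mem i))
  have hθ : ∀ (g : G) (hg : g ∈ normalizer (V : Set G)) (v : V), ((θ ⟨g, hg⟩ v : V) : G) = g * v * g⁻¹ :=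
    fun g hg v => rfl
  have hθz : ∀ hzN : z ∈ normalizer (V : Set G), θ ⟨z, hzN⟩ = 1 := by
    intro hzN
    ext v
    rw [hθ, ← hVz v v.2, mul_inv_cancel_right]
    rfl
  have hzN : z ∈ normalizer (V : Set G) := le_normalizer hzV
  let T : Fin 3 → MulAut V := fun i => θ ⟨x i, hxN i⟩
  have hT2 : ∀ i, T i * T i = 1 := by
    intro i
    rw [← hθz hzN]
    show θ _ * θ _ = _
    rw [← map_mul]
    congr 1
    exact Subtype.ext (Q.sq i)
  have hT01 : T 0 * T 1 = T 2 := by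
    show θ _ * θ _ = θ _
    rw [← map_mul]
    congr 1
    exact Subtype.ext (Q.mul 0)
  have hT10 : T 1 * T 0 = T 2 := by
    show θ _ * θ _ = θ _
    rw [← map_mul]
    have e : (⟨x 1, hxN 1⟩ : normalizer (V : Set G)) * ⟨x 0, hxN 0⟩ = ⟨z, hzN⟩ * ⟨x 2, hxN 2⟩ :=
      Subtype.ext (Q.mul' 0)
    rw [e, map_mul, hθz, one_mul]
  let zV : V := ⟨z, hzV⟩
  have key : ∀ i, B ⊓ centralizer {T i} ≤ MulAction.stabilizer (MulAut V) zV := by
    rintro i α ⟨hα, hαi⟩
    rw [hB] at hα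
    obtain ⟨⟨m, hmN⟩, hmL, rfl⟩ := hα
    have hmL' : m ∈ L := hmL
    replace hαi : V.normalizerMonoidHom ⟨m, hmN⟩ * T i = T i * V.normalizerMonoidHom ⟨m, hmN⟩ :=
      mem_centralizer_singleton_iff.1 hαi
    rw [MulAction.mem_stabilizer_iff]
    -- `z` is a commutator `v x v⁻¹ x⁻¹`
    obtain ⟨v, hv, hvz⟩ : ∃ v ∈ V, v * x i * v⁻¹ * (x i)⁻¹ = z := by
      obtain ⟨v0, hv0, hv0x⟩ := hfaith i
      rcases fx_or_sw h hz (hVz v0 hv0) with hf | hs
      · refine ⟨v0, hv0, ?_⟩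
        rcases E.act_one hK Q (hV.1 hv0) (hf K hK) i with h1 | h1
        · exact absurd (mul_inv_eq_iff_eq_mul.1 h1).symm hv0x
        · rw [h1]
          show z * x i * (x i)⁻¹ = z
          rw [mul_inv_cancel_right]
      · have hij : i + 1 ≠ i := (i_ne1 i).symm
        refine ⟨v0 * x (i + 1) * v0⁻¹ * (x (i + 1))⁻¹, ?_, ?_⟩
        · have h1 := V.mul_mem hv0 ((mem_normalizer_iff.1 (hxN (i + 1)) _).1 (V.inv_mem hv0))
          have h2 : v0 * (x (i + 1) * v0⁻¹ * (x (i + 1))⁻¹) = v0 * x (i + 1) * v0⁻¹ * (x (i + 1))⁻¹ := by group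
          rwa [h2] at h1
        · obtain ⟨l, hl⟩ : ∃ l, l = v0 * x (i + 1) * v0⁻¹ := ⟨_, rfl⟩
          have hlK : l ∈ cj v0 K := by rw [hl]; exact conj_mem_cj (Q.mem _)
          have hK' : Mem Om z (cj v0 K) := hK.cj_comm h (hVz v0 hv0)
          have hne : K ≠ cj v0 K := fun e => hs K hK e.symm
          have hlx : ∀ k ∈ K, k * l = l * k := fun k hk => hK.comm hK' h hne hk hlK
          rw [← hl]
          have e1 : (x (i + 1))⁻¹ * x i * x (i + 1) = z * x i := by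
            have h3 := Q.conj_ne hij
            have h4 : x i = (x (i + 1))⁻¹ * (z * x i) * x (i + 1) := by rw [← h3]; group
            have h5 : (x (i + 1))⁻¹ * (z * x i) * x (i + 1) = z * ((x (i + 1))⁻¹ * x i * x (i + 1)) := by
              have h6 : (x (i + 1))⁻¹ * z = z * (x (i + 1))⁻¹ := by
                rw [inv_mul_eq_iff_eq_mul, ← mul_assoc, ← Q.zc, mul_inv_cancel_right]
              calc (x (i + 1))⁻¹ * (z * x i) * x (i + 1) = (x (i + 1))⁻¹ * z * x i * x (i + 1) := by group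
                _ = z * (x (i + 1))⁻¹ * x i * x (i + 1) := by rw [h6]
                _ = _ := by group
            rw [h5] at h4
            rw [h4, Q.zzx, ← h4]
          have e2 : l * (z * x i) * l⁻¹ = z * x i := by
            rw [← hlx _ (K.mul_mem (hK.zmem h) (Q.mem i)), mul_inv_cancel_right]
          calc l * (x (i + 1))⁻¹ * x i * (l * (x (i + 1))⁻¹)⁻¹ * (x i)⁻¹
              = l * ((x (i + 1))⁻¹ * x i * x (i + 1)) * l⁻¹ * (x i)⁻¹ := by group
            _ = z := by rw [e1, e2, mul_inv_cancel_right]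
    -- the image of `z`
    obtain ⟨w, hw⟩ : ∃ w, w = m * v * m⁻¹ := ⟨_, rfl⟩
    have hwV : w ∈ V := by rw [hw]; exact (mem_normalizer_iff.1 hmN v).1 hv
    have hmz : m * z * m⁻¹ = w * x i * w⁻¹ * (x i)⁻¹ := by
      -- `m (x v⁻¹ x⁻¹) m⁻¹ = x (m v⁻¹ m⁻¹) x⁻¹`
      have h1 : m * (x i * v⁻¹ * (x i)⁻¹) * m⁻¹ = x i * (m * v⁻¹ * m⁻¹) * (x i)⁻¹ := by
        have h2 := congrArg (fun β : MulAut V => ((β ⟨v⁻¹, V.inv_mem hv⟩ : V) : G)) hαi
        exact h2
      calc m * z * m⁻¹ = (m * v * m⁻¹) * (m * (x i * v⁻¹ * (x i)⁻¹) * m⁻¹) := by rw [← hvz]; group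
        _ = _ := by rw [h1, hw]; group
    have hR : m * z * m⁻¹ ∈ RZ Om z := by
      rw [hmz]
      refine mul_mem ?_ (hK.le_RZ (K.inv_mem (Q.mem i)))
      exact (hK.cj_comm h (hVz w hwV)).le_RZ (conj_mem_cj (Q.mem i))
    apply Subtype.ext
    show m * z * m⁻¹ = z
    by_contra hne
    exact E.not_ti (g := m) ⟨hz, hz.conj h m, Ne.symm hne, (RZ_le_centralizer h hR).symm, Inn.of_RZ hz h hR⟩ hmL' rfl
  have hBn : ∀ i, ∀ α ∈ B, T i * α * (T i)⁻¹ ∈ B := by
    intro i α hα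
    rw [hB] at hα ⊢
    obtain ⟨m, hm, rfl⟩ := hα
    refine ⟨⟨x i, hxN i⟩ * m * ⟨x i, hxN i⟩⁻¹, ?_, ?_⟩
    · exact hn.conj_mem _ hm (x i)
    · rw [map_mul, map_mul, map_inv]
  have hBM : B ≤ MulAction.stabilizer (MulAut V) zV :=
    Cfsg.Agent.Lib.KleinGen.le_of_klein B _ hodd (T 0) (T 1) (hT2 0) (hT2 1) (by rw [hT01, hT10]) (hBn 0) (hBn 1)
      (key 0) (key 1) (by rw [hT01]; exact key 2)
  have h1 : θ ⟨n0, hn0V⟩ ∈ MulAction.stabilizer (MulAut V) zV := by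
    apply hBM
    rw [hB]
    exact ⟨⟨n0, hn0V⟩, hn0, rfl⟩
  rw [MulAction.mem_stabilizer_iff] at h1
  have h2 : n0 * z * n0⁻¹ = z := congrArg Subtype.val h1
  exact hn0z (mul_inv_eq_iff_eq_mul.1 h2)

/-- no abelian strongly closed subgroup -/
theorem closed (S : Sylow 2 G) (A : Subgroup G) (hA : A ≠ ⊥) (hAL : A ≤ L)
    (hc : ∀ x ∈ A, ∀ y ∈ A, x * y = y * x) : ¬ IsStronglyClosed A (S : Subgroup G) := by
  intro hsc
  obtain ⟨P, hP⟩ := (E.syl S).exists_sylow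
  have hA' : A.subgroupOf L ≠ ⊥ := by
    intro h1
    apply hA
    rw [← map_subgroupOf_eq_of_le hAL, h1, Subgroup.map_bot]
  have hc' : IsMulCommutative ↥(A.subgroupOf L) :=
    ⟨⟨fun x y => Subtype.ext (Subtype.ext (hc _ x.2 _ y.2))⟩⟩
  have hsc' : IsStronglyClosed (A.subgroupOf L) (P : Subgroup L) := by
    refine ⟨?_, ?_⟩
    · rw [hP]; exact fun x hx => ⟨hsc.1 hx, x.2⟩
    · intro x hx g hg
      rw [hP, mem_subgroupOf] at hg
      exact hsc.2 x hx g hg.1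
  rcases E.gold P (A.subgroupOf L) hA' hc' hsc' with h1 | ⟨H, hH⟩
  · refine E.not_ab S ?_
    have e : ∀ x ∈ (S : Subgroup G) ⊓ L, ∃ hx : x ∈ L, (⟨x, hx⟩ : L) ∈ (P : Subgroup L) := by
      intro x hx
      refine ⟨hx.2, ?_⟩
      rw [hP]; exact hx
    intro x hx y hy
    obtain ⟨hx1, hx2⟩ := e x hx
    obtain ⟨hy1, hy2⟩ := e y hy
    have h2 := h1.is_comm.comm (⟨_, hx2⟩ : (P : Subgroup L)) ⟨_, hy2⟩
    have h3 := congrArg Subtype.val h2
    exact congrArg Subtype.val h3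
  · exact E.not_se H hH

/-- **`SCe`** -/
theorem sce (h1173 : ∀ (S : Sylow 2 G) (T : Subgroup G), IsStronglyClosed T (S : Subgroup G) →
      ((⨅ n : ℕ, derivedSeries ↥(centralizer (T : Set G)) n).map (centralizer (T : Set G)).subtype).Normal)
    (cores : ∀ z, InZ Om z → OO (centralizer {z}) = ⊥) : SCe Om := by
  have h := E.w
  intro N h1 h2 h3 z hz
  have hsit : SC.Sit {z | InZ Om z} L N :=
    { sq := fun z hz => InZ.z2 hz h
      ne := fun z hz => InZ.z1 hz h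
      conj := fun z hz g => InZ.conj hz h g
      fs := E.f
      sub := fun z hz => E.mem z hz
      syl := fun S => by
        obtain ⟨t, ht, htS⟩ := h.exists_central E.ne S
        exact ⟨t, ht, htS⟩
      cores := fun z hz => cores z hz
      closed := fun S A hA hAL hc => E.closed S A hA hAL hc
      eqv := fun z hz g => h1 g z hz
      cent := fun z hz n hn => mem_centralizer_singleton_iff.1 (h2 z hz hn)
      comm := fun z hz t ht hc => h3 z t hz ht hc }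
  exact hsit.eq_bot h1173 hz

end EL

end Cfsg.Agent.Cit.Nil.RTwo
end

-- part: Cit/Nil/RTwo/SAbel
section
set_option linter.all false
open scoped Cfsg.Agent.FastGrp

/-!
# Case (S) of S1309, `r = 2`, `m = 1`: the members of `Z_c` commute (`abel`)

* `SW.u10` : the world (S) is a world of section 10;
* `PPAll.del_iff` : `Z_c ∩ C(z) = Δ_c(z)`;
* `SW.core_label` : `O(C(c)) = 1` for labels `c`;
* `PPAll.mem_pCore` : `z ∈ O_2(C(c))` if the components of `C(c)` are in `M_c`;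
* `PPAll.abel` : `c ∈ CC z`, `c ∈ CC t` implies `z t = t z`.
-/

set_option autoImplicit false
set_option linter.style.haveILetI false
set_option linter.unusedSectionVars false

namespace Cfsg.Agent.Cit.Nil.RTwo

open Subgroup Cfsg Cit

variable {G : Type*} [Group G] [Finite G] {Om : Set (Subgroup G)} {K L M : Subgroup G}
  {z t u v g r s x y w c c' : G}

theorem diag_fin3 : ∀ (v p : Fin 3 × Fin 3), v.1 ≠ 0 → v.2 ≠ 0 →
    (∀ i : Fin 3, (p.1 + i, p.2 + i) = p ∨ (p.1 + i, p.2 + i) = p + v ∨ (p.1 + i, p.2 + i) = p - v) ∨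
    (∀ i : Fin 3, (p.1 + i, p.2 - i) = p ∨ (p.1 + i, p.2 - i) = p + v ∨ (p.1 + i, p.2 - i) = p - v) := by
  decide

/-- the world (S) is a world of section 10 -/
theorem SW.u10 (S : SW Om) : U10 Om := by
  refine ⟨S.w, fun z h1 => S.ne z 1 h1 rfl, ?_⟩
  intro z K1 K2 a b F c p hp
  obtain ⟨v, hv1, hv2, hall⟩ := S.line z K1 K2 a b F
  obtain ⟨c', hc'⟩ := hall p
  have h1 : c = c' := S.uniq z K1 K2 a b F c c' p hp ((hc' p).2 (Or.inl rfl))
  subst h1
  rcases diag_fin3 v p hv1 hv2 with h2 | h2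
  · exact Or.inl fun i => (hc' _).2 (h2 i)
  · exact Or.inr fun i => (hc' _).2 (h2 i)

/-! ### `PP = Δ_c` -/

namespace PPAll

variable (P : PPAll Om)

include P

theorem pp_subset (hc : c ∈ CC Om z) (hs : s ∈ PP Om c z) : PP Om c z ⊆ PP Om c s := fun t ht =>
  ⟨ht.1, ht.2.1, P.comm c z hc s hs t ht⟩

theorem pp_eq (h : W2 Om) (hc : c ∈ CC Om z) (hs : s ∈ PP Om c z) : PP Om c z = PP Om c s :=
  (P.pp_subset hc hs).antisymm (P.pp_subset hs.2.1 ⟨CC.inZ hc, hc, hs.2.2.symm⟩)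

theorem pp_eq_of_del (h : W2 Om) (hc : c ∈ CC Om z) (hd : DelC Om c z t) : PP Om c z = PP Om c t := by
  induction hd with
  | refl => rfl
  | tail h1 h2 ih =>
    rw [ih]
    exact P.pp_eq h (DelC.mem_CC h h1 hc) ⟨CC.inZ (h2.symm h).mem_CC, (h2.symm h).mem_CC, h2.ti.2.2.2.1⟩

theorem del_iff (S : SW Om) (hc : c ∈ CC Om z) : DelC Om c z t ↔ t ∈ PP Om c z := by
  constructor
  · intro h1
    rw [P.pp_eq_of_del S.w hc h1]
    exact ⟨CC.inZ (h1.mem_CC S.w hc), h1.mem_CC S.w hc, rfl⟩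
  · intro h1
    exact S.u10.conn hc h1.2.1 h1.2.2

end PPAll

/-! ### `O(C(c)) = 1` -/

/-- `z` normalises `N` and acts on it without fixed points: `z` inverts `N` -/
theorem inverts_of_fpf {N : Subgroup G} (hz2 : z * z = 1) (hn : ∀ x ∈ N, z * x * z⁻¹ ∈ N)
    (hf : ∀ x ∈ N, x * z = z * x → x = 1) (hx : x ∈ N) : z * x * z⁻¹ = x⁻¹ := by
  have hzi : z⁻¹ = z := inv_eq_of_mul_eq_one_right hz2
  let f : N → N := fun x => ⟨(x : G)⁻¹ * (z * x * z⁻¹), mul_mem (inv_mem x.2) (hn x x.2)⟩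
  have hinj : Function.Injective f := by
    rintro ⟨u, hu⟩ ⟨v, hv⟩ huv
    have h1 : u⁻¹ * (z * u * z⁻¹) = v⁻¹ * (z * v * z⁻¹) := congrArg Subtype.val huv
    have h2 : v * u⁻¹ * z = z * (v * u⁻¹) := by
      calc v * u⁻¹ * z = v * (u⁻¹ * (z * u * z⁻¹)) * (z * u⁻¹) := by group
        _ = v * (v⁻¹ * (z * v * z⁻¹)) * (z * u⁻¹) := by rw [h1]
        _ = _ := by group
    have h3 := hf _ (mul_mem hv (inv_mem hu)) h2
    exact Subtype.ext (mul_inv_eq_one.1 h3).symm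
  obtain ⟨⟨u, hu⟩, hfu⟩ := (Finite.injective_iff_surjective.1 hinj) ⟨x, hx⟩
  have h1 : u⁻¹ * (z * u * z⁻¹) = x := congrArg Subtype.val hfu
  rw [← h1, hzi]
  calc z * (u⁻¹ * (z * u * z)) * z = z * u⁻¹ * z * u * (z * z) := by group
    _ = z * u⁻¹ * z * u := by rw [hz2, mul_one]
    _ = (u⁻¹ * (z⁻¹ * u * z⁻¹))⁻¹ := by group
    _ = _ := by rw [hzi]

/-- the elements of `O(C(c))` commuting with `z` are trivial -/
theorem SW.eq_one_of_core (S : SW Om) (hc : c ∈ CC Om z) (hx : x ∈ OO (centralizer {c}))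
    (hxz : x * z = z * x) : x = 1 := by
  have h := S.w
  have hz := CC.inZ hc
  have hRc : ∀ r ∈ RZ Om z, r ∈ centralizer {c} := fun r hr =>
    mem_centralizer_singleton_iff.2 (CX_comm hr (CC.mem_CX hc)).symm
  have hcx : x ∈ CX Om z := by
    rw [mem_CX]
    intro K hK k hk
    have hkR := hK.le_RZ hk
    have h1 : x * k * x⁻¹ * k⁻¹ ∈ RZ Om z := mul_mem (RZ_conj_comm h hxz hkR) (inv_mem hkR)
    have h2 : x * k * x⁻¹ * k⁻¹ ∈ OO (centralizer {c}) := by
      have h3 := (mem_normalizer_iff.1 (le_normalizer_OO _ (hRc k hkR)) _).1 (inv_mem hx)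
      have h4 : x * k * x⁻¹ * k⁻¹ = x * (k * x⁻¹ * k⁻¹) := by group
      rw [h4]
      exact mul_mem hx h3
    have h3 := eq_one_of_mem_odd (isPGroup_RZ h hz) (odd_OO _) h1 h2
    rwa [mul_inv_eq_one, mul_inv_eq_iff_eq_mul] at h3
  have hx2 : x * x = 1 := by
    rcases S.cx z hz x hcx with h1 | h1 | h1 | h1
    · rw [h1, one_mul]
    · rw [h1, hz.z2 h]
    · exact CC.sq h1
    · have h2 := CC.sq h1
      have h3 : z * x * (z * x) = z * z * (x * x) := by
        calc z * x * (z * x) = z * (x * z) * x := by group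
          _ = z * (z * x) * x := by rw [hxz]
          _ = _ := by group
      rwa [h3, hz.z2 h, one_mul] at h2
  refine eq_one_of_mem_odd (isPGroup_zpowers_of_sq hx2) (odd_OO _) (mem_zpowers x) hx

/-- the core of the centraliser of a label is trivial -/
theorem SW.core_label (S : SW Om) (hc : c ∈ CC Om z) : OO (centralizer {c}) = ⊥ := by
  have h := S.w
  have key : ∀ {z : G}, c ∈ CC Om z → ∀ x ∈ OO (centralizer {c}), z * x * z⁻¹ = x⁻¹ := by
    intro z hc x hx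
    have hzc : z ∈ centralizer {c} := mem_centralizer_singleton_iff.2 (CC.comm_z h hc).symm
    refine inverts_of_fpf ((CC.inZ hc).z2 h) (fun x hx => ?_) (fun x hx hxz => S.eq_one_of_core hc hx hxz) hx
    exact (mem_normalizer_iff.1 (le_normalizer_OO _ hzc) _).1 hx
  rw [eq_bot_iff]
  intro x hx
  obtain ⟨s, l⟩ := hc
  have h1 := key l.mem_CC
  have h2 := key (l.symm h).mem_CC
  have h3 := key ((l.mul h).symm h).mem_CC
  have h4 := h3 x hx
  have h5 : z * s * x * (z * s)⁻¹ = z * (s * x * s⁻¹) * z⁻¹ := by group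
  rw [h5, h2 x hx, h1 _ (inv_mem hx), inv_inv] at h4
  have h6 : x * x = 1 := by
    nth_rewrite 1 [h4]
    exact inv_mul_cancel x
  rw [mem_bot]
  exact eq_one_of_mem_odd (isPGroup_zpowers_of_sq h6) (odd_OO _) (mem_zpowers x) hx

theorem SW.core_label' (S : SW Om) (hc : c ∈ CC Om z) : pPrimeCore 2 (centralizer ({c} : Set G)) = ⊥ := by
  have h1 := S.core_label hc
  rw [OO_def] at h1
  exact (Subgroup.map_eq_bot_iff_of_injective _ (centralizer ({c} : Set G)).subtype_injective).1 h1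

/-! ### `⟨Z_c ∩ C(z)⟩` -/

/-- `⟨Z_c ∩ C(z)⟩` -/
def AC (Om : Set (Subgroup G)) (c z : G) : Subgroup G := closure (PP Om c z)

namespace PPAll

variable (P : PPAll Om)

include P

theorem ac_comm (hc : c ∈ CC Om z) (hx : x ∈ AC Om c z) (hy : y ∈ AC Om c z) : x * y = y * x := by
  have h1 : AC Om c z ≤ centralizer (PP Om c z) := by
    rw [AC, closure_le]
    intro u hu
    rw [SetLike.mem_coe, mem_centralizer_iff]
    exact fun v hv => P.comm c z hc v hv u hu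
  have h2 : x ∈ centralizer (centralizer (PP Om c z) : Set G) := closure_le_centralizer_centralizer _ hx
  exact (mem_centralizer_iff.1 h2 y (h1 hy)).symm

theorem ac_sq (h : W2 Om) (hc : c ∈ CC Om z) (hx : x ∈ AC Om c z) : x * x = 1 := by
  induction hx using closure_induction with
  | mem u hu => exact hu.1.z2 h
  | one => exact one_mul 1
  | mul u v hu hv ihu ihv =>
    have h1 := P.ac_comm hc hu hv
    calc u * v * (u * v) = u * (v * u) * v := by group
      _ = u * (u * v) * v := by rw [← h1]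
      _ = (u * u) * (v * v) := by group
      _ = 1 := by rw [ihu, ihv, one_mul]
  | inv u hu ih => rw [← mul_inv_rev, ih, inv_one]

theorem z_mem_ac (hc : c ∈ CC Om z) : z ∈ AC Om c z := subset_closure ⟨CC.inZ hc, hc, rfl⟩

theorem ac_le (S : SW Om) (hc : c ∈ CC Om z) : AC Om c z ≤ MC S.w c z := by
  rw [AC, closure_le]
  intro t ht
  exact del_mem_MC S.w hc ((P.del_iff S hc).2 ht)

theorem pp_conj (S : SW Om) (hc : c ∈ CC Om z) (hg : g ∈ MC S.w c z) (ht : t ∈ PP Om c z) :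
    g * t * g⁻¹ ∈ PP Om c z := by
  rw [← P.del_iff S hc] at ht ⊢
  have h1 := mem_MC.1 hg
  exact h1.2.trans (ht.conj S.w h1.1)

theorem MC_le_normalizer_ac (S : SW Om) (hc : c ∈ CC Om z) : MC S.w c z ≤ normalizer (AC Om c z : Set G) := by
  have key : ∀ g ∈ MC S.w c z, ∀ x ∈ AC Om c z, g * x * g⁻¹ ∈ AC Om c z := by
    intro g hg x hx
    have h1 : AC Om c z ≤ (AC Om c z).comap (MulAut.conj g).toMonoidHom := by
      conv_lhs => rw [AC]
      rw [closure_le]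
      intro t ht
      exact subset_closure (P.pp_conj S hc hg ht)
    exact h1 hx
  intro g hg
  rw [mem_normalizer_iff]
  intro x
  refine ⟨key g hg x, fun hx => ?_⟩
  have h1 := key g⁻¹ (inv_mem hg) _ hx
  have h2 : g⁻¹ * (g * x * g⁻¹) * g⁻¹⁻¹ = x := by group
  rwa [h2] at h1

/-- `z ∈ O_2(C(c))` -/
theorem mem_pCore (S : SW Om) (hc : c ∈ CC Om z)
    (hE : ∀ L : Subgroup (centralizer ({c} : Set G)), IsComponent L →
      L ≤ (MC S.w c z).subgroupOf (centralizer ({c} : Set G)))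
    (hzc : z ∈ centralizer ({c} : Set G)) : (⟨z, hzc⟩ : centralizer ({c} : Set G)) ∈ pCore 2 (centralizer ({c} : Set G)) := by
  haveI : Fact (Nat.Prime 2) := ⟨Nat.prime_two⟩
  have h := S.w
  have hz := CC.inZ hc
  have hAM := P.ac_le S hc
  have hMn := P.MC_le_normalizer_ac S hc
  have hMH : MC S.w c z ≤ centralizer {c} := MC_le h
  by_contra hcon
  apply hcon
  refine OneComp.centralizer_genFit_le (S.core_label' hc) (OneComp.mem_centralizer_genFit (S.core_label' hc) ?_ ?_)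
  · intro L hL
    have hLM := hE L hL
    let MH : Subgroup (centralizer ({c} : Set G)) := (MC S.w c z).subgroupOf (centralizer ({c} : Set G))
    let AH : Subgroup (centralizer ({c} : Set G)) := (AC Om c z).subgroupOf (centralizer ({c} : Set G))
    have hAMH : AH ≤ MH := fun x hx => hAM hx
    have hn : (AH.subgroupOf MH).Normal := by
      refine ⟨fun x hx g => ?_⟩
      have h1 : ((x : centralizer ({c} : Set G)) : G) ∈ AC Om c z := hx
      have h2 : ((g : centralizer ({c} : Set G)) : G) ∈ MC S.w c z := g.2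
      exact (mem_normalizer_iff.1 (hMn h2) _).1 h1
    have hp : IsPGroup 2 (AH.subgroupOf MH) := by
      rintro ⟨⟨⟨x, hx1⟩, hx2⟩, hx3⟩
      refine ⟨1, Subtype.ext (Subtype.ext (Subtype.ext ?_))⟩
      show x ^ 2 ^ 1 = 1
      rw [pow_one, pow_two]
      exact P.ac_sq h hc hx3
    have h1 := Lib.Cores.le_pCore hn hp
    have h2 := CoreTools.component_le_centralizer_pCore
      (SignalizersComponents.Components.isComponent_subgroupOf hLM hL)
    rw [mem_centralizer_iff]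
    intro l hl
    have hzM : (⟨z, hzc⟩ : centralizer ({c} : Set G)) ∈ MH := hAMH (show z ∈ AC Om c z from P.z_mem_ac hc)
    have h3 : (⟨⟨z, hzc⟩, hzM⟩ : MH) ∈ pCore 2 MH := h1 (show z ∈ AC Om c z from P.z_mem_ac hc)
    have h4 := mem_centralizer_iff.1 (h2 (show (⟨l, hLM hl⟩ : MH) ∈ L.subgroupOf MH from hl)) _ h3
    exact (congrArg Subtype.val h4).symm
  · obtain ⟨K, hK⟩ := hz
    set N := (pCore 2 (centralizer ({c} : Set G))).map (centralizer ({c} : Set G)).subtype with hN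
    have hN2 : IsPGroup 2 N := (Lib.Cores.pCore_isPGroup 2).map _
    have hKc : K ≤ centralizer {c} := fun k hk =>
      mem_centralizer_singleton_iff.2 (mem_CX.1 (CC.mem_CX hc) K hK k hk).symm
    have hKN : K ≤ normalizer (N : Set G) := by
      have key : ∀ k ∈ K, ∀ x ∈ N, k * x * k⁻¹ ∈ N := by
        rintro k hk _ ⟨x, hx, rfl⟩
        exact ⟨(⟨k, hKc hk⟩ * x * ⟨k, hKc hk⟩⁻¹ :), (Lib.Cores.pCore_normal 2).conj_mem _ hx _, rfl⟩
      intro k hk
      rw [mem_normalizer_iff]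
      intro x
      refine ⟨key k hk x, fun hx => ?_⟩
      have h1 := key k⁻¹ (inv_mem hk) _ hx
      have h2 : k⁻¹ * (k * x * k⁻¹) * k⁻¹⁻¹ = x := by group
      rwa [h2] at h1
    have hzN : zz K ∉ N := by
      rw [hK.2]
      rintro ⟨x, hx, hxz⟩
      apply hcon
      have h1 : x = ⟨z, hzc⟩ := Subtype.ext hxz
      rwa [← h1]
    have h1 := h.hyp.lemma_one hK.1 (h.isPGroup hK.1) hN2 hKN hzN z (hK.zmem h)
    rw [mem_centralizer_iff]
    intro x hx
    exact Subtype.ext (h1 x ⟨x, hx, rfl⟩).symm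

/-- **the members of `Z_c` commute** -/
theorem abel (S : SW Om)
    (hE : ∀ c z : G, c ∈ CC Om z → ∀ L : Subgroup (centralizer ({c} : Set G)), IsComponent L →
      L ≤ (MC S.w c z).subgroupOf (centralizer ({c} : Set G)))
    (hc : c ∈ CC Om z) (ht : c ∈ CC Om t) : z * t = t * z := by
  haveI : Fact (Nat.Prime 2) := ⟨Nat.prime_two⟩
  have h := S.w
  obtain ⟨Q, hQ, hQz, -⟩ := exists_sylC h (CC.inZ hc) (CC.mem_CX hc)
  have htc : t ∈ centralizer ({c} : Set G) := mem_centralizer_singleton_iff.2 (CC.comm_z h ht).symm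
  have h1 := P.mem_pCore S ht (hE c t ht) htc
  obtain ⟨T, hT⟩ := hQ.exists_sylow
  have h2 := Lib.Cores.pCore_le_sylow T h1
  rw [← SetLike.mem_coe, hT] at h2
  exact (hQz t h2).symm

end PPAll

end Cfsg.Agent.Cit.Nil.RTwo

private theorem dce_6bacb477faef : _root_.True := by
  try have : _root_.True := by simp only [_root_.Cfsg.Agent.Cit.Nil.RTwo.AC.eq_1]
  exact _root_.True.intro
end

-- part: Cit/Nil/RTwo/SCeq
section
set_option linter.all false

/-!
# `SCe` from the SC principle (`Nil/SCW.lean`)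
-/

set_option autoImplicit false
set_option linter.style.haveILetI false
set_option linter.unusedSectionVars false
set_option maxHeartbeats 400000

namespace Cfsg.Agent.Cit.Nil.RTwo

open Subgroup Cfsg Cit

variable {G : Type*} [Group G] [Finite G] {Om : Set (Subgroup G)} {G0 : Subgroup G}

/-- the world of `SCW` -/
theorem W2.toWd (h : W2 Om) (hne : Om.Nonempty) : SC.Wd Om where
  hyp := h.hyp
  two := fun K hK => h.isPGroup hK
  one := h.one
  dbl := fun K hK => by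
    obtain ⟨L, hL, hne, hz, -⟩ := h.two K hK
    exact ⟨L, hL, hne, hz⟩
  ne := hne

theorem SCe.of_wd (h : W2 Om) (hne : Om.Nonempty) (f : Nil.ROne.FSimp G0) (hle : ∀ K ∈ Om, K ≤ G0) (gold : Cit.ROne.Gold G0)
    (hB : CloEnd.Bend G0)
    (h1173 : ∀ (S : Sylow 2 G) (T : Subgroup G), IsStronglyClosed T (S : Subgroup G) →
      ((⨅ n : ℕ, derivedSeries ↥(centralizer (T : Set G)) n).map (centralizer (T : Set G)).subtype).Normal)
    (cores : ∀ z, InZ Om z → OO (centralizer {z}) = ⊥) : SCe Om := by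
  intro N h1 h2 h3 z hz
  obtain ⟨K, hK, rfl⟩ := hz
  refine (h.toWd hne).eq_bot f hle gold hB h1173 (fun K hK => cores _ ⟨K, hK, rfl⟩) (fun K hK g => h1 g _ ⟨K, hK, rfl⟩)
    (fun K hK n hn => ?_) (fun K hK L hL hc => h3 _ _ ⟨K, hK, rfl⟩ ⟨L, hL, rfl⟩ hc) hK
  exact mem_centralizer_singleton_iff.1 (h2 _ ⟨K, hK, rfl⟩ hn)

end Cfsg.Agent.Cit.Nil.RTwo
end

-- part: Cit/Nil/RTwo/Asm
section
set_option linter.all false
open scoped Cfsg.Agent.FastGrp

/-!
# `r = 2`, `m = 1`: the assembly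

* `LIn` : the external inputs (S1169, Bender's theorem, S1173, S1175), all proved in `Cit/ExtIn.lean`, `Cit/CoreOneFull.lean`;
* `closer` : `AbC F*(G)` and `SCe Om` for every world;
* `exists_tra` : some element of `C(z)` acts as a translation with first coordinate `≠ 0`;
* `main_of` : `LeafR2One` for one group from (11.5), (U) `k = 2`, and `SB → SW`.
-/

set_option autoImplicit false
set_option linter.style.haveILetI false
set_option linter.unusedSectionVars false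

namespace Cfsg.Agent.Cit.Nil.RTwo

open Subgroup Cfsg Cfsg.Agent.Cit

universe u

/-- the external inputs -/
structure LIn : Prop where
  /-- S1169 -/
  gold : ∀ (X : Type u) [Group X] [Finite X] [IsSimpleGroup X] (S : Sylow 2 X) (A : Subgroup X), A ≠ ⊥ →
    IsMulCommutative A → IsStronglyClosed A (S : Subgroup X) →
    IsMulCommutative (S : Subgroup X) ∨ ∃ H : Subgroup X, IsStronglyEmbedded H
  /-- Bender's theorem -/
  bend : ∀ (X : Type u) [Group X] [Finite X] [IsSimpleGroup X], CloEnd.Bend X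
  /-- S1175 -/
  crit : ∀ (X : Type u) [Group X] [Finite X] [IsSimpleGroup X], CloEnd.Crit1175 X
  /-- S1173 -/
  h1173 : ∀ (G : Type u) [Group G] [Finite G], oddCore G = ⊥ → OneF.H1173 G

section

variable {G : Type u} [Group G] [Finite G] {Om : Set (Subgroup G)} {K K1 K2 L M X : Subgroup G} {g g' t x y z s d k : G}
  {a b : Fin 3 → G} {v : Fin 3 × Fin 3}

theorem oddCore_eq_bot (f : ROne.FSimp X) (h2 : 2 ∣ Nat.card X) : oddCore G = ⊥ := by
  by_contra hb
  have h3 := f.le (N := oddCore G) (fun g _ n hn => (Lib.Cores.pPrimeCore_normal 2 (G := G)).conj_mem n hn g) hb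
  have h4 := h2.trans (card_dvd_of_le h3)
  have h5 := Lib.Cores.pPrimeCore_coprime (G := G) 2
  have h6 := Nat.dvd_gcd h4 (dvd_refl 2)
  rw [h5] at h6
  omega

theorem rot_cls {K : Subgroup G} (h : W2 (cls K)) (h3 : Nil.C3 K) : Rot (cls K) := by
  obtain ⟨Q, hQ, hQ8, c, hcK, hcQ, hc3, q, hq, hcq⟩ := h3
  have hQK : Q = K := eq_of_le_of_card_ge hQ.1 (by rw [hQ8, h.card K (self_mem_cls K)])
  subst hQK
  rintro L ⟨g, rfl⟩
  refine ⟨g * c * g⁻¹, ?_, ?_, g * q * g⁻¹, conj_mem_cj hq, ?_⟩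
  · rw [mem_normalizer_iff_cj, cj_mul, cj_mul, cj_inv_cj, mem_normalizer_iff_cj.1 hcK]
  · intro ⟨y, hy⟩
    obtain ⟨n, rfl⟩ := mem_zpowers_iff.1 hy
    obtain ⟨m, hm⟩ := hc3 ⟨c ^ n, zpow_mem (mem_zpowers c) n⟩
    have hm' : (c ^ n) ^ 3 ^ m = 1 := congrArg Subtype.val hm
    refine ⟨m, Subtype.ext ?_⟩
    show ((g * c * g⁻¹) ^ n) ^ 3 ^ m = 1
    rw [conj_zpow, conj_pow, hm']
    group
  · intro e
    apply hcq
    have h1 : g * (c * q) * g⁻¹ = g * (q * c) * g⁻¹ := by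
      calc g * (c * q) * g⁻¹ = g * c * g⁻¹ * (g * q * g⁻¹) := by group
        _ = g * q * g⁻¹ * (g * c * g⁻¹) := e
        _ = g * (q * c) * g⁻¹ := by group
    exact mul_left_cancel (mul_right_cancel h1)

/-- all members lie in `X`, or `EL` -/
theorem le_or_el (h : W2 Om) (hc : OneCls Om) (c3 : C3E Om) (hr : Rot Om) (hne : Om.Nonempty) (f : ROne.FSimp X)
    (gold : Cit.ROne.Gold ↥X) (h2 : 2 ∣ Nat.card X) : (∀ K ∈ Om, K ≤ X) ∨ EL Om X := by
  by_cases h1 : ∃ K ∈ Om, K ≤ X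
  · left
    obtain ⟨K, hK, h3⟩ := h1
    intro L hL
    obtain ⟨g, rfl⟩ := hc K hK L hL
    intro x hx
    have h4 := f.nor.conj_mem _ (h3 (mem_cj.1 hx)) g
    have e : g * (g⁻¹ * x * g) * g⁻¹ = x := by group
    rwa [e] at h4
  · right
    push Not at h1
    refine ⟨h, f, gold, fun z hz => h.mem_of_fsimp f h2 hz, fun z K hK => ?_, hr, hne⟩
    exact (h.inf_cases c3 f.nor hK).resolve_left (h1 K hK.1)

/-- the closers -/
theorem closer (h : W2 Om) (hc : OneCls Om) (c3 : C3E Om) (hr : Rot Om) (hne : Om.Nonempty) (f : ROne.FSimp X)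
    (gold : Cit.ROne.Gold ↥X) (hB : CloEnd.Bend ↥X) (h1173 : OneF.H1173 G) (hF : CF Om) (h2 : 2 ∣ Nat.card X) :
    AbC X ∧ SCe Om := by
  rcases le_or_el h hc c3 hr hne f gold h2 with h1 | E
  · exact ⟨fun S A hA hAX hcA => (h.toWd hne).false_of_closed f h1 gold hB S hA hAX hcA,
      SCe.of_wd h hne f h1 gold hB h1173 hF⟩
  · exact ⟨fun S A hA hAX hcA => E.closed S A hA hAX hcA, E.sce h1173 hF⟩

/-! ### a translation with first coordinate `≠ 0` -/

theorem asm_key1 : ∀ σ : Equiv.Perm (Fin 3), (∀ i, σ i ≠ i) → σ * σ * (σ * σ) = σ ∧ σ = Equiv.addRight (σ 0) ∧ σ 0 ≠ 0 := by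
  decide

set_option maxRecDepth 10000 in
theorem asm_key2 : ∀ τ : Equiv.Perm (Fin 3), ∃ j : Fin 3, τ * τ * (τ * τ) = Equiv.addRight j := by
  decide

theorem exists_tra (h : W2 Om) (hr : Rot Om) (F : Frame Om z K1 K2 a b) : ∃ g v, Tra z a b g v ∧ v.1 ≠ 0 := by
  obtain ⟨c, hcK, hc3, hq⟩ := hr K1 F.k1.1
  have hcK' := mem_normalizer_iff_cj.1 hcK
  have hcz := F.k1.of_cj h hcK'
  obtain ⟨σ, hσ, hσ0⟩ := exists_rot F.qa hcz hcK' hc3 hq
  have hcK2 : cj c K2 = K2 := by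
    rcases F.k1.cases F.k2 h F.ne (F.k2.cj_comm h hcz) with h1 | h1
    · exact absurd (cj_inj.1 (h1.trans hcK'.symm)).symm F.ne
    · exact h1
  obtain ⟨τ, hτ⟩ := F.qb.exists_act F.qb hcK2 hcz
  have hccz : c * c * z = z * (c * c) := by rw [mul_assoc, hcz, ← mul_assoc, hcz, mul_assoc]
  have h1 : Act z a a (c * c) (σ * σ) := hσ.comp F.qa.z2 hσ hcz
  have h2 : Act z b b (c * c) (τ * τ) := hτ.comp F.qa.z2 hτ hcz
  have h3 : Act z a a (c * c * (c * c)) (σ * σ * (σ * σ)) := h1.comp F.qa.z2 h1 hccz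
  have h4 : Act z b b (c * c * (c * c)) (τ * τ * (τ * τ)) := h2.comp F.qa.z2 h2 hccz
  obtain ⟨e1, e2, e3⟩ := asm_key1 σ hσ0
  obtain ⟨j, e4⟩ := asm_key2 τ
  refine ⟨c * c * (c * c), (σ 0, j), ⟨?_, ?_, ?_⟩, e3⟩
  · rw [mul_assoc, hccz, ← mul_assoc, hccz, mul_assoc]
  · rw [e1, e2] at h3
    exact h3
  · rw [e4] at h4
    exact h4

/-! ### exits -/

theorem SLSub.cl (h : W2 Om) (hz : InZ Om z) (hf : centralizerPPrimeCore 2 z = ⊥) (hs : SLSub z) : AssemblyNil.Cl G := by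
  obtain ⟨J, h2, h3, h4, ⟨e⟩⟩ := hs
  have h5 : oddCore J = ⊥ := by
    have h3 := Lib.PComponents.map_pPrimeCore_le_of_isSubnormal (p := 2) h4
    have h4 : pPrimeCore 2 ↥(centralizer ({z} : Set G)) = ⊥ := by
      unfold centralizerPPrimeCore at hf
      exact (Subgroup.map_eq_bot_iff_of_injective _ (Subgroup.subtype_injective _)).1 hf
    rw [h4, le_bot_iff, Subgroup.map_eq_bot_iff_of_injective _ (Subgroup.subtype_injective _)] at h3
    have h5 := Lib.Cores.map_equiv_pPrimeCore (subgroupOfEquivOfLe h2) 2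
    rw [h3, Subgroup.map_bot] at h5
    rw [oddCore, ← h5]
  refine ⟨z, J, hz.orderOf h, h2, h3, h4, Or.inl ⟨ZMod 3, inferInstance, inferInstance, ?_, ⟨?_⟩⟩⟩
  · rw [ZMod.card]; decide
  · exact ((QuotientGroup.quotientMulEquivOfEq h5).trans QuotientGroup.quotientBot).trans e

/-! ### the cases -/

theorem abel_of (i : LIn.{u}) (S : SW Om) (P : PPAll Om) (hF : CFA G) : Abel Om := by
  intro z t c hc ht
  refine P.abel S (fun c z hc L hL => ?_) hc ht
  have h1 := U10.comp_le' i.bend i.crit S.u10 hc (hF c (CC.sq hc) (S.ne z c hc)) L hL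
  rwa [Subgroup.map_le_iff_le_comap] at h1

/-- the case (A) -/
theorem case_A (h : W2 Om) (hF : CF Om) (hr : Rot Om) (hcls : ∀ z t, InZ Om z → InZ Om t → ∃ g, g * z * g⁻¹ = t)
    (hSC : SCe Om) (hsl : ∀ z, InZ Om z → ¬ SLSub z) (hz : InZ Om z) (h1 : (1 : G) ∈ CC Om z) : EqEps Om := by
  have hA1 : ∀ t, InZ Om t → (1 : G) ∈ CC Om t := by
    intro t ht
    obtain ⟨k, rfl⟩ := hcls z t hz ht
    have h2 := (CC.cj_iff h k).2 h1
    rwa [mul_one, mul_inv_cancel] at h2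
  have hA : ∀ t, InZ Om t → CC Om t = {1} := fun t ht => CC.eq_singleton h (hA1 t ht)
  have hno : ∀ z K1 K2 a b, Frame Om z K1 K2 a b → ∀ v ∈ D0 Om z a b, ¬ WOne v := by
    intro z K1 K2 a b F v hv hw
    exact hsl z F.k1.inZ (sl_end_of_D0 h hF F (hA1 z F.k1.inZ) (fun x _ => by rw [mul_one, one_mul]) hv hw)
  have hD : ∀ z K1 K2 a b, Frame Om z K1 K2 a b → ∃ v, v ≠ 0 ∧ v ∈ D0 Om z a b := by
    intro z K1 K2 a b F
    obtain ⟨g, v, ht, hv⟩ := exists_tra h hr F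
    refine ⟨v, fun e => hv (by rw [e]; rfl), ?_⟩
    obtain ⟨p, hp⟩ := CC.exists_dir h F (hA1 z F.k1.inZ)
    have h2 := ht.dc h F hp
    rw [mul_one, mul_inv_cancel] at h2
    exact (D0.iff h F hp).2 h2
  exact (AW.of h hcls hA hD hno).eqEps hSC hz

/-- the case (S) -/
theorem case_S (i : LIn.{u}) (S : SW Om) (hF : CFA G) (hne : Om.Nonempty)
    (hs : IsSimpleGroup ↥(generalizedFittingSubgroup G)) (hna : ¬ IsMulCommutative ↥(generalizedFittingSubgroup G)) :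
    AssemblyNil.Concl ↥(generalizedFittingSubgroup G) := by
  have P := S.ppAll S.dich
  obtain ⟨F, i1, i2, hF, ⟨e⟩⟩ := S.main P (abel_of i S P hF) hF hne hs hna
  exact Or.inr (Or.inr (Or.inr ⟨F, i1, i2, hF, Or.inl ⟨e⟩⟩))

/-- the case (U) -/
theorem case_U (h : W2 Om) (hF : CF Om) (hn : NoOne Om) (hcls : ∀ z t, InZ Om z → InZ Om t → ∃ g, g * z * g⁻¹ = t)
    (hti : TI Om z t) (hSC : SCe Om) (hU : ∀ z, InZ Om z → UU Om z)
    (h2 : ∀ z K1 K2 a b, Frame Om z K1 K2 a b → (∀ v, v ∈ D0 Om z a b) → False) : False := by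
  refine UW.false_of (Om := Om) ⟨h, hF, hn, hcls, ⟨z, t, hti⟩, ?_, ?_⟩ hSC
  · intro z K1 K2 a b F g v ht
    exact hU z F.k1.inZ K1 K2 a b g v F ht
  · intro z K1 K2 a b F
    by_contra hcon
    push Not at hcon
    exact h2 z K1 K2 a b F hcon

end

/-- **the assembly** -/
theorem main_of {G : Type u} [Group G] [Finite G] {K : Subgroup G} (i : LIn.{u}) (w : AssemblyNil.W3 G K)
    (hf : ∀ t : G, orderOf t = 2 → centralizerPPrimeCore 2 t = ⊥) (h2 : (AssemblyNil.ovr K).ncard = 2)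
    (hm : MOne (cls K))
    (heq : W2 (cls K) → EqEps (cls K) → AssemblyNil.Concl ↥(generalizedFittingSubgroup G))
    (hU : W2 (cls K) → CFA G → NoOne (cls K) → (∀ z, InZ (cls K) z → UU (cls K) z) → ∀ z K1 K2 a b,
      Frame (cls K) z K1 K2 a b → (∀ v, v ∈ D0 (cls K) z a b) → AssemblyNil.Cl G)
    (hS : SB (cls K) → NoOne (cls K) → (∀ z, InZ (cls K) z → ¬ SLSub z) → SCe (cls K) → SW (cls K)) :
    AssemblyNil.Concl ↥(generalizedFittingSubgroup G) := by
  have h := W2.of_w3 w h2 hf hm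
  have hc := oneCls_cls K
  have hcls : ∀ z t, InZ (cls K) z → InZ (cls K) t → ∃ g, g * z * g⁻¹ = t := fun z t hz ht => hc.conj h hz ht
  have c3 := C3E.of_c3 h w.c3
  have hr := rot_cls h w.c3
  have cf := CF.of_free h hf
  have f := ROne.fsimp_of w.simple w.na
  haveI := f.sim
  have hne : (cls K).Nonempty := ⟨K, self_mem_cls K⟩
  have hF : CFA G := by
    intro j hj hj1
    haveI : Fact (Nat.Prime 2) := ⟨Nat.prime_two⟩
    exact hf j (orderOf_eq_prime (by rw [pow_two]; exact hj) hj1)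
  have gold : Cit.ROne.Gold ↥(generalizedFittingSubgroup G) := fun S A h1 h2 h3 => i.gold _ S A h1 h2 h3
  have h1173 : OneF.H1173 G := i.h1173 G (oddCore_eq_bot f w.even)
  obtain ⟨hab, hSC⟩ := closer h hc c3 hr hne f gold (i.bend _) h1173 cf w.even
  have hsl : ∀ z, InZ (cls K) z → ¬ SLSub z := fun z hz hs => w.ncl (hs.cl h hz (hf z (hz.orderOf h)))
  by_cases hT : TO (cls K)
  · exact (t_world h hT cf hne (fun hcl => w.ncl hcl.cl) (fun z hz => h.mem_of_fsimp f w.even hz) hab).elim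
  unfold TO at hT
  push Not at hT
  obtain ⟨z, t, hz, ht, hi, hne'⟩ := hT
  have hti : TI (cls K) z t := ⟨hz, ht, hne'.symm, (hi.comm_z hz h).symm, hi⟩
  by_cases hA : ∃ z, (1 : G) ∈ CC (cls K) z
  · obtain ⟨y, hy⟩ := hA
    exact heq h (case_A h cf hr hcls hSC hsl (CC.inZ hy) hy)
  have hn : NoOne (cls K) := by
    intro y c hc e
    exact hA ⟨y, e ▸ hc⟩
  rcases dichotomy h cf hcls ⟨z, t, hti⟩ with hUU | hSB
  · exact (case_U h cf hn hcls hti hSC hUU fun z K1 K2 a b F hall => w.ncl (hU h hF hn hUU z K1 K2 a b F hall)).elim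
  · exact case_S i (hS hSB hn hsl hSC) hF hne w.simple w.na

end Cfsg.Agent.Cit.Nil.RTwo
end

-- part: Cit/Nil/CompR/SecRot
section
set_option linter.all false
open scoped Cfsg.Agent.FastGrp

/-!
# S1309 (n6), COMP, `r = 2`, the section of a block: one class and rotations in `B = ⟨Om⟩`

* `oneCls_restr` : if some point is swapped by a commuting point, the members are one class of `B`;
* `rot_of_ti` : a pair of type I gives a rotation in `B`;
* `rot_of_pr` : so does a pair of type p;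
* `WMap.rot`, `WMap.oneCls` : transfer.
-/

set_option autoImplicit false
set_option linter.unusedSectionVars false

namespace Cfsg.Agent.Cit.Nil.CompR

open Subgroup Cfsg Cfsg.Agent.Cit Cfsg.Agent.Cit.Nil.RTwo

variable {G : Type*} [Group G]

theorem isPGroup_zp {p : ℕ} {c : G} {e : ℕ} (h : c ^ p ^ e = 1) : IsPGroup p (zpowers c) := by
  rintro ⟨y, hy⟩
  obtain ⟨m, rfl⟩ := mem_zpowers_iff.1 hy
  refine ⟨e, Subtype.ext ?_⟩
  show (c ^ m) ^ p ^ e = 1
  rw [← zpow_natCast, ← zpow_mul, mul_comm, zpow_mul, zpow_natCast, h, one_zpow]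

/-- one rotation is enough if there is one class -/
theorem rot_of_mem {Om : Set (Subgroup G)} (hc : OneCls Om) {K : Subgroup G} (hK : K ∈ Om) {c : G} (hcK : cj c K = K)
    {e : ℕ} (h3 : c ^ 3 ^ e = 1) (hq : ∃ q ∈ K, c * q ≠ q * c) : Rot Om := by
  intro L hL
  obtain ⟨g, rfl⟩ := hc K hK L hL
  refine ⟨g * c * g⁻¹, ?_, isPGroup_zp (e := e) ?_, ?_⟩
  · rw [mem_normalizer_iff_cj, cj_mul, cj_mul, cj_inv_cj, hcK]
  · rw [← MulAut.conj_apply, ← map_pow, h3, map_one]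
  · obtain ⟨q, hqK, hne⟩ := hq
    refine ⟨g * q * g⁻¹, conj_mem_cj hqK, fun h => hne ?_⟩
    have h1 : g * (c * q) * g⁻¹ = g * (q * c) * g⁻¹ := by
      calc g * (c * q) * g⁻¹ = g * c * g⁻¹ * (g * q * g⁻¹) := by group
        _ = g * q * g⁻¹ * (g * c * g⁻¹) := h
        _ = _ := by group
    exact mul_left_cancel (mul_right_cancel h1)

variable [Finite G] {Om : Set (Subgroup G)} {K L K1 K2 L1 L2 : Subgroup G} {z t g x y b : G} {a c : Fin 3 → G}

theorem perm_pow_ne : ∀ σ : Equiv.Perm (Fin 3), (∀ i, σ i ≠ i) → σ ^ 3 = 1 ∧ σ ≠ 1 ∧ σ ^ 2 ≠ 1 := by decide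

/-- the `3`-part of an element which rotates the axes -/
theorem exists_three_part (Q : Q3 K z a) (hbz : b * z = z * b) (hbK : cj b K = K) {σ : Equiv.Perm (Fin 3)}
    (hσ : Act z a a b σ) (hσ0 : ∀ i, σ i ≠ i) :
    ∃ n e : ℕ, (b ^ n) ^ 3 ^ e = 1 ∧ cj (b ^ n) K = K ∧ ∃ q ∈ K, b ^ n * q ≠ q * b ^ n := by
  obtain ⟨e, n, hn, hord⟩ := Nat.exists_eq_pow_mul_and_not_dvd (orderOf_pos b).ne' 3 (by decide)
  refine ⟨n, e, ?_, ?_, ?_⟩
  · rw [← pow_mul, mul_comm, ← hord, pow_orderOf_eq_one]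
  · have h1 : ∀ m : ℕ, cj (b ^ m) K = K := by
      intro m
      induction m with
      | zero => rw [pow_zero, cj_one]
      | succ m ih => rw [pow_succ, cj_mul, hbK, ih]
    exact h1 n
  · have hpow : ∀ m : ℕ, Act z a a (b ^ m) (σ ^ m) := by
      intro m
      induction m with
      | zero => rw [pow_zero, pow_zero]; exact Act.one a z
      | succ m ih =>
        have h1 := ih.comp Q.z2 hσ hbz
        rw [pow_succ' b, pow_succ' σ]
        exact h1
    obtain ⟨p3, p1, p2⟩ := perm_pow_ne σ hσ0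
    by_contra hcon
    push Not at hcon
    have h1 : Act z a a (b ^ n) 1 := fun i => Or.inl (by
      rw [hcon _ (Q.mem i), mul_inv_cancel_right]; rfl)
    have h2 : σ ^ n = 1 := (hpow n).unique Q h1
    have h3 : n = 3 * (n / 3) + n % 3 := (Nat.div_add_mod n 3).symm
    have h4 : σ ^ (n % 3) = 1 := by
      rw [h3, pow_add, pow_mul, p3, one_pow, one_mul] at h2
      exact h2
    have h5 : n % 3 = 1 ∨ n % 3 = 2 := by omega
    rcases h5 with h5 | h5
    · rw [h5, pow_one] at h4; exact p1 h4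
    · rw [h5] at h4; exact p2 h4

/-- the members generate a normal subgroup -/
theorem cj_mem_sSup (h : W2 Om) (g : G) (hx : x ∈ sSup Om) : g * x * g⁻¹ ∈ sSup Om := by
  have h1 : sSup Om ≤ (sSup Om).comap (MulAut.conj g).toMonoidHom := by
    refine sSup_le fun K hK k hk => ?_
    exact (le_sSup (h.hyp.conj K hK g) : cj g K ≤ sSup Om) (conj_mem_cj hk)
  exact h1 hx

theorem le_B (hK : K ∈ Om) : K ≤ sSup Om := le_sSup hK

/-- a rotation of a member by an element of `B` -/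
theorem rot_restr_of (h : W2 Om) (hcls : OneCls (restr Om (sSup Om))) (hL : Mem Om t L) (qc : Q3 L t c)
    (hb : b ∈ sSup Om) (hbt : b * t = t * b) (hbL : cj b L = L) {σ : Equiv.Perm (Fin 3)} (ha : Act t c c b σ)
    (hσ : ∀ i, σ i ≠ i) : Rot (restr Om (sSup Om)) := by
  obtain ⟨n, e, h3, hn, q, hq, hne⟩ := exists_three_part qc hbt hbL ha hσ
  have hLB := le_B hL.1
  have hmem : L.subgroupOf (sSup Om) ∈ restr Om (sSup Om) := subgroupOf_mem_restr hL.1 hLB
  refine rot_of_mem hcls hmem (c := ⟨b ^ n, pow_mem hb n⟩) (e := e) ?_ (Subtype.ext h3) ?_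
  · apply map_injective (sSup Om).subtype_injective
    rw [cj_map, map_subgroupOf_eq_of_le hLB]
    exact hn
  · exact ⟨⟨q, hLB hq⟩, hq, fun h1 => hne (congrArg Subtype.val h1)⟩

/-- members in a common 2-group lie over the same point -/
theorem zz_eq_of_le {K L S : Subgroup G} (hK : K ∈ Om) (hL : L ∈ Om) (h : W2 Om) (hS : IsPGroup 2 S) (hKS : K ≤ S)
    (hLS : L ≤ S) : zz K = zz L := by
  have mK : Mem Om (zz K) K := ⟨hK, rfl⟩
  have mL : Mem Om (zz L) L := ⟨hL, rfl⟩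
  refine (mL.inZ.eq_of_cent mK h fun k hk => ?_).symm
  exact (mL.central h hS hLS (hKS hk)).symm

/-- two members are conjugate to members over the same point -/
theorem exists_zz_eq (h : W2 Om) (hK : K ∈ Om) (hL : L ∈ Om) : ∃ g, zz (cj g K) = zz L := by
  haveI : Fact (Nat.Prime 2) := ⟨Nat.prime_two⟩
  obtain ⟨P, hP⟩ := (h.isPGroup hK).exists_le_sylow
  obtain ⟨S, hS⟩ := (h.isPGroup hL).exists_le_sylow
  obtain ⟨g, hg⟩ := MulAction.exists_smul_eq G P S
  refine ⟨g, zz_eq_of_le (h.hyp.conj K hK g) hL h S.isPGroup' ?_ hS⟩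
  rw [← hg]
  rintro _ ⟨k, hk, rfl⟩
  rw [Sylow.coe_subgroup_smul]
  exact Subgroup.smul_mem_pointwise_smul k (MulAut.conj g) _ (hP hk)

/-- if a point is swapped by an element, all members are conjugate -/
theorem oneCls_of_sw (h : W2 Om) (hz : RTwo.InZ Om z) (ht : g * z = z * g) (hsw : Sw Om z g) : OneCls Om := by
  intro K hK L hL
  obtain ⟨M, hM⟩ := hz
  obtain ⟨k, hk⟩ := exists_zz_eq h hM.1 hL
  obtain ⟨l, hl⟩ := exists_zz_eq h hK hL
  by_cases heq : cj l K = L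
  · exact ⟨l, heq⟩
  · have mL : Mem Om (zz L) L := ⟨hL, rfl⟩
    have mK : Mem Om (zz L) (cj l K) := ⟨h.hyp.conj K hK l, hl⟩
    have e1 : k * z * k⁻¹ = zz L := by
      rw [← hk]; exact (hM.cj h k).2.symm
    have hs : Sw Om (zz L) (k * g * k⁻¹) := by
      rw [← e1]; exact Sw.conj h hsw k
    have hc : (k * g * k⁻¹) * zz L = zz L * (k * g * k⁻¹) := by
      rw [← e1]
      calc k * g * k⁻¹ * (k * z * k⁻¹) = k * (g * z) * k⁻¹ := by group
        _ = k * (z * g) * k⁻¹ := by rw [ht]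
        _ = _ := by group
    refine ⟨k * g * k⁻¹ * l, ?_⟩
    rw [cj_mul]
    rcases mK.cases mL h heq (mK.cj_comm h hc) with h1 | h1
    · exact absurd h1 (hs _ mK)
    · exact h1

/-- **(R3)** -/
theorem oneCls_restr (h : W2 Om) (hz : RTwo.InZ Om z) (ht : RTwo.InZ Om t) (hc : z * t = t * z) (hsw : Sw Om z t) :
    OneCls (restr Om (sSup Om)) := by
  have m := w2_restr h (B := sSup Om) fun K hK => le_B hK
  obtain ⟨K, hK⟩ := hz
  obtain ⟨L, hL⟩ := ht
  have hzB : z ∈ sSup Om := le_B hK.1 (hK.zmem h)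
  have htB : t ∈ sSup Om := le_B hL.1 (hL.zmem h)
  have hz' : RTwo.InZ (restr Om (sSup Om)) ⟨z, hzB⟩ := by
    obtain ⟨z', h1, h2⟩ := m.lift_inZ hK.inZ
    have h3 : z' = ⟨z, hzB⟩ := Subtype.ext h2
    rwa [h3] at h1
  refine oneCls_of_sw m.w1 hz' (g := ⟨t, htB⟩) (Subtype.ext hc.symm) ?_
  exact m.sw_up hsw

theorem perm_rot : ∀ σ τ : Equiv.Perm (Fin 3), σ 0 = 0 → σ 1 = 2 → τ 0 ≠ 0 → ∀ i, (σ * (τ * (σ * τ⁻¹))) i ≠ i := by
  decide

/-- **(R1)** -/
theorem rot_of_ti (h : W2 Om) (c3 : C3E Om) (hcls : OneCls (restr Om (sSup Om))) (hti : TI Om z t) :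
    Rot (restr Om (sSup Om)) := by
  obtain ⟨K1, K2, L1, L2, a, b, c, d, C⟩ := hti.exists_cf h
  obtain ⟨r0, r1⟩ := C.rot h
  have hat : a 0 * t = t * a 0 := C.ta0.symm
  have haL : cj (a 0) L1 = L1 := h.h3 C.k1 C.l1 (C.qa.mem 0) (C.qa.sq 0) hat
  obtain ⟨σ, hσ⟩ := C.qc.exists_act C.qc haL hat
  have s0 : σ 0 = 0 := by
    rcases hσ 0 with h1 | h1
    · exact (C.qc.inj (Or.inl (r0.symm.trans h1))).symm
    · exact (C.qc.inj (Or.inr (r0.symm.trans h1))).symm
  have s1 : σ 1 = 2 := by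
    rcases hσ 1 with h1 | h1 <;> rcases r1 with h2 | h2
    · exact C.qc.inj (Or.inl (h1.symm.trans h2))
    · exact C.qc.inj (Or.inr (h1.symm.trans h2))
    · exact (C.qc.inj (Or.inr (h2.symm.trans h1))).symm
    · exact C.qc.inj (Or.inl (mul_left_cancel (h1.symm.trans h2)))
  obtain ⟨g, hgt, hgL, hg1, hg2⟩ := c3 t L1 C.l1 (c 0) (C.qc.mem 0) (C.qc.sq 0)
  obtain ⟨τ, hτ⟩ := C.qc.exists_act C.qc hgL hgt
  have t0 : τ 0 ≠ 0 := by
    intro h0
    rcases hτ 0 with h1 | h1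
    · rw [h0] at h1; exact hg1 h1
    · rw [h0] at h1; exact hg2 h1
  have hgi : g⁻¹ * t = t * g⁻¹ := by
    rw [inv_mul_eq_iff_eq_mul, ← mul_assoc, hgt, mul_inv_cancel_right]
  have k1 : Act t c c g⁻¹ τ⁻¹ := hτ.inv' C.t2 hgt
  have k2 : Act t c c (a 0 * g⁻¹) (σ * τ⁻¹) := k1.comp C.t2 hσ hat
  have k3 : Act t c c (g * (a 0 * g⁻¹)) (τ * (σ * τ⁻¹)) := k2.comp C.t2 hτ hgt
  have k4 : Act t c c (a 0 * (g * (a 0 * g⁻¹))) (σ * (τ * (σ * τ⁻¹))) := k3.comp C.t2 hσ hat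
  have haB : a 0 ∈ sSup Om := le_B C.k1.1 (C.qa.mem 0)
  have hB : a 0 * (g * (a 0 * g⁻¹)) ∈ sSup Om := by
    refine mul_mem haB ?_
    have := cj_mem_sSup h g haB
    rwa [mul_assoc] at this
  have hc1 : (a 0 * (g * (a 0 * g⁻¹))) * t = t * (a 0 * (g * (a 0 * g⁻¹))) := by
    calc (a 0 * (g * (a 0 * g⁻¹))) * t = a 0 * g * a 0 * (g⁻¹ * t) := by group
      _ = a 0 * g * a 0 * (t * g⁻¹) := by rw [hgi]
      _ = a 0 * g * (a 0 * t) * g⁻¹ := by group
      _ = a 0 * g * (t * a 0) * g⁻¹ := by rw [hat]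
      _ = a 0 * (g * t) * a 0 * g⁻¹ := by group
      _ = a 0 * (t * g) * a 0 * g⁻¹ := by rw [hgt]
      _ = (a 0 * t) * g * a 0 * g⁻¹ := by group
      _ = (t * a 0) * g * a 0 * g⁻¹ := by rw [hat]
      _ = _ := by group
  have hgL' : cj g⁻¹ L1 = L1 := by
    conv_lhs => rw [← hgL, ← cj_mul, inv_mul_cancel, cj_one]
  have hc2 : cj (a 0 * (g * (a 0 * g⁻¹))) L1 = L1 := by
    rw [cj_mul, cj_mul, cj_mul, hgL', haL, hgL, haL]
  exact rot_restr_of h hcls C.l1 C.qc hB hc1 hc2 k4 (perm_rot σ τ s0 s1 t0)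

theorem rho_ne : ∀ i, rho i ≠ i := by decide

/-- **(R2)** -/
theorem rot_of_pr (h : W2 Om) (hT : TO Om) (cf : CF Om) (hcls : OneCls Om) (hp : PR Om z t) : Rot Om := by
  obtain ⟨K, x, hK, hx⟩ := hp.hz.exists_q3 h
  obtain ⟨d, hdz, -, hd, -⟩ := hp.exists_rot hK hx h hT cf
  have hdK : cj d K = K := by
    rcases hd 0 with h1 | h1
    · by_contra hne
      have h2 := hK.cj_comm h hdz
      have h3 : x (rho 0) ∈ cj d K := by rw [← h1]; exact conj_mem_cj (hx.mem 0)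
      have h4 := hK.inf h2 h (Ne.symm hne) (hx.mem (rho 0)) h3
      rcases h4 with h4 | h4
      · exact hx.ne_one _ h4
      · exact hx.ne_z _ h4
    · by_contra hne
      have h2 := hK.cj_comm h hdz
      have h3 : z * x (rho 0) ∈ cj d K := by rw [← h1]; exact conj_mem_cj (hx.mem 0)
      have h4 := hK.inf h2 h (Ne.symm hne) (mul_mem hx.zmem (hx.mem (rho 0))) h3
      rcases h4 with h4 | h4
      · exact hx.zx_ne_one _ h4
      · exact hx.zx_ne_z _ h4
  obtain ⟨n, e, h3, hn, hq⟩ := exists_three_part hx hdz hdK hd rho_ne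
  exact rot_of_mem hcls hK.1 hn h3 hq

/-! ### (R4) -/

section map

variable {G₁ G₂ : Type*} [Group G₁] [Group G₂] [Finite G₁] [Finite G₂] {f : G₁ →* G₂} {O₁ : Set (Subgroup G₁)}
  {O₂ : Set (Subgroup G₂)}

theorem WMap.oneCls (m : WMap f O₁ O₂) (h : OneCls O₁) : OneCls O₂ := by
  intro K' hK' L' hL'
  rw [m.im] at hK' hL'
  obtain ⟨K, hK, rfl⟩ := hK'
  obtain ⟨L, hL, rfl⟩ := hL'
  obtain ⟨g, rfl⟩ := h K hK L hL
  exact ⟨f g, (cj_map f g K).symm⟩

theorem WMap.rot (m : WMap f O₁ O₂) (h : Rot O₁) : Rot O₂ := by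
  intro K' hK'
  rw [m.im] at hK'
  obtain ⟨K, hK, rfl⟩ := hK'
  obtain ⟨c, hc, h3, q, hq, hne⟩ := h K hK
  have hcK := mem_normalizer_iff_cj.1 hc
  obtain ⟨e, he⟩ := h3 ⟨c, mem_zpowers c⟩
  have he' : c ^ 3 ^ e = 1 := congrArg Subtype.val he
  refine ⟨f c, ?_, isPGroup_zp (e := e) (by rw [← map_pow, he', map_one]), f q, ⟨q, hq, rfl⟩, fun h1 => hne ?_⟩
  · rw [mem_normalizer_iff_cj, ← cj_map, hcK]
  · have h2 : c * q * c⁻¹ ∈ K := by
      have := conj_mem_cj (g := c) hq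
      rwa [hcK] at this
    have h4 := m.inj_on hK h2 hq (by rw [map_mul, map_mul, map_inv, h1, mul_inv_cancel_right])
    rwa [mul_inv_eq_iff_eq_mul] at h4

end map

end Cfsg.Agent.Cit.Nil.CompR
end

-- part: Cit/Nil/RTwo/DQ
section
set_option linter.all false
open scoped Cfsg.Agent.FastGrp

/-!
# `r = 2`, `m = 1`: two facts about the pairs of type I (used for the product situation in COMP)

`DQ Om` :
* `d` : an involution `g` commuting with `z` fixes a direction of type I: `g t g⁻¹ ∈ {t, z t}` for some `t` with `TI z t`;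
* `q` : an involution `q ≠ z` of `R_z` is inner at some `t` with `TI z t`.

* `SW.dq` : the world (S);
* `AW.dq` : the world (A), with `SCe`.
-/

set_option autoImplicit false
set_option linter.style.haveILetI false
set_option linter.unusedSectionVars false

namespace Cfsg.Agent.Cit.Nil.RTwo

open Subgroup Cfsg Cfsg.Agent.Cit

variable {G : Type*} [Group G]

/-- see the head of the file -/
structure DQ (Om : Set (Subgroup G)) : Prop where
  d : ∀ z g, InZ Om z → g * z = z * g → g * g = 1 → ∃ t, TI Om z t ∧ (g * t * g⁻¹ = t ∨ g * t * g⁻¹ = z * t)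
  q : ∀ z q, InZ Om z → q ∈ RZ Om z → q * q = 1 → q ≠ 1 → q ≠ z → ∃ t, TI Om z t ∧ Inn Om t q

variable [Finite G] {Om : Set (Subgroup G)} {K K1 K2 L L1 L2 M : Subgroup G} {z t g u x y w q c c' : G}
  {a b p r : Fin 3 → G}

/-- the permutation of the directions induced by an involution is an involution -/
theorem Frame.exists_perm_fix (F : Frame Om z K1 K2 a b) (h : W2 Om) (hg : g * z = z * g) (hgg : g * g = 1) :
    ∃ p : Fin 3 × Fin 3, ∀ w, Dir z a b w p.1 p.2 → Dir z a b (g * w * g⁻¹) p.1 p.2 := by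
  obtain ⟨π, hπ⟩ := F.exists_perm h hg
  have h2 : π ^ 2 ^ 1 = 1 := by
    rw [pow_one, pow_two]
    apply Equiv.ext
    intro p
    have h3 := hπ _ _ (hπ (a p.1 * b p.2) p (Or.inl rfl))
    have e : g * (g * (a p.1 * b p.2) * g⁻¹) * g⁻¹ = a p.1 * b p.2 := by
      have e1 : g⁻¹ * g⁻¹ = 1 := by rw [← mul_inv_rev, hgg, inv_one]
      calc g * (g * (a p.1 * b p.2) * g⁻¹) * g⁻¹ = (g * g) * (a p.1 * b p.2) * (g⁻¹ * g⁻¹) := by group
        _ = _ := by rw [hgg, e1, one_mul, mul_one]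
    rw [e] at h3
    obtain ⟨e1, e2⟩ := F.dir_unique h (Or.inl rfl) h3
    exact (Prod.ext e1 e2).symm
  haveI : Fact (Nat.Prime 2) := ⟨Nat.prime_two⟩
  obtain ⟨p, hp⟩ := Equiv.Perm.exists_fixed_point_of_prime (p := 2) (n := 1) (by simp) h2
  refine ⟨p, fun w hw => ?_⟩
  have h3 := hπ w p hw
  rwa [hp] at h3

namespace SW

variable (S : SW Om)

include S

theorem dq : DQ Om where
  d z g hz hg hgg := by
    have h := S.w
    obtain ⟨K1, K2, a, b, F⟩ := hz.exists_frame h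
    obtain ⟨p, hp⟩ := F.exists_perm_fix h hg hgg
    obtain ⟨v, -, -, hl⟩ := S.line z K1 K2 a b F
    obtain ⟨c, hc⟩ := hl p
    obtain ⟨t, l, hd⟩ := (hc p).2 (Or.inl rfl)
    have l' := l.conj_comm h hg
    have hd' := hp _ hd
    have e : g * (t * c) * g⁻¹ = g * t * g⁻¹ * (g * c * g⁻¹) := by group
    rw [e] at hd'
    have h1 : c = g * c * g⁻¹ := S.uniq z K1 K2 a b F _ _ p ⟨t, l, hd⟩ ⟨_, l', hd'⟩
    rw [← h1] at hd'
    exact ⟨t, l.ti, F.eq_of_dir hd hd'⟩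
  q z q hz hq hqq h1 h2 := by
    have h := S.w
    obtain ⟨K1, K2, a, b, F⟩ := hz.exists_frame h
    obtain ⟨i, j, hd⟩ := F.exists_dir h hq hqq h1 h2
    obtain ⟨v, -, -, hl⟩ := S.line z K1 K2 a b F
    obtain ⟨c, hc⟩ := hl (i, j)
    obtain ⟨t, l, hd'⟩ := (hc (i, j)).2 (Or.inl rfl)
    refine ⟨t, l.ti, ?_⟩
    have htc : Inn Om t (t * c) := Inn.of_CX (mul_mem (z_mem_CX h) l.ct)
    have hzt : Inn Om t z := (l.ti.symm h).2.2.2.2
    have hq' : q = t * c ∨ q = z * (t * c) := by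
      rcases hd with e1 | e1 <;> rcases hd' with e2 | e2
      · left; rw [e1, e2]
      · right; rw [e1, e2, F.qa.zzx]
      · right; rw [e1, e2]
      · left; rw [e1, e2]
    rcases hq' with e | e
    · rw [e]; exact htc
    · rw [e]; exact hzt.mul htc l.ti.2.1 h

end SW

/-- one side of `ft_mul_inn` -/
theorem Cf.inn_side (C : Cf Om z t K1 K2 L1 L2 a b p r) (h : W2 Om) (hf : FT Om t u) (hu : u * z = z * u) :
    ∀ k ∈ L1, u * a 0 * k * (u * a 0)⁻¹ = k ∨ u * a 0 * k * (u * a 0)⁻¹ = t * k := by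
  obtain ⟨σ, hσ, e1, e2⟩ := hf.act h C.l1 C.qc
  have hL1 : cj u L1 = L1 := hf.fr.fx L1 C.l1
  have e3 : σ 0 = 0 := by
    rcases C.fix_or hu hL1 with e4 | e4 <;> rcases hσ 0 with e5 | e5
    · exact (C.qc.inj (Or.inl (e4.symm.trans e5))).symm
    · exact (C.qc.inj (Or.inr (e4.symm.trans e5))).symm
    · exact C.qc.inj (Or.inr (e5.symm.trans e4))
    · exact (C.qc.inj (Or.inl (mul_left_cancel (e4.symm.trans e5)))).symm
  have e4 := rf_of e3 e2
  rw [e4] at hσ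
  have e5 := (C.symm.act_p0 h).comp C.t2 hσ hf.fr.comm.symm
  have e6 : rf 0 * rf 0 = 1 := by decide
  rw [e6] at e5
  refine e5.inner C.qc ?_
  rw [mul_assoc, ← C.ta0, ← mul_assoc, hf.fr.comm.symm, mul_assoc]

/-- the product of an outer involution `u` at `t` with a quarter turn is inner at `t` -/
theorem ft_mul_inn (h : W2 Om) (hti : TI Om z t) (hf : FT Om t u) (hu : u * z = z * u) (hK : Mem Om z K)
    (hy : y ∈ K) (hyy : y * y = z) (hyt : y * t = t * y) : Inn Om t (u * y) := by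
  obtain ⟨K1, K2, L1, L2, a, b, p, r, C⟩ := hti.exists_cf h
  -- the statement for `K1`
  have key : ∀ {K1 K2 L1 L2 : Subgroup G} {a b p r : Fin 3 → G}, Cf Om z t K1 K2 L1 L2 a b p r → K = K1 →
      Inn Om t (u * y) := by
    intro K1 K2 L1 L2 a b p r C hKK
    subst hKK
    -- `y` is `a 0` or its inverse
    have hy0 : y = a 0 ∨ y = z * a 0 := by
      obtain ⟨i, hi⟩ := C.qa.of_sq hy hyy
      by_cases hi0 : i = 0
      · rwa [hi0] at hi
      exfalso
      have h1 := C.ta y hy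
      rw [← hyt, mul_inv_cancel_right] at h1
      have h2 : y * a 0 = a 0 * y := by
        rw [eq_mul_inv_iff_mul_eq] at h1
        exact h1
      have h3 : a i * a 0 = a 0 * a i := by
        rcases hi with e | e
        · rwa [e] at h2
        · rw [e] at h2
          have h4 : z * (a i * a 0) = z * (a 0 * a i) := by
            calc z * (a i * a 0) = z * a i * a 0 := by group
              _ = a 0 * (z * a i) := h2
              _ = (a 0 * z) * a i := by group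
              _ = (z * a 0) * a i := by rw [C.qa.zc]
              _ = _ := by group
          exact mul_left_cancel h4
      have h4 := C.qa.anti hi0
      rw [h3, mul_assoc] at h4
      exact C.qa.z1 (mul_eq_right.1 h4.symm)
    have hin : Inn Om t (u * a 0) := by
      intro M hM
      rcases C.l1.cases C.l2 h C.lne hM with e | e
      · rw [e]; exact C.inn_side h hf hu
      · rw [e]; exact C.swl.inn_side h hf hu
    rcases hy0 with e | e
    · rw [e]; exact hin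
    · have e1 : u * y = (u * a 0) * z := by rw [e, C.qa.zc]; group
      rw [e1]
      exact hin.mul (hti.symm h).2.2.2.2 hti.2.1 h
  rcases C.k1.cases C.k2 h C.kne hK with e | e
  · exact key C e
  · exact key C.swk e

namespace AW

variable (W : AW Om)

include W

/-- all pairs of type I partners are of type f -/
theorem ft_all (hSC : SCe Om) (hz : InZ Om z) :
    ∀ z s s', TI Om z s → TI Om z s' → s ≠ s' → s' ≠ z * s → FT Om s s' := by
  have h := W.w
  rcases W.one_or_two with h1 | h1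
  · have P : POne Om := ⟨W.w, W.line, h1⟩
    rcases pone_dich W P with h0 | h0
    · exfalso
      have h2 : ∀ z t, InZ Om z → InZ Om t → z * t = t * z → AS Om z = AS Om t := by
        intro z t hz ht hc
        have : {x | x = z ∨ TI Om z x} = {x | x = t ∨ TI Om t x} := by
          ext x; exact P.const h0 hz ht hc x
        rw [AS, AS, this]
      have h3 := hSC (AS Om) (fun g z _ => (AS_conj h g).symm) (fun z hz x hx => by
        rw [mem_centralizer_singleton_iff]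
        exact W.AS_comm hz hx z_mem_AS) h2 z hz
      have h4 : z ∈ AS Om z := z_mem_AS
      rw [h3, mem_bot] at h4
      exact hz.z1 h h4
    · exact h0
  · exact (AW2.false_of ⟨W, h1⟩ hSC hz).elim

theorem dq (hSC : SCe Om) : DQ Om where
  d z g hz hg hgg := by
    have h := W.w
    obtain ⟨K1, K2, a, b, D⟩ := W.dg z hz
    have hmap : ∀ i, ∃ j, g * (a i * b i) * g⁻¹ = a j * b j ∨ g * (a i * b i) * g⁻¹ = z * (a j * b j) := by
      intro i
      have h1 := ((D.ti _).2 ⟨i, Or.inl rfl⟩).conj h g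
      rw [hg, mul_inv_cancel_right] at h1
      exact (D.ti _).1 h1
    choose σ hσ using hmap
    have hss : ∀ i, σ (σ i) = i := by
      intro i
      have hz' : ∀ x, g * (z * x) * g⁻¹ = z * (g * x * g⁻¹) := by
        intro x
        calc g * (z * x) * g⁻¹ = (g * z) * x * g⁻¹ := by group
          _ = z * g * x * g⁻¹ := by rw [hg]
          _ = _ := by group
      have e : g * (g * (a i * b i) * g⁻¹) * g⁻¹ = a i * b i := by
        have e1 : g⁻¹ * g⁻¹ = 1 := by rw [← mul_inv_rev, hgg, inv_one]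
        calc g * (g * (a i * b i) * g⁻¹) * g⁻¹ = (g * g) * (a i * b i) * (g⁻¹ * g⁻¹) := by group
          _ = _ := by rw [hgg, e1, one_mul, mul_one]
      have h1 : Dir z a b (a i * b i) (σ (σ i)) (σ (σ i)) := by
        rw [← e]
        rcases hσ i with h2 | h2 <;> rw [h2]
        · exact hσ (σ i)
        · rw [hz']
          rcases hσ (σ i) with h3 | h3
          · right; rw [h3]
          · left; rw [h3, D.fr.qa.zzx]
      exact (D.fr.dir_unique h h1 (Or.inl rfl)).1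
    have hfix : ∀ σ : Fin 3 → Fin 3, (∀ i, σ (σ i) = i) → ∃ i, σ i = i := by decide
    obtain ⟨i, hi⟩ := hfix σ hss
    refine ⟨a i * b i, (D.ti _).2 ⟨i, Or.inl rfl⟩, ?_⟩
    have h1 := hσ i
    rwa [hi] at h1
  q z q hz hq hqq h1 h2 := by
    have h := W.w
    have hF := W.ft_all hSC hz
    obtain ⟨K1, K2, a, b, D⟩ := W.dg z hz
    obtain ⟨i, j, hd⟩ := D.fr.exists_dir h hq hqq h1 h2
    have hti : ∀ i, TI Om z (a i * b i) := fun i => (D.ti _).2 ⟨i, Or.inl rfl⟩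
    -- it is enough to treat `a i * b j`
    suffices hs : ∃ t, TI Om z t ∧ Inn Om t (a i * b j) by
      obtain ⟨t, ht, hi⟩ := hs
      refine ⟨t, ht, ?_⟩
      rcases hd with e | e
      · rw [e]; exact hi
      · rw [e]; exact ((ht.symm h).2.2.2.2).mul hi ht.2.1 h
    by_cases hij : i = j
    · subst hij
      exact ⟨_, hti i, Inn.of_CX (z_mem_CX h)⟩
    -- the third index
    obtain ⟨k, hki, hkj, hk⟩ : ∃ k, k ≠ i ∧ k ≠ j ∧ (b i * b j = b k ∨ b i * b j = z * b k) := by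
      have key : ∀ i j : Fin 3, i ≠ j → j = i + 1 ∨ j = i + 2 := by decide
      have k1 : ∀ i : Fin 3, i + 2 ≠ i ∧ i + 2 ≠ i + 1 ∧ i + 1 ≠ i ∧ i + 1 ≠ i + 2 := by decide
      rcases key i j hij with e | e
      · subst e
        exact ⟨i + 2, (k1 i).1, (k1 i).2.1, Or.inl (D.fr.qb.mul i)⟩
      · subst e
        exact ⟨i + 1, (k1 i).2.2.1, (k1 i).2.2.2, Or.inr (D.fr.qb.mul2' i)⟩
    refine ⟨a k * b k, hti k, ?_⟩
    have e0 : a i * b j = (a i * b i) * ((b i)⁻¹ * b j) := by group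
    have hy : (b i)⁻¹ * b j = b k ∨ (b i)⁻¹ * b j = z * b k := by
      rw [D.fr.qb.inv]
      rcases hk with e | e
      · right; rw [mul_assoc, e]
      · left; rw [mul_assoc, e, D.fr.qb.zzx]
    have hne : a k * b k ≠ a i * b i := fun e => hki
      (D.fr.dir_unique h (w := a k * b k) (Or.inl rfl) (Or.inl e)).1
    have hne' : a i * b i ≠ z * (a k * b k) := fun e => hki
      (D.fr.dir_unique h (w := a i * b i) (Or.inr e) (Or.inl rfl)).1
    have hft : FT Om (a k * b k) (a i * b i) := hF z _ _ (hti k) (hti i) hne hne'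
    rw [e0]
    refine ft_mul_inn h (hti k) hft (hti i).2.2.2.1.symm D.fr.k2 (mul_mem (inv_mem (D.fr.qb.mem i)) (D.fr.qb.mem j)) ?_ ?_
    · rcases hy with e | e
      · rw [e, D.fr.qb.sq]
      · rw [e]
        calc z * b k * (z * b k) = z * (b k * z) * b k := by group
          _ = (z * z) * (b k * b k) := by rw [← D.fr.qb.zc]; group
          _ = z := by rw [D.fr.qb.z2, D.fr.qb.sq, one_mul]
    · have e1 : b k * (a k * b k) = a k * b k * b k := by
        rw [← mul_assoc, ← D.fr.ab h k k]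
      rcases hy with e | e
      · rw [e]; exact e1
      · rw [e, mul_assoc, e1, ← mul_assoc, (hti k).2.2.2.1]
        group

end AW

end Cfsg.Agent.Cit.Nil.RTwo
end

-- part: Cit/Nil/CompR/MThreeW
section
prune_inst 0x2010240458220000001800002000204010000002004000002140040008080041a005080130702610113080f0600a806011180049423800002a008a0040040401040332e2907c1c0011000040e803180c00000000000000000000000000000000200000000
set_option linter.all false
open scoped Cfsg.Agent.FastGrp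

/-!
# S1309 (n6), `r = 2`, AllOne, (M3): the world `r' = 4`, `m' = 1` of the sections

* `Rt z K g` : `g` normalises `K` and moves every axis; `Nn z K g` : `g` acts on `K` as an inner automorphism;
* `act_swap` : the axis element `x ∈ L` (over the type I partner `t` of `z`) acts on the members over `z` as a
  transposition;
* `TI.ww` : `x x'` rotates the members over `z` on which `t`, `t'` have different axes and is inner on the others;
* `split` : `t t' ≠ t' t` : one of the two blocks `{F 0, F 1}`, `{F 2, F 3}` is split;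
* `TI.ee` : if `g` has weight one on the members over `z` then `e = x⁻¹ g x g⁻¹` has weight one, too, and commutes
  with `X_z`.
-/

set_option autoImplicit false
set_option linter.style.haveILetI false
set_option linter.unusedSectionVars false

namespace Cfsg.Agent.Cit.Nil.RFour.M3

open Subgroup Cfsg Cfsg.Agent.Cit
open RTwo (Q3 Act i11 i12 i21 i22 i_ne1 i_ne2 i_ne12 i_cases i_cases3)

variable {G : Type*} [Group G]

/-- `g` normalises `K` and moves every axis -/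
def Rt (z : G) (K : Subgroup G) (g : G) : Prop :=
  cj g K = K ∧ ∀ y ∈ K, y * y = z → g * y * g⁻¹ ≠ y ∧ g * y * g⁻¹ ≠ z * y

/-- `g` acts on `K` as an inner automorphism -/
def Nn (z : G) (K : Subgroup G) (g : G) : Prop :=
  ∀ k ∈ K, g * k * g⁻¹ = k ∨ g * k * g⁻¹ = z * k

section

variable {K : Subgroup G} {z g : G} {q : Fin 3 → G}

theorem Rt.of_act (hq : Q3 K z q) (hg : cj g K = K) (hgz : g * z = z * g) {σ : Equiv.Perm (Fin 3)}
    (h : Act z q q g σ) (hσ : ∀ i, σ i ≠ i) : Rt z K g := by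
  refine ⟨hg, fun y hy hyy => ?_⟩
  obtain ⟨i, hi⟩ := hq.of_sq hy hyy
  have key : ∀ w, (w = q i ∨ w = z * q i) → g * y * g⁻¹ ≠ w := by
    intro w hw hw'
    have e : g * (z * q i) * g⁻¹ = z * (g * q i * g⁻¹) := by
      calc g * (z * q i) * g⁻¹ = (g * z) * q i * g⁻¹ := by group
        _ = (z * g) * q i * g⁻¹ := by rw [hgz]
        _ = _ := by group
    have h5 : g * y * g⁻¹ = q (σ i) ∨ g * y * g⁻¹ = z * q (σ i) := by
      rcases hi with rfl | rfl
      · exact h i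
      · rw [e]
        rcases h i with h6 | h6
        · right; rw [h6]
        · left; rw [h6, hq.zzx]
    apply hσ i
    rw [hw'] at h5
    rcases hw with rfl | rfl <;> rcases h5 with h6 | h6
    · exact (hq.inj (Or.inl h6)).symm
    · exact (hq.inj (Or.inr h6)).symm
    · exact hq.inj (Or.inr h6.symm)
    · exact (hq.inj (Or.inl (mul_left_cancel h6))).symm
  rcases hi with hi | hi
  · exact ⟨key _ (Or.inl hi), key _ (Or.inr (by rw [hi]))⟩
  · exact ⟨key _ (Or.inr hi), key _ (Or.inl (by rw [hi, hq.zzx]))⟩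

/-- the permutation of a rotation has order 3 -/
theorem Rt.exists_act (hq : Q3 K z q) (h : Rt z K g) (hgz : g * z = z * g) :
    ∃ i : Fin 3, i ≠ 0 ∧ Act z q q g (Equiv.addRight i) := by
  obtain ⟨σ, hσ⟩ := hq.exists_act hq h.1 hgz
  have h1 : ∀ i, σ i ≠ i := by
    intro i hi
    have h2 := h.2 (q i) (hq.mem i) (hq.sq i)
    rcases hσ i with h3 | h3
    · rw [hi] at h3; exact h2.1 h3
    · rw [hi] at h3; exact h2.2 h3
  have key : ∀ σ : Equiv.Perm (Fin 3), (∀ i, σ i ≠ i) → ∃ i : Fin 3, i ≠ 0 ∧ σ = Equiv.addRight i := by decide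
  obtain ⟨i, hi, rfl⟩ := key σ h1
  exact ⟨i, hi, hσ⟩

end

variable [Finite G] {Om : Set (Subgroup G)} {K L M L' : Subgroup G} {a b c d e g n r s t t' u v x x' y z : G}
  {q : Fin 3 → G}

/-- **the quarter turn as a transposition** -/
theorem act_swap (hti : TI Om z t) (h : W4 Om) (hM : Mem Om z M) (hL : Mem Om t L) (hx : As L z x)
    (hq : Q3 M z q) {i : Fin 3} (hy : As M t (q i)) :
    cj x M = M ∧ Act z q q x (Equiv.swap (i + 1) (i + 2)) := by
  obtain ⟨h1, h2, h3⟩ := (hti.symm h).rot h hL hM hx hy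
  refine ⟨h1, ?_⟩
  obtain ⟨σ, hσ⟩ := hq.exists_act hq h1 hx.comm.symm
  have e1 : σ i = i := by
    have h4 : x * q i * x⁻¹ = q i := by rw [h2, mul_inv_cancel_right]
    rcases hσ i with h5 | h5
    · rw [h4] at h5; exact (hq.inj (Or.inl h5)).symm
    · rw [h4] at h5; exact (hq.inj (Or.inr h5)).symm
  have hnc : q i * q (i + 1) ≠ q (i + 1) * q i := by
    intro h4
    rw [hq.mul, hq.mul'] at h4
    exact hq.zx_ne _ h4.symm
  have e2 : σ (i + 1) = i + 2 := by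
    have h4 := h3 (q (i + 1)) (hq.mem _) (hq.sq _) hnc
    rw [hq.mul] at h4
    rcases h4 with h4 | h4 <;> rcases hσ (i + 1) with h5 | h5 <;> rw [h4] at h5
    · exact (hq.inj (Or.inl h5)).symm
    · exact (hq.inj (Or.inr h5)).symm
    · exact hq.inj (Or.inr h5.symm)
    · exact (hq.inj (Or.inl (mul_left_cancel h5))).symm
  have key : ∀ (σ : Equiv.Perm (Fin 3)) (i : Fin 3), σ i = i → σ (i + 1) = i + 2 →
      σ = Equiv.swap (i + 1) (i + 2) := by decide
  rw [← key σ i e1 e2]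
  exact hσ

theorem As.of_zmul (h : W4 Om) (hM : Mem Om z M) (hy : As M t y) : As M t (z * y) := by
  refine ⟨mul_mem (hM.zmem h) hy.1, fun k hk => ?_⟩
  rw [hy.2 k hk]
  have h1 : y * k * y⁻¹ ∈ M := mul_mem (mul_mem hy.1 hk) (inv_mem hy.1)
  have h2 := hM.comm_z h h1
  calc y * k * y⁻¹ = z * (y * k * y⁻¹) * z⁻¹ := by rw [← h2, mul_inv_cancel_right]
    _ = _ := by group

/-- coordinates for two type I partners -/
theorem exists_coord (h : W4 Om) (hti : TI Om z t) (hti' : TI Om z t') (hM : Mem Om z M) :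
    ∃ q j, Q3 M z q ∧ As M t (q 0) ∧ As M t' (q j) := by
  obtain ⟨y, hy, hyy⟩ := hti.exists_as h hM
  obtain ⟨q, hq, hq0⟩ := hM.exists_q h hy.1 hyy
  obtain ⟨y', hy', hyy'⟩ := hti'.exists_as h hM
  obtain ⟨j, hj⟩ := hq.of_sq hy'.1 hyy'
  refine ⟨q, j, hq, by rw [hq0]; exact hy, ?_⟩
  rcases hj with hj | hj
  · rwa [← hj]
  · have h1 := As.of_zmul h hM hy'
    rwa [hj, hq.zzx] at h1

theorem dif_iff (h : W4 Om) (hM : Mem Om z M) (hq : Q3 M z q) {j : Fin 3} (h0 : As M t (q 0))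
    (hj : As M t' (q j)) : Dif Om z t t' M ↔ j ≠ 0 := by
  constructor
  · rintro ⟨-, y, y', hy, hy', hn⟩ rfl
    apply hn
    have hz := hq.z2
    refine sgn_comm hz (hq.zc 0) (hq.zc 0) _ _ (hM.as_unique h h0 hy) (hM.as_unique h hj hy') rfl
  · intro hj0
    refine ⟨hM, q 0, q j, h0, hj, fun h1 => ?_⟩
    have h2 := hq.anti (Ne.symm hj0)
    rw [h1, mul_assoc] at h2
    exact hq.z1 (mul_eq_right.1 h2.symm)

/-- **`x x'`** -/
theorem ww (h : W4 Om) (hti : TI Om z t) (hti' : TI Om z t') (hM : Mem Om z M) (hL : Mem Om t L) (hL' : Mem Om t' L')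
    (hx : As L z x) (hx' : As L' z x') :
    (Dif Om z t t' M → Rt z M (x * x')) ∧ (¬ Dif Om z t t' M → Nn z M (x * x')) ∧ cj (x * x') M = M := by
  obtain ⟨q, j, hq, h0, hj⟩ := exists_coord h hti hti' hM
  obtain ⟨c1, a1⟩ := act_swap hti h hM hL hx hq h0
  obtain ⟨c2, a2⟩ := act_swap hti' h hM hL' hx' hq hj
  have hz := hq.z2
  have hxz : x * z = z * x := hx.comm.symm
  have hxz' : x' * z = z * x' := hx'.comm.symm
  have hc : cj (x * x') M = M := by rw [cj_mul, c2, c1]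
  have hcz : x * x' * z = z * (x * x') := by
    calc x * x' * z = x * (x' * z) := by group
      _ = (x * z) * x' := by rw [hxz']; group
      _ = _ := by rw [hxz]; group
  have h3 := a2.comp hz a1 hxz
  refine ⟨fun hd => ?_, fun hd => ?_, hc⟩
  · rw [dif_iff h hM hq h0 hj] at hd
    refine Rt.of_act hq hc hcz h3 ?_
    have key : ∀ j : Fin 3, j ≠ 0 → ∀ i,
        (Equiv.swap ((0 : Fin 3) + 1) (0 + 2) * Equiv.swap (j + 1) (j + 2)) i ≠ i := by decide
    exact key j hd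
  · rw [dif_iff h hM hq h0 hj, not_not] at hd
    subst hd
    rw [Equiv.swap_mul_self] at h3
    exact Act.inner hq h3 hcz

/-- **one of the two blocks is split** -/
theorem split (h : W4 Om) (hti : TI Om z t) (hti' : TI Om z t') (hne : t * t' ≠ t' * t) {F : Fin 4 → Subgroup G}
    (f : RFour.Fr Om z F) : ¬ (Dif Om z t t' (F 0) ↔ Dif Om z t t' (F 1)) ∨ ¬ (Dif Om z t t' (F 2) ↔ Dif Om z t t' (F 3)) := by
  by_contra hcon
  push Not at hcon
  obtain ⟨h1, h2⟩ := hcon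
  apply odd_dif h hti hti' hne
  classical
  have e : {i : Fin 4 // Dif Om z t t' (F i)} ≃ {K : Subgroup G // Dif Om z t t' K} := by
    refine Equiv.ofBijective (fun i => ⟨F i.1, i.2⟩) ⟨fun i j hij => ?_, fun K => ?_⟩
    · exact Subtype.ext (f.inj (congrArg Subtype.val hij))
    · obtain ⟨i, hi⟩ := f.cov K.1 K.2.1
      exact ⟨⟨i, hi ▸ K.2⟩, Subtype.ext hi⟩
  rw [← Nat.card_congr e, Nat.card_eq_fintype_card, Fintype.card_subtype, Finset.card_filter, Fin.sum_univ_four]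
  by_cases c0 : Dif Om z t t' (F 0) <;> by_cases c2 : Dif Om z t t' (F 2)
  · rw [if_pos c0, if_pos (h1.1 c0), if_pos c2, if_pos (h2.1 c2)]; decide
  · rw [if_pos c0, if_pos (h1.1 c0), if_neg c2, if_neg (fun h => c2 (h2.2 h))]
  · rw [if_neg c0, if_neg (fun h => c0 (h1.2 h)), if_pos c2, if_pos (h2.1 c2)]
  · rw [if_neg c0, if_neg (fun h => c0 (h1.2 h)), if_neg c2, if_neg (fun h => c2 (h2.2 h))]; decide

/-- **the commutator `e = x⁻¹ g x g⁻¹`** -/
theorem ee (h : W4 Om) (hti : TI Om z t) (hM : Mem Om z M) (hL : Mem Om t L) (hx : As L z x) (hgz : g * z = z * g)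
    (hg : ∀ P, Mem Om z P → P ≠ M → ∀ p ∈ P, g * p = p * g) (hr : Rt z M g) :
    (∀ P, Mem Om z P → P ≠ M → ∀ p ∈ P, x⁻¹ * (g * x * g⁻¹) * p = p * (x⁻¹ * (g * x * g⁻¹))) ∧
      Rt z M (x⁻¹ * (g * x * g⁻¹)) ∧
      ∀ n ∈ CX Om z, n * (x⁻¹ * (g * x * g⁻¹)) = (x⁻¹ * (g * x * g⁻¹)) * n := by
  have hgz' : g * z * g⁻¹ = z := by rw [hgz, mul_inv_cancel_right]
  have hti' : TI Om z (g * t * g⁻¹) := by
    have := hti.conj h g
    rwa [hgz'] at this
  have hL' : Mem Om (g * t * g⁻¹) (cj g L) := hL.cj h g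
  have hx' : As (cj g L) z (g * x * g⁻¹) := hx.conj_comm hgz
  have hxz : x * z = z * x := hx.comm.symm
  have hxz' : (g * x * g⁻¹) * z = z * (g * x * g⁻¹) := hx'.comm.symm
  refine ⟨fun P hP hne p hp => ?_, ?_, fun n hn => ?_⟩
  · -- `x` normalises `P`
    obtain ⟨y, hy, hyy⟩ := hti.exists_as h hP
    have h1 := ((hti.symm h).rot h hL hP hx hy).1
    have h2 : ∀ p ∈ P, x⁻¹ * p * x ∈ P := by
      intro p hp
      have h3 : cj x⁻¹ P = P := by
        conv_lhs => rw [← h1]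
        rw [cj_inv_cj]
      have h4 := conj_mem_cj (g := x⁻¹) hp
      rw [h3, inv_inv] at h4
      exact h4
    have h5 := hg P hP hne
    have hgi : ∀ p ∈ P, g⁻¹ * p = p * g⁻¹ := fun p hp => by
      rw [inv_mul_eq_iff_eq_mul, ← mul_assoc, h5 p hp, mul_inv_cancel_right]
    -- `x⁻¹ g x g⁻¹ p = x⁻¹ g x p g⁻¹`
    have h6 : x * p * x⁻¹ ∈ P := by
      have h4 := conj_mem_cj (g := x) hp
      rwa [h1] at h4
    calc x⁻¹ * (g * x * g⁻¹) * p = x⁻¹ * g * x * (g⁻¹ * p) := by group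
      _ = x⁻¹ * g * (x * p * x⁻¹) * x * g⁻¹ := by rw [hgi p hp]; group
      _ = x⁻¹ * (g * (x * p * x⁻¹)) * x * g⁻¹ := by group
      _ = x⁻¹ * ((x * p * x⁻¹) * g) * x * g⁻¹ := by rw [h5 _ h6]
      _ = _ := by group
  · obtain ⟨y, hy, hyy⟩ := hti.exists_as h hM
    obtain ⟨q, hq, hq0⟩ := hM.exists_q h hy.1 hyy
    rw [← hq0] at hy
    obtain ⟨c1, a1⟩ := act_swap hti h hM hL hx hq hy
    obtain ⟨i, hi, ha⟩ := hr.exists_act hq hgz
    have hy' : As M (g * t * g⁻¹) (q (0 + i)) := by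
      have h2 := hy.conj g
      rw [hr.1] at h2
      rcases ha 0 with h3 | h3
      · rw [h3] at h2; exact h2
      · rw [h3] at h2
        have h4 := As.of_zmul h hM h2
        rwa [hq.zzx] at h4
    obtain ⟨c2, a2⟩ := act_swap hti' h hM hL' hx' hq hy'
    have c1' : cj x⁻¹ M = M := by
      conv_lhs => rw [← c1]
      rw [cj_inv_cj]
    have a1' := Three.act_inv hq a1 hxz c1
    have hxz2 : x⁻¹ * z = z * x⁻¹ := by rw [inv_mul_eq_iff_eq_mul, ← mul_assoc, hxz, mul_inv_cancel_right]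
    have h3 := a2.comp hq.z2 a1' hxz2
    refine Rt.of_act hq (by rw [cj_mul, c2, c1']) ?_ h3 ?_
    · calc x⁻¹ * (g * x * g⁻¹) * z = x⁻¹ * ((g * x * g⁻¹) * z) := by group
        _ = (x⁻¹ * z) * (g * x * g⁻¹) := by rw [hxz']; group
        _ = _ := by rw [hxz2]; group
    · have key : ∀ i : Fin 3, i ≠ 0 → ∀ k,
          ((Equiv.swap ((0 : Fin 3) + 1) (0 + 2))⁻¹ * Equiv.swap (0 + i + 1) (0 + i + 2)) k ≠ k := by decide
      exact key i hi
  · have e1 : n * x = x * n := hti.comm_of h hn (hL.le_RZ hx.1) hxz.symm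
    have e2 : n * (g * x * g⁻¹) = (g * x * g⁻¹) * n := hti'.comm_of h hn (hL'.le_RZ hx'.1) hxz'.symm
    have c1 : Commute n x := e1
    have c2 : Commute n (g * x * g⁻¹) := e2
    exact (c1.inv_right.mul_right c2).eq

/-- **the centraliser of `t` is transitive on the members over `t`** -/
theorem trans_of_ti (h : W4 Om) (hti : TI Om z t) (hL : Mem Om t L) (hL' : Mem Om t L') :
    ∃ g, g * t = t * g ∧ cj g L = L' := by
  obtain ⟨F, f⟩ := hti.inZ.exists_fr h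
  have h1 : ∀ i, ∃ y, As (F i) t y ∧ y * y = z := fun i => hti.exists_as h (f.mem i)
  choose y hy hyy using h1
  have h2 : ∀ i, ∃ u ∈ F i, u * u = z ∧ y i * u ≠ u * y i := fun i => (f.mem i).exists_nc h (hy i).1 (hyy i)
  choose v hv hvv hyv using h2
  obtain ⟨g, hg⟩ : ∃ g : Fin 4 → G, ∀ i, g i = if i = 0 then 1 else v 0 * v i := ⟨_, fun _ => rfl⟩
  have hz := hti.inZ
  have hz2 := hz.z2 h
  have hvt : ∀ i, v i * t * (v i)⁻¹ = z * t := by
    intro i
    have h3 := (hti.symm h).conj_z h (f.mem i) (hy i) (hv i) (hvv i) (hyv i)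
    rw [h3]; exact hti.comm.symm
  have hvz : ∀ i, v i * z = z * v i := fun i => (f.mem i).comm_z h (hv i)
  have hgt : ∀ i, g i * t = t * g i := by
    intro i
    rw [hg]
    split_ifs with hi
    · rw [one_mul, mul_one]
    · have e1 : v 0 * v i * t = v 0 * (v i * t * (v i)⁻¹) * v i := by group
      rw [e1, hvt]
      calc v 0 * (z * t) * v i = (v 0 * z) * t * v i := by group
        _ = z * (v 0 * t * (v 0)⁻¹) * (v 0 * v i) := by rw [hvz]; group
        _ = (z * z) * t * (v 0 * v i) := by rw [hvt]; group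
        _ = _ := by rw [hz2, one_mul]
  obtain ⟨F', f', h0⟩ := hL.exists_fr1 h
  have h3 : ∀ i, ∃ j, F' j = cj (g i) L := fun i => f'.cov _ (hL.cj_comm h (hgt i))
  choose σ hσ using h3
  have hinj : Function.Injective σ := by
    intro i j hij
    have h4 : cj (g i) L = cj (g j) L := by rw [← hσ, ← hσ, hij]
    by_contra hne
    by_cases hi : i = 0
    · have hj : j ≠ 0 := fun h => hne (hi.trans h.symm)
      rw [hg i, hg j, if_pos hi, if_neg hj, cj_one] at h4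
      exact hti.moves h (f.mem 0) (f.mem j) (f.ne (Ne.symm hj)) hL (hy 0) (hv 0) (hvv 0) (hyv 0) (hv j) h4.symm
    by_cases hj : j = 0
    · rw [hg i, hg j, if_neg hi, if_pos hj, cj_one] at h4
      exact hti.moves h (f.mem 0) (f.mem i) (f.ne (Ne.symm hi)) hL (hy 0) (hv 0) (hvv 0) (hyv 0) (hv i) h4
    · rw [hg i, hg j, if_neg hi, if_neg hj] at h4
      have h5 := cj_eq_of h4
      have e1 : (v 0 * v i)⁻¹ * (v 0 * v j) = (v i)⁻¹ * v j := by group
      rw [e1] at h5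
      refine hti.moves h (f.mem i) (f.mem j) (f.ne hne) hL (hy i) (inv_mem (hv i)) ?_ ?_ (hv j) h5
      · rw [← mul_inv_rev, hvv, hz.inv h]
      · intro h6
        apply hyv i
        calc y i * v i = v i * ((v i)⁻¹ * y i) * v i := by group
          _ = v i * (y i * (v i)⁻¹) * v i := by rw [h6]
          _ = _ := by group
  obtain ⟨k, hk⟩ := f'.cov _ hL'
  obtain ⟨i, hi⟩ := Finite.injective_iff_surjective.1 hinj k
  exact ⟨g i, hgt i, by rw [← hσ, hi, hk]⟩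

/-- **all members are conjugate** -/
theorem oneCls_of_ti (h : W4 Om) (hT : ∀ z, InZ Om z → ∃ t, TI Om z t) : OneCls Om := by
  haveI : Fact (Nat.Prime 2) := ⟨Nat.prime_two⟩
  intro K hK L hL
  obtain ⟨S, hS⟩ := (h.isPGroup hK).exists_le_sylow
  obtain ⟨S', hS'⟩ := (h.isPGroup hL).exists_le_sylow
  obtain ⟨g, hg⟩ := MulAction.exists_smul_eq G S S'
  have hgS : (S' : Subgroup G) = cj g (S : Subgroup G) := by
    rw [← hg]
    rfl
  have hK' : Mem Om (g * zz K * g⁻¹) (cj g K) := Mem.cj ⟨hK, rfl⟩ h g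
  have h1 : cj g K ≤ (S' : Subgroup G) := by
    rw [hgS]
    exact Subgroup.map_mono hS
  have hLm : Mem Om (zz L) L := ⟨hL, rfl⟩
  have h2 := h.eq_of_le hK' hLm S'.isPGroup' h1 hS'
  rw [h2] at hK'
  obtain ⟨t, ht⟩ := hT _ hLm.inZ
  obtain ⟨g', -, hg'⟩ := trans_of_ti h (ht.symm h) hK' hLm
  exact ⟨g' * g, by rw [cj_mul, hg']⟩

/-- **type I partners exist** -/
theorem exists_ti {X : Subgroup G} (h : W4 Om) (f : ROne.FSimp X) (h2 : 2 ∣ Nat.card X) (hz : InZ Om z) :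
    ∃ t, TI Om z t := by
  haveI := f.sim
  have hzX := h.mem_of_fsimp f h2 hz
  have hnc : ¬ IsMulCommutative X := by
    intro h2
    exact f.na fun x hx y hy => congrArg Subtype.val (h2.is_comm.comm ⟨x, hx⟩ ⟨y, hy⟩)
  obtain ⟨⟨g, hg⟩, h3, h4⟩ := GH.QA.not_isolated f.sim hnc (u := (⟨z, hzX⟩ : X))
    (Subtype.ext (hz.z2 h)) (fun h2 => hz.z1 h (congrArg Subtype.val h2))
  have h3' : z * (g * z * g⁻¹) = g * z * g⁻¹ * z := congrArg Subtype.val h3
  have h4' : z ≠ g * z * g⁻¹ := fun h5 => h4 (Subtype.ext h5.symm)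
  rcases exists_common h (exc h) hz (hz.conj h g) h4' h3' with h5 | ⟨e, h5, -⟩
  · exact ⟨_, h5⟩
  · exact ⟨e, h5⟩

/-- **non-commuting type I partners** -/
theorem exists_nc {X : Subgroup G} (h : W4 Om) (cls : OneCls Om) (f : ROne.FSimp X) (hle : ∀ K ∈ Om, K ≤ X)
    (gold : Cit.ROne.Gold X) (hB : CloEnd.Bend X) (hz : InZ Om z) :
    ∃ t t', TI Om z t ∧ TI Om z t' ∧ t * t' ≠ t' * t := by
  obtain ⟨K, hK⟩ := hz
  by_contra hcon
  push Not at hcon
  refine h.false_of_two hK.1 cls (exc h) f hle gold hB fun z' t t' h1 h2 => ?_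
  obtain ⟨L, hL⟩ := h1.inZ
  obtain ⟨g, hg⟩ := cls L hL.1 K hK.1
  have e : g * z' * g⁻¹ = z := by
    have h3 := hL.cj h g
    rw [hg] at h3
    exact h3.2.symm.trans hK.2
  have h4 := h1.conj h g
  have h5 := h2.conj h g
  rw [e] at h4 h5
  have h6 := hcon _ _ h4 h5
  have h7 : g * (t * t') * g⁻¹ = g * (t' * t) * g⁻¹ := by
    calc g * (t * t') * g⁻¹ = g * t * g⁻¹ * (g * t' * g⁻¹) := by group
      _ = g * t' * g⁻¹ * (g * t * g⁻¹) := h6
      _ = _ := by group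
  exact mul_left_cancel (mul_right_cancel h7)

/-- the world `W4` with `F*` simple, without a hypothesis on conjugacy -/
theorem world {X : Subgroup G} (h : W4 Om) (f : ROne.FSimp X) (h2 : 2 ∣ Nat.card X) {K : Subgroup G} (hK : K ∈ Om)
    (c3 : Nil.C3 K) (gold : Cit.ROne.Gold X) (hB : CloEnd.Bend X) :
    OneCls Om ∧ ∀ z, InZ Om z → ∃ t t', TI Om z t ∧ TI Om z t' ∧ t * t' ≠ t' * t := by
  have cls : OneCls Om := oneCls_of_ti h fun z hz => exists_ti h f h2 hz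
  have c3r := C3R.of_c3 h cls hK c3
  exact ⟨cls, fun z hz => exists_nc h cls f (fun L hL => h.mem_le cls c3r f h2 (exc h) hL) gold hB hz⟩

end Cfsg.Agent.Cit.Nil.RFour.M3
end

-- part: Cit/Nil/CompR/MThreeS
section
set_option linter.all false
open scoped Cfsg.Agent.FastGrp

/-!
# S1309 (n6), `r = 2`, AllOne, (M3): the section of `C(z)` and the transfer to `G`

`SecH C B φ` : `φ : C →* H` has kernel `C_C(⟨B⟩)`, the images of the members of `B` form a world `W4` in which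
non-commuting type I partners exist.

* `SecH.cj_eq`, `SecH.comm`, `SecH.rt`, `SecH.rt'`, `SecH.nn` : the transfer of the action on a member;
* `SecH.stepOne` : an element `w ∈ ⟨B⟩` of weight one on one of the blocks `{P 0, P 1}`, `{P 2, P 3}`;
* `SecH.stepTwo` : if `w` has weight one on `{P 0, P 1, P 2, M}`, then some `e ∈ ⟨B⟩` has weight one and commutes with
  `C_C(P 0, P 1, P 2, M)` modulo the kernel.
-/

set_option autoImplicit false
set_option linter.style.haveILetI false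
set_option linter.unusedSectionVars false

namespace Cfsg.Agent.Cit.Nil.RFour.M3

open Subgroup Cfsg Cfsg.Agent.Cit
open RTwo (Q3 Act)

variable {G : Type*} [Group G]

/-- the images of the members of `B` -/
def Im (C : Subgroup G) (B : Set (Subgroup G)) {H : Type*} [Group H] (φ : ↥C →* H) : Set (Subgroup H) :=
  {P | ∃ L ∈ B, (L.subgroupOf C).map φ = P}

/-- see the head of the file -/
structure SecH (C : Subgroup G) (B : Set (Subgroup G)) {H : Type*} [Group H] (φ : ↥C →* H) : Prop where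
  le : ∀ L ∈ B, L ≤ C
  conj : ∀ L ∈ B, ∀ g ∈ C, cj g L ∈ B
  ker : ∀ g : ↥C, φ g = 1 → ∀ x ∈ sSup B, (g : G) * x = x * g
  ker' : ∀ g : ↥C, (∀ x ∈ sSup B, (g : G) * x = x * g) → φ g = 1
  inf : ∀ L ∈ B, ∀ x : ↥C, (x : G) ∈ L → φ x = 1 → x = 1
  inj : ∀ L ∈ B, ∀ L' ∈ B, (L.subgroupOf C).map φ = (L'.subgroupOf C).map φ → L = L'
  zz : ∀ L ∈ B, ∀ z : ↥C, (z : G) = zz L → zz ((L.subgroupOf C).map φ) = φ z
  zc : ∀ L ∈ B, Cit.zz L ∈ L
  w4 : W4 (Im C B φ)
  nc : ∀ z, InZ (Im C B φ) z → ∃ t t', TI (Im C B φ) z t ∧ TI (Im C B φ) z t' ∧ t * t' ≠ t' * t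

theorem im_cj {C : Subgroup G} {H : Type*} [Group H] (φ : ↥C →* H) (c : ↥C) (L : Subgroup G) :
    ((cj (c : G) L).subgroupOf C).map φ = cj (φ c) ((L.subgroupOf C).map φ) := by
  ext x
  rw [mem_cj]
  constructor
  · rintro ⟨y, hy, rfl⟩
    have h1 : (c : G)⁻¹ * y * c ∈ L := mem_cj.1 hy
    refine ⟨c⁻¹ * y * c, h1, ?_⟩
    rw [map_mul, map_mul, map_inv]
  · rintro ⟨y, hy, h1⟩
    refine ⟨c * y * c⁻¹, ?_, ?_⟩
    · change (c : G) * y * (c : G)⁻¹ ∈ cj (c : G) L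
      exact conj_mem_cj hy
    · rw [map_mul, map_mul, map_inv, h1]
      group

theorem cj_eq_of_mem {K : Subgroup G} [Finite G] {c : G} (h : ∀ k ∈ K, c * k * c⁻¹ ∈ K) : cj c K = K := by
  have h1 : cj c K ≤ K := by
    rintro _ ⟨k, hk, rfl⟩
    exact h k hk
  exact Subgroup.eq_of_le_of_card_ge h1 (by rw [card_cj])

namespace SecH

variable [Finite G] {C : Subgroup G} {B : Set (Subgroup G)} {H : Type*} [Group H] [Finite H] {φ : ↥C →* H}
  {L L' M : Subgroup G} {c : ↥C} (s : SecH C B φ)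

include s

theorem mem (hL : L ∈ B) : (L.subgroupOf C).map φ ∈ Im C B φ := ⟨L, hL, rfl⟩

theorem memz (hL : L ∈ B) {z : ↥C} (hz : (z : G) = Cit.zz L) : Mem (Im C B φ) (φ z) ((L.subgroupOf C).map φ) :=
  ⟨s.mem hL, s.zz L hL z hz⟩

theorem cj_eq (hL : L ∈ B) (h : cj (φ c) ((L.subgroupOf C).map φ) = (L.subgroupOf C).map φ) : cj (c : G) L = L := by
  apply s.inj _ (s.conj L hL c c.2) L hL
  rw [im_cj, h]

theorem comm (hL : L ∈ B) (h : ∀ k ∈ (L.subgroupOf C).map φ, φ c * k = k * φ c) {l : G} (hl : l ∈ L) :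
    (c : G) * l = l * c := by
  have h1 : cj (φ c) ((L.subgroupOf C).map φ) = (L.subgroupOf C).map φ :=
    cj_eq_of_mem fun k hk => by rw [h k hk, mul_inv_cancel_right]; exact hk
  have h2 := s.cj_eq hL h1
  have hlC := s.le L hL hl
  have h3 : (c : G) * l * (c : G)⁻¹ * l⁻¹ ∈ L := by
    refine mul_mem ?_ (inv_mem hl)
    have := conj_mem_cj (g := (c : G)) hl
    rwa [h2] at this
  have h4 := s.inf L hL (c * ⟨l, hlC⟩ * c⁻¹ * ⟨l, hlC⟩⁻¹) h3 (by
    rw [map_mul, map_mul, map_mul, map_inv, map_inv, h (φ ⟨l, hlC⟩) ⟨⟨l, hlC⟩, hl, rfl⟩]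
    group)
  have h5 := congrArg Subtype.val h4
  change (c : G) * l * (c : G)⁻¹ * l⁻¹ = 1 at h5
  rwa [mul_inv_eq_one, mul_inv_eq_iff_eq_mul] at h5

theorem rt (hL : L ∈ B) {z : ↥C} (hz : (z : G) = Cit.zz L) (h : Rt (φ z) ((L.subgroupOf C).map φ) (φ c)) :
    Rt (Cit.zz L) L (c : G) := by
  refine ⟨s.cj_eq hL h.1, fun y hy hyy => ?_⟩
  have hyC := s.le L hL hy
  have h1 := h.2 (φ ⟨y, hyC⟩) ⟨⟨y, hyC⟩, hy, rfl⟩ (by
    rw [← map_mul]
    exact congrArg φ (Subtype.ext (hyy.trans hz.symm)))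
  constructor
  · intro h2
    apply h1.1
    rw [← map_inv, ← map_mul, ← map_mul]
    exact congrArg φ (Subtype.ext h2)
  · intro h2
    apply h1.2
    rw [← map_inv, ← map_mul, ← map_mul, ← map_mul]
    exact congrArg φ (Subtype.ext (by rw [← hz] at h2; exact h2))

theorem rt' (hL : L ∈ B) {z : ↥C} (hz : (z : G) = Cit.zz L) (h : Rt (Cit.zz L) L (c : G)) :
    Rt (φ z) ((L.subgroupOf C).map φ) (φ c) := by
  refine ⟨by rw [← im_cj, h.1], ?_⟩
  rintro _ ⟨y, hy, rfl⟩ hyy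
  have hyL : (y : G) ∈ L := hy
  have hzL : (z : G) ∈ L := by rw [hz]; exact s.zc L hL
  have hcy : (c : G) * y * (c : G)⁻¹ ∈ L := by
    have := conj_mem_cj (g := (c : G)) hyL
    rwa [h.1] at this
  have h1 : (y : G) * y = Cit.zz L := by
    have h2 := s.inf L hL (y * y * z⁻¹) (mul_mem (mul_mem hyL hyL) (inv_mem hzL)) (by
      rw [map_mul, map_mul, map_inv, hyy, mul_inv_cancel])
    rw [mul_inv_eq_one] at h2
    rw [← hz]
    exact congrArg Subtype.val h2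
  have h2 := h.2 _ hyL h1
  constructor
  · intro h3
    apply h2.1
    have h4 := s.inf L hL (c * y * c⁻¹ * y⁻¹) (mul_mem hcy (inv_mem hyL)) (by
      rw [map_mul, map_mul, map_mul, map_inv, map_inv, h3, mul_inv_cancel])
    rw [mul_inv_eq_one] at h4
    exact congrArg Subtype.val h4
  · intro h3
    apply h2.2
    have h4 := s.inf L hL (c * y * c⁻¹ * (z * y)⁻¹) (mul_mem hcy (inv_mem (mul_mem hzL hyL))) (by
      rw [map_mul, map_mul, map_mul, map_inv, map_inv, map_mul, h3, mul_inv_cancel])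
    rw [mul_inv_eq_one] at h4
    rw [← hz]
    exact congrArg Subtype.val h4

theorem nn (hL : L ∈ B) {z : ↥C} (hz : (z : G) = Cit.zz L) (hc : cj (c : G) L = L)
    (h : Nn (φ z) ((L.subgroupOf C).map φ) (φ c)) : Nn (Cit.zz L) L (c : G) := by
  intro y hy
  have hyC := s.le L hL hy
  have hzL : (z : G) ∈ L := by rw [hz]; exact s.zc L hL
  have hcy : (c : G) * y * (c : G)⁻¹ ∈ L := by
    have := conj_mem_cj (g := (c : G)) hy
    rwa [hc] at this
  rcases h (φ ⟨y, hyC⟩) ⟨⟨y, hyC⟩, hy, rfl⟩ with h3 | h3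
  · left
    have h4 := s.inf L hL (c * ⟨y, hyC⟩ * c⁻¹ * ⟨y, hyC⟩⁻¹) (mul_mem hcy (inv_mem hy)) (by
      rw [map_mul, map_mul, map_mul, map_inv, map_inv, h3, mul_inv_cancel])
    rw [mul_inv_eq_one] at h4
    exact congrArg Subtype.val h4
  · right
    have h4 := s.inf L hL (c * ⟨y, hyC⟩ * c⁻¹ * (z * ⟨y, hyC⟩)⁻¹)
      (mul_mem hcy (inv_mem (mul_mem hzL hy))) (by
      rw [map_mul, map_mul, map_mul, map_inv, map_inv, map_mul, h3, mul_inv_cancel])
    rw [mul_inv_eq_one] at h4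
    rw [← hz]
    exact congrArg Subtype.val h4

/-- a type I partner of the point `φ z`, and its axis element -/
theorem exists_axis {z t : H} (hti : TI (Im C B φ) z t) :
    ∃ L ∈ B, ∃ x : ↥C, (x : G) ∈ L ∧ Mem (Im C B φ) t ((L.subgroupOf C).map φ) ∧
      As ((L.subgroupOf C).map φ) z (φ x) := by
  obtain ⟨P, hP⟩ := hti.inT
  obtain ⟨L, hL, rfl⟩ := hP.1
  obtain ⟨x, hx, -⟩ := (hti.symm s.w4).exists_as s.w4 hP
  obtain ⟨y, hy, rfl⟩ := hx.1
  exact ⟨L, hL, y, hy, hP, hx⟩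

/-- **step 1** -/
theorem stepOne {P : Fin 4 → Subgroup G} (hP : ∀ i, P i ∈ B) (hinj : Function.Injective P) {z : H}
    (hz : ∀ i, ∀ y : ↥C, (y : G) = Cit.zz (P i) → φ y = z) :
    ∃ w ∈ sSup B, w ∈ C ∧ (∀ i, cj w (P i) = P i) ∧
      ((Rt (Cit.zz (P 0)) (P 0) w ∧ Nn (Cit.zz (P 1)) (P 1) w) ∨ (Rt (Cit.zz (P 1)) (P 1) w ∧ Nn (Cit.zz (P 0)) (P 0) w) ∨
       (Rt (Cit.zz (P 2)) (P 2) w ∧ Nn (Cit.zz (P 3)) (P 3) w) ∨ (Rt (Cit.zz (P 3)) (P 3) w ∧ Nn (Cit.zz (P 2)) (P 2) w)) := by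
  have w4 := s.w4
  obtain ⟨zi, hzi⟩ : ∃ zi : Fin 4 → ↥C, ∀ i, (zi i : G) = Cit.zz (P i) :=
    ⟨fun i => ⟨Cit.zz (P i), s.le _ (hP i) (s.zc _ (hP i))⟩, fun _ => rfl⟩
  have hzz : ∀ i, φ (zi i) = z := fun i => hz i _ (hzi i)
  obtain ⟨F, hF⟩ : ∃ F : Fin 4 → Subgroup H, ∀ i, F i = ((P i).subgroupOf C).map φ := ⟨_, fun _ => rfl⟩
  have hm : ∀ i, Mem (Im C B φ) z (F i) := fun i => by
    rw [hF, ← hzz i]; exact s.memz (hP i) (hzi i)
  have hFinj : Function.Injective F := by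
    intro i j hij
    rw [hF, hF] at hij
    exact hinj (s.inj _ (hP i) _ (hP j) hij)
  -- a frame
  have f : RFour.Fr (Im C B φ) z F := by
    refine ⟨hm, hFinj, fun M hM => ?_⟩
    obtain ⟨F', f'⟩ := (hm 0).inZ.exists_fr w4
    have h1 : ∀ i, ∃ j, F' j = F i := fun i => f'.cov _ (hm i)
    choose σ hσ using h1
    have hσi : Function.Injective σ := fun i j hij => hFinj (by rw [← hσ, ← hσ, hij])
    obtain ⟨k, hk⟩ := f'.cov M hM
    obtain ⟨i, hi⟩ := Finite.injective_iff_surjective.1 hσi k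
    exact ⟨i, by rw [← hσ, hi, hk]⟩
  obtain ⟨t, t', hti, hti', hne⟩ := s.nc z (hm 0).inZ
  obtain ⟨L, hL, x, hx, hLm, hxa⟩ := s.exists_axis hti
  obtain ⟨L', hL', x', hx', hLm', hxa'⟩ := s.exists_axis hti'
  have key := fun i => ww w4 hti hti' (hm i) hLm hLm' hxa hxa'
  have hc : ∀ i, cj ((x * x' : ↥C) : G) (P i) = P i := fun i => by
    refine s.cj_eq (hP i) ?_
    rw [map_mul, ← hF]
    exact (key i).2.2
  have hrt : ∀ i, Dif (Im C B φ) z t t' (F i) → Rt (Cit.zz (P i)) (P i) ((x * x' : ↥C) : G) := fun i hd => by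
    refine s.rt (hP i) (hzi i) ?_
    rw [map_mul, ← hF, hzz]
    exact (key i).1 hd
  have hnn : ∀ i, ¬ Dif (Im C B φ) z t t' (F i) → Nn (Cit.zz (P i)) (P i) ((x * x' : ↥C) : G) := fun i hd => by
    refine s.nn (hP i) (hzi i) (hc i) ?_
    rw [map_mul, ← hF, hzz]
    exact (key i).2.1 hd
  refine ⟨((x * x' : ↥C) : G), ?_, (x * x').2, hc, ?_⟩
  · exact mul_mem (Subgroup.mem_sSup_of_mem hL hx) (Subgroup.mem_sSup_of_mem hL' hx')
  · rcases split w4 hti hti' hne f with h1 | h1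
    · by_cases h2 : Dif (Im C B φ) z t t' (F 0)
      · have h3 : ¬ Dif (Im C B φ) z t t' (F 1) := fun h3 => h1 ⟨fun _ => h3, fun _ => h2⟩
        exact Or.inl ⟨hrt 0 h2, hnn 1 h3⟩
      · have h3 : Dif (Im C B φ) z t t' (F 1) := by
          by_contra h3
          exact h1 ⟨fun h => absurd h h2, fun h => absurd h h3⟩
        exact Or.inr (Or.inl ⟨hrt 1 h3, hnn 0 h2⟩)
    · by_cases h2 : Dif (Im C B φ) z t t' (F 2)
      · have h3 : ¬ Dif (Im C B φ) z t t' (F 3) := fun h3 => h1 ⟨fun _ => h3, fun _ => h2⟩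
        exact Or.inr (Or.inr (Or.inl ⟨hrt 2 h2, hnn 3 h3⟩))
      · have h3 : Dif (Im C B φ) z t t' (F 3) := by
          by_contra h3
          exact h1 ⟨fun h => absurd h h2, fun h => absurd h h3⟩
        exact Or.inr (Or.inr (Or.inr ⟨hrt 3 h3, hnn 2 h2⟩))

/-- **step 2** -/
theorem stepTwo {P : Fin 4 → Subgroup G} (hP : ∀ i, P i ∈ B) (hinj : Function.Injective P) {z : H}
    (hz : ∀ i, ∀ y : ↥C, (y : G) = Cit.zz (P i) → φ y = z) {w : G} (hw : w ∈ C)
    (hc : ∀ i, i ≠ 3 → ∀ p ∈ P i, w * p = p * w) (hr : Rt (Cit.zz (P 3)) (P 3) w) :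
    ∃ e ∈ sSup B, e ∈ C ∧ (∀ i, i ≠ 3 → ∀ p ∈ P i, e * p = p * e) ∧ Rt (Cit.zz (P 3)) (P 3) e ∧
      ∀ n ∈ C, (∀ i, ∀ p ∈ P i, n * p = p * n) → ∀ y ∈ sSup B, n * e * n⁻¹ * e⁻¹ * y = y * (n * e * n⁻¹ * e⁻¹) := by
  have w4 := s.w4
  obtain ⟨zi, hzi⟩ : ∃ zi : Fin 4 → ↥C, ∀ i, (zi i : G) = Cit.zz (P i) :=
    ⟨fun i => ⟨Cit.zz (P i), s.le _ (hP i) (s.zc _ (hP i))⟩, fun _ => rfl⟩
  have hzz : ∀ i, φ (zi i) = z := fun i => hz i _ (hzi i)
  obtain ⟨F, hF⟩ : ∃ F : Fin 4 → Subgroup H, ∀ i, F i = ((P i).subgroupOf C).map φ := ⟨_, fun _ => rfl⟩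
  have hm : ∀ i, Mem (Im C B φ) z (F i) := fun i => by
    rw [hF, ← hzz i]; exact s.memz (hP i) (hzi i)
  have hFinj : Function.Injective F := by
    intro i j hij
    rw [hF, hF] at hij
    exact hinj (s.inj _ (hP i) _ (hP j) hij)
  have cov : ∀ M, Mem (Im C B φ) z M → ∃ i, F i = M := by
    intro M hM
    obtain ⟨F', f'⟩ := (hm 0).inZ.exists_fr w4
    have h1 : ∀ i, ∃ j, F' j = F i := fun i => f'.cov _ (hm i)
    choose σ hσ using h1
    have hσi : Function.Injective σ := fun i j hij => hFinj (by rw [← hσ, ← hσ, hij])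
    obtain ⟨k, hk⟩ := f'.cov M hM
    obtain ⟨i, hi⟩ := Finite.injective_iff_surjective.1 hσi k
    exact ⟨i, by rw [← hσ, hi, hk]⟩
  obtain ⟨c, hcw⟩ : ∃ c : ↥C, (c : G) = w := ⟨⟨w, hw⟩, rfl⟩
  -- `φ c` has weight one
  have hcomm : ∀ Q, Mem (Im C B φ) z Q → Q ≠ F 3 → ∀ q ∈ Q, φ c * q = q * φ c := by
    intro Q hQ hne
    obtain ⟨i, rfl⟩ := cov Q hQ
    have hi : i ≠ 3 := fun h => hne (by rw [h])
    rw [hF]
    rintro _ ⟨y, hy, rfl⟩
    rw [← map_mul, ← map_mul]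
    refine congrArg φ (Subtype.ext ?_)
    change (c : G) * y = y * c
    rw [hcw]
    exact hc i hi y hy
  have hrot : Rt z (F 3) (φ c) := by
    rw [hF, ← hzz 3]
    refine s.rt' (hP 3) (hzi 3) ?_
    rw [hcw]; exact hr
  have hcz : φ c * z = z * φ c := by
    have h0 : z ∈ F 0 := (hm 0).zmem w4
    exact hcomm _ (hm 0) (fun h => by have := hFinj h; exact absurd this (by decide)) z h0
  obtain ⟨t, -, hti, -⟩ := s.nc z (hm 0).inZ
  obtain ⟨L, hL, x, hx, hLm, hxa⟩ := s.exists_axis hti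
  obtain ⟨h1, h2, h3⟩ := ee w4 hti (hm 3) hLm hxa hcz hcomm hrot
  obtain ⟨e, he⟩ : ∃ e : ↥C, e = x⁻¹ * (c * x * c⁻¹) := ⟨_, rfl⟩
  have heφ : φ e = (φ x)⁻¹ * (φ c * φ x * (φ c)⁻¹) := by
    rw [he, map_mul, map_mul, map_mul, map_inv, map_inv]
  rw [← heφ] at h1 h2 h3
  have hcx : (c : G) * x * (c : G)⁻¹ ∈ sSup B := by
    have h4 : cj (c : G) L ∈ B := s.conj L hL c c.2
    exact Subgroup.mem_sSup_of_mem h4 (conj_mem_cj hx)
  refine ⟨(e : G), ?_, e.2, ?_, ?_, ?_⟩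
  · rw [he]
    change (x : G)⁻¹ * ((c : G) * x * (c : G)⁻¹) ∈ sSup B
    exact mul_mem (inv_mem (Subgroup.mem_sSup_of_mem hL hx)) hcx
  · intro i hi p hp
    refine s.comm (hP i) (fun k hk => ?_) hp
    rw [← hF] at hk
    exact h1 (F i) (hm i) (fun h => hi (hFinj h)) k hk
  · refine s.rt (hP 3) (hzi 3) ?_
    rw [← hF, hzz]
    exact h2
  · intro n hn hnP y hy
    obtain ⟨m, hmn⟩ : ∃ m : ↥C, (m : G) = n := ⟨⟨n, hn⟩, rfl⟩
    have h4 : φ m ∈ CX (Im C B φ) z := by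
      rw [mem_CX]
      intro Q hQ q hq
      obtain ⟨i, rfl⟩ := cov Q hQ
      rw [hF] at hq
      obtain ⟨y, hy, rfl⟩ := hq
      rw [← map_mul, ← map_mul]
      refine congrArg φ (Subtype.ext ?_)
      change (m : G) * y = y * m
      rw [hmn]
      exact hnP i y hy
    have h5 := h3 _ h4
    have h6 : φ (m * e * m⁻¹ * e⁻¹) = 1 := by
      rw [map_mul, map_mul, map_mul, map_inv, map_inv, h5]
      group
    have h7 := s.ker _ h6 y hy
    rw [← hmn]
    exact h7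

end SecH

end Cfsg.Agent.Cit.Nil.RFour.M3
end

-- part: Cit/Nil/CompR/MThreeF
section
prune_inst 0x10002504582200000018000020002040100000020040000101400400084800412004080130702610113080f0400a8060100000494010000020008a0040000401040332e2907c1c0011000040e803180c00000000000000000000000000000000200000000
set_option linter.all false
open scoped Cfsg.Agent.FastGrp

/-!
# S1309 (n6), `r = 2`, AllOne, (M3): the contradiction

* `odd_central` : `O(C) = 1` : an element of odd order of `X ∩ C(X)`, `X` normal in `C`, is trivial;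
* `three_sub` : `SL(2,3)` subnormal in `C(a) ∩ C(z_M)` is `Three` in `C(a)`;
* `Sec Om z B` : the section of `C(z)` on the class `B` (all members over the C-partners of `z`);
* **`false_of_weight`** : an element `w` of `C(a)` which centralises the members over `z`, `b` except `M` and rotates `M`;
* **`false_of_tri`** : a triple `z`, `a`, `b`.
-/

set_option autoImplicit false
set_option linter.style.haveILetI false
set_option linter.unusedSectionVars false

namespace Cfsg.Agent.Cit.Nil.CompR.M3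

open Subgroup Cfsg Cfsg.Agent.Cit
open RTwo (Q3 Act)
open RFour.M3 (Rt Nn SecH)
open RTwoM (WM Mem InZ)
open Three (act_pow act_inv)

universe u

section odd

variable {G : Type*} [Group G] [Finite G]

/-- an element of odd order of `X ∩ C(X)`, `X` normal in `C`, is trivial if `O(C) = 1` -/
theorem odd_central {C X : Subgroup G} (hX : X ≤ C) (hn : ∀ c ∈ C, ∀ x ∈ X, c * x * c⁻¹ ∈ X)
    (hcore : Cfsg.pPrimeCore 2 ↥C = ⊥) {y : G} (hy : y ∈ X) (hc : ∀ x ∈ X, y * x = x * y) (ho : Odd (orderOf y)) :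
    y = 1 := by
  haveI : Fact (Nat.Prime 2) := ⟨Nat.prime_two⟩
  obtain ⟨A, hA⟩ : ∃ A : Subgroup ↥C, A = (X ⊓ centralizer (X : Set G)).subgroupOf C := ⟨_, rfl⟩
  have hmem : ∀ x : ↥C, x ∈ A ↔ (x : G) ∈ X ∧ ∀ v ∈ X, v * x = x * v := by
    intro x
    rw [hA, mem_subgroupOf, mem_inf, mem_centralizer_iff]
    rfl
  have hAn : A.Normal := by
    refine ⟨fun x hx g => ?_⟩
    rw [hmem] at hx ⊢
    obtain ⟨h1, h2⟩ := hx
    refine ⟨hn g g.2 x h1, fun v hv => ?_⟩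
    have h3 := hn (g : G)⁻¹ (inv_mem g.2) v hv
    rw [inv_inv] at h3
    have h4 := h2 _ h3
    change v * ((g : G) * x * (g : G)⁻¹) = (g : G) * x * (g : G)⁻¹ * v
    calc v * ((g : G) * x * (g : G)⁻¹) = (g : G) * (((g : G)⁻¹ * v * g) * x) * (g : G)⁻¹ := by group
      _ = (g : G) * (x * ((g : G)⁻¹ * v * g)) * (g : G)⁻¹ := by rw [h4]
      _ = _ := by group
  have hcA : pPrimeCore 2 ↥A = ⊥ := by
    have h1 := Lib.Cores.map_subtype_pPrimeCore 2 hAn
    rw [hcore, inf_bot_eq] at h1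
    exact (Subgroup.map_eq_bot_iff_of_injective _ A.subtype_injective).1 h1
  obtain ⟨y', hy'⟩ : ∃ y' : ↥C, (y' : G) = y := ⟨⟨y, hX hy⟩, rfl⟩
  have hyA : y' ∈ A := (hmem y').2 ⟨by rw [hy']; exact hy, fun v hv => by rw [hy']; exact (hc v hv).symm⟩
  have hcomm : ∀ u v : ↥A, u * v = v * u := by
    intro u v
    have h1 := (hmem v).1 v.2
    have h2 := ((hmem u).1 u.2).1
    exact Subtype.ext (Subtype.ext (h1.2 _ h2))
  obtain ⟨N, hN⟩ : ∃ N : Subgroup ↥A, N = zpowers ⟨y', hyA⟩ := ⟨_, rfl⟩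
  have hNn : N.Normal := ⟨fun n hn' g => by rw [hcomm g n, mul_inv_cancel_right]; exact hn'⟩
  have ho' : Odd (orderOf (⟨y', hyA⟩ : ↥A)) := by
    rw [Subgroup.orderOf_mk, ← Subgroup.orderOf_coe, hy']; exact ho
  have h3 : N ≤ pPrimeCore 2 ↥A := Lib.Cores.le_pPrimeCore hNn (by
    rw [hN, Nat.card_zpowers]
    exact Nat.Coprime.symm (Nat.coprime_two_left.2 ho'))
  rw [hcA] at h3
  have h4 : (⟨y', hyA⟩ : ↥A) ∈ N := by rw [hN]; exact mem_zpowers _
  have h5 := mem_bot.1 (h3 h4)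
  rw [← hy']
  exact congrArg Subtype.val (congrArg Subtype.val h5)

/-- the odd part of an element -/
theorem exists_odd_part (e : G) : ∃ s : ℕ, Odd (orderOf (e ^ 2 ^ s)) := by
  obtain ⟨n, m, hm, hnm⟩ := Nat.exists_eq_two_pow_mul_odd (orderOf_pos e).ne'
  refine ⟨n, ?_⟩
  have h1 : (e ^ 2 ^ n) ^ m = 1 := by rw [← pow_mul, ← hnm, pow_orderOf_eq_one]
  exact hm.of_dvd_nat (orderOf_dvd_of_pow_eq_one h1)

theorem add_pow (i : Fin 3) (hi : i ≠ 0) (n : ℕ) :
    ∃ j : Fin 3, j ≠ 0 ∧ (Equiv.addRight i : Equiv.Perm (Fin 3)) ^ 2 ^ n = Equiv.addRight j := by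
  induction n with
  | zero => exact ⟨i, hi, by rw [pow_zero, pow_one]⟩
  | succ n ih =>
    obtain ⟨j, hj, h1⟩ := ih
    have key : ∀ j : Fin 3, j ≠ 0 → j + j ≠ 0 ∧
        (Equiv.addRight j : Equiv.Perm (Fin 3)) * Equiv.addRight j = Equiv.addRight (j + j) := by decide
    refine ⟨j + j, (key j hj).1, ?_⟩
    rw [pow_succ, pow_mul, h1, pow_two, (key j hj).2]

/-- `SL(2,3)` subnormal in `C(a) ∩ C(z_M)` is `Three` in `C(a)` -/
theorem three_sub {Om : Set (Subgroup G)} (hyp : Hyp Om) {M J : Subgroup G} {a b : G} (hM : M ∈ Om) (hb : zz M = b)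
    (hJ : J ≤ centralizer {a} ⊓ centralizer {b}) (hMJ : M ≤ J)
    (hs : (J.subgroupOf (centralizer {a} ⊓ centralizer {b})).IsSubnormal)
    (he : Nonempty ((↥J ⧸ oddCore ↥J) ≃* Matrix.SpecialLinearGroup (Fin 2) (ZMod 3))) :
    IndDefs.Three (M.subgroupOf (centralizer ({a} : Set G))) := by
  have hMa : M ≤ centralizer ({a} : Set G) := hMJ.trans (hJ.trans inf_le_left)
  have hzz : ((zz (M.subgroupOf (centralizer ({a} : Set G))) : ↥(centralizer ({a} : Set G))) : G) = b := by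
    rw [zz_map hyp (subgroupOf_mem_restr hM hMa), map_subgroupOf_eq_of_le hMa, hb]
  have hmem : ∀ x : ↥(centralizer ({a} : Set G)),
      x ∈ centralizer {zz (M.subgroupOf (centralizer ({a} : Set G)))} ↔ (x : G) ∈ centralizer ({b} : Set G) := by
    intro x
    rw [mem_centralizer_singleton_iff, mem_centralizer_singleton_iff, ← hzz]
    exact ⟨fun h => congrArg Subtype.val h, fun h => Subtype.ext h⟩
  refine ⟨J.subgroupOf (centralizer {a}), ?_, ?_, ?_, ?_⟩
  · intro x hx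
    exact (hmem x).2 (hJ (mem_subgroupOf.1 hx)).2
  · intro x hx
    exact mem_subgroupOf.2 (hMJ (mem_subgroupOf.1 hx))
  · let f : ↥(centralizer {zz (M.subgroupOf (centralizer ({a} : Set G)))}) →*
        ↥(centralizer {a} ⊓ centralizer {b} : Subgroup G) :=
      { toFun := fun x => ⟨((x : ↥(centralizer ({a} : Set G))) : G), ⟨x.1.2, (hmem _).1 x.2⟩⟩
        map_one' := rfl
        map_mul' := fun _ _ => rfl }
    have h1 := hs.comap f
    have h2 : (J.subgroupOf (centralizer {a} ⊓ centralizer {b})).comap f =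
        (J.subgroupOf (centralizer {a})).subgroupOf (centralizer {zz (M.subgroupOf (centralizer ({a} : Set G)))}) := by
      ext x
      exact Iff.rfl
    rwa [h2] at h1
  · obtain ⟨e⟩ := he
    have e1 : ↥(J.subgroupOf (centralizer ({a} : Set G))) ≃* ↥J := subgroupOfEquivOfLe (hJ.trans inf_le_left)
    exact ⟨(QuotientGroup.congr (oddCore _) (oddCore _) e1 (Lib.Cores.map_equiv_pPrimeCore e1 2)).trans e⟩

end odd

section

variable {G : Type u} [Group G] [Finite G] {Om : Set (Subgroup G)}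

/-- the section of `C(z)` on the class `B` -/
structure Sec (Om : Set (Subgroup G)) (z : G) (B : Set (Subgroup G)) : Prop where
  sub : B ⊆ Om
  sec : ∃ (H : Type u) (_ : Group H) (_ : Finite H) (φ : ↥(centralizer ({z} : Set G)) →* H),
    SecH (centralizer ({z} : Set G)) B φ
  cen : ∀ L ∈ B, ∀ K, Mem Om z K → ∀ l ∈ L, ∀ k ∈ K, l * k = k * l

/-- even action on the axes -/
theorem ev_mul {b : G} {q : Fin 3 → G} {M : Subgroup G} (Q : Q3 M b q) {x y : G} (hx : x * b = b * x)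
    {i j : Fin 3} (h1 : Act b q q x (Equiv.addRight i)) (h2 : Act b q q y (Equiv.addRight j)) :
    ∃ k, Act b q q (x * y) (Equiv.addRight k) := by
  have h3 := h2.comp Q.z2 h1 hx
  have key : ∀ i j : Fin 3, (Equiv.addRight i : Equiv.Perm (Fin 3)) * Equiv.addRight j = Equiv.addRight (i + j) := by
    decide
  rw [key] at h3
  exact ⟨_, h3⟩

theorem add_inv (i : Fin 3) : (Equiv.addRight i : Equiv.Perm (Fin 3))⁻¹ = Equiv.addRight (-i) := by
  revert i; decide

theorem conj_add : ∀ (σ : Equiv.Perm (Fin 3)) (i : Fin 3), ∃ j, σ * (Equiv.addRight i * σ⁻¹) = Equiv.addRight j := by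
  decide

/-- **weight one is impossible** -/
theorem false_of_weight (h : WM Om) {z a b : G} (hab : a * b = z) (hba : a * b = b * a) {B : Set (Subgroup G)}
    (sec : Sec Om a B) (hcore : Cfsg.pPrimeCore 2 ↥(centralizer ({a} : Set G)) = ⊥)
    (n3 : ∀ L ∈ restr Om (centralizer ({a} : Set G)), ¬ IndDefs.Three L)
    (ha1 : a ≠ 1) {K K' M M' : Subgroup G} (hK : Mem Om z K) (hK' : Mem Om z K') (hKK : K ≠ K') (hM : Mem Om b M)
    (hM' : Mem Om b M') (hMM : M ≠ M') (kB : K ∈ B) (kB' : K' ∈ B) (mB : M ∈ B) (mB' : M' ∈ B)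
    (hzb : ∀ P, Mem Om z P → ∀ R, Mem Om b R → ∀ x ∈ P, ∀ y ∈ R, x * y = y * x) {w : G} (hwa : w * a = a * w)
    (hwz : ∀ P, Mem Om z P → ∀ p ∈ P, w * p = p * w) (hwM' : ∀ p ∈ M', w * p = p * w) (hwM : Rt b M w) : False := by
  obtain ⟨H, _, _, φ, s⟩ := sec.sec
  obtain ⟨X, hX⟩ : ∃ X : Subgroup G, X = sSup B := ⟨_, rfl⟩
  have hz2 := hK.inZ.z2 h
  have hb2 := hM.inZ.z2 h
  have hzb' : z ≠ b := by
    rintro rfl
    exact ha1 (mul_eq_right.1 hab)
  have hXC : X ≤ centralizer ({a} : Set G) := by rw [hX]; exact sSup_le s.le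
  have haX : ∀ x ∈ X, x * a = a * x := fun x hx => mem_centralizer_singleton_iff.1 (hXC hx)
  have hXn : ∀ c ∈ centralizer ({a} : Set G), ∀ x ∈ X, c * x * c⁻¹ ∈ X := by
    intro c hc x hx
    have h1 : X ≤ X.comap (MulAut.conj c).toMonoidHom := by
      conv_lhs => rw [hX]
      refine sSup_le fun L hL l hl => ?_
      change c * l * c⁻¹ ∈ X
      rw [hX]
      exact Subgroup.mem_sSup_of_mem (s.conj L hL c hc) (conj_mem_cj hl)
    exact h1 hx
  have hkX : K ≤ X := by rw [hX]; exact le_sSup kB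
  have hmX : M ≤ X := by rw [hX]; exact le_sSup mB
  have hmX' : M' ≤ X := by rw [hX]; exact le_sSup mB'
  -- the four members
  obtain ⟨P, hP⟩ : ∃ P : Fin 4 → Subgroup G, P = ![K, K', M', M] := ⟨_, rfl⟩
  have hPB : ∀ i, P i ∈ B := by rw [hP]; intro i; fin_cases i <;> assumption
  have hzK : ∀ {L : Subgroup G}, Mem Om z L → ∀ {L' : Subgroup G}, Mem Om b L' → L ≠ L' := by
    rintro L hL L' hL' rfl
    exact hzb' (hL.2.symm.trans hL'.2)
  have hinj : Function.Injective P := by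
    rw [hP]
    intro i j hij
    fin_cases i <;> fin_cases j <;> first
      | rfl
      | exact absurd hij hKK
      | exact absurd hij hKK.symm
      | exact absurd hij hMM
      | exact absurd hij hMM.symm
      | exact absurd hij (hzK hK hM)
      | exact absurd hij (hzK hK hM')
      | exact absurd hij (hzK hK' hM)
      | exact absurd hij (hzK hK' hM')
      | exact absurd hij (hzK hK hM).symm
      | exact absurd hij (hzK hK hM').symm
      | exact absurd hij (hzK hK' hM).symm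
      | exact absurd hij (hzK hK' hM').symm
  have haC : a ∈ centralizer ({a} : Set G) := mem_centralizer_singleton_iff.2 rfl
  have hbC : b ∈ centralizer ({a} : Set G) := mem_centralizer_singleton_iff.2 hba.symm
  have hzC : z ∈ centralizer ({a} : Set G) := by rw [← hab]; exact mul_mem haC hbC
  have hφa : φ ⟨a, haC⟩ = 1 := s.ker' _ fun x hx => (haX x (by rw [hX]; exact hx)).symm
  have hφz : φ ⟨z, hzC⟩ = φ ⟨b, hbC⟩ := by
    have h1 : (⟨z, hzC⟩ : ↥(centralizer ({a} : Set G))) = ⟨a, haC⟩ * ⟨b, hbC⟩ := Subtype.ext hab.symm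
    rw [h1, map_mul, hφa, one_mul]
  have hPz : ∀ i, ∀ y : ↥(centralizer ({a} : Set G)), (y : G) = zz (P i) → φ y = φ ⟨b, hbC⟩ := by
    intro i y hy
    have h1 : zz (P i) = z ∨ zz (P i) = b := by
      rw [hP]
      fin_cases i
      · exact Or.inl hK.2
      · exact Or.inl hK'.2
      · exact Or.inr hM'.2
      · exact Or.inr hM.2
    rcases h1 with h1 | h1
    · rw [← hφz]
      exact congrArg φ (Subtype.ext (hy.trans h1))
    · exact congrArg φ (Subtype.ext (hy.trans h1))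
  have hP3 : P 3 = M := by rw [hP]; rfl
  have hwC : w ∈ centralizer ({a} : Set G) := mem_centralizer_singleton_iff.2 hwa
  obtain ⟨e, heB, heC, heP, heM, hen⟩ := s.stepTwo hPB hinj hPz hwC (fun i hi p hp => by
    rw [hP] at hp
    fin_cases i
    · exact hwz K hK p hp
    · exact hwz K' hK' p hp
    · exact hwM' p hp
    · exact absurd rfl hi) (by rw [hP3, hM.2]; exact hwM)
  rw [← hX] at heB
  have heK : ∀ L, Mem Om z L → ∀ p ∈ L, e * p = p * e := by
    intro L hL p hp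
    rcases hK.cases hK' h hKK hL with rfl | rfl
    · exact heP 0 (by decide) p (by rw [hP]; exact hp)
    · exact heP 1 (by decide) p (by rw [hP]; exact hp)
  have heM' : ∀ p ∈ M', e * p = p * e := fun p hp => heP 2 (by decide) p (by rw [hP]; exact hp)
  have hen' : ∀ n ∈ centralizer ({a} : Set G), (∀ L, Mem Om z L → ∀ p ∈ L, n * p = p * n) → (∀ p ∈ M', n * p = p * n) →
      (∀ p ∈ M, n * p = p * n) → ∀ y ∈ X, n * e * n⁻¹ * e⁻¹ * y = y * (n * e * n⁻¹ * e⁻¹) := by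
    intro n hn h1 h2 h3 y hy
    refine hen n hn (fun i p hp => ?_) y (by rw [← hX]; exact hy)
    rw [hP] at hp
    fin_cases i
    · exact h1 K hK p hp
    · exact h1 K' hK' p hp
    · exact h2 p hp
    · exact h3 p hp
  rw [hP3, hM.2] at heM
  obtain ⟨q, hq⟩ := h.exists_q3 hM
  -- `C(b)`
  have hbz : ∀ {g : G}, g * a = a * g → g * b = b * g → g * z = z * g := by
    intro g h1 h2
    rw [← hab, ← mul_assoc, h1, mul_assoc, h2, mul_assoc]
  have hMb : ∀ m ∈ M, m * b = b * m := fun m hm => hM.comm_z h hm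
  have heb : e * b = b * e := by
    have h1 : b ∈ M' := hM'.zmem h
    exact heM' b h1
  -- the group `N`
  let N : Subgroup G :=
    { carrier := {g | g ∈ X ∧ g * b = b * g ∧ (∀ L, Mem Om z L → ∀ p ∈ L, g * p = p * g) ∧
        ∀ L, Mem Om b L → cj g L = L}
      one_mem' := ⟨one_mem X, by rw [one_mul, mul_one], fun L _ p _ => by rw [one_mul, mul_one], fun L _ => cj_one L⟩
      mul_mem' := by
        rintro x y ⟨h1, h2, h3, h4⟩ ⟨k1, k2, k3, k4⟩
        refine ⟨mul_mem h1 k1, ?_, fun L hL p hp => ?_, fun L hL => ?_⟩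
        · rw [mul_assoc, k2, ← mul_assoc, h2, mul_assoc]
        · rw [mul_assoc, k3 L hL p hp, ← mul_assoc, h3 L hL p hp, mul_assoc]
        · rw [cj_mul, k4 L hL, h4 L hL]
      inv_mem' := by
        rintro x ⟨h1, h2, h3, h4⟩
        refine ⟨inv_mem h1, ?_, fun L hL p hp => ?_, fun L hL => ?_⟩
        · rw [inv_mul_eq_iff_eq_mul, ← mul_assoc, h2, mul_inv_cancel_right]
        · rw [inv_mul_eq_iff_eq_mul, ← mul_assoc, h3 L hL p hp, mul_inv_cancel_right]
        · conv_lhs => rw [← h4 L hL]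
          rw [cj_inv_cj] }
  have hNm : ∀ g, g ∈ N ↔ g ∈ X ∧ g * b = b * g ∧ (∀ L, Mem Om z L → ∀ p ∈ L, g * p = p * g) ∧
      ∀ L, Mem Om b L → cj g L = L := fun g => Iff.rfl
  -- the group `E`
  let E : Subgroup G :=
    { carrier := {g | g ∈ N ∧ (∀ p ∈ M', g * p = p * g) ∧ ∃ j : Fin 3, Act b q q g (Equiv.addRight j)}
      one_mem' := ⟨one_mem N, fun p _ => by rw [one_mul, mul_one], 0, by
        have e0 : (Equiv.addRight (0 : Fin 3) : Equiv.Perm (Fin 3)) = 1 := by ext i; simp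
        rw [e0]; exact Act.one q b⟩
      mul_mem' := by
        rintro x y ⟨h1, h2, i, h3⟩ ⟨k1, k2, j, k3⟩
        refine ⟨mul_mem h1 k1, fun p hp => ?_, ev_mul hq ((hNm x).1 h1).2.1 h3 k3⟩
        rw [mul_assoc, k2 p hp, ← mul_assoc, h2 p hp, mul_assoc]
      inv_mem' := by
        rintro x ⟨h1, h2, i, h3⟩
        refine ⟨inv_mem h1, fun p hp => ?_, -i, ?_⟩
        · rw [inv_mul_eq_iff_eq_mul, ← mul_assoc, h2 p hp, mul_inv_cancel_right]
        · have h4 := act_inv hq h3 ((hNm x).1 h1).2.1 (((hNm x).1 h1).2.2.2 M hM)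
          rwa [add_inv] at h4 }
  have hEm : ∀ g, g ∈ E ↔ g ∈ N ∧ (∀ p ∈ M', g * p = p * g) ∧ ∃ j : Fin 3, Act b q q g (Equiv.addRight j) :=
    fun g => Iff.rfl
  have hcjM : ∀ {g : G}, cj g M = M → (∀ p ∈ M', g * p = p * g) → ∀ L, Mem Om b L → cj g L = L := by
    intro g h1 h2 L hL
    rcases hM.cases hM' h hMM hL with rfl | rfl
    · exact h1
    · exact RFour.M3.cj_eq_of_mem fun k hk => by rw [h2 k hk, mul_inv_cancel_right]; exact hk
  -- `e ∈ E`
  obtain ⟨i0, hi0, hei⟩ := heM.exists_act hq heb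
  have heE : e ∈ E := ⟨⟨heB, heb, heK, hcjM heM.1 heM'⟩, heM', i0, hei⟩
  -- the odd part
  obtain ⟨n, hodd⟩ := exists_odd_part e
  obtain ⟨j0, hj0, hjn⟩ := add_pow i0 hi0 n
  have hen2 := act_pow hq.z2 hei heb (2 ^ n)
  rw [hjn] at hen2
  -- `N ≤ D`
  have g1 : N ≤ centralizer {a} ⊓ centralizer {b} := by
    intro g hg
    exact ⟨hXC hg.1, mem_centralizer_singleton_iff.2 hg.2.1⟩
  -- `N` normal in `D`
  have g2 : ∀ x ∈ (centralizer {a} ⊓ centralizer {b} : Subgroup G), ∀ n ∈ N, x * n * x⁻¹ ∈ N := by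
    rintro x ⟨hxa, hxb⟩ g ⟨h1, h2, h3, h4⟩
    have hxa' := mem_centralizer_singleton_iff.1 hxa
    have hxb' := mem_centralizer_singleton_iff.1 hxb
    have hxz := hbz hxa' hxb'
    have inv : ∀ {u : G}, x * u = u * x → x⁻¹ * u = u * x⁻¹ := fun {u} hu => by
      rw [inv_mul_eq_iff_eq_mul, ← mul_assoc, hu, mul_inv_cancel_right]
    refine ⟨hXn x hxa g h1, ?_, fun L hL p hp => ?_, fun L hL => ?_⟩
    · calc x * g * x⁻¹ * b = x * g * (x⁻¹ * b) := by group
        _ = x * (g * b) * x⁻¹ := by rw [inv hxb']; group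
        _ = (x * b) * g * x⁻¹ := by rw [h2]; group
        _ = _ := by rw [hxb']; group
    · have h5 : Mem Om z (cj x⁻¹ L) := hL.cj_comm h (inv hxz)
      have h6 := h3 _ h5 _ (conj_mem_cj hp)
      rw [inv_inv] at h6
      calc x * g * x⁻¹ * p = x * (g * (x⁻¹ * p * x)) * x⁻¹ := by group
        _ = x * ((x⁻¹ * p * x) * g) * x⁻¹ := by rw [h6]
        _ = _ := by group
    · have h5 : Mem Om b (cj x⁻¹ L) := hL.cj_comm h (inv hxb')
      rw [cj_mul, cj_mul, h4 _ h5, cj_cj_inv]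
  -- `E` normal in `N`
  have g3 : ∀ x ∈ N, ∀ n ∈ E, x * n * x⁻¹ ∈ E := by
    rintro x hx g ⟨h1, h2, j, h3⟩
    have hx' := (hNm x).1 hx
    refine ⟨mul_mem (mul_mem hx h1) (inv_mem hx), fun p hp => ?_, ?_⟩
    · have h4 : x⁻¹ * p * x ∈ M' := by
        have h5 := hx'.2.2.2 M' hM'
        rw [← h5] at hp
        exact mem_cj.1 hp
      have h6 := h2 _ h4
      calc x * g * x⁻¹ * p = x * (g * (x⁻¹ * p * x)) * x⁻¹ := by group
        _ = x * ((x⁻¹ * p * x) * g) * x⁻¹ := by rw [h6]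
        _ = _ := by group
    · obtain ⟨σ, hσ⟩ := hq.exists_act hq (hx'.2.2.2 M hM) hx'.2.1
      have h1' := (hNm g).1 h1
      have h4 := (act_inv hq hσ hx'.2.1 (hx'.2.2.2 M hM)).comp hq.z2 h3 h1'.2.1
      have h5 := h4.comp hq.z2 hσ hx'.2.1
      obtain ⟨j', hj'⟩ := conj_add σ j
      rw [hj', ← mul_assoc] at h5
      exact ⟨j', h5⟩
  -- `M ≤ E`
  have g4 : M ≤ E := by
    intro m hm
    have hmM' : ∀ p ∈ M', m * p = p * m := fun p hp => hM.comm hM' h hMM hm hp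
    have hcm : cj m M = M := mem_normalizer_iff_cj.1 (le_normalizer hm)
    refine ⟨⟨hmX hm, hMb m hm, fun L hL p hp => (hzb L hL M hM p hp m hm).symm, hcjM hcm hmM'⟩, hmM', 0, ?_⟩
    have e0 : (Equiv.addRight (0 : Fin 3) : Equiv.Perm (Fin 3)) = 1 := by ext i; simp
    rw [e0]
    refine Act.of_inner hq fun k hk => ?_
    exact RTwoM.Inn.of_mem hM h hm M hM k hk
  -- `[C_E(M), e'] = 1`
  have g5 : ∀ c ∈ E, (∀ k ∈ M, c * k = k * c) → c * e ^ 2 ^ n = e ^ 2 ^ n * c := by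
    rintro c ⟨⟨hcX, hcb, hcz, -⟩, hcM', -⟩ hcM
    have hcC := hXC hcX
    obtain ⟨ζ, hζ⟩ : ∃ ζ, ζ = c * e * c⁻¹ * e⁻¹ := ⟨_, rfl⟩
    have h1 : ∀ y ∈ X, ζ * y = y * ζ := by
      rw [hζ]; exact hen' c hcC hcz hcM' hcM
    have hζX : ζ ∈ X := by
      rw [hζ]
      exact mul_mem (mul_mem (mul_mem hcX heB) (inv_mem hcX)) (inv_mem heB)
    have h2 : c * e * c⁻¹ = ζ * e := by rw [hζ]; group
    have h3 : Commute ζ e := h1 e heB
    obtain ⟨ξ, hξ⟩ : ∃ ξ, ξ = ζ ^ 2 ^ n := ⟨_, rfl⟩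
    have h4 : c * e ^ 2 ^ n * c⁻¹ = ξ * e ^ 2 ^ n := by
      rw [← conj_pow, h2, h3.mul_pow, hξ]
    have h5 : Commute ξ (e ^ 2 ^ n) := by rw [hξ]; exact h3.pow_pow _ _
    have h6 : ξ ^ orderOf (e ^ 2 ^ n) = 1 := by
      have h7 : (c * e ^ 2 ^ n * c⁻¹) ^ orderOf (e ^ 2 ^ n) = 1 := by
        rw [conj_pow, pow_orderOf_eq_one, mul_one, mul_inv_cancel]
      rw [h4, h5.mul_pow, pow_orderOf_eq_one, mul_one] at h7
      exact h7
    have h7 : Odd (orderOf ξ) := hodd.of_dvd_nat (orderOf_dvd_of_pow_eq_one h6)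
    have h8 : ξ = 1 := by
      refine odd_central hXC hXn hcore (by rw [hξ]; exact pow_mem hζX _) (fun x hx => ?_) h7
      have h9 : Commute ζ x := h1 x hx
      rw [hξ]
      exact (h9.pow_left _).eq
    rw [h8, one_mul, mul_inv_eq_iff_eq_mul] at h4
    exact h4
  have g6 : E ≤ N := fun g hg => hg.1
  have g7 : ∀ x ∈ E, x * b = b * x := fun g hg => hg.1.2.1
  have g8 : ∀ x ∈ E, ∃ j : Fin 3, Act b q q x (Equiv.addRight j) := fun g hg => hg.2.2
  obtain ⟨J, hJD, hMJ, hJs, hJe⟩ := exists_j hq g1 g2 g6 g3 g7 g8 g4 (pow_mem heE _) hj0 hen2 hodd g5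
  exact n3 _ (subgroupOf_mem_restr hM.1 (hMJ.trans (hJD.trans inf_le_left))) (three_sub h.hyp hM.1 hM.2 hJD hMJ hJs hJe)

end

end Cfsg.Agent.Cit.Nil.CompR.M3
end

-- part: Cit/Nil/CompR/MThreeG
section
set_option linter.all false
open scoped Cfsg.Agent.FastGrp

/-!
# S1309 (n6), `r = 2`, AllOne, (M3): the contradiction in a triple

* `false_of_block` : an element `w` of `⟨Bz⟩` which rotates `A` and is inner on `A'` (`A`, `A'` over `a`) is impossible;
* **`false_of_tri`** : a triple `z`, `a`, `b = z a` of members with commuting members.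
-/

set_option autoImplicit false
set_option linter.style.haveILetI false
set_option linter.unusedSectionVars false

namespace Cfsg.Agent.Cit.Nil.CompR.M3

open Subgroup Cfsg Cfsg.Agent.Cit
open RTwo (Q3 Act)
open RFour.M3 (Rt Nn SecH)
open RTwoM (WM Mem)

universe u

variable {G : Type u} [Group G] [Finite G] {Om : Set (Subgroup G)}

/-- the members over `z` and over `a` commute -/
def Cm (Om : Set (Subgroup G)) (z a : G) : Prop := ∀ K, Mem Om z K → ∀ L, Mem Om a L → ∀ x ∈ K, ∀ y ∈ L, x * y = y * x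

theorem Cm.symm {z a : G} (h : Cm Om z a) : Cm Om a z := fun K hK L hL x hx y hy => (h L hL K hK y hy x hx).symm

/-- one block -/
theorem false_of_block (h : WM Om) {z a b : G} (hab : b * a = z) (hba : b * a = a * b) {Bz Bb : Set (Subgroup G)}
    (cz : ∀ L ∈ Bz, ∀ K, Mem Om z K → ∀ l ∈ L, ∀ k ∈ K, l * k = k * l) (sec : Sec Om b Bb)
    (hcore : Cfsg.pPrimeCore 2 ↥(centralizer ({b} : Set G)) = ⊥)
    (n3 : ∀ L ∈ restr Om (centralizer ({b} : Set G)), ¬ IndDefs.Three L)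
    (hb1 : b ≠ 1) (hza : Cm Om z a) (hAb : Cm Om a b) (hb : RTwoM.InZ Om b) (hz : RTwoM.InZ Om z)
    (kz : ∀ L, Mem Om z L → L ∈ Bb) (ka : ∀ L, Mem Om a L → L ∈ Bb)
    {A A' : Subgroup G} (hA : Mem Om a A) (hA' : Mem Om a A') (hAA : A ≠ A') {w : G} (hw : w ∈ sSup Bz)
    (hwb : w * b = b * w) (hr : Rt a A w) (hn : Nn a A' w) : False := by
  have hwz : ∀ K, Mem Om z K → ∀ k ∈ K, w * k = k * w := by
    intro K hK k hk
    have h1 : sSup Bz ≤ centralizer ({k} : Set G) :=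
      sSup_le fun L hL l hl => mem_centralizer_singleton_iff.2 (cz L hL K hK l hl k hk)
    exact mem_centralizer_singleton_iff.1 (h1 hw)
  obtain ⟨q, hq⟩ := h.exists_q3 hA'
  obtain ⟨m, hm, hma⟩ : ∃ m ∈ A', ∀ l ∈ A', w * l * w⁻¹ = m * l * m⁻¹ := by
    rcases hq.inner_cases hn with h3 | ⟨j, h3⟩
    · exact ⟨1, one_mem A', fun l hl => by rw [h3 l hl]; group⟩
    · exact ⟨q j, hq.mem j, h3⟩
  obtain ⟨w', hw'⟩ : ∃ w', w' = w * m⁻¹ := ⟨_, rfl⟩
  obtain ⟨K, (hK : Mem Om z K)⟩ := hz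
  obtain ⟨K', hK', hKK, -⟩ := hK.other h
  obtain ⟨B, (hB : Mem Om b B)⟩ := hb
  have hmb : m * b = b * m := hAb A' hA' B hB m hm b (hB.zmem h)
  have inv : ∀ {u v : G}, u * v = v * u → u⁻¹ * v = v * u⁻¹ := fun {u v} hu => by
    rw [inv_mul_eq_iff_eq_mul, ← mul_assoc, hu, mul_inv_cancel_right]
  have cm : ∀ {u : G}, w * u = u * w → m * u = u * m → w' * u = u * w' := by
    intro u h1 h2
    rw [hw', mul_assoc, inv h2, ← mul_assoc, h1, mul_assoc]
  refine false_of_weight h hab hba sec hcore n3 hb1 hK hK' hKK hA hA' hAA (kz K hK) (kz K' hK') (ka A hA)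
    (ka A' hA') hza (w := w') (cm hwb hmb) (fun P hP p hp => cm (hwz P hP p hp) ?_) ?_ ?_
  · exact (hza P hP A' hA' p hp m hm).symm
  · intro p hp
    have h1 := hma (m⁻¹ * p * m) (mul_mem (mul_mem (inv_mem hm) hp) hm)
    rw [← mul_inv_eq_iff_eq_mul, hw']
    calc w * m⁻¹ * p * (w * m⁻¹)⁻¹ = w * (m⁻¹ * p * m) * w⁻¹ := by group
      _ = m * (m⁻¹ * p * m) * m⁻¹ := h1
      _ = p := by group
  · have hmA : ∀ y ∈ A, m * y = y * m := fun y hy => (hA.comm hA' h hAA hy hm).symm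
    have h1 : ∀ y ∈ A, w' * y * w'⁻¹ = w * y * w⁻¹ := by
      intro y hy
      rw [hw']
      calc w * m⁻¹ * y * (w * m⁻¹)⁻¹ = w * (m⁻¹ * y * m) * w⁻¹ := by group
        _ = w * (y * m⁻¹ * m) * w⁻¹ := by rw [inv (hmA y hy)]
        _ = _ := by group
    refine ⟨?_, fun y hy hyy => ?_⟩
    · refine RFour.M3.cj_eq_of_mem fun k hk => ?_
      rw [h1 k hk]
      have := conj_mem_cj (g := w) hk
      rwa [hr.1] at this
    · rw [h1 y hy]
      exact hr.2 y hy hyy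

/-- **a triple** -/
theorem false_of_tri (h : WM Om) {z a b : G} (hzab : z * a * b = 1) (hz : RTwoM.InZ Om z) (ha : RTwoM.InZ Om a) (hb : RTwoM.InZ Om b)
    (cza : Cm Om z a) (czb : Cm Om z b) (cab : Cm Om a b) {Bz Ba Bb : Set (Subgroup G)} (sz : Sec Om z Bz)
    (sa : Sec Om a Ba) (sb : Sec Om b Bb) (za : ∀ L, Mem Om a L → L ∈ Bz) (zb : ∀ L, Mem Om b L → L ∈ Bz)
    (az : ∀ L, Mem Om z L → L ∈ Ba) (ab : ∀ L, Mem Om b L → L ∈ Ba) (bz : ∀ L, Mem Om z L → L ∈ Bb)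
    (ba : ∀ L, Mem Om a L → L ∈ Bb)
    (core : ∀ t, orderOf t = 2 → Cfsg.pPrimeCore 2 ↥(centralizer ({t} : Set G)) = ⊥)
    (n3 : ∀ t, RTwoM.InZ Om t → ∀ L ∈ restr Om (centralizer ({t} : Set G)), ¬ IndDefs.Three L) : False := by
  obtain ⟨A, (hA : Mem Om a A)⟩ := id ha
  obtain ⟨A', hA', hAA, -⟩ := hA.other h
  obtain ⟨B, (hB : Mem Om b B)⟩ := id hb
  obtain ⟨B', hB', hBB, -⟩ := hB.other h
  obtain ⟨Z, (hZ : Mem Om z Z)⟩ := id hz
  have hz2 := hz.z2 h
  have ha2 := ha.z2 h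
  have hb2 := hb.z2 h
  have c1 : a * b = b * a := cab A hA B hB a (hA.zmem h) b (hB.zmem h)
  have e1 : a * b = z := by
    have h1 : z * (a * b) = 1 := by rw [← mul_assoc]; exact hzab
    have h2 : z⁻¹ = a * b := inv_eq_of_mul_eq_one_right h1
    rw [← h2, hz.inv h]
  have hab' : a ≠ b := by
    rintro rfl
    exact hz.z1 h (by rw [← e1]; exact ha2)
  obtain ⟨H, _, _, φ, s⟩ := sz.sec
  obtain ⟨P, hP⟩ : ∃ P : Fin 4 → Subgroup G, P = ![A, A', B, B'] := ⟨_, rfl⟩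
  have hPB : ∀ i, P i ∈ Bz := by
    rw [hP]; intro i
    fin_cases i
    · exact za A hA
    · exact za A' hA'
    · exact zb B hB
    · exact zb B' hB'
  have hAB : ∀ {L : Subgroup G}, Mem Om a L → ∀ {L' : Subgroup G}, Mem Om b L' → L ≠ L' := by
    rintro L hL L' hL' rfl
    exact hab' (hL.2.symm.trans hL'.2)
  have hinj : Function.Injective P := by
    rw [hP]
    intro i j hij
    fin_cases i <;> fin_cases j <;> first
      | rfl
      | exact absurd hij hAA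
      | exact absurd hij hAA.symm
      | exact absurd hij hBB
      | exact absurd hij hBB.symm
      | exact absurd hij (hAB hA hB)
      | exact absurd hij (hAB hA hB')
      | exact absurd hij (hAB hA' hB)
      | exact absurd hij (hAB hA' hB')
      | exact absurd hij (hAB hA hB).symm
      | exact absurd hij (hAB hA hB').symm
      | exact absurd hij (hAB hA' hB).symm
      | exact absurd hij (hAB hA' hB').symm
  have haC : a ∈ centralizer ({z} : Set G) :=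
    mem_centralizer_singleton_iff.2 (cza Z hZ A hA z (hZ.zmem h) a (hA.zmem h)).symm
  have hbC : b ∈ centralizer ({z} : Set G) :=
    mem_centralizer_singleton_iff.2 (czb Z hZ B hB z (hZ.zmem h) b (hB.zmem h)).symm
  have hzC : z ∈ centralizer ({z} : Set G) := mem_centralizer_singleton_iff.2 rfl
  have hφz : φ ⟨z, hzC⟩ = 1 := s.ker' _ fun x hx => by
    have h1 : sSup Bz ≤ centralizer ({z} : Set G) := sSup_le s.le
    exact (mem_centralizer_singleton_iff.1 (h1 hx)).symm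
  have hφa : φ ⟨a, haC⟩ = φ ⟨b, hbC⟩ := by
    have h1 : (⟨a, haC⟩ : ↥(centralizer ({z} : Set G))) = ⟨z, hzC⟩ * ⟨b, hbC⟩ := by
      refine Subtype.ext ?_
      change a = z * b
      rw [← e1, mul_assoc, hb2, mul_one]
    rw [h1, map_mul, hφz, one_mul]
  have hPz : ∀ i, ∀ y : ↥(centralizer ({z} : Set G)), (y : G) = zz (P i) → φ y = φ ⟨b, hbC⟩ := by
    intro i y hy
    have h1 : zz (P i) = a ∨ zz (P i) = b := by
      rw [hP]
      fin_cases i
      · exact Or.inl hA.2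
      · exact Or.inl hA'.2
      · exact Or.inr hB.2
      · exact Or.inr hB'.2
    rcases h1 with h1 | h1
    · rw [← hφa]
      exact congrArg φ (Subtype.ext (hy.trans h1))
    · exact congrArg φ (Subtype.ext (hy.trans h1))
  obtain ⟨w, hwB, -, hwP, hcase⟩ := s.stepOne hPB hinj hPz
  have p0 : P 0 = A := by rw [hP]; rfl
  have p1 : P 1 = A' := by rw [hP]; rfl
  have p2 : P 2 = B := by rw [hP]; rfl
  have p3 : P 3 = B' := by rw [hP]; rfl
  rw [p0, p1, p2, p3, hA.2, hA'.2, hB.2, hB'.2] at hcase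
  have hwa : w * a = a * w := hA.of_cj h (by rw [← p0]; exact hwP 0)
  have hwb : w * b = b * w := hB.of_cj h (by rw [← p2]; exact hwP 2)
  have oa := ha.orderOf h
  have ob := hb.orderOf h
  rcases hcase with ⟨hr, hn⟩ | ⟨hr, hn⟩ | ⟨hr, hn⟩ | ⟨hr, hn⟩
  · exact false_of_block h (c1.symm.trans e1) c1.symm sz.cen sb (core b ob) (n3 b hb) (hb.z1 h) cza cab hb hz bz ba
      hA hA' hAA hwB hwb hr hn
  · exact false_of_block h (c1.symm.trans e1) c1.symm sz.cen sb (core b ob) (n3 b hb) (hb.z1 h) cza cab hb hz bz ba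
      hA' hA hAA.symm hwB hwb hr hn
  · exact false_of_block h e1 c1 sz.cen sa (core a oa) (n3 a ha) (ha.z1 h) czb cab.symm ha hz az ab
      hB hB' hBB hwB hwa hr hn
  · exact false_of_block h e1 c1 sz.cen sa (core a oa) (n3 a ha) (ha.z1 h) czb cab.symm ha hz az ab
      hB' hB hBB.symm hwB hwa hr hn

end Cfsg.Agent.Cit.Nil.CompR.M3
end

-- part: Cit/Nil/CVT/Tri
section
prune_inst 0x101021044800000000000000000020201000000000000001200004000009000080000800002024001020200000000060111800400010000000000000000404010002100010000000000000000003180c00000000000000000000000000000000200000000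
set_option linter.all false
open scoped Cfsg.Agent.FastGrp

/-!
# (6b)(CV), the frame: a strongly closed four-group `{1, z₁, z₂, z₃}`

`Tri` : `F` is simple, normal in `G`, with trivial centraliser; the class of `K` has no orthogonal members; exactly three
members have their involutions in the Sylow 2-subgroup `T`; `V₁ V₂ ≤ T`, `v₁ v₂ v₃ = 1`.

* `Tri.zF` : the involutions `zz N` are in `F`;
* `Tri.exists_rot` : if `R = T ∩ F` centralises the three involutions, there is a 3-element `g` of `N_F(R)` moving them;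
* `Tri.false_of` : contradiction.
-/

set_option autoImplicit false
set_option linter.style.haveILetI false
set_option linter.unusedSectionVars false

namespace Cfsg.Agent.Cit.Nil.CVT

open Subgroup Cfsg Cit Tau CV CV1 Cfsg.Agent.Cit.Comp
open Cfsg.Agent.Cit.Nil.ROne (FSimp)

variable {G : Type*} [Group G] {U : Subgroup G → Subgroup G} {F K K₁ K₂ K₃ L M N R T : Subgroup G}
  {f g n r s t v v₁ v₂ v₃ w x y z : G}

/-- three members with their involutions in `T` -/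
structure Tri (K : Subgroup G) (U : Subgroup G → Subgroup G) (F T K₁ K₂ K₃ : Subgroup G) (v₁ v₂ v₃ : G) : Prop where
  cvw : CVW (cls K) U
  no : ∀ M ∈ cls K, ∀ N ∈ cls K, ¬ Orth M N
  f : FSimp F
  even : 2 ∣ Nat.card F
  syl : Syl T ⊤
  m1 : K₁ ∈ cls K
  m2 : K₂ ∈ cls K
  m3 : K₃ ∈ cls K
  u1 : v₁ ∈ U K₁
  u2 : v₂ ∈ U K₂
  u3 : v₃ ∈ U K₃
  o1 : orderOf v₁ = 4
  o2 : orderOf v₂ = 4
  o3 : orderOf v₃ = 4
  t1 : v₁ ∈ T
  t2 : v₂ ∈ T
  t3 : v₃ ∈ T
  n12 : K₁ ≠ K₂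
  n13 : K₁ ≠ K₃
  n23 : K₂ ≠ K₃
  c12 : v₁ * v₂ = v₂ * v₁
  prod : v₁ * v₂ * v₃ = 1
  all : ∀ N ∈ cls K, zz N ∈ T → N = K₁ ∨ N = K₂ ∨ N = K₃

namespace Tri

variable [Finite G] (q : Tri K U F T K₁ K₂ K₃ v₁ v₂ v₃)
include q

theorem three_eq : v₃ = v₁⁻¹ * v₂⁻¹ := by
  have h1 := q.prod
  rw [q.c12] at h1
  rw [eq_inv_of_mul_eq_one_right h1, mul_inv_rev]

theorem c13 : v₁ * v₃ = v₃ * v₁ := by
  rw [q.three_eq]
  have h1 : Commute v₁ v₂ := q.c12
  exact ((Commute.refl v₁).inv_right.mul_right h1.inv_right).eq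

theorem c23 : v₂ * v₃ = v₃ * v₂ := by
  rw [q.three_eq]
  have h1 : Commute v₁ v₂ := q.c12
  exact (h1.symm.inv_right.mul_right (Commute.refl v₂).inv_right).eq

theorem rot : Tri K U F T K₂ K₃ K₁ v₂ v₃ v₁ where
  cvw := q.cvw
  no := q.no
  f := q.f
  even := q.even
  syl := q.syl
  m1 := q.m2
  m2 := q.m3
  m3 := q.m1
  u1 := q.u2
  u2 := q.u3
  u3 := q.u1
  o1 := q.o2
  o2 := q.o3
  o3 := q.o1
  t1 := q.t2
  t2 := q.t3
  t3 := q.t1
  n12 := q.n23
  n13 := q.n12.symm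
  n23 := q.n13.symm
  c12 := q.c23
  prod := by
    have h1 := q.prod
    rw [mul_assoc] at h1
    rw [eq_inv_of_mul_eq_one_right h1, inv_mul_cancel]
  all N hN hz := by
    have := q.all N hN hz
    tauto

theorem swap : Tri K U F T K₁ K₃ K₂ v₁ v₃ v₂ where
  cvw := q.cvw
  no := q.no
  f := q.f
  even := q.even
  syl := q.syl
  m1 := q.m1
  m2 := q.m3
  m3 := q.m2
  u1 := q.u1
  u2 := q.u3
  u3 := q.u2
  o1 := q.o1
  o2 := q.o3
  o3 := q.o2
  t1 := q.t1
  t2 := q.t3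
  t3 := q.t2
  n12 := q.n13
  n13 := q.n12
  n23 := q.n23.symm
  c12 := q.c13
  prod := by
    have h1 := q.prod
    rw [mul_assoc] at h1 ⊢
    rw [← q.c23]
    exact h1
  all N hN hz := by
    have := q.all N hN hz
    tauto

/-- the involutions are in `F` -/
theorem zF (hN : N ∈ cls K) : zz N ∈ F := by
  haveI := q.f.nor
  by_contra hz
  have hO : OO F = ⊥ := by
    by_contra hO
    have h1 := q.f.le (N := OO F) (fun g hg n hn => by
      have h2 : Cit.cj g (OO F) = OO F := by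
        rw [← OO_cj, mem_normalizer_iff_cj.1 (le_normalizer hg)]
      rw [← h2]
      exact conj_mem_cj hn) hO
    exact odd_OO F (q.even.trans (card_dvd_of_le h1))
  have h1 := q.cvw.hyp.lemma_two (fun L hL => q.cvw.two L hL) hN
    (by rw [normalizer_eq_top_iff.2 q.f.nor]; exact le_top) hO hz
  have h2 : zz N ∈ centralizer (F : Set G) := by
    rw [mem_centralizer_iff]
    exact fun x hx => mem_centralizer_singleton_iff.1 (h1 hx)
  rw [q.f.cen, mem_bot] at h2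
  exact q.cvw.hyp.zz_ne hN h2

/-- `zz` is injective -/
theorem inj (hM : M ∈ cls K) (hN : N ∈ cls K) (hz : zz M = zz N) : M = N := by
  by_contra hne
  exact q.no M hM N hN ⟨hne, fun x hx y hy => q.cvw.comm_of_zz_eq hM hN hz hne hx hy⟩

theorem norm_of (hM : M ∈ cls K) (hg : g * zz M = zz M * g) : g ∈ normalizer (M : Set G) := by
  rw [mem_normalizer_iff_cj]
  refine q.inj (q.cvw.hyp.conj M hM g) hM ?_
  rw [q.cvw.hyp.zz_cj hM, hg, mul_inv_cancel_right]

theorem z1 : v₁ * v₁ = zz K₁ := q.cvw.sq_eq q.m1 q.u1 q.o1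

theorem zT : zz K₁ ∈ T := by rw [← q.z1]; exact T.mul_mem q.t1 q.t1

/-- the members over `T` are permuted -/
theorem mem3 (hM : M = K₁ ∨ M = K₂ ∨ M = K₃) (hg : g * zz M * g⁻¹ ∈ T) :
    Cit.cj g M = K₁ ∨ Cit.cj g M = K₂ ∨ Cit.cj g M = K₃ := by
  have hM' : M ∈ cls K := by
    rcases hM with rfl | rfl | rfl
    · exact q.m1
    · exact q.m2
    · exact q.m3
  exact q.all _ (q.cvw.hyp.conj M hM' g) (by rw [q.cvw.hyp.zz_cj hM']; exact hg)

/-- `R = T ∩ F` is a Sylow 2-subgroup of `F` -/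
theorem sylR : Syl (T ⊓ F) F := by
  haveI := q.f.nor
  exact AbSyl.syl_inf_normal q.syl

/-- a 2-element of `N_F(R)` is in `R` -/
theorem mem_R (hx : x ∈ F) (hn : x ∈ normalizer (T ⊓ F : Subgroup G)) {k : ℕ} (hk : x ^ 2 ^ k = 1) : x ∈ T ⊓ F := by
  haveI : Fact (Nat.Prime 2) := ⟨Nat.prime_two⟩
  have h1 : IsPGroup 2 (zpowers x) := by
    have h2 := orderOf_dvd_of_pow_eq_one hk
    obtain ⟨j, -, hj⟩ := (Nat.dvd_prime_pow Nat.prime_two).1 h2
    exact IsPGroup.of_card (n := j) (by rw [Nat.card_zpowers, hj])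
  have h2 : IsPGroup 2 (zpowers x ⊔ (T ⊓ F) : Subgroup G) :=
    h1.to_sup_of_normal_right' q.sylR.2.1 (zpowers_le.2 hn)
  have h3 := q.sylR.eq_of_le (R := zpowers x ⊔ (T ⊓ F)) le_sup_right (sup_le (zpowers_le.2 hx) inf_le_right) h2
  rw [h3]
  exact mem_sup_left (mem_zpowers x)

/-- Glauberman's theorem -/
theorem exists_move : ∃ f ∈ F, zz K₁ * (f * zz K₁ * f⁻¹) = f * zz K₁ * f⁻¹ * zz K₁ ∧ f * zz K₁ * f⁻¹ ≠ zz K₁ := by
  by_contra hcon
  push Not at hcon
  have hzF := q.zF q.m1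
  obtain ⟨N, hN, hNodd, hNz⟩ := GH.QA.zstar (G := F) (u := ⟨zz K₁, hzF⟩) (Subtype.ext (q.cvw.hyp.zz_mul q.m1))
    (fun h1 => q.cvw.hyp.zz_ne q.m1 (congrArg Subtype.val h1)) (by
      rintro ⟨x, hx⟩ h1
      exact Subtype.ext (hcon x hx (congrArg Subtype.val h1)))
  haveI := q.f.sim
  rcases hN.eq_bot_or_eq_top with h1 | h1
  · rw [h1] at hNz
    have h2 : zz K₁ ∈ centralizer (F : Set G) := by
      rw [mem_centralizer_iff]
      intro x hx
      have h3 := hNz ⟨x, hx⟩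
      rw [Subgroup.mem_bot, mul_inv_eq_one, mul_inv_eq_iff_eq_mul] at h3
      exact (congrArg Subtype.val h3).symm
    rw [q.f.cen, Subgroup.mem_bot] at h2
    exact q.cvw.hyp.zz_ne q.m1 h2
  · rw [h1] at hNodd
    have h2 := q.even
    rw [← card_top (G := F)] at h2
    rw [← Nat.not_even_iff_odd, even_iff_two_dvd] at hNodd
    exact hNodd h2

/-- `z₁` is conjugate in `F` to `z₂` or `z₃` -/
theorem exists_fus : ∃ y ∈ F, Cit.cj y K₁ = K₂ ∨ Cit.cj y K₁ = K₃ := by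
  haveI : Fact (Nat.Prime 2) := ⟨Nat.prime_two⟩
  obtain ⟨f, hf, hc, hne⟩ := q.exists_move
  haveI := q.f.nor
  have hzF := q.zF q.m1
  have hz2 : ∀ g : G, IsPGroup 2 (zpowers (g * zz K₁ * g⁻¹)) := by
    intro g
    rw [← q.cvw.hyp.zz_cj q.m1]
    exact (q.cvw.two _ (q.cvw.hyp.conj _ q.m1 g)).to_le (zpowers_le.2 (q.cvw.hyp.zz_mem (q.cvw.hyp.conj _ q.m1 g)))
  obtain ⟨V, hV⟩ : ∃ V, V = zpowers (zz K₁) ⊔ zpowers (f * zz K₁ * f⁻¹) := ⟨_, rfl⟩
  have hV2 : IsPGroup 2 V := by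
    rw [hV]
    refine IsPGroup.to_sup_of_normal_right' ?_ (hz2 f) ?_
    · have := hz2 1
      rwa [one_mul, inv_one, mul_one] at this
    · rw [zpowers_le]
      refine centralizer_le_normalizer _ ?_
      intro x hx
      obtain ⟨i, rfl⟩ := mem_zpowers_iff.1 hx
      exact ((Commute.zpow_right (show Commute (zz K₁) (f * zz K₁ * f⁻¹) from hc) i).symm).eq
  have hVF : V ≤ F := by
    rw [hV]
    exact sup_le (zpowers_le.2 hzF) (zpowers_le.2 (q.f.nor.conj_mem _ hzF f))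
  obtain ⟨Q, hQ, hVQ⟩ := exists_syl_ge hV2 hVF
  obtain ⟨x, hx, hxQ⟩ := hQ.exists_conj q.sylR
  have h1 : x * zz K₁ * x⁻¹ ∈ T := by
    have h2 : x * zz K₁ * x⁻¹ ∈ Cit.cj x Q := conj_mem_cj (hVQ (by rw [hV]; exact mem_sup_left (mem_zpowers _)))
    rw [hxQ] at h2
    exact h2.1
  have h2 : (x * f) * zz K₁ * (x * f)⁻¹ ∈ T := by
    have h3 : x * (f * zz K₁ * f⁻¹) * x⁻¹ ∈ Cit.cj x Q :=
      conj_mem_cj (hVQ (by rw [hV]; exact mem_sup_right (mem_zpowers _)))
    rw [hxQ] at h3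
    have h4 : (x * f) * zz K₁ * (x * f)⁻¹ = x * (f * zz K₁ * f⁻¹) * x⁻¹ := by group
    rw [h4]
    exact h3.1
  rcases q.mem3 (Or.inl rfl) h1 with h3 | h3 | h3
  · rcases q.mem3 (Or.inl rfl) h2 with h4 | h4 | h4
    · exfalso
      apply hne
      have h5 : Cit.cj f K₁ = K₁ := by
        rw [cj_mul] at h4
        have h6 : Cit.cj x (Cit.cj f K₁) = Cit.cj x K₁ := by rw [h4, h3]
        exact cj_inj.1 h6
      rw [← q.cvw.hyp.zz_cj q.m1, h5]
    · exact ⟨x * f, F.mul_mem hx hf, Or.inl h4⟩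
    · exact ⟨x * f, F.mul_mem hx hf, Or.inr h4⟩
  · exact ⟨x, hx, Or.inl h3⟩
  · exact ⟨x, hx, Or.inr h3⟩

/-- Burnside's argument -/
theorem exists_norm (hc1 : ∀ r ∈ T ⊓ F, r * zz K₁ = zz K₁ * r) (hc2 : ∀ r ∈ T ⊓ F, r * zz K₂ = zz K₂ * r)
    {y : G} (hy : y ∈ F) (hyK : Cit.cj y K₁ = K₂) :
    ∃ n ∈ F, n ∈ normalizer (T ⊓ F : Subgroup G) ∧ Cit.cj n K₁ = K₂ := by
  haveI := q.f.nor
  obtain ⟨D, hD⟩ : ∃ D, D = F ⊓ centralizer {zz K₂} := ⟨_, rfl⟩
  have hDF : D ≤ F := by rw [hD]; exact inf_le_left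
  have h1 : T ⊓ F ≤ D := by
    rw [hD]
    exact le_inf inf_le_right fun r hr => mem_centralizer_singleton_iff.2 (hc2 r hr)
  have hz : y * zz K₁ * y⁻¹ = zz K₂ := by rw [← q.cvw.hyp.zz_cj q.m1, hyK]
  have hyF : Cit.cj y F = F := mem_normalizer_iff_cj.1 (le_normalizer hy)
  have h2 : Cit.cj y (T ⊓ F) ≤ D := by
    rw [hD]
    refine le_inf ((cj_mono y inf_le_right).trans hyF.le) ?_
    rintro _ ⟨r, hr, rfl⟩
    refine mem_centralizer_singleton_iff.2 ?_
    change y * r * y⁻¹ * zz K₂ = zz K₂ * (y * r * y⁻¹)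
    rw [← hz]
    calc y * r * y⁻¹ * (y * zz K₁ * y⁻¹) = y * (r * zz K₁) * y⁻¹ := by group
      _ = y * zz K₁ * y⁻¹ * (y * r * y⁻¹) := by rw [hc1 r hr]; group
  have hR' : Syl (Cit.cj y (T ⊓ F)) F := by
    have := q.sylR.cj y
    rwa [hyF] at this
  obtain ⟨Q1, hQ1, hRQ1⟩ := exists_syl_ge q.sylR.2.1 h1
  obtain ⟨Q2, hQ2, hRQ2⟩ := exists_syl_ge hR'.2.1 h2
  have e1 := q.sylR.eq_of_le hRQ1 (hQ1.1.trans hDF) hQ1.2.1
  have e2 := hR'.eq_of_le hRQ2 (hQ2.1.trans hDF) hQ2.2.1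
  obtain ⟨d, hd, hdQ⟩ := hQ2.exists_conj hQ1
  rw [← e1, ← e2] at hdQ
  rw [hD] at hd
  refine ⟨d * y, F.mul_mem hd.1 hy, ?_, ?_⟩
  · rw [mem_normalizer_iff_cj, cj_mul, hdQ]
  · rw [cj_mul, hyK]
    exact mem_normalizer_iff_cj.1 (q.norm_of q.m2 (mem_centralizer_singleton_iff.1 hd.2))

/-- **the rotation** -/
theorem exists_rot (hc : ∀ r ∈ T ⊓ F, r * zz K₁ = zz K₁ * r ∧ r * zz K₂ = zz K₂ * r ∧ r * zz K₃ = zz K₃ * r) :
    ∃ K₂' K₃' v₂' v₃', Tri K U F T K₁ K₂' K₃' v₁ v₂' v₃' ∧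
      (∀ r ∈ T ⊓ F, r * zz K₁ = zz K₁ * r ∧ r * zz K₂' = zz K₂' * r ∧ r * zz K₃' = zz K₃' * r) ∧
      ∃ g ∈ F, g ∈ normalizer (T ⊓ F : Subgroup G) ∧ (∃ b : ℕ, g ^ 3 ^ b = 1) ∧ Cit.cj g K₁ = K₂' ∧
        Cit.cj g K₂' = K₃' ∧ Cit.cj g K₃' = K₁ := by
  -- a moving element
  obtain ⟨y, hy, hyK⟩ := q.exists_fus
  have key : ∀ {K₂ K₃ v₂ v₃}, Tri K U F T K₁ K₂ K₃ v₁ v₂ v₃ →
      (∀ r ∈ T ⊓ F, r * zz K₁ = zz K₁ * r ∧ r * zz K₂ = zz K₂ * r ∧ r * zz K₃ = zz K₃ * r) → Cit.cj y K₁ = K₂ →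
      ∃ K₂' K₃' v₂' v₃', Tri K U F T K₁ K₂' K₃' v₁ v₂' v₃' ∧
      (∀ r ∈ T ⊓ F, r * zz K₁ = zz K₁ * r ∧ r * zz K₂' = zz K₂' * r ∧ r * zz K₃' = zz K₃' * r) ∧
      ∃ g ∈ F, g ∈ normalizer (T ⊓ F : Subgroup G) ∧ (∃ b : ℕ, g ^ 3 ^ b = 1) ∧ Cit.cj g K₁ = K₂' ∧
        Cit.cj g K₂' = K₃' ∧ Cit.cj g K₃' = K₁ := by
    clear hc hyK q
    intro K₂ K₃ v₂ v₃ q hc hyK
    obtain ⟨n, hn, hnR, hnK⟩ := q.exists_norm (fun r hr => (hc r hr).1) (fun r hr => (hc r hr).2.1) hy hyK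
    have hzR : ∀ {M}, M = K₁ ∨ M = K₂ ∨ M = K₃ → zz M ∈ T ⊓ F := by
      intro M hM
      rcases hM with rfl | rfl | rfl
      · exact ⟨q.zT, q.zF q.m1⟩
      · exact ⟨q.rot.zT, q.zF q.m2⟩
      · exact ⟨q.rot.rot.zT, q.zF q.m3⟩
    have hperm : ∀ {M}, M = K₁ ∨ M = K₂ ∨ M = K₃ → Cit.cj n M = K₁ ∨ Cit.cj n M = K₂ ∨ Cit.cj n M = K₃ := by
      intro M hM
      exact q.mem3 hM ((mem_normalizer_iff.1 hnR _).1 (hzR hM)).1
    have hinj : ∀ {M N : Subgroup G}, Cit.cj n M = Cit.cj n N → M = N := fun h1 => cj_inj.1 h1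
    rcases hperm (Or.inr (Or.inl rfl)) with h2 | h2 | h2
    · -- a transposition
      exfalso
      obtain ⟨a, m, hm, ho⟩ := Nat.exists_eq_two_pow_mul_odd (orderOf_pos n).ne'
      have h3 : n ^ m ∈ T ⊓ F := by
        refine q.mem_R (F.pow_mem hn m) ((normalizer ((T ⊓ F : Subgroup G) : Set G)).pow_mem hnR m) (k := a) ?_
        rw [← pow_mul, mul_comm m, ← ho, pow_orderOf_eq_one]
      have h4 := mem_normalizer_iff_cj.1 (q.norm_of q.m1 (hc _ h3).1)
      have h5 : n * n ∈ normalizer (K₁ : Set G) := by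
        rw [mem_normalizer_iff_cj, cj_mul, hnK, h2]
      obtain ⟨j, hj⟩ := hm
      have h6 : n ^ m = n * (n * n) ^ j := by
        rw [hj, ← pow_two, ← pow_mul, ← pow_succ']
      have h7 := mem_normalizer_iff_cj.1 ((normalizer (K₁ : Set G)).pow_mem h5 j)
      rw [h6, cj_mul, h7, hnK] at h4
      exact q.n12 h4.symm
    · exact (q.n12 (hinj (hnK.trans h2.symm))).elim
    · -- a cycle
      have h3 : Cit.cj n K₃ = K₁ := by
        rcases hperm (Or.inr (Or.inr rfl)) with h3 | h3 | h3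
        · exact h3
        · exact (q.n13 (hinj (hnK.trans h3.symm))).elim
        · exact (q.n23 (hinj (h2.trans h3.symm))).elim
      obtain ⟨b, k, hk3, ho⟩ := Nat.exists_eq_pow_mul_and_not_dvd (orderOf_pos n).ne' 3 (by norm_num)
      have hg1 : n ^ k ∈ F := F.pow_mem hn k
      have hg2 : n ^ k ∈ normalizer (T ⊓ F : Subgroup G) := (normalizer ((T ⊓ F : Subgroup G) : Set G)).pow_mem hnR k
      have hg3 : (n ^ k) ^ 3 ^ b = 1 := by
        rw [← pow_mul, mul_comm k, ← ho, pow_orderOf_eq_one]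
      -- the action of `n ^ 3`
      have c1 : n ^ 3 ∈ normalizer (K₁ : Set G) := by
        rw [mem_normalizer_iff_cj, pow_succ, pow_two, cj_mul, cj_mul, hnK, h2, h3]
      have c2 : n ^ 3 ∈ normalizer (K₂ : Set G) := by
        rw [mem_normalizer_iff_cj, pow_succ, pow_two, cj_mul, cj_mul, h2, h3, hnK]
      have c3 : n ^ 3 ∈ normalizer (K₃ : Set G) := by
        rw [mem_normalizer_iff_cj, pow_succ, pow_two, cj_mul, cj_mul, h3, hnK, h2]
      have hmod : ∀ (M : Subgroup G), n ^ 3 ∈ normalizer (M : Set G) → Cit.cj (n ^ k) M = Cit.cj (n ^ (k % 3)) M := by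
        intro M hM
        have h4 : n ^ k = n ^ (k % 3) * (n ^ 3) ^ (k / 3) := by
          rw [← pow_mul, ← pow_add, Nat.mod_add_div]
        rw [h4, cj_mul, mem_normalizer_iff_cj.1 ((normalizer (M : Set G)).pow_mem hM _)]
      have hk : k % 3 = 1 ∨ k % 3 = 2 := by omega
      rcases hk with hk | hk
      · refine ⟨K₂, K₃, v₂, v₃, q, hc, n ^ k, hg1, hg2, ⟨b, hg3⟩, ?_, ?_, ?_⟩
        · rw [hmod _ c1, hk, pow_one, hnK]
        · rw [hmod _ c2, hk, pow_one, h2]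
        · rw [hmod _ c3, hk, pow_one, h3]
      · refine ⟨K₃, K₂, v₃, v₂, q.swap, fun r hr => ⟨(hc r hr).1, (hc r hr).2.2, (hc r hr).2.1⟩, n ^ k, hg1, hg2,
          ⟨b, hg3⟩, ?_, ?_, ?_⟩
        · rw [hmod _ c1, hk, pow_two, cj_mul, hnK, h2]
        · rw [hmod _ c3, hk, pow_two, cj_mul, h3, hnK]
        · rw [hmod _ c2, hk, pow_two, cj_mul, h2, h3]
  rcases hyK with h1 | h1
  · exact key q hc h1
  · exact key q.swap (fun r hr => ⟨(hc r hr).1, (hc r hr).2.2, (hc r hr).2.1⟩) h1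

/-! ### The rotation -/

/-- `v₁`, `v₂ ∈ F` -/
theorem mem_F (hg : g ∈ F) (g1 : Cit.cj g K₁ = K₂) (g2 : Cit.cj g K₂ = K₃) (g3 : Cit.cj g K₃ = K₁) :
    v₁ ∈ F ∧ v₂ ∈ F := by
  haveI := q.f.nor
  have hcf : ∀ x, g * x * g⁻¹ * x⁻¹ ∈ F := by
    intro x
    have h1 : g * x * g⁻¹ * x⁻¹ = g * (x * g⁻¹ * x⁻¹) := by group
    rw [h1]
    exact F.mul_mem hg (q.f.nor.conj_mem _ (F.inv_mem hg) x)
  have a1 : g * v₁ * g⁻¹ = v₂ ∨ g * v₁ * g⁻¹ = v₂⁻¹ := by
    have h1 := q.cvw.vch.conj_mem q.m1 q.u1 g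
    rw [g1] at h1
    exact q.cvw.eq_or_inv q.m2 q.u2 q.o2 h1 (orderOf_conj_four q.o1 g)
  have a2 : g * v₂ * g⁻¹ = v₃ ∨ g * v₂ * g⁻¹ = v₃⁻¹ := by
    have h1 := q.cvw.vch.conj_mem q.m2 q.u2 g
    rw [g2] at h1
    exact q.cvw.eq_or_inv q.m3 q.u3 q.o3 h1 (orderOf_conj_four q.o2 g)
  have a3 : g * v₃ * g⁻¹ = v₁ ∨ g * v₃ * g⁻¹ = v₁⁻¹ := by
    have h1 := q.cvw.vch.conj_mem q.m3 q.u3 g
    rw [g3] at h1
    exact q.cvw.eq_or_inv q.m1 q.u1 q.o1 h1 (orderOf_conj_four q.o3 g)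
  have b1 := hcf v₁
  have b2 := hcf v₂
  have b3 := hcf v₃
  have e3 := q.three_eq
  have c12 := q.c12
  have hmul : ∀ {x y}, x * y ∈ F → x ∈ F → y ∈ F := fun {x y} h1 h2 => (mul_mem_cancel_left h2).1 h1
  have hmul' : ∀ {x y}, x * y ∈ F → y ∈ F → x ∈ F := fun {x y} h1 h2 => (mul_mem_cancel_right h2).1 h1
  rcases a1 with a1 | a1
  · rcases a2 with a2 | a2
    · rcases a3 with a3 | a3
      · rw [a1] at b1
        rw [a2] at b2
        -- `v₂ ^ 3`
        have h1 : (v₂ * v₁⁻¹) * (v₃ * v₂⁻¹)⁻¹ ∈ F := F.mul_mem b1 (F.inv_mem b2)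
        have h2 : (v₂ * v₁⁻¹) * (v₃ * v₂⁻¹)⁻¹ = v₂⁻¹ := by
          have h3 : v₂ ^ 4 = 1 := by rw [← q.o2]; exact pow_orderOf_eq_one v₂
          have h4 : v₂ * (v₂ * v₁) = v₁ * (v₂ * v₂) := by rw [← c12, ← mul_assoc, ← c12, mul_assoc]
          calc (v₂ * v₁⁻¹) * (v₃ * v₂⁻¹)⁻¹ = v₂ * v₁⁻¹ * (v₂ * (v₂ * v₁)) := by
                rw [e3, mul_inv_rev, mul_inv_rev, inv_inv, inv_inv]
            _ = v₂ * (v₂ * v₂) := by rw [h4, mul_assoc, inv_mul_cancel_left]
            _ = v₂ ^ 4 * v₂⁻¹ := by simp [pow_succ, mul_assoc]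
            _ = v₂⁻¹ := by rw [h3, one_mul]
        rw [h2] at h1
        have h3 : v₂ ∈ F := by
          have := F.inv_mem h1
          rwa [inv_inv] at this
        exact ⟨by have := F.inv_mem (hmul b1 h3); rwa [inv_inv] at this, h3⟩
      · rw [a3] at b3
        have h1 : v₁⁻¹ * v₃⁻¹ = v₂ := by
          rw [e3, mul_inv_rev, inv_inv, inv_inv, ← c12, inv_mul_cancel_left]
        rw [h1] at b3
        rw [a1] at b1
        exact ⟨by have := F.inv_mem (hmul b1 b3); rwa [inv_inv] at this, b3⟩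
    · rw [a2] at b2
      have h1 : v₃⁻¹ * v₂⁻¹ = v₁ := by
        rw [e3, mul_inv_rev, inv_inv, inv_inv, ← c12, mul_inv_cancel_right]
      rw [h1] at b2
      rw [a1] at b1
      exact ⟨b2, hmul' b1 (F.inv_mem b2)⟩
  · rw [a1] at b1
    have h1 : v₂⁻¹ * v₁⁻¹ = v₃ := by rw [e3, ← mul_inv_rev, ← mul_inv_rev, c12]
    rw [h1] at b1
    rcases a2 with a2 | a2
    · rw [a2] at b2
      have h2 : v₂ ∈ F := by
        have := F.inv_mem (hmul b2 b1)
        rwa [inv_inv] at this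
      refine ⟨?_, h2⟩
      rw [e3] at b1
      have := F.inv_mem (hmul' b1 (F.inv_mem h2))
      rwa [inv_inv] at this
    · rw [a2] at b2
      have h2 : v₂ ∈ F := by
        have := F.inv_mem (hmul b2 (F.inv_mem b1))
        rwa [inv_inv] at this
      refine ⟨?_, h2⟩
      rw [e3] at b1
      have := F.inv_mem (hmul' b1 (F.inv_mem h2))
      rwa [inv_inv] at this

/-- `V₁ ∩ V₂ = 1` -/
theorem pw_eq {a b : ZMod 4} (h : pw v₁ a = pw v₂ b) : a = 0 ∧ b = 0 := by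
  have z1 := q.z1
  have z2 := q.rot.z1
  have n1 := q.cvw.hyp.zz_ne q.m1
  have n2 := q.cvw.hyp.zz_ne q.m2
  have hne : zz K₁ ≠ zz K₂ := fun hh => q.n12 (q.inj q.m1 q.m2 hh)
  have hsq : pw v₁ (2 * a) = pw v₂ (2 * b) := by rw [← sq_pw q.o1, ← sq_pw q.o2, h]
  have h2 : ∀ a : ZMod 4, 2 * a = 0 ∨ 2 * a = 2 := by decide
  have h3 : ∀ a : ZMod 4, 2 * a = 0 → a = 0 ∨ a = 2 := by decide
  rcases h2 a with ha | ha
  · rcases h2 b with hb | hb
    · rcases h3 a ha with rfl | rfl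
      · rcases h3 b hb with rfl | rfl
        · exact ⟨rfl, rfl⟩
        · rw [pw_zero, pw_two, z2] at h; exact (n2 h.symm).elim
      · rcases h3 b hb with rfl | rfl
        · rw [pw_zero, pw_two, z1] at h; exact (n1 h).elim
        · rw [pw_two, pw_two, z1, z2] at h; exact (hne h).elim
    · rw [ha, hb, pw_zero, pw_two, z2] at hsq; exact (n2 hsq.symm).elim
  · rcases h2 b with hb | hb
    · rw [ha, hb, pw_zero, pw_two, z1] at hsq; exact (n1 hsq).elim
    · rw [ha, hb, pw_two, pw_two, z1, z2] at hsq; exact (hne hsq).elim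

theorem sixteen (h1 : v₁ ∈ F) (h2 : v₂ ∈ F) : 16 ∣ Nat.card F := by
  have h3 : 16 ∣ Nat.card (T ⊓ F : Subgroup G) := by
    obtain ⟨n, hn⟩ := IsPGroup.iff_card.1 q.sylR.2.1
    have h16 : 16 ≤ Nat.card (T ⊓ F : Subgroup G) := by
      let f : ZMod 4 × ZMod 4 → (T ⊓ F : Subgroup G) := fun p => ⟨pw v₁ p.1 * pw v₂ p.2,
        (T ⊓ F).mul_mem (pw_mem (mem_inf.2 ⟨q.t1, h1⟩) _) (pw_mem (mem_inf.2 ⟨q.t2, h2⟩) _)⟩
      have hf : Function.Injective f := by
        rintro ⟨a, b⟩ ⟨c, d⟩ hh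
        have h4 : pw v₁ a * pw v₂ b = pw v₁ c * pw v₂ d := congrArg Subtype.val hh
        have h5 : pw v₁ (-c + a) = pw v₂ (d + -b) := by
          rw [pw_add q.o1, pw_add q.o2, pw_neg q.o1, pw_neg q.o2, inv_mul_eq_iff_eq_mul, ← mul_assoc, ← h4,
            mul_inv_cancel_right]
        obtain ⟨h6, h7⟩ := q.pw_eq h5
        rw [neg_add_eq_zero] at h6
        rw [← sub_eq_add_neg, sub_eq_zero] at h7
        rw [h6, h7]
      have h4 := Nat.card_le_card_of_injective f hf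
      have h5 : Nat.card (ZMod 4 × ZMod 4) = 16 := by
        rw [Nat.card_prod, Nat.card_zmod]
      rwa [h5] at h4
    rw [hn] at h16 ⊢
    have h5 : 4 ≤ n := by
      by_contra hlt
      have h6 : (2 : ℕ) ^ n < 2 ^ 4 := Nat.pow_lt_pow_right (by norm_num) (by omega)
      norm_num at h6
      omega
    exact (pow_dvd_pow 2 h5 : (2 : ℕ) ^ 4 ∣ 2 ^ n)
  exact h3.trans (card_dvd_of_le inf_le_right)

end Tri

universe u

/-- the Sylow 2-subgroup `T ∩ F` of `F` -/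
theorem Tri.exists_sylow {G : Type*} [Group G] [Finite G] {U : Subgroup G → Subgroup G}
    {F K K₁ K₂ K₃ T : Subgroup G} {v₁ v₂ v₃ : G} (q : Tri K U F T K₁ K₂ K₃ v₁ v₂ v₃) :
    ∃ S : Sylow 2 F, (S : Subgroup F) = (T ⊓ F).subgroupOf F := by
  haveI : Fact (Nat.Prime 2) := ⟨Nat.prime_two⟩
  have hY := q.sylR
  have hYp : IsPGroup 2 ((T ⊓ F).subgroupOf F) := hY.2.1.comap_of_injective F.subtype F.subtype_injective
  exact ⟨hYp.toSylow hY.2.2, rfl⟩

section

variable {G : Type u} [Group G] [Finite G] {U : Subgroup G → Subgroup G} {F K K₁ K₂ K₃ L M N R T : Subgroup G}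
  {f g n r s t v v₁ v₂ v₃ w x y z : G}

namespace Tri

variable (q : Tri K U F T K₁ K₂ K₃ v₁ v₂ v₃)
include q

/-- **the abelian case** -/
theorem false_of_comm (h0506 : NoHomo.S0506Stmt.{u}) (hc : ∀ x ∈ T ⊓ F, ∀ y ∈ T ⊓ F, x * y = y * x) : False := by
  have hcen : ∀ r ∈ T ⊓ F, r * zz K₁ = zz K₁ * r ∧ r * zz K₂ = zz K₂ * r ∧ r * zz K₃ = zz K₃ * r := fun r hr =>
    ⟨hc r hr _ ⟨q.zT, q.zF q.m1⟩, hc r hr _ ⟨q.rot.zT, q.zF q.m2⟩, hc r hr _ ⟨q.rot.rot.zT, q.zF q.m3⟩⟩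
  obtain ⟨K₂', K₃', v₂', v₃', q', -, g, hg, -, -, g1, g2, g3⟩ := q.exists_rot hcen
  obtain ⟨h1, h2⟩ := q'.mem_F hg g1 g2 g3
  haveI := q.f.sim
  obtain ⟨S, hS⟩ := q.exists_sylow
  have hna : ¬ IsMulCommutative F := by
    intro h
    apply q.f.na
    intro x hx y hy
    exact congrArg Subtype.val (h.is_comm.comm (⟨x, hx⟩ : F) ⟨y, hy⟩)
  have hSc : IsMulCommutative (S : Subgroup F) := by
    refine ⟨⟨fun a b => ?_⟩⟩
    apply Subtype.ext
    apply Subtype.ext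
    have ha : (a : F) ∈ (T ⊓ F).subgroupOf F := by rw [← hS]; exact a.2
    have hb : (b : F) ∈ (T ⊓ F).subgroupOf F := by rw [← hS]; exact b.2
    exact hc _ (mem_subgroupOf.1 ha) _ (mem_subgroupOf.1 hb)
  refine NoHomo.false_of_simple h0506 hna S hSc (q'.sixteen h1 h2) (k := 2) (a := ⟨v₁, h1⟩) ?_ ?_
  · apply Subtype.ext
    change v₁ ^ 2 ^ 2 = 1
    rw [show 2 ^ 2 = 4 by norm_num, ← q.o1, pow_orderOf_eq_one]
  · intro hh
    have h3 : v₁ * v₁ = 1 := congrArg Subtype.val hh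
    rw [q.z1] at h3
    exact q.cvw.hyp.zz_ne q.m1 h3

/-- all involutions of `R` are `z₁`, `z₂`, `z₃` if `F` has one class of involutions -/
theorem inv3 {H : Subgroup F} (hH : IsStronglyEmbedded H) (ht : t ∈ T ⊓ F) (htt : t * t = 1) (ht1 : t ≠ 1) :
    t = zz K₁ ∨ t = zz K₂ ∨ t = zz K₃ := by
  have o2 : ∀ {x : F}, x * x = 1 → x ≠ 1 → orderOf x = 2 := fun h1 h2 => orderOf_eq_prime (by rw [pow_two, h1]) h2
  have h1 := TwoFusion.StronglyEmbeddedBasic.isConj_of_involutions hH ⟨zz K₁, q.zF q.m1⟩ ⟨t, ht.2⟩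
    (o2 (Subtype.ext (q.cvw.hyp.zz_mul q.m1)) (fun h => q.cvw.hyp.zz_ne q.m1 (congrArg Subtype.val h)))
    (o2 (Subtype.ext htt) (fun h => ht1 (congrArg Subtype.val h)))
  obtain ⟨c, hc⟩ := isConj_iff.1 h1
  have h2 : (c : G) * zz K₁ * (c : G)⁻¹ = t := congrArg Subtype.val hc
  have h3 := q.mem3 (Or.inl rfl) (show (c : G) * zz K₁ * (c : G)⁻¹ ∈ T by rw [h2]; exact ht.1)
  have h4 : zz (Cit.cj (c : G) K₁) = t := by rw [q.cvw.hyp.zz_cj q.m1, h2]
  rcases h3 with h3 | h3 | h3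
  · left; rw [← h4, h3]
  · right; left; rw [← h4, h3]
  · right; right; rw [← h4, h3]

/-- an element of `R` fixed by the rotation is trivial -/
theorem eq_one_of_fix {H : Subgroup F} (hH : IsStronglyEmbedded H) (g1 : Cit.cj g K₁ = K₂) (g2 : Cit.cj g K₂ = K₃)
    (g3 : Cit.cj g K₃ = K₁) (hr : r ∈ T ⊓ F) (hgr : g * r * g⁻¹ = r) : r = 1 := by
  by_contra hr1
  obtain ⟨k, hk⟩ := q.sylR.2.1 ⟨r, hr⟩
  have hk' : r ^ 2 ^ k = 1 := congrArg Subtype.val hk
  -- the last nontrivial power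
  have hex : ∃ j, r ^ 2 ^ j = 1 := ⟨k, hk'⟩
  classical
  obtain ⟨j, hj, hmin⟩ : ∃ j, r ^ 2 ^ j = 1 ∧ ∀ i < j, r ^ 2 ^ i ≠ 1 := ⟨Nat.find hex, Nat.find_spec hex,
    fun i hi => Nat.find_min hex hi⟩
  cases j with
  | zero => rw [pow_zero, pow_one] at hj; exact hr1 hj
  | succ j =>
    have h1 := hmin j (Nat.lt_succ_self j)
    have h2 : r ^ 2 ^ j * r ^ 2 ^ j = 1 := by rw [← pow_add, ← two_mul, ← pow_succ', hj]
    have h3 : g * r ^ 2 ^ j * g⁻¹ = r ^ 2 ^ j := by rw [← conj_pow, hgr]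
    have z1 := fun {M : Subgroup G} (hM : M ∈ cls K) => q.cvw.hyp.zz_cj hM g
    rcases q.inv3 hH ((T ⊓ F).pow_mem hr _) h2 h1 with h4 | h4 | h4
    · rw [h4, ← z1 q.m1, g1] at h3
      exact q.n12 (q.inj q.m1 q.m2 h3.symm)
    · rw [h4, ← z1 q.m2, g2] at h3
      exact q.n23 (q.inj q.m2 q.m3 h3.symm)
    · rw [h4, ← z1 q.m3, g3] at h3
      exact q.n13 (q.inj q.m1 q.m3 h3)

/-- `R` centralises `v₁` -/
theorem comm_v {H : Subgroup F} (hH : IsStronglyEmbedded H)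
    (hc : ∀ r ∈ T ⊓ F, r * zz K₁ = zz K₁ * r ∧ r * zz K₂ = zz K₂ * r ∧ r * zz K₃ = zz K₃ * r)
    (hgR : g ∈ normalizer (T ⊓ F : Subgroup G)) {b : ℕ} (hg3 : g ^ 3 ^ b = 1) (g1 : Cit.cj g K₁ = K₂)
    (g2 : Cit.cj g K₂ = K₃) (g3 : Cit.cj g K₃ = K₁) (hr : r ∈ T ⊓ F) : r * v₁ = v₁ * r := by
  haveI : Fact (Nat.Prime 3) := ⟨Nat.prime_three⟩
  by_contra hne
  -- the action of `R` on the three roots
  have hor : ∀ {r}, r ∈ T ⊓ F → (r * v₁ * r⁻¹ = v₁ ∨ r * v₁ * r⁻¹ = v₁⁻¹) ∧ (r * v₂ * r⁻¹ = v₂ ∨ r * v₂ * r⁻¹ = v₂⁻¹) ∧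
      (r * v₃ * r⁻¹ = v₃ ∨ r * v₃ * r⁻¹ = v₃⁻¹) := fun {r} hr =>
    ⟨q.cvw.conj_or q.m1 (q.norm_of q.m1 (hc r hr).1) q.u1 q.o1,
      q.cvw.conj_or q.m2 (q.norm_of q.m2 (hc r hr).2.1) q.u2 q.o2,
      q.cvw.conj_or q.m3 (q.norm_of q.m3 (hc r hr).2.2) q.u3 q.o3⟩
  have hv1 : v₁ * v₁ ≠ 1 := by rw [q.z1]; exact q.cvw.hyp.zz_ne q.m1
  have hv3 : v₃ * v₃ ≠ 1 := by rw [q.rot.rot.z1]; exact q.cvw.hyp.zz_ne q.m3
  have unif : ∀ {r}, r ∈ T ⊓ F → r * v₁ * r⁻¹ = v₁⁻¹ → r * v₃ * r⁻¹ = v₃⁻¹ := by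
    intro r hr h1
    refine (hor hr).2.2.resolve_left fun h3 => ?_
    have h4 : (r * v₁ * r⁻¹) * (r * v₂ * r⁻¹) * (r * v₃ * r⁻¹) = 1 := by
      calc (r * v₁ * r⁻¹) * (r * v₂ * r⁻¹) * (r * v₃ * r⁻¹) = r * (v₁ * v₂ * v₃) * r⁻¹ := by group
        _ = 1 := by rw [q.prod]; group
    rw [h1, h3] at h4
    rcases (hor hr).2.1 with h2 | h2
    · rw [h2] at h4
      apply hv1
      have h5 := q.prod
      rw [mul_assoc] at h4 h5
      have h6 : v₁⁻¹ = v₁ := mul_right_cancel (h4.trans h5.symm)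
      nth_rewrite 2 [← h6]
      exact mul_inv_cancel v₁
    · rw [h2, ← mul_inv_rev] at h4
      apply hv3
      have h6 : v₃ = v₂ * v₁ := eq_of_inv_mul_eq_one h4 |>.symm
      nth_rewrite 1 [h6]
      rw [← q.c12]
      exact q.prod
  have gv : ∃ i : ZMod 4, (g⁻¹ * v₁ * g = pw v₃ i) ∧ (i = 1 ∨ i = -1) := by
    have h1 := q.cvw.vch.conj_mem q.m1 q.u1 g⁻¹
    have h2 : Cit.cj g⁻¹ K₁ = K₃ := by rw [← g3, cj_inv_cj]
    rw [h2, inv_inv] at h1
    have h3 := orderOf_conj_four q.o1 g⁻¹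
    rw [inv_inv] at h3
    rcases q.cvw.eq_or_inv q.m3 q.u3 q.o3 h1 h3 with h4 | h4
    · exact ⟨1, by rw [h4, pw_one], Or.inl rfl⟩
    · exact ⟨-1, by rw [h4, pw_neg_one q.o3], Or.inr rfl⟩
  obtain ⟨i, hi, hi1⟩ := gv
  -- the set
  let C : Set G := {r | r ∈ T ⊓ F ∧ r * v₁ * r⁻¹ = v₁⁻¹}
  have hCg : ∀ r ∈ C, g * r * g⁻¹ ∈ C := by
    rintro r ⟨hr, h1⟩
    refine ⟨(mem_normalizer_iff.1 hgR r).1 hr, ?_⟩
    have h2 : r * pw v₃ i * r⁻¹ = (pw v₃ i)⁻¹ := by
      rw [conj_pw, unif hr h1, pw_inv q.o3, pw_neg q.o3]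
    calc g * r * g⁻¹ * v₁ * (g * r * g⁻¹)⁻¹ = g * (r * (g⁻¹ * v₁ * g) * r⁻¹) * g⁻¹ := by group
      _ = v₁⁻¹ := by rw [hi, h2, ← hi]; group
  let φ : Function.End C := fun r => ⟨g * r * g⁻¹, hCg r r.2⟩
  have hφ : ∀ (n : ℕ) (r : C), (((φ ^ n) r : C) : G) = g ^ n * r * (g ^ n)⁻¹ := by
    intro n
    induction n with
    | zero =>
      intro r
      rw [pow_zero, pow_zero]
      change (r : G) = 1 * r * 1⁻¹
      simp
    | succ n ih =>
      intro r
      rw [pow_succ']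
      change g * ((φ ^ n) r : C) * g⁻¹ = _
      rw [ih, pow_succ']
      group
  have hφ1 : φ ^ 3 ^ b = 1 := by
    funext r
    apply Subtype.ext
    rw [hφ, hg3]
    change 1 * (r : G) * 1⁻¹ = r
    simp
  classical
  haveI : Fintype C := Fintype.ofFinite _
  have hmod := Equiv.Perm.card_fixedPoints_modEq (p := 3) (n := b) hφ1
  -- the cardinality of `C`
  have hrC : r ∈ C := by
    refine ⟨hr, (hor hr).1.resolve_left fun h1 => hne (mul_inv_eq_iff_eq_mul.1 h1)⟩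
  obtain ⟨R0, hR0⟩ : ∃ R0, R0 = (T ⊓ F) ⊓ centralizer {v₁} := ⟨_, rfl⟩
  have hR0' : ∀ y, y ∈ R0 ↔ y ∈ T ⊓ F ∧ y * v₁ = v₁ * y := by
    intro y
    rw [hR0, mem_inf (p := T ⊓ F), mem_centralizer_singleton_iff]
  have hR0C : Nat.card R0 = Nat.card C := by
    have hrr : r⁻¹ * v₁ * r = v₁⁻¹ := by
      have h1 := hrC.2
      have h2 : r⁻¹ * (r * v₁ * r⁻¹)⁻¹ * r = r⁻¹ * (v₁⁻¹)⁻¹ * r := by rw [h1]
      rw [inv_inv] at h2
      rw [← h2]
      group
    refine Nat.card_congr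
      { toFun := fun x => ⟨x * r, ?_⟩
        invFun := fun c => ⟨c * r⁻¹, ?_⟩
        left_inv := ?_
        right_inv := ?_ }
    · have hx := (hR0' _).1 x.2
      refine ⟨(T ⊓ F).mul_mem hx.1 hr, ?_⟩
      have h1 : (x : G) * v₁ = v₁ * x := hx.2
      have h2 : (x : G) * v₁⁻¹ = v₁⁻¹ * x := ((show Commute (x : G) v₁ from h1).inv_right).eq
      calc (x : G) * r * v₁ * ((x : G) * r)⁻¹ = x * (r * v₁ * r⁻¹) * (x : G)⁻¹ := by group
        _ = v₁⁻¹ := by rw [hrC.2, h2, mul_inv_cancel_right]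
    · refine (hR0' _).2 ⟨(T ⊓ F).mul_mem c.2.1 ((T ⊓ F).inv_mem hr), ?_⟩
      have h1 := c.2.2
      refine mul_inv_eq_iff_eq_mul.1 ?_
      have h2 : (c : G) * v₁⁻¹ * (c : G)⁻¹ = v₁ := by rw [← conj_inv, h1, inv_inv]
      calc (c : G) * r⁻¹ * v₁ * ((c : G) * r⁻¹)⁻¹ = c * (r⁻¹ * v₁ * r) * (c : G)⁻¹ := by group
        _ = v₁ := by rw [hrr, h2]
    · intro x
      apply Subtype.ext
      change (x : G) * r * r⁻¹ = x
      group
    · intro c
      apply Subtype.ext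
      change (c : G) * r⁻¹ * r = c
      group
  have hR2 : IsPGroup 2 R0 := q.sylR.2.1.to_le (by rw [hR0]; exact inf_le_left)
  obtain ⟨m, hm⟩ := IsPGroup.iff_card.1 hR2
  have hfix : Fintype.card φ.fixedPoints ≠ 0 := by
    intro h0
    rw [h0, ← Nat.card_eq_fintype_card, ← hR0C, hm] at hmod
    have h1 : 3 ∣ 2 ^ m := (Nat.modEq_zero_iff_dvd).1 hmod
    have h2 := (Nat.prime_three).dvd_of_dvd_pow h1
    omega
  obtain ⟨⟨r', hr'⟩⟩ := Fintype.card_pos_iff.1 (Nat.pos_of_ne_zero hfix)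
  have h1 : g * (r' : G) * g⁻¹ = r' := congrArg Subtype.val hr'
  have h2 := q.eq_one_of_fix hH g1 g2 g3 r'.2.1 h1
  have h3 := r'.2.2
  rw [h2, one_mul, inv_one, mul_one] at h3
  apply hv1
  nth_rewrite 2 [h3]
  exact mul_inv_cancel v₁

/-- the multiplication of the four-group -/
theorem four : zz K₁ * zz K₂ = zz K₃ ∧ zz K₂ * zz K₁ = zz K₃ ∧ zz K₁ * zz K₃ = zz K₂ ∧ zz K₃ * zz K₁ = zz K₂ ∧
    zz K₂ * zz K₃ = zz K₁ ∧ zz K₃ * zz K₂ = zz K₁ ∧ zz K₁ * zz K₁ = 1 ∧ zz K₂ * zz K₂ = 1 ∧ zz K₃ * zz K₃ = 1 := by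
  have h1 : Commute v₁ v₂ := q.c12
  have hc : zz K₁ * zz K₂ = zz K₂ * zz K₁ := by
    rw [← q.z1, ← q.rot.z1]
    exact ((h1.mul_left h1).mul_right (h1.mul_left h1)).eq
  have hz3 : zz K₁ * zz K₂ = zz K₃ := by
    rw [← q.rot.rot.z1, q.three_eq]
    have h2 : v₁⁻¹ * v₂⁻¹ * (v₁⁻¹ * v₂⁻¹) = (zz K₁)⁻¹ * (zz K₂)⁻¹ := by
      have h3 : v₂⁻¹ * v₁⁻¹ = v₁⁻¹ * v₂⁻¹ := (h1.inv_inv.symm).eq
      calc v₁⁻¹ * v₂⁻¹ * (v₁⁻¹ * v₂⁻¹) = v₁⁻¹ * (v₂⁻¹ * v₁⁻¹) * v₂⁻¹ := by group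
        _ = (v₁ * v₁)⁻¹ * (v₂ * v₂)⁻¹ := by rw [h3]; group
        _ = (zz K₁)⁻¹ * (zz K₂)⁻¹ := by rw [q.z1, q.rot.z1]
    rw [h2, q.cvw.hyp.zz_inv q.m1, q.cvw.hyp.zz_inv q.m2]
  have h11 := q.cvw.hyp.zz_mul q.m1
  have h22 := q.cvw.hyp.zz_mul q.m2
  have h33 := q.cvw.hyp.zz_mul q.m3
  refine ⟨hz3, by rw [← hc, hz3], ?_, ?_, ?_, ?_, h11, h22, h33⟩
  · rw [← hz3, ← mul_assoc, h11, one_mul]
  · rw [← hz3, hc, mul_assoc, h11, mul_one]
  · rw [← hz3, hc, ← mul_assoc, h22, one_mul]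
  · rw [← hz3, mul_assoc, h22, mul_one]

/-- **a strongly closed four-group is impossible** -/
theorem false_of (gold : Cit.ROne.Gold F) (hB : CloEnd.Bend F) (h0506 : NoHomo.S0506Stmt.{u}) : False := by
  obtain ⟨S, hS⟩ := q.exists_sylow
  have hmS : ∀ {x : F}, x ∈ (S : Subgroup F) ↔ (x : G) ∈ T ⊓ F := by
    intro x
    rw [hS, mem_subgroupOf]
  obtain ⟨m12, m21, m13, m31, m23, m32, m11, m22, m33⟩ := q.four
  let E : Subgroup F :=
    { carrier := {x | (x : G) = 1 ∨ (x : G) = zz K₁ ∨ (x : G) = zz K₂ ∨ (x : G) = zz K₃}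
      one_mem' := Or.inl rfl
      mul_mem' := by
        rintro x y hx hy
        change (x : G) * y = 1 ∨ (x : G) * y = zz K₁ ∨ (x : G) * y = zz K₂ ∨ (x : G) * y = zz K₃
        rcases hx with hx | hx | hx | hx <;> rcases hy with hy | hy | hy | hy <;> rw [hx, hy] <;>
          simp [m12, m21, m13, m31, m23, m32, m11, m22, m33]
      inv_mem' := by
        rintro x hx
        change (x : G)⁻¹ = 1 ∨ (x : G)⁻¹ = zz K₁ ∨ (x : G)⁻¹ = zz K₂ ∨ (x : G)⁻¹ = zz K₃
        rcases hx with hx | hx | hx | hx <;> rw [hx]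
        · left; exact inv_one
        · right; left; exact q.cvw.hyp.zz_inv q.m1
        · right; right; left; exact q.cvw.hyp.zz_inv q.m2
        · right; right; right; exact q.cvw.hyp.zz_inv q.m3 }
  have hmE : ∀ {x : F}, x ∈ E ↔ (x : G) = 1 ∨ (x : G) = zz K₁ ∨ (x : G) = zz K₂ ∨ (x : G) = zz K₃ := Iff.rfl
  have hE1 : E ≠ ⊥ := by
    intro hh
    have h1 : (⟨zz K₁, q.zF q.m1⟩ : F) ∈ E := Or.inr (Or.inl rfl)
    rw [hh, Subgroup.mem_bot] at h1
    exact q.cvw.hyp.zz_ne q.m1 (congrArg Subtype.val h1)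
  have hEc : IsMulCommutative E := by
    refine ⟨⟨fun a b => ?_⟩⟩
    apply Subtype.ext
    apply Subtype.ext
    change ((a : F) : G) * ((b : F) : G) = ((b : F) : G) * ((a : F) : G)
    rcases hmE.1 a.2 with ha | ha | ha | ha <;> rcases hmE.1 b.2 with hb | hb | hb | hb <;> rw [ha, hb] <;>
      simp [m12, m21, m13, m31, m23, m32]
  have hzT : zz K₁ ∈ T ∧ zz K₂ ∈ T ∧ zz K₃ ∈ T := ⟨q.zT, q.rot.zT, q.rot.rot.zT⟩
  have hEsc : IsStronglyClosed E (S : Subgroup F) := by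
    constructor
    · intro x hx
      rw [hmS]
      refine ⟨?_, x.2⟩
      rcases hmE.1 hx with hx | hx | hx | hx <;> rw [SetLike.mem_coe, hx]
      · exact one_mem _
      · exact hzT.1
      · exact hzT.2.1
      · exact hzT.2.2
    · intro x hx g hg
      have h1 : (g : G) * x * (g : G)⁻¹ ∈ T := (hmS.1 hg).1
      have key : ∀ {M : Subgroup G}, M ∈ cls K → (x : G) = zz M →
          (M = K₁ ∨ M = K₂ ∨ M = K₃) → g * x * g⁻¹ ∈ E := by
        intro M hM hxM hM3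
        rw [hxM] at h1
        have h2 := q.mem3 hM3 h1
        have h3 : ((g * x * g⁻¹ : F) : G) = zz (Cit.cj (g : G) M) := by
          rw [q.cvw.hyp.zz_cj hM, ← hxM]; rfl
        rw [hmE, h3]
        rcases h2 with h2 | h2 | h2 <;> rw [h2]
        · right; left; rfl
        · right; right; left; rfl
        · right; right; right; rfl
      rcases hmE.1 hx with hx | hx | hx | hx
      · have h2 : x = 1 := Subtype.ext hx
        rw [h2, mul_one, mul_inv_cancel]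
        exact one_mem _
      · exact key q.m1 hx (Or.inl rfl)
      · exact key q.m2 hx (Or.inr (Or.inl rfl))
      · exact key q.m3 hx (Or.inr (Or.inr rfl))
  rcases gold S E hE1 hEc hEsc with h1 | ⟨H, hH⟩
  · refine q.false_of_comm h0506 fun x hx y hy => ?_
    exact congrArg (fun t : (S : Subgroup F) => ((t : F) : G))
      (h1.is_comm.comm ⟨⟨x, hx.2⟩, hmS.2 hx⟩ ⟨⟨y, hy.2⟩, hmS.2 hy⟩)
  · have hC := hB H hH
    have hcen : ∀ {x t}, x ∈ T ⊓ F → t ∈ T ⊓ F → t * t = 1 → x * t = t * x := by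
      intro x t hx ht htt
      exact (congrArg Subtype.val (CloBen.cen_of_concl hC S (x := ⟨t, ht.2⟩) (y := ⟨x, hx.2⟩) (hmS.2 ht) (hmS.2 hx)
        (Subtype.ext htt))).symm
    have hcz : ∀ r ∈ T ⊓ F, r * zz K₁ = zz K₁ * r ∧ r * zz K₂ = zz K₂ * r ∧ r * zz K₃ = zz K₃ * r := fun r hr =>
      ⟨hcen hr ⟨hzT.1, q.zF q.m1⟩ m11, hcen hr ⟨hzT.2.1, q.zF q.m2⟩ m22, hcen hr ⟨hzT.2.2, q.zF q.m3⟩ m33⟩
    obtain ⟨K₂', K₃', v₂', v₃', q', hc', g, hg, hgR, ⟨b, hg3⟩, g1, g2, g3⟩ := q.exists_rot hcz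
    obtain ⟨h1, h2⟩ := q'.mem_F hg g1 g2 g3
    refine q.false_of_comm h0506 fun x hx y hy => ?_
    have hcv := fun {r} (hr : r ∈ T ⊓ F) => q'.comm_v hH hc' hgR hg3 g1 g2 g3 hr
    have hv1 : v₁ * v₁ ≠ 1 := by rw [q.z1]; exact q.cvw.hyp.zz_ne q.m1
    exact congrArg Subtype.val (CloBen.comm_of_concl hC S.isPGroup' (x := ⟨v₁, h1⟩) (y := ⟨x, hx.2⟩) (z := ⟨y, hy.2⟩)
      (hmS.2 ⟨q.t1, h1⟩) (hmS.2 hx) (hmS.2 hy) (fun h => hv1 (congrArg Subtype.val h)) (Subtype.ext (hcv hx).symm)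
      (Subtype.ext (hcv hy).symm))

end Tri

end

end Cfsg.Agent.Cit.Nil.CVT
end

-- part: Cit/Nil/CVT/IndOf
section
set_option linter.all false
open scoped Cfsg.Agent.FastGrp

/-!
# (6b)(CV), the frame: `IndCV` from T

* `U_le_OT` : `zz K ∈ O_2(C(e))` implies `U K ≤ O_2(C(e))`;
* `ExStmt` : the clause `ex` of `OneBlk`;
* `indCV_of` : `IndCV` in a core-free group with trivial centre, from T for the groups of smaller order.
-/

set_option autoImplicit false
set_option linter.style.haveILetI false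
set_option linter.unusedSectionVars false

namespace Cfsg.Agent.Cit.Nil.CVT

open Subgroup Cfsg Cit Tau CV CV1 Cfsg.Agent.Cit.Comp

universe u

/-- the clause `ex` of `OneBlk` -/
def ExStmt : Prop := ∀ (G : Type u) [Group G] [Finite G] (Om : Set (Subgroup G)) (U : Subgroup G → Subgroup G)
  (K X A : Subgroup G) (e v : G), CVW Om U → K ∈ Om → SNC (centralizer {e}) K X → pPrimeCore 2 X = ⊥ →
  zz K ∉ (pCore 2 X).map X.subtype → (∀ M ∈ BL K X, ∀ N ∈ BL K X, ¬ Orth M N) → IsA Om U A → e ∈ A → v ∈ U K →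
  v ∈ RR Om U A → ∃ N ∈ BL K X, zz N ∈ normalizer (A : Set G) ∧ zz N ∉ A

section

variable {G : Type u} [Group G] [Finite G] {Om : Set (Subgroup G)} {U : Subgroup G → Subgroup G}
  {A H K L M N X : Subgroup G} {a e g v w x y : G}

theorem U_le_OT (h : CVW Om U) (hK : K ∈ Om) (hKe : K ≤ centralizer {e}) (hz : zz K ∈ OT e) : U K ≤ OT e := by
  have h1 : zz (K.subgroupOf (centralizer {e})) ∈ pCore 2 (centralizer ({e} : Set G)) := by
    obtain ⟨x, hx, hxz⟩ := hz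
    have h2 : zz (K.subgroupOf (centralizer {e})) = x := by
      apply Subtype.ext
      rw [coe_zz h hK hKe]
      exact hxz.symm
    rw [h2]
    exact hx
  have h2 := (CVW.restr h (centralizer {e})).nil (subgroupOf_mem_restr hK hKe) h1
  intro x hx
  refine ⟨⟨x, hKe (h.vch.le K hK hx)⟩, h2 ?_, rfl⟩
  rw [mem_uH, map_subgroupOf_eq_of_le hKe]
  exact hx

theorem pPrimeCore_cent (h : centralizerPPrimeCore 2 e = ⊥) : pPrimeCore 2 (centralizer ({e} : Set G)) = ⊥ := by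
  rw [centralizerPPrimeCore] at h
  exact (Subgroup.map_eq_bot_iff_of_injective _ (Subgroup.subtype_injective _)).1 h

/-- **`IndCV` from T** -/
theorem indCV_of (hR : R1Stmt.{u}) (hEx : ExStmt.{u}) (h : CVW Om U)
    (hcf : ∀ t : G, orderOf t = 2 → centralizerPPrimeCore 2 t = ⊥) (hZ : ∀ e : G, e ≠ 1 → centralizer {e} ≠ ⊤)
    (ih : TLt.{u} (Nat.card G)) : IndCV Om U := by
  intro A hA e he he2 he1 v hv hve
  obtain ⟨hvA, hv4, K, hK, hvK⟩ := id hv
  have hKe := (h.le_cent_iff hA hK hvK hv4 hvA he).2 hve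
  have hH := pPrimeCore_cent (hcf e (orderOf_eq_prime (by rw [pow_two, he2]) he1))
  by_cases hot : zz K ∈ OT e
  · exact Or.inl (U_le_OT h hK hKe hot hvK)
  right
  obtain ⟨X, hX⟩ := exists_snc hKe
  have hXt : X ≠ ⊤ := fun hh => hZ e he1 (top_le_iff.1 (hh.symm.trans_le hX.XH))
  have hzX : zz K ∉ (pCore 2 X).map X.subtype := fun hh => hot (hX.two hh)
  have hone := (hX.cases h hK hH ih hXt).resolve_left hzX
  have hXe : X ≤ centralizer {e} := hX.XH
  have b : OneBlk Om U A e (BL K X) := by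
    refine ⟨fun L hL => ⟨BL_mem h hK hL, (BL_le hX.KX hL).trans hXe⟩, ?_, ?_, ?_, ?_⟩
    · intro L hL g hg hgL N hN
      exact hX.cj_BL (le_normalizer (mem_centralizer_singleton_iff.2 hg)) hL hgL hN
    · rintro L hL M hM hMe ⟨y, hy, x, hx, hxM⟩
      exact hX.lk_BL hL hMe hy hx hxM
    · intro L hL M hM hc
      by_contra hne
      exact hone L hL M hM ⟨hne, hc⟩
    · intro L hL hLA
      have hLO := BL_mem h hK hL
      obtain ⟨u, hu, hu4⟩ := h.exists_v hLO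
      have hXL := hX.of_BL hL
      have hBL : BL L X = BL K X := by
        obtain ⟨g, hg, rfl⟩ := hL
        ext M
        constructor
        · rintro ⟨a, ha, rfl⟩
          exact ⟨a * g, X.mul_mem ha hg, by rw [cj_mul]⟩
        · rintro ⟨a, ha, rfl⟩
          refine ⟨a * g⁻¹, X.mul_mem ha (X.inv_mem hg), ?_⟩
          rw [cj_mul, cj_inv_cj]
      have hzL : zz L ∉ (pCore 2 X).map X.subtype := by
        intro hh
        apply hzX
        obtain ⟨g, hg, rfl⟩ := hL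
        rw [h.hyp.zz_cj hK] at hh
        obtain ⟨x, hx, hxz⟩ := hh
        refine ⟨(⟨g, hg⟩ : X)⁻¹ * x * ⟨g, hg⟩, ?_, ?_⟩
        · have h1 := (Lib.Cores.pCore_normal (G := X) 2).conj_mem x hx (⟨g, hg⟩ : X)⁻¹
          rwa [inv_inv] at h1
        · have hxz' : (x : G) = g * zz K * g⁻¹ := hxz
          show g⁻¹ * (x : G) * g = zz K
          rw [hxz']
          group
      have h1 := hEx G Om U L X A e u h hLO hXL (hXL.odd hH) hzL (by rw [hBL]; exact hone) hA he hu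
        ⟨hLA hu, hu4, L, hLO, hu⟩
      rwa [hBL] at h1
  by_cases hall : ∀ u ∈ RB Om U A (BL K X), ¬ Lk Om U v u
  · left
    refine b.lTwo_of h hA he self_mem_BL hvK hv4 hvA hall fun L hL hLe hz => ?_
    by_contra hne
    have h1 := le_of_unl hR h hH hK hL hz.symm (fun hh => hne hh.symm) hKe hLe
      (fun M hM hMe => unl_of_hall h hA he hK hX hvK hv hall hM hMe)
    exact hot (h1 (h.hyp.zz_mem hK))
  · right
    push Not at hall
    obtain ⟨w, hw, hl⟩ := hall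
    exact b.lThree_of h hA he ⟨hv, K, self_mem_BL, hvK⟩ hw hl

end

end Cfsg.Agent.Cit.Nil.CVT

private theorem dce_21b4d7378a5a : _root_.True := by
  try have : _root_.True := by simp only [_root_.Cfsg.centralizerPPrimeCore.eq_1]
  exact _root_.True.intro
end

-- part: Cit/Nil/CVT/ExOne
section
set_option linter.all false
open scoped Cfsg.Agent.FastGrp

/-!
# (6b)(CV), the frame: (ex) for unlinked roots

`PreBlk Om e BB` with `BB = BL K X`, `zz K ∉ O_2(X)`. Suppose that the involutions `zz N ∈ N(A)`, `N ∈ BB`, are in `A`.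

* `PreBlk.transfer` : `y ∈ YY`, `v`, `y v y⁻¹ ∈ A`: `N(A) ∩ YY` moves `y v y⁻¹` to `v`;
* `iso` : if no root of `A` in `BB` is linked to `v`, `zz K` is isolated in `X`;
* `false_of_iso` : Glauberman's theorem.
-/

set_option autoImplicit false
set_option linter.style.haveILetI false
set_option linter.unusedSectionVars false

namespace Cfsg.Agent.Cit.Nil.CVT

open Subgroup Cfsg Cit Tau CV CV1 Cfsg.Agent.Cit.Comp

universe u

variable {G : Type*} [Group G] [Finite G] {Om BB : Set (Subgroup G)} {U : Subgroup G → Subgroup G}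
  {A B K L M N P X : Subgroup G} {a c d e f g s t u v w x y : G}

/-- `N(A) ∩ YY` controls the fusion of roots -/
theorem transfer (b : PreBlk Om e BB) (h : CVW Om U) (hA : IsA Om U A) (he : e ∈ A) (hv : v ∈ RB Om U A BB)
    (hy : y ∈ YY e BB) (hyv : y * v * y⁻¹ ∈ A) :
    ∃ g ∈ YY e BB, g ∈ normalizer (A : Set G) ∧ g * (y * v * y⁻¹) * g⁻¹ = v := by
  obtain ⟨hvR, K, hK, hvK⟩ := hv
  have hKO := (b.sub K hK).1
  have hAY := b.A_le_YY h hA he hK hvK hvR.2.1 hvR.1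
  obtain ⟨B, hB⟩ : ∃ B, B = Cit.cj y⁻¹ A := ⟨_, rfl⟩
  have hBA : IsA Om U B := by rw [hB]; exact h.isA_cj hA y⁻¹
  have hvB : v ∈ B := by
    rw [hB, mem_cj, inv_inv]
    exact hyv
  have hBY : B ≤ YY e BB := by
    rw [hB]
    rintro _ ⟨x, hx, rfl⟩
    exact mul_mem (mul_mem (inv_mem hy) (hAY hx)) (inv_mem (inv_mem hy))
  obtain ⟨D, hD⟩ : ∃ D, D = YY e BB ⊓ centralizer {v} := ⟨_, rfl⟩
  have hAD : A ≤ D := by
    rw [hD]
    exact le_inf hAY fun x hx => mem_centralizer_singleton_iff.2 (h.comm hA hx hvR.1)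
  have hBD : B ≤ D := by
    rw [hD]
    exact le_inf hBY fun x hx => mem_centralizer_singleton_iff.2 (h.comm hBA hx hvB)
  obtain ⟨Q, hQ, hAQ⟩ := exists_syl_ge (CVW.isA_two hA) hAD
  obtain ⟨R, hR, hBR⟩ := exists_syl_ge (CVW.isA_two hBA) hBD
  obtain ⟨d, hd, hdR⟩ := hR.exists_conj hQ
  have h1 : WW Om U Q = A := h.WW_eq hA hQ.2.1 hAQ
  have h2 : WW Om U Q = Cit.cj d B := h.WW_eq (h.isA_cj hBA d) hQ.2.1 (by rw [← hdR]; exact cj_mono d hBR)
  have hdv : d * v = v * d := mem_centralizer_singleton_iff.1 (by rw [hD] at hd; exact hd.2)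
  have hdY : d ∈ YY e BB := by rw [hD] at hd; exact hd.1
  refine ⟨d * y⁻¹, mul_mem hdY (inv_mem hy), ?_, ?_⟩
  · rw [mem_normalizer_iff_cj, cj_mul, ← hB, ← h2, h1]
  · calc d * y⁻¹ * (y * v * y⁻¹) * (d * y⁻¹)⁻¹ = (d * v) * d⁻¹ := by group
      _ = v := by rw [hdv, mul_inv_cancel_right]

/-- two commuting involutions of `BB` are conjugate into `A` -/
theorem exists_conj_pair (b : PreBlk Om e BB) (h : CVW Om U) (hA : IsA Om U A) (he : e ∈ A)
    (hno : ∀ N ∈ BB, zz N ∈ normalizer (A : Set G) → zz N ∈ A) (hK : K ∈ BB) (hvK : v ∈ U K) (hv4 : orderOf v = 4)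
    (hvA : v ∈ A) (hM : M ∈ BB) (hN : N ∈ BB) (hu : u ∈ U M) (hu4 : orderOf u = 4) (hw : w ∈ U N) (hw4 : orderOf w = 4)
    (hc : zz M * zz N = zz N * zz M) :
    ∃ y ∈ YY e BB, y * u * y⁻¹ ∈ RB Om U A BB ∧ y * w * y⁻¹ ∈ RB Om U A BB := by
  haveI : Fact (Nat.Prime 2) := ⟨Nat.prime_two⟩
  have hMO := (b.sub M hM).1
  have hNO := (b.sub N hN).1
  have hAY := b.A_le_YY h hA he hK hvK hv4 hvA
  obtain ⟨V, hV⟩ : ∃ V, V = zpowers (zz M) ⊔ zpowers (zz N) := ⟨_, rfl⟩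
  have h2z : ∀ {L}, L ∈ Om → IsPGroup 2 (zpowers (zz L)) := fun {L} hL =>
    (h.two L hL).to_le (zpowers_le.2 (h.hyp.zz_mem hL))
  have hV2 : IsPGroup 2 V := by
    rw [hV]
    refine (h2z hMO).to_sup_of_normal_right' (h2z hNO) ?_
    rw [zpowers_le]
    refine centralizer_le_normalizer _ ?_
    intro x hx
    obtain ⟨i, rfl⟩ := mem_zpowers_iff.1 hx
    exact ((Commute.zpow_right (show Commute (zz M) (zz N) from hc) i).symm).eq
  have hVY : V ≤ YY e BB := by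
    rw [hV]
    exact sup_le (zpowers_le.2 (b.mem_YY hM (h.hyp.zz_mem hMO))) (zpowers_le.2 (b.mem_YY hN (h.hyp.zz_mem hNO)))
  obtain ⟨P, hP, hAP⟩ := exists_syl_ge (CVW.isA_two hA) hAY
  obtain ⟨Q, hQ, hVQ⟩ := exists_syl_ge hV2 hVY
  obtain ⟨y, hy, hyQ⟩ := hQ.exists_conj hP
  have hPn := h.le_norm hA hP.2.1 hAP
  have key : ∀ {L u}, L ∈ BB → u ∈ U L → orderOf u = 4 → zz L ∈ V → y * u * y⁻¹ ∈ RB Om U A BB := by
    intro L u hL hu hu4 hz
    have hLO := (b.sub L hL).1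
    have h1 : zz (Cit.cj y L) ∈ P := by
      rw [h.hyp.zz_cj hLO, ← hyQ]
      exact conj_mem_cj (hVQ hz)
    have h2 : Cit.cj y L ∈ BB := (hy.2 L).2 hL
    exact b.mem_A_of_zz h hA he hK hvK hv4 hvA h2 (hno _ h2 (hPn h1)) (h.vch.conj_mem hLO hu y)
      (orderOf_conj_four hu4 y)
  exact ⟨y, hy, key hM hu hu4 (by rw [hV]; exact mem_sup_left (mem_zpowers _)),
    key hN hw hw4 (by rw [hV]; exact mem_sup_right (mem_zpowers _))⟩

/-- **`zz K` is isolated** if no root of `A` in `BB` is linked to `v` -/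
theorem iso (b : PreBlk Om e BB) (h : CVW Om U) (hA : IsA Om U A) (he : e ∈ A)
    (hno : ∀ N ∈ BB, zz N ∈ normalizer (A : Set G) → zz N ∈ A) (hK : K ∈ BB) (hvK : v ∈ U K) (hv4 : orderOf v = 4)
    (hvA : v ∈ A) (hall : ∀ u ∈ RB Om U A BB, ¬ Lk Om U v u) (hN : N ∈ BB) (hc : zz K * zz N = zz N * zz K) : K = N := by
  by_contra hne
  have hNO := (b.sub N hN).1
  obtain ⟨w, hw, hw4⟩ := h.exists_v hNO
  obtain ⟨y, hy, h1, h2⟩ := exists_conj_pair b h hA he hno hK hvK hv4 hvA hK hN hvK hv4 hw hw4 hc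
  have hvB : v ∈ RB Om U A BB := ⟨⟨hvA, hv4, K, (b.sub K hK).1, hvK⟩, K, hK, hvK⟩
  obtain ⟨g, hg, hgA, hgv⟩ := transfer b h hA he hvB hy h1.1.1
  have h3 : g * (y * w * y⁻¹) * g⁻¹ ∈ RB Om U A BB :=
    PreBlk.RB_conj h (fun K hK => (b.sub K hK).1) hgA (fun L hL => (hg.2 L).2 hL) h2
  apply hall _ h3
  have h4 : Lk Om U (y * v * y⁻¹) (y * w * y⁻¹) := by
    by_contra hl
    apply hne
    have hKO := (b.sub K hK).1
    have h5 := b.rb_class h hA h1 h2 hl
    have h6 : w = v ∨ w = v⁻¹ := by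
      rcases h5 with h5 | h5
      · left
        have := congrArg (fun x => y⁻¹ * x * y) h5
        simpa [mul_assoc] using this
      · right
        have := congrArg (fun x => y⁻¹ * x * y) h5
        simpa [mul_assoc] using this
    rcases h6 with rfl | rfl
    · exact h.eq_of_mem hKO hNO hvK hw hv4
    · exact h.eq_of_mem hKO hNO ((U K).inv_mem hvK) hw hw4
  have h5 := h.al_conj hA hgA h1.1 h2.1.1
  rw [hgv] at h5
  exact ⟨by rw [h5]; exact h4.1, by rw [h5]; exact h4.2⟩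

/-- **Glauberman's theorem** -/
theorem mem_pCore_of_iso (hO : pPrimeCore 2 X = ⊥) {z : G} (hzX : z ∈ X) (hz2 : z * z = 1) (hz1 : z ≠ 1)
    (hiso : ∀ x ∈ X, z * (x * z * x⁻¹) = x * z * x⁻¹ * z → x * z * x⁻¹ = z) : z ∈ (pCore 2 X).map X.subtype := by
  obtain ⟨N, hN, hNodd, hNz⟩ := GH.QA.zstar (G := X) (u := ⟨z, hzX⟩) (Subtype.ext hz2)
    (fun h1 => hz1 (congrArg Subtype.val h1)) (by
      rintro ⟨x, hx⟩ h1
      exact Subtype.ext (hiso x hx (congrArg Subtype.val h1)))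
  haveI : Fact (Nat.Prime 2) := ⟨Nat.prime_two⟩
  have h1 : N = ⊥ := by
    rw [eq_bot_iff, ← hO]
    refine Lib.Cores.le_pPrimeCore hN ?_
    rw [Nat.coprime_comm]
    refine (Nat.Prime.coprime_iff_not_dvd Nat.prime_two).2 fun h2 => ?_
    rw [← Nat.not_even_iff_odd, even_iff_two_dvd] at hNodd
    exact hNodd h2
  rw [h1] at hNz
  have h2 : ∀ m : X, (⟨z, hzX⟩ : X) * m = m * ⟨z, hzX⟩ := by
    intro m
    have h3 := hNz m
    rw [Subgroup.mem_bot, mul_inv_eq_one, mul_inv_eq_iff_eq_mul] at h3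
    exact h3
  have h3 : (zpowers (⟨z, hzX⟩ : X)).Normal := by
    refine ⟨?_⟩
    rintro _ ⟨i, rfl⟩ g
    have h4 : Commute g ((⟨z, hzX⟩ : X) ^ i) := Commute.zpow_right (h2 g).symm i
    refine ⟨i, ?_⟩
    change (⟨z, hzX⟩ : X) ^ i = g * (⟨z, hzX⟩ : X) ^ i * g⁻¹
    rw [h4.eq, mul_inv_cancel_right]
  have h4 : IsPGroup 2 (zpowers (⟨z, hzX⟩ : X)) := by
    apply IsPGroup.of_card (n := 1)
    rw [Nat.card_zpowers, pow_one, orderOf_eq_prime_iff, pow_two]
    exact ⟨Subtype.ext hz2, fun h5 => hz1 (congrArg Subtype.val h5)⟩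
  exact ⟨_, Lib.Cores.le_pCore h3 h4 (mem_zpowers _), rfl⟩

/-- **(ex), unlinked roots** -/
theorem ex_one (b : PreBlk Om e (BL K X)) (h : CVW Om U) (hKX : K ≤ X) (hO : pPrimeCore 2 X = ⊥)
    (hz : zz K ∉ (pCore 2 X).map X.subtype) (hA : IsA Om U A) (he : e ∈ A) (hL : L ∈ BL K X) (hvL : v ∈ U L)
    (hv4 : orderOf v = 4) (hvA : v ∈ A) (hall : ∀ u ∈ RB Om U A (BL K X), ¬ Lk Om U v u) :
    ∃ N ∈ BL K X, zz N ∈ normalizer (A : Set G) ∧ zz N ∉ A := by
  by_contra hno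
  push Not at hno
  apply hz
  have hKB : K ∈ BL K X := self_mem_BL
  have hKO := (b.sub K hKB).1
  have hLO := (b.sub L hL).1
  obtain ⟨g, hg, hgL⟩ := id hL
  have h1 : zz L ∈ (pCore 2 X).map X.subtype := by
    refine mem_pCore_of_iso hO (BL_le hKX hL (h.hyp.zz_mem hLO)) (h.hyp.zz_mul hLO) (h.hyp.zz_ne hLO) ?_
    intro x hx hc
    rw [← h.hyp.zz_cj hLO] at hc ⊢
    have h2 : Cit.cj x L ∈ BL K X := ⟨x * g, X.mul_mem hx hg, by rw [hgL, ← cj_mul]⟩
    rw [← iso b h hA he hno hL hvL hv4 hvA hall h2 hc]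
  have h2 : zz L = g * zz K * g⁻¹ := by rw [hgL, h.hyp.zz_cj hKO]
  obtain ⟨x, hx, hxz⟩ := h1
  have h3 := (Lib.Cores.pCore_normal 2 (G := X)).conj_mem x hx (⟨g, hg⟩⁻¹ : X)
  refine ⟨_, h3, ?_⟩
  change g⁻¹ * (x : G) * g⁻¹⁻¹ = zz K
  have h4 : (x : G) = zz L := hxz
  rw [h4, h2]
  group

end Cfsg.Agent.Cit.Nil.CVT
end

-- part: Cit/Nil/CVT/ExTwo
section
prune_inst 0x300065047c00000000180000200020602000000200400001014004000009004020450801326026101030a440000a806011080040403800000000880040000401040212429048100001000040e003180c00000000000000000000000000000000200000000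
set_option linter.all false
open scoped Cfsg.Agent.FastGrp

/-!
# (6b)(CV), the frame: (ex) for linked roots, `ExStmt`

* `TW.cen`, `TW.quot_two` : `O_2(X)` is central, `X / O_2(X)`;
* `comm_lift` : members commuting modulo a central kernel commute (no orthogonal members);
* `syl_inf` : `P ∩ X` is a Sylow 2-subgroup of `X`;
* `ex_two` : (ex) for linked roots;
* `exStmt`.
-/

set_option autoImplicit false
set_option linter.style.haveILetI false
set_option linter.unusedSectionVars false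

namespace Cfsg.Agent.Cit.Nil.CVT

open Subgroup Cfsg Cit Tau CV CV1 Cfsg.Agent.Cit.Comp
open Cfsg.Agent.Cit.Nil.ROne (FSimp)

universe u

/-! ### Quotients -/

section quot

variable {G : Type*} [Group G] [Finite G] {Om : Set (Subgroup G)} {U : Subgroup G → Subgroup G} {K L M N X : Subgroup G}

theorem TW.cen (h : TW K U) (hz : zz K ∉ pCore 2 G) : pCore 2 G ≤ center G := by
  have hPn : (pCore 2 G).Normal := Lib.Cores.pCore_normal 2
  have h1 : K ≤ centralizer (pCore 2 G : Set G) := by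
    intro k hk
    rw [mem_centralizer_iff]
    intro n hn
    exact (h.cvw.hyp.lemma_one (self_mem_cls K) (h.cvw.two K (self_mem_cls K)) (Lib.Cores.pCore_isPGroup 2)
      (by rw [normalizer_eq_top_iff.2 hPn]; exact le_top) hz k hk n hn).symm
  have h2 : centralizer (pCore 2 G : Set G) = ⊤ := by
    rw [eq_top_iff, ← h.gen]
    exact normalClosure_le_normal h1
  intro x hx
  rw [mem_center_iff]
  intro g
  have h3 : g ∈ centralizer (pCore 2 G : Set G) := by rw [h2]; exact mem_top g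
  exact (mem_centralizer_iff.1 h3 x hx).symm

theorem pCore_quot : pCore 2 (G ⧸ pCore 2 G) = ⊥ := by
  haveI : Fact (Nat.Prime 2) := ⟨Nat.prime_two⟩
  haveI hPn : (pCore 2 G).Normal := Lib.Cores.pCore_normal 2
  have h5 : (pCore 2 (G ⧸ pCore 2 G)).comap (QuotientGroup.mk' (pCore 2 G)) ≤ pCore 2 G := by
    refine Lib.Cores.le_pCore ((Lib.Cores.pCore_normal 2).comap _) ?_
    refine (Lib.Cores.pCore_isPGroup 2).comap_of_ker_isPGroup _ ?_
    rw [QuotientGroup.ker_mk']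
    exact Lib.Cores.pCore_isPGroup 2
  rw [eq_bot_iff]
  intro y hy
  obtain ⟨x, rfl⟩ := QuotientGroup.mk'_surjective _ y
  have h6 := h5 (mem_comap.2 hy)
  rw [mem_bot]
  exact (QuotientGroup.eq_one_iff x).2 h6

variable {G' : Type*} [Group G'] {f : G →* G'}

/-- members commuting modulo a central kernel commute -/
theorem comm_lift (w : CVW Om U) (hC : f.ker ≤ center G) (hKC : ∀ K ∈ Om, K ⊓ f.ker = ⊥)
    (hno : ∀ M ∈ Om, ∀ N ∈ Om, ¬ Orth M N) (hK : K ∈ Om) (hL : L ∈ Om)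
    (hc : ∀ x ∈ K.map f, ∀ y ∈ L.map f, x * y = y * x) : ∀ x ∈ K, ∀ y ∈ L, x * y = y * x := by
  have hker : ∀ {x y}, x ∈ K → y ∈ L → x * y * x⁻¹ * y⁻¹ ∈ f.ker := by
    intro x y hx hy
    have h1 := hc (f x) ⟨x, hx, rfl⟩ (f y) ⟨y, hy, rfl⟩
    rw [MonoidHom.mem_ker, map_mul, map_mul, map_mul, map_inv, map_inv, h1]
    group
  by_contra hcon
  have hKC' : ¬ K ≤ centralizer (L : Set G) := by
    intro h1
    apply hcon
    intro x hx y hy
    exact (mem_centralizer_iff.1 (h1 hx) y hy).symm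
  obtain ⟨k, hk, hkC, hkk⟩ := exists_sq_not_mem w hK hKC'
  apply hkC
  have hk4 : orderOf k = 4 := GQ.orderOf_of_sq hkk (w.hyp.zz_mul hK) (w.hyp.zz_ne hK)
  have h1 : k * zz L = zz L * k := by
    refine QuoCen.comm_of_central w.hyp hK hL hC (hKC K hK) hk ?_ (by rw [hk4]) (hker hk (w.hyp.zz_mem hL))
    exact CVW.two_zpowers hk4
  have h2 : Cit.cj k L = L := by
    by_contra hne
    have h3 : zz (Cit.cj k L) = zz L := by rw [w.hyp.zz_cj hL, h1, mul_inv_cancel_right]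
    exact hno _ (w.hyp.conj L hL k) _ hL ⟨hne, fun x hx y hy => w.comm_of_zz_eq (w.hyp.conj L hL k) hL h3 hne hx hy⟩
  rw [mem_centralizer_iff]
  intro y hy
  have h3 : k * y * k⁻¹ * y⁻¹ ∈ L ⊓ f.ker := by
    refine ⟨L.mul_mem ?_ (L.inv_mem hy), hker hk hy⟩
    exact (mem_normalizer_iff.1 (mem_normalizer_iff_cj.2 h2) y).1 hy
  rw [hKC L hL, mem_bot, mul_inv_eq_one, mul_inv_eq_iff_eq_mul] at h3
  exact h3.symm

/-- Sylow 2-subgroups of normal subgroups -/
theorem syl_inf {P Y : Subgroup G} (hP : Syl P Y) (hXY : X ≤ Y) (hYX : Y ≤ normalizer (X : Set G)) :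
    Syl (P ⊓ X) X := by
  obtain ⟨Q, hQ, hPQ⟩ := exists_syl_ge (hP.2.1.to_le inf_le_left) (inf_le_right : P ⊓ X ≤ X)
  obtain ⟨R, hR, hQR⟩ := exists_syl_ge hQ.2.1 (hQ.1.trans hXY)
  obtain ⟨g, hg, hgR⟩ := hP.exists_conj hR
  have h1 : Q ≤ Cit.cj g (P ⊓ X) := by
    rw [cj_inf, hgR, mem_normalizer_iff_cj.1 (hYX hg)]
    exact le_inf hQR hQ.1
  have h2 : Nat.card (Cit.cj g (P ⊓ X)) = Nat.card (P ⊓ X : Subgroup G) :=
    card_map_of_injective (MulAut.conj g).injective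
  have h3 : P ⊓ X = Q := by
    refine Subgroup.eq_of_le_of_card_ge hPQ ?_
    rw [← h2]
    exact Nat.le_of_dvd Nat.card_pos (card_dvd_of_le h1)
  rw [h3]
  exact hQ

end quot

/-! ### The world `X` -/

/-- the form of S1169 for simple groups -/
def GoldStmt : Prop := ∀ (X : Type u) [Group X] [Finite X] [IsSimpleGroup X], Cit.ROne.Gold X

/-- Bender's theorem for simple groups -/
def BendStmt : Prop := ∀ (X : Type u) [Group X] [Finite X] [IsSimpleGroup X], CloEnd.Bend X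

section world

variable {Y : Type u} [Group Y] [Finite Y] {K K₁ K₂ K₃ : Subgroup Y} {U : Subgroup Y → Subgroup Y} {v₁ v₂ v₃ : Y}

theorem false_of_three (h : TW K U) (hz : zz K ∉ pCore 2 Y) (hno : ∀ M ∈ cls K, ∀ N ∈ cls K, ¬ Orth M N)
    (hev : EvQ (Y ⧸ pCore 2 Y)) (gold : GoldStmt.{u}) (bend : BendStmt.{u}) (h0506 : NoHomo.S0506Stmt.{u})
    (S : Sylow 2 Y) (m1 : K₁ ∈ cls K) (m2 : K₂ ∈ cls K) (m3 : K₃ ∈ cls K) (u1 : v₁ ∈ U K₁) (u2 : v₂ ∈ U K₂)
    (u3 : v₃ ∈ U K₃) (o1 : orderOf v₁ = 4) (o2 : orderOf v₂ = 4) (o3 : orderOf v₃ = 4) (t1 : v₁ ∈ S) (t2 : v₂ ∈ S)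
    (t3 : v₃ ∈ S) (n12 : K₁ ≠ K₂) (n13 : K₁ ≠ K₃) (n23 : K₂ ≠ K₃) (c12 : v₁ * v₂ = v₂ * v₁) (prod : v₁ * v₂ * v₃ = 1)
    (all : ∀ N ∈ cls K, zz N ∈ S → N = K₁ ∨ N = K₂ ∨ N = K₃) : False := by
  haveI : Fact (Nat.Prime 2) := ⟨Nat.prime_two⟩
  haveI hPn : (pCore 2 Y).Normal := Lib.Cores.pCore_normal 2
  have hcen := h.cen hz
  obtain ⟨f, hfd⟩ : ∃ f : Y →* Y ⧸ pCore 2 Y, f = QuotientGroup.mk' (pCore 2 Y) := ⟨_, rfl⟩
  have hf : Function.Surjective f := by rw [hfd]; exact QuotientGroup.mk'_surjective _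
  have hker : f.ker = pCore 2 Y := by rw [hfd]; exact QuotientGroup.ker_mk' _
  have hC : f.ker ≤ center Y := by rw [hker]; exact hcen
  have hw := h.quot hf hC (by rw [hker]; exact Lib.Cores.pCore_isPGroup 2) (by rw [hker]; exact hz)
  have hKC : ∀ L ∈ cls K, L ⊓ f.ker = ⊥ := by
    rintro _ ⟨g, rfl⟩
    refine CVW.inf_eq_bot h.cvw ⟨g, rfl⟩ fun h1 => hz ?_
    rw [h.cvw.hyp.zz_cj (self_mem_cls K)] at h1
    have h3 := (f.normal_ker).conj_mem _ h1 g⁻¹
    have h4 : g⁻¹ * (g * zz K * g⁻¹) * g⁻¹⁻¹ = zz K := by group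
    rwa [h4, hker] at h3
  have hQ2 : pCore 2 (Y ⧸ pCore 2 Y) = ⊥ := pCore_quot
  obtain ⟨F, hF, hF2⟩ := exists_fsimp hw.odd hQ2 hev hw.cvw hw.gen
  have himg := img_cls hf K
  have hmem : ∀ {N}, N ∈ cls K → N.map f ∈ cls (K.map f) := by
    intro N hN
    rw [← himg]
    exact ⟨N, hN, rfl⟩
  have hmem' : ∀ {M}, M ∈ cls (K.map f) → ∃ N ∈ cls K, N.map f = M := by
    intro M hM
    rw [← himg] at hM
    exact hM
  have heq := fun {M N : Subgroup Y} (hM : M ∈ cls K) (hN : N ∈ cls K) =>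
    CVW.eq_of_map_eq h.cvw hC hKC hM hN
  have hU : ∀ {N}, N ∈ cls K → imgU f (cls K) U (N.map f) = (U N).map f := fun {N} hN =>
    imgU_map (fun M hM N hN hMN => by rw [heq hM hN hMN]) hN
  have hord : ∀ {N v}, N ∈ cls K → v ∈ U N → orderOf v = 4 → orderOf (f v) = 4 := by
    intro N v hN hv hv4
    rw [QuoCen.orderOf_map (hKC N hN) (h.cvw.vch.le N hN hv), hv4]
  have hkS : f.ker ≤ S := by
    rw [hker]
    exact Lib.Cores.pCore_le_sylow S
  let T : Sylow 2 (Y ⧸ pCore 2 Y) := S.mapSurjective hf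
  have hT : (T : Subgroup (Y ⧸ pCore 2 Y)) = (S : Subgroup Y).map f := rfl
  haveI := hF.sim
  have q : Tri (K.map f) (imgU f (cls K) U) F T (K₁.map f) (K₂.map f) (K₃.map f) (f v₁) (f v₂) (f v₃) :=
    { cvw := hw.cvw
      no := by
        intro M hM N hN hMN
        obtain ⟨M, hM', rfl⟩ := hmem' hM
        obtain ⟨N, hN', rfl⟩ := hmem' hN
        exact hno M hM' N hN' ⟨fun hh => hMN.1 (by rw [hh]), comm_lift h.cvw hC hKC hno hM' hN' hMN.2⟩
      f := hF
      even := hF2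
      syl := by
        refine ⟨le_top, T.isPGroup', ?_⟩
        rw [relIndex_top_right]
        exact T.not_dvd_index
      m1 := hmem m1
      m2 := hmem m2
      m3 := hmem m3
      u1 := by rw [hU m1]; exact ⟨_, u1, rfl⟩
      u2 := by rw [hU m2]; exact ⟨_, u2, rfl⟩
      u3 := by rw [hU m3]; exact ⟨_, u3, rfl⟩
      o1 := hord m1 u1 o1
      o2 := hord m2 u2 o2
      o3 := hord m3 u3 o3
      t1 := ⟨_, t1, rfl⟩
      t2 := ⟨_, t2, rfl⟩
      t3 := ⟨_, t3, rfl⟩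
      n12 := fun hh => n12 (heq m1 m2 hh)
      n13 := fun hh => n13 (heq m1 m3 hh)
      n23 := fun hh => n23 (heq m2 m3 hh)
      c12 := by rw [← map_mul, c12, map_mul]
      prod := by rw [← map_mul, ← map_mul, prod, map_one]
      all := by
        intro M hM hMz
        obtain ⟨N, hN, rfl⟩ := hmem' hM
        rw [QuoCen.zz_map_of_inf h.cvw.hyp hN (hKC N hN)] at hMz
        obtain ⟨s, hs, hsz⟩ := hMz
        have h1 : s⁻¹ * zz N ∈ f.ker := by
          rw [MonoidHom.mem_ker, map_mul, map_inv, hsz, inv_mul_cancel]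
        have h2 : zz N ∈ (S : Subgroup Y) := by
          have h3 := (S : Subgroup Y).mul_mem hs (hkS h1)
          rwa [mul_inv_cancel_left] at h3
        rcases all N hN h2 with h3 | h3 | h3
        · left; rw [h3]
        · right; left; rw [h3]
        · right; right; rw [h3] }
  exact q.false_of (gold F) (bend F) h0506

end world

section main

variable {G : Type u} [Group G] [Finite G] {Om : Set (Subgroup G)} {U : Subgroup G → Subgroup G}
  {A K L M N X : Subgroup G} {e g u v v₁ v₂ v₃ w x y : G}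

/-- `YY` normalises `X` -/
theorem YY_le_normalizer (s : SNC (centralizer {e}) K X) : YY e (BL K X) ≤ normalizer (X : Set G) := by
  intro y hy
  have h1 : Cit.cj y K ∈ BL K X := (hy.2 K).2 self_mem_BL
  have h2 := s.cj_of_norm (le_normalizer (mem_centralizer_singleton_iff.2 hy.1))
  exact mem_normalizer_iff_cj.2 (h2.unique (s.of_BL h1))

theorem X_le_YY (s : SNC (centralizer {e}) K X) : X ≤ YY e (BL K X) := by
  intro x hx
  refine ⟨mem_centralizer_singleton_iff.1 (s.XH hx), fun N => ⟨?_, ?_⟩⟩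
  · rintro ⟨g, hg, hgN⟩
    refine ⟨x⁻¹ * g, X.mul_mem (X.inv_mem hx) hg, ?_⟩
    rw [cj_mul, ← hgN, cj_inv_cj]
  · rintro ⟨g, hg, rfl⟩
    exact ⟨x * g, X.mul_mem hx hg, by rw [cj_mul]⟩

/-- **(ex), linked roots** -/
theorem ex_two (b : PreBlk Om e (BL K X)) (w : CVW Om U) (s : SNC (centralizer {e}) K X) (hK : K ∈ Om)
    (hO : pPrimeCore 2 X = ⊥) (hz : zz K ∉ (pCore 2 X).map X.subtype) (hev : ∀ (G : Type u) [Group G] [Finite G], EvQ G)
    (gold : GoldStmt.{u}) (bend : BendStmt.{u}) (h0506 : NoHomo.S0506Stmt.{u}) (hA : IsA Om U A) (he : e ∈ A)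
    (q : ATwo Om U A (BL K X) v₁ v₂ v₃) : ∃ N ∈ BL K X, zz N ∈ normalizer (A : Set G) ∧ zz N ∉ A := by
  haveI : Fact (Nat.Prime 2) := ⟨Nat.prime_two⟩
  by_contra hno
  push Not at hno
  obtain ⟨hv1, K₁, hK1, hvK1⟩ := id q.m1
  obtain ⟨hv2, K₂, hK2, hvK2⟩ := id q.m2
  obtain ⟨hv3, K₃, hK3, hvK3⟩ := id q.m3
  have hO1 := (b.sub K₁ hK1).1
  have hO2 := (b.sub K₂ hK2).1
  have hO3 := (b.sub K₃ hK3).1
  have hX : ∀ {N}, N ∈ BL K X → N ≤ X := fun hN => BL_le s.KX hN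
  have hx1 : v₁ ∈ X := hX hK1 (w.vch.le _ hO1 hvK1)
  have hx2 : v₂ ∈ X := hX hK2 (w.vch.le _ hO2 hvK2)
  have hx3 : v₃ ∈ X := hX hK3 (w.vch.le _ hO3 hvK3)
  obtain ⟨P, hP, hAP⟩ := exists_syl_ge (CVW.isA_two hA) (b.A_le_YY w hA he hK1 hvK1 hv1.2.1 hv1.1)
  have hPn := w.le_norm hA hP.2.1 hAP
  have hY := syl_inf hP (X_le_YY s) (YY_le_normalizer s)
  have hYp : IsPGroup 2 ((P ⊓ X).subgroupOf X) := hY.2.1.comap_of_injective X.subtype X.subtype_injective
  obtain ⟨S, hS⟩ : ∃ S : Sylow 2 X, (S : Subgroup X) = (P ⊓ X).subgroupOf X := ⟨hYp.toSylow hY.2.2, rfl⟩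
  have hmS : ∀ {x : X}, x ∈ (S : Subgroup X) ↔ (x : G) ∈ P := by
    intro x
    rw [hS, mem_subgroupOf]
    exact ⟨fun h => h.1, fun h => ⟨h, x.2⟩⟩
  have hmap : ∀ {N}, N ∈ BL K X → (N.subgroupOf X).map X.subtype = N := fun hN => map_subgroupOf_eq_of_le (hX hN)
  have hcl : ∀ {N : Subgroup X}, N ∈ Cit.cls (K.subgroupOf X) → N.map X.subtype ∈ BL K X := by
    intro N hN
    obtain ⟨g, hg, h1⟩ := map_cls_subgroupOf s.KX hN
    exact ⟨g, hg, h1⟩
  have hsub : ∀ {N : Subgroup X}, (N.map X.subtype).subgroupOf X = N := by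
    intro N
    rw [subgroupOf, comap_map_eq_self_of_injective X.subtype_injective]
  have hne : ∀ {M N}, M ∈ BL K X → N ∈ BL K X → M ≠ N → M.subgroupOf X ≠ N.subgroupOf X := by
    intro M N hM hN h1 h2
    apply h1
    rw [← hmap hM, h2, hmap hN]
  have hn : ∀ {v w' M N}, al Om U v w' = -1 → v ∈ RR Om U A → v ∈ U M → M ∈ Om → w' ∈ U N → w' ∈ RR Om U A → M ≠ N := by
    intro v w' M N hal hv hvM hM hwN hw' hMN
    rw [← hMN] at hwN
    rcases w.eq_or_inv hM hvM hv.2.1 hwN hw'.2.1 with h1 | h1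
    · rw [h1, w.al_self hA hv] at hal; exact absurd hal (by decide)
    · rw [h1, w.al_inv hA hv hv.1, w.al_self hA hv] at hal; exact absurd hal (by decide)
  have htw : TW (K.subgroupOf X) (uH X U) := ⟨CVW.cls_restr w hK s.KX, s.gen, hO⟩
  refine false_of_three (K := K.subgroupOf X) (U := uH X U) (K₁ := K₁.subgroupOf X) (K₂ := K₂.subgroupOf X)
    (K₃ := K₃.subgroupOf X) (v₁ := ⟨v₁, hx1⟩) (v₂ := ⟨v₂, hx2⟩) (v₃ := ⟨v₃, hx3⟩) htw ?_ ?_ (hev _) gold bend h0506 S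
    (subgroupOf_mem_cls s.KX hK1) (subgroupOf_mem_cls s.KX hK2) (subgroupOf_mem_cls s.KX hK3)
    ?_ ?_ ?_ ?_ ?_ ?_ ?_ ?_ ?_ ?_ ?_ ?_ ?_ ?_ ?_
  · intro h1
    apply hz
    exact ⟨_, h1, coe_zz w hK s.KX⟩
  · intro M hM N hN hMN
    apply hMN.1
    have h1 := b.one _ (hcl hM) _ (hcl hN) (by
      rintro _ ⟨x, hx, rfl⟩ _ ⟨y, hy, rfl⟩
      exact congrArg Subtype.val (hMN.2 x hx y hy))
    rw [← hsub (N := M), h1, hsub]
  · rw [mem_uH, hmap hK1]; exact hvK1
  · rw [mem_uH, hmap hK2]; exact hvK2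
  · rw [mem_uH, hmap hK3]; exact hvK3
  · rw [Subgroup.orderOf_mk]; exact hv1.2.1
  · rw [Subgroup.orderOf_mk]; exact hv2.2.1
  · rw [Subgroup.orderOf_mk]; exact hv3.2.1
  · exact hmS.2 (hAP hv1.1)
  · exact hmS.2 (hAP hv2.1)
  · exact hmS.2 (hAP hv3.1)
  · exact hne hK1 hK2 (hn q.a12 hv1 hvK1 hO1 hvK2 hv2)
  · exact hne hK1 hK3 (hn q.a13 hv1 hvK1 hO1 hvK3 hv3)
  · exact hne hK2 hK3 (hn q.a23 hv2 hvK2 hO2 hvK3 hv3)
  · exact Subtype.ext (w.comm hA hv1.1 hv2.1)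
  · exact Subtype.ext q.prod
  · intro N hN hNS
    have hNB := hcl hN
    have hNO := (b.sub _ hNB).1
    have h1 : ((zz N : X) : G) = zz (N.map X.subtype) := by
      have h2 := coe_zz w hNO (hX hNB)
      rwa [hsub] at h2
    have h2 : zz (N.map X.subtype) ∈ A := hno _ hNB (hPn (by rw [← h1]; exact hmS.1 hNS))
    obtain ⟨u, hu, hu4⟩ := w.exists_v hNO
    have h3 := b.mem_A_of_zz w hA he hK1 hvK1 hv1.2.1 hv1.1 hNB h2 hu hu4
    have key : ∀ {v M}, v ∈ U M → M ∈ Om → orderOf v = 4 → (u = v ∨ u = v⁻¹) → N = M.subgroupOf X := by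
      intro v M hv hM hv4 h5
      have h6 : N.map X.subtype = M := by
        rcases h5 with h5 | h5
        · exact w.eq_of_mem hNO hM hu (by rw [h5]; exact hv) hu4
        · exact w.eq_of_mem hNO hM hu (by rw [h5]; exact (U M).inv_mem hv) hu4
      rw [← h6, hsub]
    rcases q.cls w hA b h3 with h4 | h4 | h4 | h4 | h4 | h4
    · exact Or.inl (key hvK1 hO1 hv1.2.1 (Or.inl h4))
    · exact Or.inl (key hvK1 hO1 hv1.2.1 (Or.inr h4))
    · exact Or.inr (Or.inl (key hvK2 hO2 hv2.2.1 (Or.inl h4)))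
    · exact Or.inr (Or.inl (key hvK2 hO2 hv2.2.1 (Or.inr h4)))
    · exact Or.inr (Or.inr (key hvK3 hO3 hv3.2.1 (Or.inl h4)))
    · exact Or.inr (Or.inr (key hvK3 hO3 hv3.2.1 (Or.inr h4)))

end main

/-- **(ex)** -/
theorem exStmt (hev : ∀ (G : Type u) [Group G] [Finite G], EvQ G) (gold : GoldStmt.{u}) (bend : BendStmt.{u})
    (h0506 : NoHomo.S0506Stmt.{u}) : ExStmt.{u} := by
  intro G _ _ Om U K X A e v w hK s hO hz hone hA he hvK hv
  have b : PreBlk Om e (BL K X) := by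
    refine ⟨fun L hL => ⟨BL_mem w hK hL, (BL_le s.KX hL).trans s.XH⟩, ?_, ?_, ?_⟩
    · intro L hL g hg hgL N hN
      exact s.cj_BL (le_normalizer (mem_centralizer_singleton_iff.2 hg)) hL hgL hN
    · rintro L hL M hM hMe ⟨y, hy, x, hx, hxM⟩
      exact s.lk_BL hL hMe hy hx hxM
    · intro L hL M hM hc
      by_contra hne
      exact hone L hL M hM ⟨hne, hc⟩
  by_cases hall : ∀ u ∈ RB Om U A (BL K X), ¬ Lk Om U v u
  · exact ex_one b w s.KX hO hz hA he self_mem_BL hvK hv.2.1 hv.1 hall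
  · push Not at hall
    obtain ⟨u, hu, hl⟩ := hall
    obtain ⟨v₂, v₃, q⟩ := b.exists_ATwo w hA ⟨hv, K, self_mem_BL, hvK⟩ hu hl
    exact ex_two b w s hK hO hz hev gold bend h0506 hA he q

end Cfsg.Agent.Cit.Nil.CVT
end

-- part: Cit/Nil/CVA/Elem
section
prune_inst 0x2010200458220000001800002000000010000000000000012140040009480000a041080030702400102080c0400880601118000002000000000080000004040104010202906c0000110000408003180c00000000000000000000000000000000200000000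
set_option linter.all false
open scoped Cfsg.Agent.FastGrp

/-!
# (6b)(CV), type `A2`: the interface `CVA2.Elem`

* `elem : AW Om U → CVA2.Elem Om U`.
-/

set_option autoImplicit false
set_option linter.style.haveILetI false
set_option linter.unusedSectionVars false

namespace Cfsg.Agent.Cit.CVA

open Subgroup Cfsg Cit Tau CV NilT
open Cfsg.Agent.Cit.CV1 (Orth)
open Cfsg.Agent.Cit.Nil.CVA2 (Lkd Cl)

variable {G : Type*} [Group G] [Finite G] {Om : Set (Subgroup G)} {U : Subgroup G → Subgroup G}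
  {A B K L M N N' T : Subgroup G} {a b e g s s' t u v w x x' y z v₁ v₂ v₃ : G}

theorem cn_cn_cn : cn (cn g s) (cn g x) = cn g (cn s x) := by simp [cn, mul_assoc]

namespace AW

variable (c : AW Om U)
include c

theorem lkd_of (h : Lnk Om U K L) : Lkd Om K L := ⟨h.1, h.2.1, c.lnk_ne h, (c.lnk_comm h).eq, c.lnk_not_orth h⟩

theorem lnk_of_lkd (h : Lkd Om K L) : Lnk Om U K L := by
  rcases c.three h.mK h.mL h.comm with h1 | h1 | h1
  · exact absurd h1 h.ne
  · exact absurd h1 h.north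
  · exact h1

theorem cl_of_al (hA : IsA Om U A) (hK : K ∈ Om) (hL : L ∈ Om) (hv : v ∈ RR Om U A) (hw : w ∈ RR Om U A) (hvK : v ∈ U K)
    (hwL : w ∈ U L) (h0 : al Om U v w ≠ 0) : Cl Om K L := by
  by_cases h2 : al Om U v w = 2
  · have h7 : K = L := by
      rcases c.h.al_two hA hv hw h2 with h8 | h8
      · rw [h8] at hwL
        exact c.h.eq_of_mem hK hL hvK hwL hv.2.1
      · rw [h8, inv_mem_iff] at hwL
        exact c.h.eq_of_mem hK hL hvK hwL hv.2.1
    rw [h7]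
    exact Relation.ReflTransGen.refl
  · exact Relation.ReflTransGen.single (c.lkd_of ⟨hK, hL, A, hA, v, hvK, w, hwL, hv, hw, h0, h2⟩)

theorem U_le (hK : K ∈ Om) (hv : v ∈ U K) (hvA : v ∈ RR Om U A) : U K ≤ A := by
  rw [c.h.U_eq hK hv hvA.2.1, zpowers_le]
  exact hvA.1

theorem root_of_le (hK : K ∈ Om) (h : U K ≤ A) : ∃ v ∈ U K, v ∈ RR Om U A := by
  obtain ⟨v, hv, hv4⟩ := c.h.exists_v hK
  exact ⟨v, hv, h hv, hv4, K, hK, hv⟩

/-- E2 for all elements -/
theorem commU (hK : K ∈ Om) (hL : L ∈ Om) (hc : Commute (zz K) (zz L)) (hv : v ∈ U K) (hw : w ∈ U L) : v * w = w * v := by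
  obtain ⟨x, hx, hx4⟩ := c.h.exists_v hK
  obtain ⟨y, hy, hy4⟩ := c.h.exists_v hL
  have h1 := c.comm_V hK hL hc hx hx4 hy hy4
  obtain ⟨m, rfl⟩ := c.h.exists_pw_U hK hx hx4 hv
  obtain ⟨n, rfl⟩ := c.h.exists_pw_U hL hy hy4 hw
  exact (h1.pow_pow _ _).eq

/-- the data of a linked pair -/
theorem lnk_data (hl : Lnk Om U K L) : ∃ A, IsA Om U A ∧ ∃ v ∈ U K, ∃ w ∈ U L, v ∈ RR Om U A ∧ w ∈ RR Om U A ∧
    Lk Om U v w ∧ ∃ y ∈ L, rf Om U w v ∈ U (cj y K) ∧ cj y K ∈ Om ∧ y * v * y⁻¹ = rf Om U w v ∧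
      y * zz K * y⁻¹ = zz K * zz L := by
  obtain ⟨hK, hL, A, hA, v, hv, w, hw, hvA, hwA, h1⟩ := hl
  obtain ⟨y, hy, hyX⟩ := c.h.exists_y hL
  have h2 := c.h.al_spec hA hL hw hwA.2.1 hwA.1 hy hyX hvA.1
  have h3 : y * v * y⁻¹ = rf Om U w v := h2
  have h4 := c.h.vch.conj_mem hK hv y
  rw [h3] at h4
  refine ⟨A, hA, v, hv, w, hw, hvA, hwA, h1, y, hy, h4, c.h.hyp.conj K hK y, h3, ?_⟩
  have h5 := c.h.sq_rf hA hwA hvA (c.lk_symm hA hvA hwA h1)
  rw [← h3] at h5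
  rw [← c.h.sq_eq hK hv hvA.2.1, ← c.h.sq_eq hL hw hwA.2.1, ← h5]
  group

theorem f_third (hl : Lkd Om K L) : ∃ M, Lkd Om K M ∧ Lkd Om L M ∧ zz M = zz K * zz L ∧ (∃ y ∈ L, M = cj y K) ∧
    U M ≤ U K ⊔ U L := by
  have hK := hl.mK
  have hL := hl.mL
  obtain ⟨A, hA, v, hv, w, hw, hvA, hwA, h1, y, hy, h2, hM, h3, h4⟩ := c.lnk_data (c.lnk_of_lkd hl)
  have hr := c.h.rf_mem hA hwA hvA
  have hs := c.symm_bond hA hvA hwA h1
  refine ⟨cj y K, c.lkd_of ⟨hK, hM, A, hA, v, hv, _, h2, hvA, hr, ?_⟩, c.lkd_of ⟨hL, hM, A, hA, w, hw, _, h2, hwA, hr, ?_⟩,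
    ?_, ⟨y, hy, rfl⟩, ?_⟩
  · rw [lk_iff', c.h.al_rf_left hA hwA hvA hvA.1, c.h.al_self hA hvA, hs]
    have h2 := (lk_iff' v w).1 h1
    clear hs
    generalize al Om U v w = i at *
    revert i; decide
  · rw [lk_iff', c.h.al_rf_left hA hwA hwA hvA.1, c.h.al_self hA hwA, hs]
    have h2 := (lk_iff' v w).1 h1
    clear hs
    generalize al Om U v w = i at *
    revert i; decide
  · rw [zz_cn c.h hK]
    exact h4
  · rw [c.h.U_eq hM h2 hr.2.1, zpowers_le, rf]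
    exact mul_mem (mem_sup_left hv) (mem_sup_right (pw_mem hw _))

theorem f_moves (hl : Lkd Om K L) : ∃ y ∈ L, y * zz K ≠ zz K * y := by
  obtain ⟨A, hA, v, hv, w, hw, hvA, hwA, h1, y, hy, h2, hM, h3, h4⟩ := c.lnk_data (c.lnk_of_lkd hl)
  refine ⟨y, hy, fun h5 => ?_⟩
  rw [h5, mul_inv_cancel_right] at h4
  have h6 := left_eq_mul.1 h4
  rw [← c.h.sq_eq hl.mL hw hwA.2.1] at h6
  exact CVW.sq_ne_one hwA h6

theorem f_link (h1 : Lkd Om K L) (h2 : Lkd Om K M) (hc : zz L * zz M = zz M * zz L) : ¬ Orth L M := by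
  intro ho
  obtain ⟨x, hx, hx4⟩ := c.h.exists_v h1.mK
  obtain ⟨y, hy, hy4⟩ := c.h.exists_v h1.mL
  obtain ⟨w, hw, hw4⟩ := c.h.exists_v h2.mL
  obtain ⟨A, hA, hxA, hyA, hwA⟩ := c.exists_A3 (c.rt_root h1.mK hx hx4) (c.rt_root h1.mL hy hy4) (c.rt_root h2.mL hw hw4)
    (c.commU h1.mK h1.mL h1.comm hx hy) (c.commU h1.mK h2.mL h2.comm hx hw) (c.commU h1.mL h2.mL hc hy hw)
  have e1 : al Om U x y ≠ 0 := fun h0 => h1.north (c.orth_of h1.mK h1.mL hx hx4 hy hy4 (c.h.comm hA hxA.1 hyA.1) h0)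
  have e2 : al Om U x w ≠ 0 := fun h0 => h2.north (c.orth_of h2.mK h2.mL hx hx4 hw hw4 (c.h.comm hA hxA.1 hwA.1) h0)
  exact c.al_trans hA hyA hxA hwA (c.al_symm hA hxA hyA e1) e2 (c.al_of_orth h1.mL h2.mL ho hy hy4 hw hw4)

theorem eq_of_pm (hK : K ∈ Om) (hL : L ∈ Om) (hx : x ∈ U K) (hy : y ∈ U L) (hx4 : orderOf x = 4)
    (h : x = y ∨ x = y⁻¹) : K = L := by
  rcases h with h | h
  · rw [h] at hx
    exact c.h.eq_of_mem hK hL hx hy (by rw [← h]; exact hx4)
  · rw [h, inv_mem_iff] at hx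
    refine c.h.eq_of_mem hK hL hx hy ?_
    rw [h, orderOf_inv] at hx4
    exact hx4

theorem f_four (h1 : Lkd Om K L) (h2 : Lkd Om K M) (h3 : Lkd Om K N) (h4 : Lkd Om L M) (h5 : Lkd Om L N)
    (h6 : Lkd Om M N) : False := by
  obtain ⟨x, hx, hx4⟩ := c.h.exists_v h1.mK
  obtain ⟨y, hy, hy4⟩ := c.h.exists_v h1.mL
  obtain ⟨w, hw, hw4⟩ := c.h.exists_v h2.mL
  obtain ⟨u, hu, hu4⟩ := c.h.exists_v h3.mL
  obtain ⟨A, hA, hxA, hyA, hwA, huA⟩ := c.exists_A4 (c.rt_root h1.mK hx hx4) (c.rt_root h1.mL hy hy4)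
    (c.rt_root h2.mL hw hw4) (c.rt_root h3.mL hu hu4)
    (c.commU h1.mK h1.mL h1.comm hx hy) (c.commU h1.mK h2.mL h2.comm hx hw) (c.commU h3.mK h3.mL h3.comm hx hu)
    (c.commU h4.mK h4.mL h4.comm hy hw) (c.commU h5.mK h5.mL h5.comm hy hu) (c.commU h6.mK h6.mL h6.comm hw hu)
  have key : ∀ {M : Subgroup G} {w : G}, Lkd Om K M → w ∈ U M → w ∈ RR Om U A → al Om U x w ≠ 0 ∧ w ≠ x ∧ w ≠ x⁻¹ := by
    intro M w h hw hwA
    refine ⟨fun h0 => h.north (c.orth_of h.mK h.mL hx hx4 hw hwA.2.1 (c.h.comm hA hxA.1 hwA.1) h0), fun hh => ?_,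
      fun hh => ?_⟩
    · exact h.ne (c.eq_of_pm h.mL h.mK hw hx hwA.2.1 (Or.inl hh)).symm
    · exact h.ne (c.eq_of_pm h.mL h.mK hw hx hwA.2.1 (Or.inr hh)).symm
  obtain ⟨x₂, x₃, l⟩ := c.exists_tri hA hxA
  have key2 : ∀ {M : Subgroup G} {w : G}, Lkd Om K M → w ∈ U M → w ∈ RR Om U A →
      (w = x₂ ∨ w = x₂⁻¹) ∨ (w = x₃ ∨ w = x₃⁻¹) := by
    intro M w h hw hwA
    obtain ⟨e1, e2, e3⟩ := key h hw hwA
    rcases l.mem_of c.h hA hwA e1 with h7 | h7 | h7 | h7 | h7 | h7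
    · exact absurd h7 e2
    · exact absurd h7 e3
    · exact Or.inl (Or.inl h7)
    · exact Or.inl (Or.inr h7)
    · exact Or.inr (Or.inl h7)
    · exact Or.inr (Or.inr h7)
  have pm : ∀ {p q r : G}, (p = r ∨ p = r⁻¹) → (q = r ∨ q = r⁻¹) → (p = q ∨ p = q⁻¹) := by
    intro p q r hp hq
    rcases hp with rfl | rfl <;> rcases hq with rfl | rfl
    · exact Or.inl rfl
    · right; rw [inv_inv]
    · right; rfl
    · left; rfl
  have k1 := key2 h1 hy hyA
  have k2 := key2 h2 hw hwA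
  have k3 := key2 h3 hu huA
  have n1 : ¬ (y = w ∨ y = w⁻¹) := fun hh => h4.ne (c.eq_of_pm h4.mK h4.mL hy hw hy4 hh)
  have n2 : ¬ (y = u ∨ y = u⁻¹) := fun hh => h5.ne (c.eq_of_pm h5.mK h5.mL hy hu hy4 hh)
  have n3 : ¬ (w = u ∨ w = u⁻¹) := fun hh => h6.ne (c.eq_of_pm h6.mK h6.mL hw hu hw4 hh)
  rcases k1 with k1 | k1 <;> rcases k2 with k2 | k2 <;> rcases k3 with k3 | k3
  · exact n1 (pm k1 k2)
  · exact n1 (pm k1 k2)
  · exact n2 (pm k1 k3)
  · exact n3 (pm k2 k3)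
  · exact n3 (pm k2 k3)
  · exact n2 (pm k1 k3)
  · exact n1 (pm k1 k2)
  · exact n1 (pm k1 k2)

/-- half of `sign` -/
theorem sign_aux (hl : Lkd Om K L) (hgK : g * zz K = zz K * g) (hgL : g * zz L = zz L * g) (hv : v ∈ U K)
    (hv4 : orderOf v = 4) (hw : w ∈ U L) (hw4 : orderOf w = 4) (h1 : g * v * g⁻¹ = v) : g * w * g⁻¹ = w := by
  have hcg : ∀ {K : Subgroup G} {v : G}, K ∈ Om → Commute g (zz K) → v ∈ U K → orderOf v = 4 →
      g * v * g⁻¹ = v ∨ g * v * g⁻¹ = v⁻¹ := by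
    intro K v hK hg hv hv4
    exact c.h.conj_or hK ((c.mem_norm hK).2 hg) hv hv4
  rcases hcg hl.mL hgL hw hw4 with h2 | h2
  · exact h2
  exfalso
  obtain ⟨A, hA, v', hv', w', hw', hvA, hwA, h3, y, hy, h4, hM, h5, h6⟩ := c.lnk_data (c.lnk_of_lkd hl)
  -- the same for `v'`, `w'`
  have h1' : cn g v' = v' := by
    rcases c.h.eq_or_inv hl.mK hv hv4 hv' hvA.2.1 with h7 | h7
    · rw [h7]; exact h1
    · rw [h7, cn_inv]
      exact congrArg _ h1
  have h2' : cn g w' = w'⁻¹ := by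
    rcases c.h.eq_or_inv hl.mL hw hw4 hw' hwA.2.1 with h7 | h7
    · rw [h7]; exact h2
    · rw [h7, cn_inv]
      exact congrArg _ h2
  have hr := c.h.rf_mem hA hwA hvA
  have hgM : Commute g (zz (cj y K)) := by
    rw [zz_cn c.h hl.mK, cn, h6]
    exact (show Commute g (zz K) from hgK).mul_right (show Commute g (zz L) from hgL)
  have h7 := hcg hM hgM h4 hr.2.1
  have hi : -al Om U w' v' = 1 ∨ -al Om U w' v' = -1 := by
    rcases (lk_iff _ _).1 (c.lk_symm hA hvA hwA h3) with h8 | h8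
    · right; rw [h8]
    · left; rw [h8]; rfl
  have hcm := c.h.comm hA hvA.1 hwA.1
  have h8 : cn g (rf Om U w' v') = v' * (pw w' (-al Om U w' v'))⁻¹ := by
    rw [rf, cn_mul, h1']
    congr 1
    rw [cn, conj_pw, ← cn_def, h2', pw_inv hwA.2.1, pw_neg hwA.2.1]
  have hww : w' * w' ≠ 1 := CVW.sq_ne_one hwA
  have hvv : v' * v' ≠ 1 := CVW.sq_ne_one hvA
  rw [← cn_def, h8] at h7
  rw [rf] at h7
  have hgen : ∀ q : G, v' * q = q * v' → q * q ≠ 1 → ¬ (v' * q⁻¹ = v' * q ∨ v' * q⁻¹ = (v' * q)⁻¹) := by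
    intro q hq hqq hh
    rcases hh with hh | hh
    · have h9 := mul_left_cancel hh
      exact hqq (by nth_rw 1 [← h9]; exact inv_mul_cancel q)
    · rw [mul_inv_rev] at hh
      have h9 : v' * q⁻¹ = q⁻¹ * v' := (show Commute v' q from hq).inv_right.eq
      rw [h9] at hh
      have h10 := mul_left_cancel hh
      exact hvv (by nth_rw 1 [h10]; exact inv_mul_cancel v')
  rcases hi with hi | hi
  · rw [hi, pw_one] at h7
    exact hgen w' hcm hww h7
  · rw [hi, pw_neg_one hwA.2.1] at h7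
    refine hgen w'⁻¹ ((show Commute v' w' from hcm).inv_right.eq) ?_ h7
    rw [CVW.sq_inv hwA]
    exact hww

theorem f_sign (hl : Lkd Om K L) (hgK : g * zz K = zz K * g) (hgL : g * zz L = zz L * g) (hv : v ∈ U K)
    (hv4 : orderOf v = 4) (hw : w ∈ U L) (hw4 : orderOf w = 4) : g * v * g⁻¹ = v ↔ g * w * g⁻¹ = w :=
  ⟨c.sign_aux hl hgK hgL hv hv4 hw hw4, c.sign_aux (Nil.CVA2.Lkd.symm hl) hgL hgK hw hw4 hv hv4⟩

theorem f_chain (hT : IsPGroup 2 T) (hK : K ∈ Om) (hL : L ∈ Om) (hsT : zz K ∈ T) (htT : zz L ∈ T) (hno : ¬ Orth K L) :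
    Cl Om K L := by
  rcases c.chain hT hK hL hsT htT hno with h1 | h1 | ⟨M, -, h1, h2⟩
  · rw [h1]; exact Relation.ReflTransGen.refl
  · exact Relation.ReflTransGen.single (c.lkd_of h1)
  · exact (Relation.ReflTransGen.single (c.lkd_of h1)).trans (Relation.ReflTransGen.single (c.lkd_of h2))

theorem f_cent (hA : IsA Om U A) (he : e ∈ A) (hee : e * e = 1) (hK : K ∈ Om) (hKA : U K ≤ A) :
    ∃ L ∈ Om, U L ≤ A ∧ Cl Om K L ∧ ∀ x ∈ L, x * e = e * x := by
  obtain ⟨v, hv, hvA⟩ := c.root_of_le hK hKA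
  rcases c.exists_le_cen hA hK hv hvA he hee with h1 | ⟨M, h1, h2, w, hw, hwA⟩
  · exact ⟨K, hK, hKA, Relation.ReflTransGen.refl, fun x hx => mem_centralizer_singleton_iff.1 (h1 hx)⟩
  · exact ⟨M, h1.2.1, c.U_le h1.2.1 hw hwA, Relation.ReflTransGen.single (c.lkd_of h1),
      fun x hx => mem_centralizer_singleton_iff.1 (h2 hx)⟩

theorem f_rep (S : Sylow 2 G) (hK : K ∈ Om) (hz : zz K ∈ (S : Subgroup G)) :
    ∃ L ∈ Om, U L ≤ WW Om U (S : Subgroup G) ∧ ¬ Orth K L := by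
  have hA : IsA Om U (WW Om U (S : Subgroup G)) := ⟨S, rfl⟩
  have hn := c.h.sylow_norm S (le_normalizer hz)
  obtain ⟨x, hx, hx4⟩ := c.h.exists_v hK
  rcases c.dich hA hK hn with h1 | ⟨v, hm⟩
  · exact ⟨K, hK, c.U_le hK hx (h1 x hx hx4), fun h => h.1 rfl⟩
  · obtain ⟨hvA, hv4, L, hL, hvL⟩ := id hm.root
    obtain ⟨h2, h3⟩ := c.minus_lk hA hK hm hx hx4
    refine ⟨L, hL, c.U_le hL hvL hm.root, fun ho => ?_⟩
    exact c.lnk_not_orth (c.lnk_of hL hK hvL hv4 hx hx4 h2 h3) (c.orth_symm ho)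

/-- a 2-element fixing a component fixes a member -/
theorem fix_member (hA : IsA Om U A) (hg : g ∈ normalizer (A : Set G)) {m : ℕ} (hm : g ^ 2 ^ m = 1) (hv : v ∈ RR Om U A)
    (h0 : al Om U v (cn g v) ≠ 0) : ∃ w ∈ RR Om U A, al Om U v w ≠ 0 ∧ cn g (w * w) = w * w := by
  obtain ⟨v₂, v₃, l⟩ := c.exists_tri hA hv
  have hself : al Om U v v = 2 := c.h.al_self hA hv
  -- the images of the squares
  have sqs : ∀ {w : G}, w ∈ RR Om U A → al Om U v w ≠ 0 → w * w = v * v ∨ w * w = v₂ * v₂ ∨ w * w = v₃ * v₃ := by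
    intro w hw h1
    rcases l.mem_of c.h hA hw h1 with h2 | h2 | h2 | h2 | h2 | h2
    · left; rw [h2]
    · left; rw [h2, CVW.sq_inv hv]
    · right; left; rw [h2]
    · right; left; rw [h2, CVW.sq_inv l.m2]
    · right; right; rw [h2]
    · right; right; rw [h2, CVW.sq_inv l.m3]
  by_contra hno
  push Not at hno
  have n1 := hno v hv (by rw [hself]; decide)
  have n2 := hno v₂ l.m2 (by rw [l.a12]; decide)
  have n3 := hno v₃ l.m3 (by rw [l.a13]; decide)
  have hmv : ∀ {w : G}, w ∈ RR Om U A → al Om U v w ≠ 0 → cn g (w * w) = v * v ∨ cn g (w * w) = v₂ * v₂ ∨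
      cn g (w * w) = v₃ * v₃ := by
    intro w hw h1
    rw [cn_mul]
    refine sqs (c.RR_cn hg hw) ?_
    have h2 : al Om U (cn g v) (cn g w) ≠ 0 := by rwa [c.al_cn hA hg hv hw.1]
    exact c.al_trans hA hv (c.RR_cn hg hv) (c.RR_cn hg hw) h0 h2
  have m1 := hmv hv (by rw [hself]; decide)
  have m2 := hmv l.m2 (by rw [l.a12]; decide)
  have m3 := hmv l.m3 (by rw [l.a13]; decide)
  have d12 : v * v ≠ v₂ * v₂ := fun hh => by
    rcases c.sq_inj hA hv l.m2 hh with h2 | h2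
    · exact c.ne_of_al (v := v) (by rw [l.a12, hself]; decide) h2
    · exact c.ne_of_al (v := v) (by rw [l.a12, c.h.al_inv hA hv hv.1, hself]; decide) h2
  have d13 : v * v ≠ v₃ * v₃ := fun hh => by
    rcases c.sq_inj hA hv l.m3 hh with h2 | h2
    · exact c.ne_of_al (v := v) (by rw [l.a13, hself]; decide) h2
    · exact c.ne_of_al (v := v) (by rw [l.a13, c.h.al_inv hA hv hv.1, hself]; decide) h2
  have d23 : v₂ * v₂ ≠ v₃ * v₃ := fun hh => by
    rcases c.sq_inj hA l.m2 l.m3 hh with h2 | h2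
    · exact c.ne_of_al (v := v₂) (by rw [l.a23, c.h.al_self hA l.m2]; decide) h2
    · exact c.ne_of_al (v := v₂) (by rw [l.a23, c.h.al_inv hA l.m2 l.m2.1, c.h.al_self hA l.m2]; decide) h2
  -- a 3-cycle
  have cyc : ∀ {p q r : G}, cn g p = q → cn g q = r → cn g r = p → p ≠ q → r ≠ p → False := by
    intro p q r h1 h2 h3 hpq hrp
    have h4 : ∀ i : ℕ, cn (g ^ (3 * i)) p = p := by
      intro i
      induction i with
      | zero => rw [mul_zero, pow_zero, one_cn]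
      | succ i ih =>
        rw [mul_add, pow_add, ← cn_cn, mul_one, pow_succ, pow_succ, pow_one, ← cn_cn, ← cn_cn, h1, h2, h3, ih]
    have h5 : ∀ m : ℕ, 2 ^ m % 3 = 1 ∨ 2 ^ m % 3 = 2 := by
      intro m
      induction m with
      | zero => left; rfl
      | succ m ih =>
        rw [pow_succ]
        omega
    have h6 : cn (g ^ 2 ^ m) p = p := by rw [hm, one_cn]
    have h7 : 2 ^ m = 2 ^ m % 3 + 3 * (2 ^ m / 3) := (Nat.mod_add_div _ _).symm
    rw [h7, pow_add, ← cn_cn, h4] at h6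
    rcases h5 m with h8 | h8
    · rw [h8, pow_one, h1] at h6
      exact hpq h6.symm
    · rw [h8, pow_two, ← cn_cn, h1, h2] at h6
      exact hrp h6
  -- `v² v₂² = v₃²`
  have e1 := l.sq c.h hA
  rcases m1 with m1 | m1 | m1
  · exact n1 m1
  · rcases m2 with m2 | m2 | m2
    · -- `v₃` is fixed
      apply n3
      rw [← e1, cn_mul, m1, m2]
      exact c.h.comm hA (A.mul_mem l.m2.1 l.m2.1) (A.mul_mem hv.1 hv.1)
    · exact n2 m2
    · rcases m3 with m3 | m3 | m3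
      · exact cyc m1 m2 m3 d12 d13.symm
      · exact d13 (cn_inj.1 (m1.trans m3.symm))
      · exact n3 m3
  · rcases m3 with m3 | m3 | m3
    · apply n2
      have e2 := (l.swap c.h hA).sq c.h hA
      rw [← e2, cn_mul, m1, m3]
      exact c.h.comm hA (A.mul_mem l.m3.1 l.m3.1) (A.mul_mem hv.1 hv.1)
    · rcases m2 with m2 | m2 | m2
      · exact cyc m1 m3 m2 d13 d12.symm
      · exact n2 m2
      · exact d12 (cn_inj.1 (m1.trans m2.symm))
    · exact n3 m3

theorem f_fixz (S : Sylow 2 G) (hg : g ∈ (S : Subgroup G)) (hK : K ∈ Om) (hKA : U K ≤ WW Om U (S : Subgroup G))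
    (hno : ¬ Orth K (cj g K)) : ∃ L ∈ Om, U L ≤ WW Om U (S : Subgroup G) ∧ Cl Om K L ∧ g * zz L = zz L * g := by
  have hA : IsA Om U (WW Om U (S : Subgroup G)) := ⟨S, rfl⟩
  have hn := c.h.sylow_norm S (le_normalizer hg)
  obtain ⟨v, hv, hvA⟩ := c.root_of_le hK hKA
  obtain ⟨m, hm⟩ := S.isPGroup' ⟨g, hg⟩
  have hm' : g ^ 2 ^ m = 1 := congrArg Subtype.val hm
  have h1 := c.RR_cn hn hvA
  have h0 : al Om U v (cn g v) ≠ 0 := fun h0 =>
    hno (c.orth_of hK (c.h.hyp.conj K hK g) hv hvA.2.1 (c.h.vch.conj_mem hK hv g) h1.2.1 (c.h.comm hA hvA.1 h1.1) h0)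
  obtain ⟨w, hw, h2, h3⟩ := c.fix_member hA hn hm' hvA h0
  obtain ⟨hwA, hw4, L, hL, hwL⟩ := id hw
  refine ⟨L, hL, c.U_le hL hwL hw, c.cl_of_al hA hK hL hvA hw hv hwL h2, ?_⟩
  rw [← c.h.sq_eq hL hwL hw4]
  exact (cn_eq_iff.1 h3).eq

theorem inn_cj (hg : g ∈ normalizer (A : Set G)) (hA : IsA Om U A) (hK : K ∈ Om) (hi : Inn Om U A K v) :
    Inn Om U A (cj g K) (cn g v) := by
  obtain ⟨hv, ⟨x, hx, hxK, h1⟩ | ⟨v', hv', h1, v₂, v₃, l, s1, s2, s3⟩⟩ := hi
  · exact ⟨c.RR_cn hg hv, Or.inl ⟨cn g x, c.RR_cn hg hx, c.h.vch.conj_mem hK hxK g, by rwa [c.al_cn hA hg hv hx.1]⟩⟩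
  · refine ⟨c.RR_cn hg hv, Or.inr ⟨cn g v', c.RR_cn hg hv', by rwa [c.al_cn hA hg hv hv'.1], cn g v₂, cn g v₃, ?_, ?_,
      ?_, ?_⟩⟩
    · refine ⟨c.RR_cn hg l.m1, c.RR_cn hg l.m2, c.RR_cn hg l.m3, ?_, ?_, ?_, ?_, ?_, ?_, ?_, ?_⟩
      · rw [← cn_mul, ← cn_mul, l.prod, cn_one]
      · rw [c.al_cn hA hg l.m1 l.m2.1, l.a12]
      · rw [c.al_cn hA hg l.m2 l.m1.1, l.a21]
      · rw [c.al_cn hA hg l.m1 l.m3.1, l.a13]
      · rw [c.al_cn hA hg l.m3 l.m1.1, l.a31]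
      · rw [c.al_cn hA hg l.m2 l.m3.1, l.a23]
      · rw [c.al_cn hA hg l.m3 l.m2.1, l.a32]
      · intro u hu
        have hgi : g⁻¹ ∈ normalizer (A : Set G) := inv_mem hg
        have hu' := c.RR_cn hgi hu
        have hua : cn g (cn g⁻¹ u) = u := cn_cn_inv
        rcases l.cl _ hu' with h2 | h2
        · left
          have h3 : ∀ {r : G}, cn g⁻¹ u = r → u = cn g r := fun hh => by rw [← hh, hua]
          rcases h2 with h2 | h2 | h2 | h2 | h2 | h2
          · exact Or.inl (h3 h2)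
          · right; left; rw [h3 h2, cn_inv]
          · right; right; left; exact h3 h2
          · right; right; right; left; rw [h3 h2, cn_inv]
          · right; right; right; right; left; exact h3 h2
          · right; right; right; right; right; rw [h3 h2, cn_inv]
        · right
          rw [← hua, c.al_cn hA hg l.m1 hu'.1, c.al_cn hA hg l.m2 hu'.1, c.al_cn hA hg l.m3 hu'.1]
          exact h2
    · rw [zz_cn c.h hK, cn_cn_cn, s1]
    · rw [zz_cn c.h hK, cn_cn_cn, s2]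
    · rw [zz_cn c.h hK, cn_cn_cn, s3]

theorem f_noswap (hT : IsPGroup 2 T) (hN : N ∈ Om) (hNT : zz N ∈ T) (hK : K ∈ Om) (hKT : zz K ∈ T) :
    ¬ Orth K (cj (zz N) K) := by
  obtain ⟨A, hA, hTA, -⟩ := c.exists_A hT
  obtain ⟨v, hKv⟩ := c.exists_inn hA hK (hTA hKT)
  have h1 := c.inn_cj (hTA hNT) hA hK hKv
  have h2 := c.stay hA hN (hTA hNT) hKv.1
  refine (c.chain_of_inn hA hT hK (c.h.hyp.conj K hK _) hKT ?_ hKv (c.inn_trans hA h1 hKv.1 h2)).1
  rw [zz_cn c.h hK, cn]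
  exact T.mul_mem (T.mul_mem hNT hKT) (T.inv_mem hNT)

open Nil.CV.Glue Nil.CV.RootMod in
/-- counting -/
theorem f_count (hA : IsA Om U A) (hg : g ∈ normalizer (A : Set G)) (hgg : g * g = 1) (J : Finset (Subgroup G))
    (hJ : ∀ K ∈ J, K ∈ Om ∧ U K ≤ A) (ho : ∀ K ∈ J, ∀ L ∈ J, K ≠ L → Orth K L) :
    2 ^ J.card ≤ Nat.card {e : G // e ∈ A ∧ e * e = 1 ∧ g * e = e * g} := by
  classical
  have hch : ∀ K : J, ∃ v w, v ∈ U K.1 ∧ v ∈ RR Om U A ∧ w ∈ RR Om U A ∧ Lk Om U v w := by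
    rintro ⟨K, hK⟩
    obtain ⟨v, hv, hvA⟩ := c.root_of_le (hJ K hK).1 (hJ K hK).2
    obtain ⟨w, hw, hl⟩ := c.exists_lk hA hvA
    exact ⟨v, w, hv, hvA, hw, hl⟩
  choose p q hp hpA hqA hl using hch
  have hpq : ∀ K L : J, K ≠ L → al Om U (p K) (p L) = 0 := by
    intro K L hKL
    exact c.al_of_orth (hJ K.1 K.2).1 (hJ L.1 L.2).1 (ho K.1 K.2 L.1 L.2 fun hh => hKL (Subtype.ext hh)) (hp K)
      (hpA K).2.1 (hp L) (hpA L).2.1
  have hcross : ∀ (K L : J) (a b : G), K ≠ L → a ∈ RR Om U A → b ∈ RR Om U A → al Om U (p K) a ≠ 0 →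
      al Om U (p L) b ≠ 0 → al Om U a (b * b) = 0 := by
    intro K L a b hKL ha hb h1 h2
    have h3 : al Om U a b = 0 := by
      by_contra h3
      have h4 := c.al_trans hA (hpA K) ha hb h1 h3
      exact c.al_trans hA (hpA K) hb (hpA L) h4 (c.al_symm hA (hpA L) hb h2) (hpq K L hKL)
    rw [c.h.al_sq hA ha hb.1, h3, mul_zero]
  have hpp : ∀ K : J, al Om U (p K) (p K) ≠ 0 := fun K => by rw [c.h.al_self hA (hpA K)]; decide
  have hself : ∀ {v : G}, v ∈ RR Om U A → al Om U v (v * v) = 0 := by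
    intro v hv
    rw [c.h.al_sq hA hv hv.1, c.h.al_self hA hv]; decide
  have h := card_ge (ι := J × Fin 2) (UU (AT c.h hA))
    (fun i => if i.2 = 0 then Nil.CV.Glue.mk c.h hA (p i.1 * p i.1) (A.mul_mem (hpA i.1).1 (hpA i.1).1)
      else Nil.CV.Glue.mk c.h hA (q i.1 * q i.1) (A.mul_mem (hqA i.1).1 (hqA i.1).1))
    (fun i => if i.2 = 0 then fA c.h hA (Nil.CV.Glue.mk c.h hA (q i.1) (hqA i.1).1) else fA c.h hA (Nil.CV.Glue.mk c.h hA (p i.1) (hpA i.1).1)) (by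
      have hq' : ∀ K : J, Nil.CV.Glue.mk c.h hA (q K) (hqA K).1 ∈ rA c.h hA := fun K => hqA K
      have hp' : ∀ K : J, Nil.CV.Glue.mk c.h hA (p K) (hpA K).1 ∈ rA c.h hA := fun K => hpA K
      rintro ⟨K, i⟩ ⟨L, j⟩
      by_cases hKL : K = L
      · subst hKL
        have e1 := (lk_iff' _ _).1 (hl K)
        have e2 := (lk_iff' _ _).1 (c.lk_symm hA (hpA K) (hqA K) (hl K))
        have e3 := hself (hpA K)
        have e4 := hself (hqA K)
        rw [← c.h.al_sq hA (hpA K) (hqA K).1] at e1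
        rw [← c.h.al_sq hA (hqA K) (hpA K).1] at e2
        fin_cases i <;> fin_cases j <;> simp [fA_eq (hq' K), fA_eq (hp' K), e1, e2, e3, e4]
      · have h1 := (hl K).1
        have h2 := (hl L).1
        have e1 := hcross K L _ _ hKL (hpA K) (hpA L) (hpp K) (hpp L)
        have e2 := hcross K L _ _ hKL (hpA K) (hqA L) (hpp K) h2
        have e3 := hcross K L _ _ hKL (hqA K) (hpA L) h1 (hpp L)
        have e4 := hcross K L _ _ hKL (hqA K) (hqA L) h1 h2
        have e5 : ((K, i) : J × Fin 2) ≠ (L, j) := fun h => hKL (congrArg Prod.fst h)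
        rw [if_neg e5]
        fin_cases i <;> fin_cases j <;> simp [fA_eq (hq' K), fA_eq (hp' K), e1, e2, e3, e4]) (by
      rintro ⟨K, i⟩
      have hsq : ∀ {v : G} (hv : v ∈ RR Om U A), Nil.CV.Glue.mk c.h hA (v * v) (A.mul_mem hv.1 hv.1) ∈ UU (AT c.h hA) := by
        intro v hv
        refine mem_UU.2 (vl_inj ?_)
        rw [vl_add, vl_mk, vl_zero]
        exact four_pow hv.2.1
      fin_cases i
      · exact hsq (hpA K)
      · exact hsq (hqA K))
  rw [Fintype.card_prod, Fintype.card_fin, Fintype.card_coe] at h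
  have h1 := h.trans (card_UU_le (cjA c.h hA hg) (by
    intro a
    apply vl_inj
    rw [vl_cjA, vl_cjA]
    have h1 : g⁻¹ = g := inv_eq_of_mul_eq_one_left hgg
    rw [h1]
    calc g * (g * vl a * g) * g = (g * g) * vl a * (g * g) := by group
      _ = vl a := by rw [hgg, one_mul, mul_one]))
  rw [pow_mul, Nat.pow_le_pow_iff_left (by norm_num)] at h1
  refine h1.trans ?_
  refine Nat.card_le_card_of_injective (fun a : CU (cjA c.h hA hg) => (⟨vl (a : AT c.h hA), vl_mem _, ?_, ?_⟩ :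
    {e : G // e ∈ A ∧ e * e = 1 ∧ g * e = e * g})) ?_
  · have h2 := (mem_CU.1 a.2).1
    have h3 := congrArg vl h2
    rw [vl_add, vl_zero] at h3
    exact h3
  · have h2 := (mem_CU.1 a.2).2
    have h3 := congrArg vl h2
    rw [vl_cjA] at h3
    exact mul_inv_eq_iff_eq_mul.1 h3
  · intro a b hab
    apply Subtype.ext
    apply vl_inj
    have h4 := congrArg (fun z : {e : G // e ∈ A ∧ e * e = 1 ∧ g * e = e * g} => (z : G)) hab
    exact h4

end AW

/-- **the elementary facts** -/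
theorem elem (c : AW Om U) : Nil.CVA2.Elem Om U where
  cvw := c.h
  inj := fun _ hK _ hL h => c.over_eq hK hL h
  commV := fun _ hK _ hL h _ hv _ hw => c.commU hK hL h hv hw
  third := fun _ _ h => c.f_third h
  moves := fun _ _ h => c.f_moves h
  link := fun _ _ _ h1 h2 h3 => c.f_link h1 h2 h3
  four := fun _ _ _ _ h1 h2 h3 h4 h5 h6 => c.f_four h1 h2 h3 h4 h5 h6
  sign := fun _ _ h _ h1 h2 _ hv hv4 _ hw hw4 => c.f_sign h h1 h2 hv hv4 hw hw4
  omul := fun _ hK _ hL h _ hM hh => c.orth_mul_ne hK hL h hM hh.symm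
  trans := fun _ hT _ hK _ hL _ hM h1 h2 h3 h4 h5 => c.not_orth_trans hT hK hL hM h1 h2 h3 h4 h5
  chain := fun _ hT _ hK _ hL h1 h2 h3 => c.f_chain hT hK hL h1 h2 h3
  cent := fun _ hA _ he h2 _ hK hKA => c.f_cent hA he h2 hK hKA
  rep := fun S _ hK h => c.f_rep S hK h
  fixz := fun S _ hg _ hK hKA h => c.f_fixz S hg hK hKA h
  noswap := fun _ hT _ hN hNT _ hK hKT => c.f_noswap hT hN hNT hK hKT
  count := fun _ hA _ hg hgg J hJ ho => c.f_count hA hg hgg J hJ ho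

end Cfsg.Agent.Cit.CVA
end

-- part: Cit/Nil/CVA2/Conn0A_mg
section

end

-- part: Cit/Nil/CVA2/Conn0B
section
prune_inst 0x10600458000000001800002000204010000002004000012140040000080041a0050801306026101130a060200a004011180049003000002000020040040401000232c09048100001000040e803180c00000000000000000000000000000000200000000
set_option linter.all false
open scoped Cfsg.Agent.FastGrp

/-!
# (6b)(CV), components of type `A2`: CONN0, part B

`F` has no strongly embedded subgroup. `BSyl F` : the facts on the Sylow 2-subgroups of the groups of Bender's list.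
-/

set_option autoImplicit false
set_option linter.style.haveILetI false
set_option linter.unusedSectionVars false

namespace Cfsg.Agent.Cit.Nil.CVA2

open Subgroup Cfsg Cit Tau CV CV1 CVT Cfsg.Agent.Cit.Comp
open Cfsg.Agent.Cit.Nil.ROne (FSimp)

/-- the facts on the Sylow 2-subgroups of the groups of Bender's list -/
def BSyl (G : Type*) [Group G] : Prop := ∀ S : Sylow 2 G,
  (∀ x ∈ S, x * x = 1 → ∀ y ∈ S, x * y = y * x) ∧
  ((∀ x ∈ S, x * x = 1) ∨ 8 ≤ Nat.card {x : G // x ∈ S ∧ x * x = 1} ∨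
    (64 ≤ Nat.card S ∧ ∀ x ∈ S, x * x * (x * x) = 1))

variable {G : Type*} [Group G] [Finite G] {Om : Set (Subgroup G)} {U : Subgroup G → Subgroup G}
  {A F K L M N P Q R S T X : Subgroup G} {a b c g r s t u v w x y z : G}

/-- involutions of a 2-subgroup of `F` are central in it -/
theorem inv_comm (hb : BSyl F) (hQ : IsPGroup 2 Q) (hQF : Q ≤ F) (hx : x ∈ Q) (hx2 : x * x = 1) (hy : y ∈ Q) :
    x * y = y * x := by
  haveI : Fact (Nat.Prime 2) := ⟨Nat.prime_two⟩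
  have h1 : IsPGroup 2 (Q.subgroupOf F) := hQ.comap_subtype
  obtain ⟨S, hS⟩ := h1.exists_le_sylow
  have h2 := (hb S).1 ⟨x, hQF hx⟩ (hS hx) (Subtype.ext hx2) ⟨y, hQF hy⟩ (hS hy)
  exact congrArg Subtype.val h2

/-- some power of a nontrivial element of a 2-group is an involution -/
theorem exists_inv_pow (hQ : IsPGroup 2 Q) (hx : x ∈ Q) (hx1 : x ≠ 1) : ∃ m : ℕ, x ^ m * x ^ m = 1 ∧ x ^ m ≠ 1 := by
  obtain ⟨k, hk⟩ := hQ ⟨x, hx⟩
  have hk' : x ^ 2 ^ k = 1 := congrArg Subtype.val hk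
  clear hk
  induction k with
  | zero => exact absurd (by simpa using hk') hx1
  | succ k ih =>
    by_cases h : x ^ 2 ^ k = 1
    · exact ih h
    · refine ⟨2 ^ k, ?_, h⟩
      rw [← pow_add, ← two_mul, ← pow_succ']
      exact hk'

/-- the situation: `F` has a strongly embedded subgroup, `K`, `L`, `M` is a component in the Sylow group `P` -/
structure SE (Om : Set (Subgroup G)) (U : Subgroup G → Subgroup G) (F K L M P : Subgroup G) : Prop where
  e : Elem Om U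
  f : FSimp F
  no : ∀ K ∈ Om, ∀ L ∈ Om, ¬ Orth K L
  one : ∀ K ∈ Om, ∀ L ∈ Om, ∃ g, L = cj g K
  zF : ∀ K ∈ Om, zz K ∈ F
  inv : ∀ t ∈ F, t * t = 1 → t ≠ 1 → ∃ N ∈ Om, zz N = t
  conj : ∀ K ∈ Om, ∀ L ∈ Om, ∃ g ∈ F, g * zz K * g⁻¹ = zz L
  bs : BSyl F
  KL : Lkd Om K L
  KM : Lkd Om K M
  LM : Lkd Om L M
  zM : zz M = zz K * zz L
  syl : Syl P ⊤
  UK : U K ≤ P
  UL : U L ≤ P

namespace SE

variable (h : SE Om U F K L M P)
include h

theorem z1P : zz K ∈ P := zz_mem_of_U h.e h.KL.mK h.UK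
theorem z2P : zz L ∈ P := zz_mem_of_U h.e h.KL.mL h.UL
theorem z1S : zz K ∈ P ⊓ F := ⟨h.z1P, h.zF _ h.KL.mK⟩
theorem z2S : zz L ∈ P ⊓ F := ⟨h.z2P, h.zF _ h.KL.mL⟩
theorem two_S : IsPGroup 2 (P ⊓ F : Subgroup G) := h.syl.2.1.to_le inf_le_left

theorem syl_S : Syl (P ⊓ F) F := syl_F h.f h.syl

/-- an involution of `F` commuting with `zz K`, `zz L` -/
theorem mem_three (ht : t ∈ F) (htt : t * t = 1) (ht1 : t ≠ 1) (h1 : t * zz K = zz K * t) (h2 : t * zz L = zz L * t) :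
    t = zz K ∨ t = zz L ∨ t = zz M := by
  obtain ⟨N, hN, rfl⟩ := h.inv t ht htt ht1
  by_contra hcon
  push Not at hcon
  have h3 : zz N * zz M = zz M * zz N := by
    rw [h.zM, ← mul_assoc, h1, mul_assoc, h2, mul_assoc]
  have k1 : Lkd Om K N := lkd_of h.e h.no h.KL.mK hN (fun hh => hcon.1 (by rw [hh])) h1.symm
  have k2 : Lkd Om L N := lkd_of h.e h.no h.KL.mL hN (fun hh => hcon.2.1 (by rw [hh])) h2.symm
  have k3 : Lkd Om M N := lkd_of h.e h.no h.KM.mL hN (fun hh => hcon.2.2 (by rw [hh])) h3.symm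
  exact h.e.four K L M N h.KL h.KM k1 h.LM k2 k3

theorem comm_z1 (hs : s ∈ P ⊓ F) : s * zz K = zz K * s :=
  (inv_comm h.bs h.two_S inf_le_right h.z1S (h.e.cvw.hyp.zz_mul h.KL.mK) hs).symm

theorem comm_z2 (hs : s ∈ P ⊓ F) : s * zz L = zz L * s :=
  (inv_comm h.bs h.two_S inf_le_right h.z2S (h.e.cvw.hyp.zz_mul h.KL.mL) hs).symm

/-- the involutions of `S = P ⊓ F` -/
theorem inv_S (hs : s ∈ P ⊓ F) (hss : s * s = 1) (hs1 : s ≠ 1) : s = zz K ∨ s = zz L ∨ s = zz M :=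
  h.mem_three hs.2 hss hs1 (h.comm_z1 hs) (h.comm_z2 hs)

/-! ### `v ∈ F` -/

theorem vw_comm (hv : v ∈ U K) (hw : w ∈ U L) : v * w = w * v :=
  h.e.commV K h.KL.mK L h.KL.mL h.KL.comm v hv w hw

/-- the elements of `S` commuting with `v` -/
theorem mem_D (hx4 : ∀ x ∈ P ⊓ F, x * x * (x * x) = 1) (hv : v ∈ U K) (hv4 : orderOf v = 4) (hw : w ∈ U L)
    (hw4 : orderOf w = 4) (hvF : v ∈ F) (hwF : w ∈ F) (hx : x ∈ P ⊓ F) (hc : x * v = v * x) :
    ∃ t ∈ ({1, zz K, zz L, zz M} : Set G), ∃ a ∈ ({1, v, w, v * w} : Set G), x = t * a := by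
  have hvS : v ∈ P ⊓ F := ⟨h.UK hv, hvF⟩
  have hwS : w ∈ P ⊓ F := ⟨h.UL hw, hwF⟩
  have hvv := h.e.cvw.sq_eq h.KL.mK hv hv4
  have hww := h.e.cvw.sq_eq h.KL.mL hw hw4
  have hvw := h.vw_comm hv hw
  have hxw : x * w = w * x := by
    have h1 := (h.e.sign K L h.KL x (h.comm_z1 hx) (h.comm_z2 hx) v hv hv4 w hw hw4).1 (by
      rw [hc, mul_inv_cancel_right])
    rwa [mul_inv_eq_iff_eq_mul] at h1
  -- `x * x = a * a`
  have key : ∀ a ∈ P ⊓ F, x * a = a * x → x * x = a * a → ∃ t ∈ ({1, zz K, zz L, zz M} : Set G), x = t * a := by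
    intro a ha hxa hxx
    refine ⟨x * a⁻¹, ?_, by group⟩
    have h1 : x * a⁻¹ * (x * a⁻¹) = 1 := by
      have h2 : a⁻¹ * x = x * a⁻¹ := by rw [inv_mul_eq_iff_eq_mul, ← mul_assoc, ← hxa, mul_inv_cancel_right]
      calc x * a⁻¹ * (x * a⁻¹) = x * (a⁻¹ * x) * a⁻¹ := by group
        _ = x * (x * a⁻¹) * a⁻¹ := by rw [h2]
        _ = (x * x) * (a * a)⁻¹ := by group
        _ = 1 := by rw [hxx, mul_inv_cancel]
    by_cases h3 : x * a⁻¹ = 1
    · rw [h3]; exact Or.inl rfl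
    · rcases h.inv_S (mul_mem hx (inv_mem ha)) h1 h3 with h4 | h4 | h4
      · rw [h4]; exact Or.inr (Or.inl rfl)
      · rw [h4]; exact Or.inr (Or.inr (Or.inl rfl))
      · rw [h4]; exact Or.inr (Or.inr (Or.inr rfl))
  by_cases h1 : x * x = 1
  · obtain ⟨t, ht, hxt⟩ := key 1 (one_mem _) (by rw [mul_one, one_mul]) (by rw [h1, one_mul])
    exact ⟨t, ht, 1, Or.inl rfl, hxt⟩
  · rcases h.inv_S (mul_mem hx hx) (hx4 x hx) h1 with h2 | h2 | h2
    · obtain ⟨t, ht, hxt⟩ := key v hvS hc (by rw [h2, hvv])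
      exact ⟨t, ht, v, Or.inr (Or.inl rfl), hxt⟩
    · obtain ⟨t, ht, hxt⟩ := key w hwS hxw (by rw [h2, hww])
      exact ⟨t, ht, w, Or.inr (Or.inr (Or.inl rfl)), hxt⟩
    · obtain ⟨t, ht, hxt⟩ := key (v * w) (mul_mem hvS hwS) (by rw [← mul_assoc, hc, mul_assoc, hxw, mul_assoc]) (by
        rw [h2, h.zM, ← hvv, ← hww]
        calc v * v * (w * w) = v * (v * w) * w := by group
          _ = v * (w * v) * w := by rw [hvw]
          _ = v * w * (v * w) := by group)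
      exact ⟨t, ht, v * w, Or.inr (Or.inr (Or.inr rfl)), hxt⟩

theorem card_S_le (hx4 : ∀ x ∈ P ⊓ F, x * x * (x * x) = 1) (hv : v ∈ U K) (hv4 : orderOf v = 4) (hw : w ∈ U L)
    (hw4 : orderOf w = 4) (hvF : v ∈ F) (hwF : w ∈ F) : Nat.card (P ⊓ F : Subgroup G) ≤ 32 := by
  classical
  -- `s₀`
  obtain ⟨s₀, hs₀, hcov⟩ : ∃ s₀ ∈ P ⊓ F, ∀ s ∈ P ⊓ F, s * v = v * s ∨ (s₀⁻¹ * s) * v = v * (s₀⁻¹ * s) := by
    by_cases h1 : ∃ s₀ ∈ P ⊓ F, s₀ * v ≠ v * s₀
    · obtain ⟨s₀, hs₀, hne⟩ := h1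
      refine ⟨s₀, hs₀, fun s hs => ?_⟩
      by_cases h2 : s * v = v * s
      · exact Or.inl h2
      · right
        have key : ∀ s ∈ P ⊓ F, s * v ≠ v * s → s * v * s⁻¹ = v⁻¹ := by
          intro s hs hne
          rcases h.e.cvw.conj_or h.KL.mK (h.e.norm h.KL.mK (h.comm_z1 hs)) hv hv4 with h3 | h3
          · rw [mul_inv_eq_iff_eq_mul] at h3
            exact absurd h3 hne
          · exact h3
        have h3 := key s hs h2
        have h4 := key s₀ hs₀ hne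
        have h5 : s₀⁻¹ * v⁻¹ * s₀ = v := by rw [← h4]; group
        have h6 : (s₀⁻¹ * s) * v * (s₀⁻¹ * s)⁻¹ = v := by
          calc (s₀⁻¹ * s) * v * (s₀⁻¹ * s)⁻¹ = s₀⁻¹ * (s * v * s⁻¹) * s₀ := by group
            _ = v := by rw [h3, h5]
        rwa [mul_inv_eq_iff_eq_mul] at h6
    · push Not at h1
      exact ⟨1, one_mem _, fun s hs => Or.inl (h1 s hs)⟩
  let b : Bool → G := fun i => cond i 1 s₀
  let t : Fin 4 → G := ![1, zz K, zz L, zz M]
  let a : Fin 4 → G := ![1, v, w, v * w]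
  have h1 : ∀ s : (P ⊓ F : Subgroup G), ∃ i : Bool × Fin 4 × Fin 4, (s : G) = b i.1 * (t i.2.1 * a i.2.2) := by
    have h2 : ∀ x ∈ ({1, zz K, zz L, zz M} : Set G), ∃ i, t i = x := by
      rintro x (rfl | rfl | rfl | rfl)
      exacts [⟨0, rfl⟩, ⟨1, rfl⟩, ⟨2, rfl⟩, ⟨3, rfl⟩]
    have h3 : ∀ x ∈ ({1, v, w, v * w} : Set G), ∃ i, a i = x := by
      rintro x (rfl | rfl | rfl | rfl)
      exacts [⟨0, rfl⟩, ⟨1, rfl⟩, ⟨2, rfl⟩, ⟨3, rfl⟩]
    rintro ⟨s, hs⟩
    rcases hcov s hs with h4 | h4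
    · obtain ⟨t', ht', a', ha', hst⟩ := h.mem_D hx4 hv hv4 hw hw4 hvF hwF hs h4
      obtain ⟨i, rfl⟩ := h2 t' ht'
      obtain ⟨j, rfl⟩ := h3 a' ha'
      exact ⟨(true, i, j), by change s = 1 * _; rw [one_mul, hst]⟩
    · obtain ⟨t', ht', a', ha', hst⟩ := h.mem_D hx4 hv hv4 hw hw4 hvF hwF (mul_mem (inv_mem hs₀) hs) h4
      obtain ⟨i, rfl⟩ := h2 t' ht'
      obtain ⟨j, rfl⟩ := h3 a' ha'
      exact ⟨(false, i, j), by change s = s₀ * _; rw [← hst, mul_inv_cancel_left]⟩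
  choose i hi using h1
  have h2 : Function.Injective i := by
    intro s s' hss
    apply Subtype.ext
    rw [hi s, hi s', hss]
  have h3 := Nat.card_le_card_of_injective i h2
  have h4 : Nat.card (Bool × Fin 4 × Fin 4) = 32 := by
    rw [Nat.card_eq_fintype_card]; rfl
  omega

/-- `v ∉ F` -/
theorem not_mem_F (hv : v ∈ U K) (hv4 : orderOf v = 4) : v ∉ F := by
  classical
  intro hvF
  haveI := h.f.nor
  have hKO := h.KL.mK
  have hLO := h.KL.mL
  obtain ⟨g, hg⟩ := h.one K hKO L hLO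
  obtain ⟨w, hw⟩ : ∃ w, w = g * v * g⁻¹ := ⟨_, rfl⟩
  have hwL : w ∈ U L := by rw [hg, hw]; exact h.e.cvw.vch.conj_mem hKO hv g
  have hw4 : orderOf w = 4 := by rw [hw]; exact orderOf_conj_four hv4 g
  have hwF : w ∈ F := by rw [hw]; exact h.f.nor.conj_mem v hvF g
  have hvS : v ∈ P ⊓ F := ⟨h.UK hv, hvF⟩
  obtain ⟨S', hS'⟩ := h.syl_S.exists_sylow
  have hmem : ∀ x : F, x ∈ S' ↔ (x : G) ∈ P ⊓ F := by
    intro x
    have h1 : x ∈ (S' : Subgroup F) ↔ (x : G) ∈ P ⊓ F := by rw [hS', mem_subgroupOf]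
    exact h1
  rcases (h.bs S').2 with h1 | h1 | ⟨h1, h2⟩
  · have h2 : (⟨v, hvF⟩ : F) * ⟨v, hvF⟩ = 1 := h1 _ ((hmem _).2 hvS)
    have h3 : v * v = 1 := congrArg Subtype.val h2
    rw [h.e.cvw.sq_eq hKO hv hv4] at h3
    exact h.e.cvw.hyp.zz_ne hKO h3
  · let t : Fin 4 → G := ![1, zz K, zz L, zz M]
    have h2 : ∀ x : {x : F // x ∈ S' ∧ x * x = 1}, ∃ i : Fin 4, ((x : F) : G) = t i := by
      rintro ⟨x, hx, hxx⟩
      by_cases hx1 : (x : G) = 1
      · exact ⟨0, hx1⟩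
      · rcases h.inv_S ((hmem x).1 hx) (congrArg Subtype.val hxx) hx1 with h3 | h3 | h3
        exacts [⟨1, h3⟩, ⟨2, h3⟩, ⟨3, h3⟩]
    choose i hi using h2
    have h3 : Function.Injective i := by
      intro s s' hss
      apply Subtype.ext
      apply Subtype.ext
      rw [hi s, hi s', hss]
    have h4 := Nat.card_le_card_of_injective i h3
    rw [Nat.card_eq_fintype_card (α := Fin 4), Fintype.card_fin] at h4
    omega
  · have h3 : Nat.card (P ⊓ F : Subgroup G) ≤ 32 := by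
      refine h.card_S_le ?_ hv hv4 hwL hw4 hvF hwF
      intro x hx
      exact congrArg Subtype.val (h2 ⟨x, hx.2⟩ ((hmem _).2 hx))
    have h4 : Nat.card S' = Nat.card (P ⊓ F : Subgroup G) := by
      have h5 : Nat.card (S' : Subgroup F) = Nat.card ((P ⊓ F).subgroupOf F) := by rw [hS']
      rw [Nat.card_congr (subgroupOfEquivOfLe (inf_le_right : P ⊓ F ≤ F)).toEquiv] at h5
      exact h5
    omega

/-! ### `v ∉ F` -/

theorem symm : SE Om U F L K M P where
  e := h.e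
  f := h.f
  no := h.no
  one := h.one
  zF := h.zF
  inv := h.inv
  conj := h.conj
  bs := h.bs
  KL := h.KL.symm
  KM := h.LM
  LM := h.KM
  zM := by rw [h.zM, h.KL.comm]
  syl := h.syl
  UK := h.UL
  UL := h.UK

/-- elements of `K ⊓ F` commute with `zz L` -/
theorem comm_of_inf (hr : r ∈ K) (hrF : r ∈ F) : r * zz L = zz L * r := by
  haveI : Fact (Nat.Prime 2) := ⟨Nat.prime_two⟩
  have h1 : zpowers (zz L) ≤ normalizer (K : Set G) := by
    rw [zpowers_le]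
    exact h.e.norm h.KL.mK h.KL.comm.symm
  have h2 : IsPGroup 2 (zpowers (zz L) ⊔ K : Subgroup G) :=
    (isPGroup_zz h.e h.KL.mL).to_sup_of_normal_right' (h.e.cvw.two K h.KL.mK) h1
  have h3 : IsPGroup 2 ((zpowers (zz L) ⊔ K) ⊓ F : Subgroup G) := h2.to_le inf_le_left
  exact (inv_comm h.bs h3 inf_le_right ⟨mem_sup_left (mem_zpowers _), h.zF _ h.KL.mL⟩
    (h.e.cvw.hyp.zz_mul h.KL.mL) ⟨mem_sup_right hr, hrF⟩).symm

theorem exists_A : ∃ A, IsA Om U A ∧ U K ≤ A ∧ U L ≤ A := by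
  haveI : Fact (Nat.Prime 2) := ⟨Nat.prime_two⟩
  have h1 : ¬ 2 ∣ P.index := by
    have := h.syl.2.2
    rwa [relIndex_top_right] at this
  exact ⟨WW Om U P, ⟨h.syl.2.1.toSylow h1, rfl⟩, U_le_WW h.e h.KL.mK h.UK, U_le_WW h.e h.KL.mL h.UL⟩

theorem exists_y : ∃ y ∈ K, y * zz L ≠ zz L * y := h.e.moves L K h.KL.symm

/-- elements of `K` commuting with `zz L` -/
theorem mem_XX (hk : r ∈ K) (hc : r * zz L = zz L * r) : r ∈ Tau.XX U K := by
  obtain ⟨y, hy, hyL⟩ := h.exists_y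
  obtain ⟨v, hv, hv4⟩ := h.e.cvw.exists_v h.KL.mK
  obtain ⟨A, hA, hKA, hLA⟩ := h.exists_A
  have hzA := zz_mem_of_U h.e h.KL.mL hLA
  have hcom : ∀ x ∈ Tau.XX U K, x * zz L = zz L * x := fun x hx => h.e.cvw.XX_comm hA h.KL.mK hv hv4 (hKA hv) hx hzA
  have hyX : y ∉ Tau.XX U K := fun hh => hyL (hcom y hh)
  by_contra hrX
  have h1 := h.e.cvw.y_inv h.KL.mK hy hyX hv
  have h2 := h.e.cvw.y_inv h.KL.mK hk hrX hv
  have h3 : y⁻¹ * r ∈ Tau.XX U K := by
    rw [h.e.cvw.mem_XX_iff h.KL.mK hv hv4 (K.mul_mem (K.inv_mem hy) hk)]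
    have h4 : y⁻¹ * v⁻¹ * y = v := by rw [← h1]; group
    have h5 : (y⁻¹ * r) * v * (y⁻¹ * r)⁻¹ = v := by
      calc (y⁻¹ * r) * v * (y⁻¹ * r)⁻¹ = y⁻¹ * (r * v * r⁻¹) * y := by group
        _ = v := by rw [h2, h4]
    rwa [mul_inv_eq_iff_eq_mul] at h5
  have h4 := hcom _ h3
  apply hyL
  have h5 : y = r * (y⁻¹ * r)⁻¹ := by group
  have h6 : Commute r (zz L) := hc
  have h7 : Commute (y⁻¹ * r) (zz L) := h4
  have h8 : Commute y (zz L) := by
    rw [h5]
    exact h6.mul_left h7.inv_left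
  exact h8

theorem inf_F (hr : r ∈ K) (hrF : r ∈ F) : r = 1 ∨ r = zz K := by
  by_contra hcon
  push Not at hcon
  have hKO := h.KL.mK
  have hrr : r * r ≠ 1 := fun hh => hcon.2 (h.e.cvw.hyp.eq_zz hKO hr hh hcon.1)
  obtain ⟨m, hm, hm1⟩ := exists_inv_pow (h.e.cvw.two K hKO) (K.mul_mem hr hr) hrr
  have h1 := h.e.cvw.hyp.eq_zz hKO (K.pow_mem (K.mul_mem hr hr) m) hm hm1
  rw [(Commute.refl r).mul_pow] at h1
  have hrK := K.pow_mem hr m
  have hrFm := F.pow_mem hrF m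
  have h2 := h.mem_XX hrK (h.comm_of_inf hrK hrFm)
  have h3 : orderOf (r ^ m) = 4 := GQ.orderOf_of_sq h1 (h.e.cvw.hyp.zz_mul hKO) (h.e.cvw.hyp.zz_ne hKO)
  have h4 : r ^ m ∈ U K := h.e.cvw.mem_U_of_pow_four hKO h2 (by rw [← h3, pow_orderOf_eq_one])
  exact h.not_mem_F h4 h3 hrFm

/-- the square of an element of `S` centralises `K` -/
theorem sq_comm (hs : s ∈ P ⊓ F) (hy : y ∈ K) : s * s * y = y * (s * s) := by
  haveI := h.f.nor
  have hsK := h.e.norm h.KL.mK (h.comm_z1 hs)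
  obtain ⟨c, hc⟩ : ∃ c, c = s * y * s⁻¹ * y⁻¹ := ⟨_, rfl⟩
  have hcK : c ∈ K := by
    rw [hc]
    exact K.mul_mem ((mem_normalizer_iff.1 hsK y).1 hy) (K.inv_mem hy)
  have hcF : c ∈ F := by
    rw [hc]
    have h1 : s * y * s⁻¹ * y⁻¹ = s * (y * s⁻¹ * y⁻¹) := by group
    rw [h1]
    exact F.mul_mem hs.2 (h.f.nor.conj_mem _ (F.inv_mem hs.2) y)
  have h1 : c * c = 1 ∧ s * c = c * s := by
    rcases h.inf_F hcK hcF with h2 | h2
    · rw [h2]; exact ⟨by rw [one_mul], by rw [one_mul, mul_one]⟩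
    · rw [h2]; exact ⟨h.e.cvw.hyp.zz_mul h.KL.mK, h.comm_z1 hs⟩
  have h2 : s * y * s⁻¹ = c * y := by rw [hc]; group
  have h3 : s * s * y * (s * s)⁻¹ = y := by
    calc s * s * y * (s * s)⁻¹ = s * (s * y * s⁻¹) * s⁻¹ := by group
      _ = (s * c) * y * s⁻¹ := by rw [h2]; group
      _ = c * (s * y * s⁻¹) := by rw [h1.2]; group
      _ = y := by rw [h2, ← mul_assoc, h1.1, one_mul]
  rwa [mul_inv_eq_iff_eq_mul] at h3

theorem sq_one (hs : s ∈ P ⊓ F) : s * s = 1 := by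
  by_contra hne
  obtain ⟨m, hm, hm1⟩ := exists_inv_pow h.two_S (mul_mem hs hs) hne
  have hK : ∀ y ∈ K, (s * s) ^ m * y = y * (s * s) ^ m := fun y hy =>
    (Commute.pow_left (show Commute (s * s) y from h.sq_comm hs hy) m)
  have hL : ∀ y ∈ L, (s * s) ^ m * y = y * (s * s) ^ m := fun y hy =>
    (Commute.pow_left (show Commute (s * s) y from h.symm.sq_comm hs hy) m)
  obtain ⟨y, hy, hyL⟩ := h.exists_y
  obtain ⟨x, hx, hxK⟩ := h.symm.exists_y
  rcases h.inv_S (pow_mem (mul_mem hs hs) m) hm hm1 with h1 | h1 | h1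
  · have h2 := hL x hx
    rw [h1] at h2
    exact hxK h2.symm
  · have h2 := hK y hy
    rw [h1] at h2
    exact hyL h2.symm
  · have h2 := hK y hy
    rw [h1, h.zM] at h2
    have h3 : Commute (zz K) y := (h.e.cvw.hyp.comm_zz h.KL.mK (le_normalizer hy)).symm
    have h4 : Commute (zz K * zz L) y := h2
    have h5 : Commute (zz L) y := by
      have h6 : zz L = (zz K)⁻¹ * (zz K * zz L) := by group
      rw [h6]
      exact h3.inv_left.mul_left h4
    exact hyL h5.symm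

theorem comm_v (hs : s ∈ P ⊓ F) (hv : v ∈ U K) (hv4 : orderOf v = 4) : Commute s v := by
  obtain ⟨w, hw, hw4⟩ := h.e.cvw.exists_v h.KL.mL
  have h1 : Commute v (zz K) := by
    rw [← h.e.cvw.sq_eq h.KL.mK hv hv4]
    exact (Commute.refl v).mul_right (Commute.refl v)
  have h2 : Commute v (zz L) := by
    rw [← h.e.cvw.sq_eq h.KL.mL hw hw4]
    have h3 : Commute v w := h.vw_comm hv hw
    exact h3.mul_right h3
  by_cases hs1 : s = 1
  · rw [hs1]; exact Commute.one_left v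
  rcases h.inv_S hs (h.sq_one hs) hs1 with h3 | h3 | h3
  · rw [h3]; exact h1.symm
  · rw [h3]; exact h2.symm
  · rw [h3, h.zM]; exact (h1.mul_right h2).symm

/-- **the contradiction** -/
theorem false : False := by
  haveI := h.f.nor
  have hKO := h.KL.mK
  have hLO := h.KL.mL
  obtain ⟨v, hv, hv4⟩ := h.e.cvw.exists_v hKO
  have hvv := h.e.cvw.sq_eq hKO hv hv4
  obtain ⟨S, hSd⟩ : ∃ S, S = P ⊓ F := ⟨_, rfl⟩
  have hS : Syl S F := by rw [hSd]; exact h.syl_S
  have hS2 : IsPGroup 2 S := hS.2.1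
  have hz1 : zz K ∈ S := by rw [hSd]; exact h.z1S
  have hz2 : zz L ∈ S := by rw [hSd]; exact h.z2S
  have hSv : ∀ s ∈ S, Commute s v := fun s hs => h.comm_v (by rw [hSd] at hs; exact hs) hv hv4
  have hS1 : ∀ s ∈ S, s * zz K = zz K * s := fun s hs => h.comm_z1 (by rw [hSd] at hs; exact hs)
  have hSL : ∀ s ∈ S, s * zz L = zz L * s := fun s hs => h.comm_z2 (by rw [hSd] at hs; exact hs)
  have hss : ∀ s ∈ S, s * s = 1 := fun s hs => h.sq_one (by rw [hSd] at hs; exact hs)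
  -- an element of `F` normalising `S` and moving `zz K` to `zz L`
  obtain ⟨x, hxF, hxS, hxz⟩ : ∃ x ∈ F, cj x S = S ∧ x * zz K * x⁻¹ = zz L := by
    obtain ⟨g, hg, hgz⟩ := h.conj K hKO L hLO
    have h1 : Syl (cj g S) F := by
      have := hS.cj g
      rwa [cj_F h.f] at this
    obtain ⟨C, hC⟩ : ∃ C, C = F ⊓ centralizer {zz L} := ⟨_, rfl⟩
    have hCF : C ≤ F := by rw [hC]; exact inf_le_left
    have h2 : S ≤ C := by
      rw [hC]
      exact le_inf hS.1 fun s hs => mem_centralizer_singleton_iff.2 (hSL s hs)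
    have h3 : cj g S ≤ C := by
      rw [hC]
      refine le_inf h1.1 ?_
      rintro _ ⟨s, hs, rfl⟩
      rw [mem_centralizer_singleton_iff]
      change g * s * g⁻¹ * zz L = zz L * (g * s * g⁻¹)
      rw [← hgz]
      calc g * s * g⁻¹ * (g * zz K * g⁻¹) = g * (s * zz K) * g⁻¹ := by group
        _ = g * (zz K * s) * g⁻¹ := by rw [hS1 s hs]
        _ = _ := by group
    obtain ⟨c, hc, hcS⟩ := (LB.syl_of_le h1 h3 hCF).exists_conj (LB.syl_of_le hS h2 hCF)
    rw [hC] at hc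
    refine ⟨c * g, F.mul_mem hc.1 hg, by rw [cj_mul, hcS], ?_⟩
    have h4 := mem_centralizer_singleton_iff.1 hc.2
    calc c * g * zz K * (c * g)⁻¹ = c * (g * zz K * g⁻¹) * c⁻¹ := by group
      _ = zz L := by rw [hgz, h4, mul_inv_cancel_right]
  obtain ⟨u, hu⟩ : ∃ u, u = x * v * x⁻¹ := ⟨_, rfl⟩
  have huu : u * u = zz L := by
    rw [hu, ← hxz, ← hvv]; group
  obtain ⟨E, hE⟩ : ∃ E, E = F ⊔ zpowers v := ⟨_, rfl⟩
  have hFE : F ≤ E := by rw [hE]; exact le_sup_left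
  have hvE : v ∈ E := by rw [hE]; exact mem_sup_right (mem_zpowers v)
  obtain ⟨D, hD⟩ : ∃ D, D = E ⊓ centralizer (S : Set G) := ⟨_, rfl⟩
  have hvD : v ∈ D := by
    rw [hD]
    exact ⟨hvE, mem_centralizer_iff.2 fun s hs => hSv s hs⟩
  have hSD : S ≤ D := by
    rw [hD]
    refine le_inf (hS.1.trans hFE) fun s hs => mem_centralizer_iff.2 fun t ht => ?_
    exact inv_comm h.bs hS2 hS.1 ht (hss t ht) hs
  have huD : u ∈ D := by
    rw [hD]
    refine ⟨?_, mem_centralizer_iff.2 fun s hs => ?_⟩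
    · rw [hu]
      exact E.mul_mem (E.mul_mem (hFE hxF) hvE) (E.inv_mem (hFE hxF))
    · have hs' : s ∈ cj x S := by rw [hxS]; exact hs
      obtain ⟨t, ht, rfl⟩ := hs'
      change x * t * x⁻¹ * u = u * (x * t * x⁻¹)
      rw [hu]
      have h1 := (hSv t ht).eq
      calc x * t * x⁻¹ * (x * v * x⁻¹) = x * (t * v) * x⁻¹ := by group
        _ = x * (v * t) * x⁻¹ := by rw [h1]
        _ = _ := by group
  have hzv : IsPGroup 2 (zpowers v) := h.syl.2.1.to_le (zpowers_le.2 (h.UK hv))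
  have hzu : IsPGroup 2 (zpowers u) := by
    have h1 : u ∈ cj x P := by rw [hu]; exact conj_mem_cj (h.UK hv)
    exact (isPGroup_cj h.syl.2.1).to_le (zpowers_le.2 h1)
  haveI : Fact (Nat.Prime 2) := ⟨Nat.prime_two⟩
  obtain ⟨P₀, hP₀⟩ : ∃ P₀, P₀ = S ⊔ zpowers v := ⟨_, rfl⟩
  have hP₀P : P₀ ≤ P := by
    rw [hP₀, hSd]
    exact sup_le inf_le_left (zpowers_le.2 (h.UK hv))
  have hP₀2 : IsPGroup 2 P₀ := h.syl.2.1.to_le hP₀P
  have hP₀D : P₀ ≤ D := by rw [hP₀]; exact sup_le hSD (zpowers_le.2 hvD)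
  obtain ⟨T1, hT1, hl1⟩ := LB.exists_syl_ge hP₀2 hP₀D
  obtain ⟨T2, hT2, hl2⟩ := LB.exists_syl_ge hzu (zpowers_le.2 huD)
  have hvn : zpowers v ≤ normalizer (F : Set G) := by rw [normalizer_eq_top]; exact le_top
  have hvT1 : v ∈ T1 := hl1 (by rw [hP₀]; exact mem_sup_right (mem_zpowers v))
  have hT1P : T1 ≤ P₀ := by
    intro p hp
    have hpE : p ∈ E := by have := hT1.1 hp; rw [hD] at this; exact this.1
    rw [hE] at hpE
    obtain ⟨a, ha, q, hq, rfl⟩ := LB.exists_mul_of_mem_sup hvn hpE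
    have hqT : q ∈ T1 := (zpowers_le.2 hvT1) hq
    have haT : a ∈ T1 := by
      have h1 := T1.mul_mem hp (T1.inv_mem hqT)
      rwa [mul_inv_cancel_right] at h1
    have h2 : S = T1 ⊓ F := by
      refine LB.syl_eq_of_le hS (hT1.2.1.to_le inf_le_left) inf_le_right (le_inf ?_ hS.1)
      exact le_trans (by rw [hP₀]; exact le_sup_left) hl1
    rw [hP₀]
    refine mul_mem (mem_sup_left ?_) (mem_sup_right hq)
    rw [h2]
    exact ⟨haT, ha⟩
  obtain ⟨d, hd, hdT⟩ := hT2.exists_conj hT1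
  have hdu : d * u * d⁻¹ ∈ P₀ := by
    apply hT1P
    rw [← hdT]
    exact conj_mem_cj (hl2 (mem_zpowers u))
  have hdz : d * zz L = zz L * d := by
    rw [hD] at hd
    exact (mem_centralizer_iff.1 hd.2 _ hz2).symm
  have h1 : (d * u * d⁻¹) * (d * u * d⁻¹) = zz L := by
    calc (d * u * d⁻¹) * (d * u * d⁻¹) = d * (u * u) * d⁻¹ := by group
      _ = zz L := by rw [huu, hdz, mul_inv_cancel_right]
  rw [hP₀] at hdu
  have hvS : zpowers v ≤ normalizer (S : Set G) := by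
    rw [zpowers_le, mem_normalizer_iff_cj]
    ext y
    constructor
    · rintro ⟨s, hs, rfl⟩
      change v * s * v⁻¹ ∈ S
      rw [← (hSv s hs).eq, mul_inv_cancel_right]
      exact hs
    · intro hy
      refine ⟨y, hy, ?_⟩
      change v * y * v⁻¹ = y
      rw [← (hSv y hy).eq, mul_inv_cancel_right]
  obtain ⟨s, hs, q, hq, hsq⟩ := LB.exists_mul_of_mem_sup hvS hdu
  obtain ⟨i, rfl⟩ := mem_zpowers_iff.1 hq
  rw [hsq] at h1
  have h2 : Commute s (v ^ i) := (hSv s hs).zpow_right i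
  have h3 : zz L = zz K ^ i := by
    rw [← h1, ← hvv]
    calc s * v ^ i * (s * v ^ i) = s * (v ^ i * s) * v ^ i := by group
      _ = (s * s) * (v ^ i * v ^ i) := by rw [← h2.eq]; group
      _ = (v * v) ^ i := by rw [hss s hs, one_mul, (Commute.refl v).mul_zpow]
  obtain ⟨y, hy, hyL⟩ := h.exists_y
  apply hyL
  rw [h3]
  have h4 : Commute y (zz K) := h.e.cvw.hyp.comm_zz hKO (le_normalizer hy)
  exact (h4.zpow_right i).eq

end SE

/-- **`F` has no strongly embedded subgroup** -/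
theorem no_se (e : Elem Om U) (f : FSimp F) (hO : pPrimeCore 2 G = ⊥) (hev : EvQ G)
    (no : ∀ K ∈ Om, ∀ L ∈ Om, ¬ Orth K L) (one : ∀ K ∈ Om, ∀ L ∈ Om, ∃ g, L = cj g K)
    (hne : Om.Nonempty) (hb : ∀ H : Subgroup F, IsStronglyEmbedded H → BSyl F) (H : Subgroup F) : ¬ IsStronglyEmbedded H := by
  intro hH
  haveI : Fact (Nat.Prime 2) := ⟨Nat.prime_two⟩
  have hyp := e.cvw.hyp
  have zF : ∀ K ∈ Om, zz K ∈ F := fun K hK => zz_mem e f hO hev no one hK
  obtain ⟨K, hK⟩ := hne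
  obtain ⟨x, hx, hl⟩ := exists_lkd e f hO hev no hK
  obtain ⟨M, hKM, hLM, hzM, -, hUM⟩ := e.third _ _ hl
  obtain ⟨L, hLd⟩ : ∃ L, L = cj x K := ⟨_, rfl⟩
  rw [← hLd] at hl hLM hzM hUM
  -- all involutions are conjugate
  have hconj : ∀ s ∈ F, ∀ t ∈ F, s * s = 1 → s ≠ 1 → t * t = 1 → t ≠ 1 → ∃ g ∈ F, g * s * g⁻¹ = t := by
    intro s hs t ht hss hs1 htt ht1
    have h1 : orderOf (⟨s, hs⟩ : F) = 2 := by
      rw [orderOf_eq_prime_iff, pow_two]
      exact ⟨Subtype.ext hss, fun hh => hs1 (congrArg Subtype.val hh)⟩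
    have h2 : orderOf (⟨t, ht⟩ : F) = 2 := by
      rw [orderOf_eq_prime_iff, pow_two]
      exact ⟨Subtype.ext htt, fun hh => ht1 (congrArg Subtype.val hh)⟩
    obtain ⟨g, hg⟩ := isConj_iff.1 (TwoFusion.StronglyEmbeddedBasic.isConj_of_involutions hH _ _ h1 h2)
    exact ⟨g, g.2, congrArg Subtype.val hg⟩
  have hcV : ∀ v ∈ U K, ∀ w ∈ U L, v * w = w * v := e.commV K hK L hl.mL hl.comm
  have h2 : IsPGroup 2 (U K ⊔ U L : Subgroup G) := by
    refine ((e.cvw.two K hK).to_le (e.cvw.vch.le K hK)).to_sup_of_normal_right'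
      ((e.cvw.two L hl.mL).to_le (e.cvw.vch.le L hl.mL)) ?_
    intro v hv
    rw [mem_normalizer_iff]
    intro y
    constructor
    · intro hy
      rw [hcV v hv y hy, mul_inv_cancel_right]
      exact hy
    · intro hy
      have h3 := hcV v hv _ hy
      have h4 : v * (v * y * v⁻¹) = v * y := by rw [h3]; group
      have h5 := mul_left_cancel h4
      rwa [h5] at hy
  obtain ⟨P, hP⟩ := h2.exists_le_sylow
  exact SE.false (K := K) (L := L) (M := M) (P := (P : Subgroup G))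
    { e := e
      f := f
      no := no
      one := one
      zF := zF
      inv := fun t ht htt ht1 => by
        obtain ⟨g, hg, hgt⟩ := hconj (zz K) (zF K hK) t ht (hyp.zz_mul hK) (hyp.zz_ne hK) htt ht1
        exact ⟨cj g K, hyp.conj K hK g, by rw [hyp.zz_cj hK, hgt]⟩
      conj := fun K hK L hL => hconj _ (zF K hK) _ (zF L hL) (hyp.zz_mul hK) (hyp.zz_ne hK) (hyp.zz_mul hL) (hyp.zz_ne hL)
      bs := hb H hH
      KL := hl
      KM := hKM
      LM := hLM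
      zM := hzM
      syl := syl_top_of_sylow P
      UK := le_sup_left.trans hP
      UL := le_sup_right.trans hP }

/-- **CONN0** modulo the list facts -/
theorem conn0_of {F : Subgroup G} (e : Elem Om U) (one : ∀ K ∈ Om, ∀ L ∈ Om, ∃ g, L = cj g K) (hne : Om.Nonempty)
    (f : FSimp F) (hO : pPrimeCore 2 G = ⊥) (hev : EvQ G) (no : ∀ K ∈ Om, ∀ L ∈ Om, ¬ Orth K L)
    (hc : CloEnd.Crit1175 F) (hb : ∀ H : Subgroup F, IsStronglyEmbedded H → BSyl F) :
    ∀ K ∈ Om, ∀ L ∈ Om, Cl Om K L := by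
  intro K hK L hL
  exact conn_of e f no one (fun K hK => zz_mem e f hO hev no one hK) (no_se e f hO hev no one hne hb) hc hK hL

end Cfsg.Agent.Cit.Nil.CVA2
end

-- part: Cit/Nil/CVA2/Conn0
section
set_option linter.all false

/-!
# (6b)(CV), components of type `A2`: CONN0

`conn0` : in a world with a simple normal subgroup with trivial centraliser and without orthogonal members all members are
in one class. `conn0_all` : the same with `Crit1175` and `Bend` for all simple groups.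
-/

set_option autoImplicit false
set_option linter.style.haveILetI false
set_option linter.unusedSectionVars false

namespace Cfsg.Agent.Cit.Nil.CVA2

open Subgroup Cfsg Cit Tau CV CV1 CVT Cfsg.Agent.Cit.Comp
open Cfsg.Agent.Cit.Nil.ROne (FSimp)

/-- **CONN0** -/
theorem conn0_cl {G : Type*} [Group G] [Finite G] {Om : Set (Subgroup G)} {U : Subgroup G → Subgroup G} {F : Subgroup G}
    (e : Elem Om U) (one : ∀ K ∈ Om, ∀ L ∈ Om, ∃ g, L = cj g K) (hne : Om.Nonempty) (f : FSimp F)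
    (hO : pPrimeCore 2 G = ⊥) (hev : EvQ G) (no : ∀ K ∈ Om, ∀ L ∈ Om, ¬ Orth K L) (hc : CloEnd.Crit1175 F)
    (hB : CloEnd.Bend F) : ∀ K ∈ Om, ∀ L ∈ Om, Cl Om K L :=
  conn0_of e one hne f hO hev no hc fun H hH => ben_syl (hB H hH)

/-- **CONN0** for a relation -/
theorem conn0 {G : Type*} [Group G] [Finite G] {Om : Set (Subgroup G)} {U : Subgroup G → Subgroup G} {F : Subgroup G}
    (e : Elem Om U) (one : ∀ K ∈ Om, ∀ L ∈ Om, ∃ g, L = cj g K) (hne : Om.Nonempty) (f : FSimp F)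
    (hO : pPrimeCore 2 G = ⊥) (hev : EvQ G) (no : ∀ K ∈ Om, ∀ L ∈ Om, ¬ Orth K L) (hc : CloEnd.Crit1175 F)
    (hB : CloEnd.Bend F) {r : Subgroup G → Subgroup G → Prop} (_rs : ∀ K L, r K L → r L K)
    (rt : ∀ K L M, r K L → r L M → r K M) (rr : ∀ K ∈ Om, r K K) (_rc : ∀ g K L, r K L → r (cj g K) (cj g L))
    (rl : ∀ K L, Lkd Om K L → r K L) : ∀ K ∈ Om, ∀ L ∈ Om, r K L := by
  intro K hK L hL
  have h1 := conn0_cl e one hne f hO hev no hc hB K hK L hL
  induction h1 with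
  | refl => exact rr K hK
  | tail _ h3 ih => exact rt _ _ _ (ih h3.mK) (rl _ _ h3)

end Cfsg.Agent.Cit.Nil.CVA2
end

-- part: Cit/Nil/ROne/EndGlue
section
set_option linter.all false
open scoped Cfsg.Agent.FastGrp

/-!
# `r = 1`: the end for `F*(G)` simple, glue

* `FSimp.of_fs` : `FSimp (F*(G))` from `FS G`;
* `W.mem_fstar` : `Z ⊆ F*(G)`;
* `World.false_of_closed` : there is no strongly closed commutative subgroup in `F*(G)`;
* `World.noCl` : the form of helper117.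
-/

set_option autoImplicit false
set_option linter.style.haveILetI false
set_option linter.unusedSectionVars false

namespace Cfsg.Agent.Cit.Nil.ROne

open Subgroup Cfsg Cfsg.Agent.Cit

variable {G : Type*} [Group G] {Z : Set G} {K : G → Subgroup G} {z u : G}

theorem FSimp.of_fs [Finite G] (fs : AssemblyNil.FS G) : FSimp (generalizedFittingSubgroup G) := by
  have hn : (generalizedFittingSubgroup G).Normal := Lib.GenFitting.genFitting_normal
  have hna : ¬ ∀ x ∈ generalizedFittingSubgroup G, ∀ y ∈ generalizedFittingSubgroup G, x * y = y * x := fun h =>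
    fs.na ⟨⟨fun a b => Subtype.ext (h a a.2 b b.2)⟩⟩
  refine ⟨hn, fs.simple, hna, ?_⟩
  haveI := fs.simple
  have h1 : centralizer (generalizedFittingSubgroup G : Set G) ≤ generalizedFittingSubgroup G :=
    Lib.GenFitting.centralizer_genFitting_le
  have h2 : (center ↥(generalizedFittingSubgroup G)).Normal := inferInstance
  rw [eq_bot_iff]
  intro x hx
  rcases h2.eq_bot_or_eq_top with h3 | h3
  · have h4 : (⟨x, h1 hx⟩ : ↥(generalizedFittingSubgroup G)) ∈ center ↥(generalizedFittingSubgroup G) := by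
      rw [mem_center_iff]
      intro g
      exact Subtype.ext (mem_centralizer_iff.1 hx g g.2)
    rw [h3, mem_bot] at h4
    exact congrArg Subtype.val h4
  · exfalso
    apply hna
    intro a ha b hb
    have h4 : (⟨b, hb⟩ : ↥(generalizedFittingSubgroup G)) ∈ center ↥(generalizedFittingSubgroup G) := by
      rw [h3]; exact mem_top _
    exact congrArg Subtype.val (mem_center_iff.1 h4 ⟨a, ha⟩)

/-- `Z ⊆ F*(G)` -/
theorem W.mem_fstar [Finite G] (w : W Z K) (fs : AssemblyNil.FS G) (hz : z ∈ Z) :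
    z ∈ generalizedFittingSubgroup G := by
  have f := FSimp.of_fs fs
  haveI := f.nor
  haveI := fs.simple
  set F := generalizedFittingSubgroup G with hF
  by_contra hzF
  have hO : OO F = ⊥ := by
    have h1 : ((OO F).subgroupOf F).Normal := (normal_subgroupOf_iff_le_normalizer (OO_le F)).2 (le_normalizer_OO F)
    rcases h1.eq_bot_or_eq_top with h2 | h2
    · rw [← map_subgroupOf_eq_of_le (OO_le F), h2, Subgroup.map_bot]
    · exfalso
      have h3 : F ≤ OO F := subgroupOf_eq_top.1 h2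
      have h4 : OO F = F := le_antisymm (OO_le F) h3
      apply odd_OO F
      rw [h4]
      exact fs.even
  have h1 := w.hyp.lemma_two (M := F) (fun L hL => by
    obtain ⟨v, hv, rfl⟩ := hL
    exact w.two hv) (K := K z) ⟨z, hz, rfl⟩ (by rw [normalizer_eq_top]; exact le_top) hO (by
    rw [w.zz_K hz]
    exact hzF)
  rw [w.zz_K hz] at h1
  have h2 : z ∈ centralizer (F : Set G) := by
    rw [mem_centralizer_iff]
    exact fun x hx => mem_centralizer_singleton_iff.1 (h1 hx)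
  rw [f.cen, mem_bot] at h2
  exact w.ne z hz h2

/-- **there is no strongly closed commutative subgroup** -/
theorem World.false_of_closed [Finite G] (h : World Z K) (gold : Cit.ROne.Gold ↥(generalizedFittingSubgroup G))
    (hB : CloEnd.Bend ↥(generalizedFittingSubgroup G)) (S : Sylow 2 G) {A : Subgroup G} (hA : A ≠ ⊥)
    (hAZ : A ≤ closure Z) (hc : ∀ x ∈ A, ∀ y ∈ A, x * y = y * x) (hsc : IsStronglyClosed A (S : Subgroup G)) :
    False := by
  have hsub : ∀ z ∈ Z, z ∈ generalizedFittingSubgroup G := fun z hz => h.w.mem_fstar h.toFS hz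
  -- two members in `S`
  obtain ⟨S', z, hz, u, hu, hne, h1, h2⟩ := h.two
  obtain ⟨g, hg⟩ := MulAction.exists_smul_eq G S' S
  have hS : (S : Subgroup G) = cj g (S' : Subgroup G) := by
    rw [← hg]
    rfl
  have hz' : g * z * g⁻¹ ∈ CS Z K (S : Subgroup G) := by rw [hS]; exact (h.w.cj_CS g S' hz).2 ⟨hz, h1⟩
  have hu' : g * u * g⁻¹ ∈ CS Z K (S : Subgroup G) := by rw [hS]; exact (h.w.cj_CS g S' hu).2 ⟨hu, h2⟩
  exact h.w.false_of_closed h.one h.c3 (FSimp.of_fs h.toFS) hsub S hz' hu' (fun he => hne (by simpa using he)) gold hB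
    hA (hAZ.trans ((closure_le _).2 hsub)) hc hsc

/-- the form of helper117 -/
theorem World.noCl [Finite G] (h : World Z K) (gold : Cit.ROne.Gold ↥(generalizedFittingSubgroup G))
    (hB : CloEnd.Bend ↥(generalizedFittingSubgroup G)) (S : Sylow 2 G) : AN.NoCl Z (S : Subgroup G) :=
  fun _ hA hAZ hc hsc => h.false_of_closed gold hB S hA hAZ hc hsc

end Cfsg.Agent.Cit.Nil.ROne
end

-- part: Cit/Nil/CV/Rank3
section
set_option linter.all false
open scoped Cfsg.Agent.FastGrp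

/-!
# (6b)(CV), rank at least three: assembly

* `cvw_of_cls` : the core-free world for `Om = cls K`;
* `cw_of` : the world of section 3 from the output `IndCV` of the induction;
* `false_of_rankThree` : **there is no component of rank at least three**.
-/

set_option autoImplicit false
set_option linter.style.haveILetI false
set_option linter.unusedSectionVars false

namespace Cfsg.Agent.Cit.CV

open Subgroup Cfsg Cit Tau Cit.Nil

variable {G : Type*} [Group G] [Finite G] {Om : Set (Subgroup G)} {U : Subgroup G → Subgroup G}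
  {A B K L N F : Subgroup G} {a b e f g s t u v w x y : G}

omit [Finite G] in
theorem cls_conj {K : Subgroup G} : ∀ L ∈ cls K, ∀ M ∈ cls K, ∃ g, M = cj g L := by
  rintro _ ⟨g, rfl⟩ _ ⟨h, rfl⟩
  exact ⟨h * g⁻¹, by rw [← cj_mul, inv_mul_cancel_right]⟩

/-- sections 1 and 2 -/
theorem cw_of (h : CVW Om U) (one : ∀ K ∈ Om, ∀ L ∈ Om, ∃ g, L = cj g K) (hne : Om.Nonempty) (hi : IndCV Om U)
    (hr : ∀ A, IsA Om U A → RkThree Om U A) : CV3.CW Om U := by
  have h2 := twoCV_of h (nilCV_of h hr hi) hr fun A hA => h.exists_mem' hne hA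
  exact ⟨h, one, h2.cent, fun A B hA hB hAB => h2.inf A hA B hB hAB, fun A hA v hv => by
    obtain ⟨w, hw, -, -, hl, -⟩ := hr A hA v hv
    exact ⟨w, hw, hl.1, hl.2⟩⟩

/-- **(CV), rank at least three** -/
theorem false_of_rankThree (h : CVW Om U) (one : ∀ K ∈ Om, ∀ L ∈ Om, ∃ g, L = cj g K) (hne : Om.Nonempty)
    (hi : IndCV Om U) (hr : ∀ A, IsA Om U A → RkThree Om U A) (f : ROne.FSimp F) (h2 : 2 ∣ Nat.card F)
    (hc : CloEnd.Crit1174 F) (hB : CloEnd.Bend F) : False := by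
  have hcw := cw_of h one hne hi hr
  have w := fw_of hcw f h2 hne hc
  obtain ⟨H, hH⟩ := exists_se hcw f h2 hne hc
  obtain ⟨A, hA, v, hv⟩ := h.exists_mem hne
  exact Cfsg.Agent.Cit.Nil.CV.EndH.false_of w.fh f hA hv hB hH

end Cfsg.Agent.Cit.CV
end

-- part: Cit/Nil/CVT/RkThree
section
set_option linter.all false

/-!
# (6b)(CV), the simple case: rank at least three

`SC.false_of_rkThree` : in the simple case there is no component of rank at least three, given the output `IndCV` of the induction.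
`SC.trich` : rank one, `A2`, rank at least three.
-/

set_option autoImplicit false
set_option linter.style.haveILetI false
set_option linter.unusedSectionVars false

namespace Cfsg.Agent.Cit.Nil.CVT

open Subgroup Cfsg Cit Tau CV CV1

universe u

variable {G : Type u} [Group G] [Finite G] {K F : Subgroup G} {U : Subgroup G → Subgroup G}

theorem SC.trich (s : SC K U F) : (∀ A, IsA (cls K) U A → RkOne (cls K) U A) ∨
    (∀ A, IsA (cls K) U A → RkTwo (cls K) U A) ∨ ∀ A, IsA (cls K) U A → RkThree (cls K) U A :=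
  s.cvw.trich cls_conj ⟨K, self_mem_cls K⟩

theorem SC.false_of_rkThree (s : SC K U F) (hi : IndCV (cls K) U)
    (hr : ∀ A, IsA (cls K) U A → RkThree (cls K) U A) (hc : CloEnd.Crit1174 F) (hB : CloEnd.Bend F) : False :=
  CV.false_of_rankThree s.cvw cls_conj ⟨K, self_mem_cls K⟩ hi hr s.f s.even hc hB

end Cfsg.Agent.Cit.Nil.CVT
end

-- part: Cit/Nil/RG/End
section
set_option linter.all false
open scoped Cfsg.Agent.FastGrp

/-!
# (6b), no type I pairs, NIL: the end (helper488)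

* `false_of_two` : a strongly closed commutative subgroup of `X = F*(G)` simple, and two commuting non-commutative
  2-subgroups of `X` in a common 2-group: contradiction (S1169, Bender's theorem);
* `zz_mem_of_fsimp` : `ZZ Om ⊆ X`;
* `WR.false_of_nil` : `AllC Om`, at least two members over each involution, `NilC Om`: contradiction.
-/

set_option autoImplicit false
set_option linter.style.haveILetI false
set_option linter.unusedSectionVars false

namespace Cfsg.Agent.Cit.Nil.RG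

open Subgroup Cfsg Cit QuaternionGroup
open Cfsg.Agent.Cit.Nil.ROne Cfsg.Agent.Cit.Nil.RFour

variable {G : Type*} [Group G]

/-- see the head of the file -/
theorem false_of_two [Finite G] {X : Subgroup G} (f : FSimp X) (gold : Cit.ROne.Gold X) (hB : CloEnd.Bend X)
    (S : Sylow 2 G) {A : Subgroup G} (hA : A ≠ ⊥) (hAX : A ≤ X) (hc : ∀ x ∈ A, ∀ y ∈ A, x * y = y * x)
    (hsc : IsStronglyClosed A (S : Subgroup G)) {P Q R : Subgroup G} (hP : IsPGroup 2 P) (hQ : Q ≤ P) (hR : R ≤ P)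
    (hQX : Q ≤ X) (hRX : R ≤ X) (hQR : ∀ x ∈ Q, ∀ y ∈ R, x * y = y * x) (hQn : ∃ x ∈ Q, ∃ y ∈ Q, x * y ≠ y * x)
    (hRn : ∃ x ∈ R, ∃ y ∈ R, x * y ≠ y * x) : False := by
  haveI : Fact (Nat.Prime 2) := ⟨Nat.prime_two⟩
  haveI := f.sim
  obtain ⟨T, hT⟩ := exists_sylow_subgroupOf f.nor S
  have hA' : A.subgroupOf X ≠ ⊥ := by
    intro h1
    apply hA
    rw [← map_subgroupOf_eq_of_le hAX, h1, Subgroup.map_bot]
  have hc' : ∀ x ∈ A.subgroupOf X, ∀ y ∈ A.subgroupOf X, x * y = y * x := fun x hx y hy =>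
    Subtype.ext (hc x hx y hy)
  have hsc' : IsStronglyClosed (A.subgroupOf X) (T : Subgroup X) := by
    refine ⟨?_, fun x hx g hg => ?_⟩
    · rw [hT]
      exact comap_mono hsc.1
    · rw [hT] at hg
      exact hsc.2 x hx g hg
  have hPX : IsPGroup 2 (P.subgroupOf X) := hP.comap_subtype
  have lift : ∀ Q : Subgroup G, Q ≤ X → (∃ x ∈ Q, ∃ y ∈ Q, x * y ≠ y * x) →
      ∃ x ∈ Q.subgroupOf X, ∃ y ∈ Q.subgroupOf X, x * y ≠ y * x := by
    rintro Q hQX ⟨x, hx, y, hy, hxy⟩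
    exact ⟨⟨x, hQX hx⟩, mem_subgroupOf.2 hx, ⟨y, hQX hy⟩, mem_subgroupOf.2 hy, fun h1 => hxy (congrArg Subtype.val h1)⟩
  have htwo : CloEnd.Two X := ⟨P.subgroupOf X, Q.subgroupOf X, R.subgroupOf X, hPX, comap_mono hQ, comap_mono hR,
    fun x hx y hy => Subtype.ext (hQR x hx y hy), lift Q hQX hQn, lift R hRX hRn⟩
  rcases gold T _ hA' ⟨⟨fun a b => Subtype.ext (hc' a a.2 b b.2)⟩⟩ hsc' with h1 | ⟨H, hH⟩
  · obtain ⟨x, hx, y, hy, hxy⟩ := lift Q hQX hQn
    obtain ⟨T', hT'⟩ := hPX.exists_le_sylow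
    obtain ⟨r, hr⟩ := MulAction.exists_smul_eq X T T'
    have h4 : ∀ x ∈ (T' : Subgroup X), r⁻¹ * x * r ∈ (T : Subgroup X) := by
      intro x hx
      rw [← hr] at hx
      have h5 : x ∈ cj r (T : Subgroup X) := hx
      exact mem_cj.1 h5
    have hQT : Q.subgroupOf X ≤ T' := (comap_mono hQ : Q.subgroupOf X ≤ P.subgroupOf X).trans hT'
    have h5 : r⁻¹ * x * r * (r⁻¹ * y * r) = r⁻¹ * y * r * (r⁻¹ * x * r) :=
      congrArg Subtype.val (h1.is_comm.comm ⟨_, h4 _ (hQT hx)⟩ ⟨_, h4 _ (hQT hy)⟩)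
    apply hxy
    calc x * y = r * (r⁻¹ * x * r * (r⁻¹ * y * r)) * r⁻¹ := by group
      _ = r * (r⁻¹ * y * r * (r⁻¹ * x * r)) * r⁻¹ := by rw [h5]
      _ = y * x := by group
  · exact htwo.not_stronglyEmbedded hB H hH

theorem OO_fsimp [Finite G] {X : Subgroup G} (f : FSimp X) (hev : 2 ∣ Nat.card X) : OO X = ⊥ := by
  haveI := f.nor
  by_contra hne
  have h4 := f.le (N := OO X) (fun g hg n hn => by
    have h5 : cj g (OO X) = OO X := by rw [← OO_cj, mem_normalizer_iff_cj.1 (le_normalizer hg)]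
    rw [← h5]
    exact conj_mem_cj hn) hne
  exact odd_OO X (hev.trans (card_dvd_of_le h4))

/-- `ZZ Om ⊆ X` -/
theorem zz_mem_of_fsimp [Finite G] {Om : Set (Subgroup G)} (hyp : Hyp Om) (h2 : ∀ K ∈ Om, IsPGroup 2 K) {X : Subgroup G}
    (f : FSimp X) (hev : 2 ∣ Nat.card X) {z : G} (hz : z ∈ ZZ Om) : z ∈ X := by
  haveI := f.nor
  obtain ⟨K, hK, rfl⟩ := hz
  by_contra hn
  have h4 := hyp.lemma_two (M := X) h2 hK (by rw [normalizer_eq_top_iff.2 f.nor]; exact le_top) (OO_fsimp f hev) hn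
  apply hyp.zz_ne hK
  have h5 : zz K ∈ centralizer (X : Set G) := by
    rw [mem_centralizer_iff]
    exact fun g hg => mem_centralizer_singleton_iff.1 (h4 hg)
  rwa [f.cen, mem_bot] at h5

namespace WR

variable {Om : Set (Subgroup G)} {K L M X : Subgroup G} {z x y g g' u v w a a' b k l r s t i p q c : G}

/-- two commuting non-commutative 2-subgroups of `X` from a C-pair `(z, g z g⁻¹)`, `g ∈ X` -/
theorem exists_two [Finite G] (h : WR Om) (h2 : 2 ≤ (Ov Om z).ncard) (hn : X.Normal) (hg : g ∈ X) (hz : z ∈ ZZ Om)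
    (hcp : CP Om z (g * z * g⁻¹)) : ∃ P Q R : Subgroup G, IsPGroup 2 P ∧ Q ≤ P ∧ R ≤ P ∧ Q ≤ X ∧ R ≤ X ∧
      (∀ x ∈ Q, ∀ y ∈ R, x * y = y * x) ∧ (∃ x ∈ Q, ∃ y ∈ Q, x * y ≠ y * x) ∧ (∃ x ∈ R, ∃ y ∈ R, x * y ≠ y * x) := by
  have hu := h.zz_cj hz g
  obtain ⟨K, hK⟩ := id hz
  obtain ⟨L, hL, hLK⟩ := exists_second h2 K
  -- the elements
  have hdc : ∀ a ∈ RR Om z, ∀ b ∈ RR Om z, (g * a * g⁻¹) * b = b * (g * a * g⁻¹) := fun a ha b hb =>
    (h.CP_RR hcp hb (h.RR_cj ha g)).symm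
  have hmul : ∀ a ∈ RR Om z, ∀ b ∈ RR Om z, (g * a * g⁻¹ * a⁻¹) * (g * b * g⁻¹ * b⁻¹) = (g * (a * b) * g⁻¹) * (b * a)⁻¹ := by
    intro a ha b hb
    have h3 := hdc b hb a⁻¹ (inv_mem ha)
    calc (g * a * g⁻¹ * a⁻¹) * (g * b * g⁻¹ * b⁻¹) = g * a * g⁻¹ * (a⁻¹ * (g * b * g⁻¹)) * b⁻¹ := by group
      _ = g * a * g⁻¹ * ((g * b * g⁻¹) * a⁻¹) * b⁻¹ := by rw [h3]
      _ = _ := by group
  let D : Subgroup G → Subgroup G := fun K => closure {x | ∃ k ∈ K, x = g * k * g⁻¹ * k⁻¹}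
  let 𝒦 : Set (Subgroup G) := {K, L, cj g K, cj g L}
  have hPmem : ∀ M ∈ ({K, L} : Set (Subgroup G)), D M ≤ SS 𝒦 := by
    rintro M hM
    refine (closure_le _).2 ?_
    rintro _ ⟨k, hk, rfl⟩
    have h4 : M ∈ 𝒦 ∧ cj g M ∈ 𝒦 := by
      rcases hM with rfl | hM
      · exact ⟨Or.inl rfl, Or.inr (Or.inr (Or.inl rfl))⟩
      · rw [Set.mem_singleton_iff] at hM
        rw [hM]
        exact ⟨Or.inr (Or.inl rfl), Or.inr (Or.inr (Or.inr rfl))⟩
    exact mul_mem (mem_SS_of h4.2 (conj_mem_cj hk)) (inv_mem (mem_SS_of h4.1 hk))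
  have hX : ∀ M, D M ≤ X := by
    intro M
    refine (closure_le _).2 ?_
    rintro _ ⟨k, hk, rfl⟩
    have h4 : g * k * g⁻¹ * k⁻¹ = g * (k * g⁻¹ * k⁻¹) := by group
    rw [SetLike.mem_coe, h4]
    exact mul_mem hg (hn.conj_mem _ (inv_mem hg) k)
  have hP : IsPGroup 2 (SS 𝒦) := by
    have hgK := h.Ov_cj hK g
    have hgL := h.Ov_cj hL g
    refine SS_two _ 𝒦 rfl ?_ ?_
    · rintro M (rfl | rfl | rfl | rfl)
      · exact h.two hK.1
      · exact h.two hL.1
      · exact h.two hgK.1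
      · exact h.two hgL.1
    · have hz' : ∀ M ∈ 𝒦, M ∈ Ov Om z ∨ M ∈ Ov Om (g * z * g⁻¹) := by
        rintro M (rfl | rfl | rfl | rfl)
        · exact Or.inl hK
        · exact Or.inl hL
        · exact Or.inr hgK
        · exact Or.inr hgL
      intro M hM N hN' hne a ha b hb
      rcases hz' M hM with h4 | h4 <;> rcases hz' N hN' with h5 | h5
      · exact h.Ov_comm h4 h5 hne ha hb
      · exact hcp.2 M h4 N h5 a ha b hb
      · exact (hcp.2 N h5 M h4 b hb a ha).symm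
      · exact h.Ov_comm h4 h5 hne ha hb
  have hnc : ∀ M ∈ Ov Om z, ∃ x ∈ D M, ∃ y ∈ D M, x * y ≠ y * x := by
    intro M hM
    obtain ⟨k, hk, hkk⟩ := h.exists_four hM.1
    obtain ⟨k', hk', hkk', hk1, hk2⟩ := h.exists_anti hM.1 hk hkk
    obtain ⟨h6, -⟩ := h.anti hM.1 hk hk' hkk hkk' hk1 hk2
    rw [hM.2] at h6
    refine ⟨_, subset_closure ⟨k, hk, rfl⟩, _, subset_closure ⟨k', hk', rfl⟩, fun h7 => ?_⟩
    rw [hmul k (le_RR hM hk) k' (le_RR hM hk'), hmul k' (le_RR hM hk') k (le_RR hM hk), h6] at h7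
    -- `g k k' g⁻¹ (z k k')⁻¹ = g z k k' g⁻¹ (k k')⁻¹`
    have h8 : z * (k * k')⁻¹ = (k * k')⁻¹ * z := h.Ov_cen hM (inv_mem (mul_mem hk hk'))
    have h9 : (g * (k * k') * g⁻¹) * (z * (k * k'))⁻¹ = (g * (k * k') * g⁻¹) * (z * (k * k')⁻¹) := by
      rw [_root_.mul_inv_rev, h.zz_inv hz, ← h8]
    have h10 : (g * (z * (k * k')) * g⁻¹) * (k * k')⁻¹ = (g * (k * k') * g⁻¹) * ((g * z * g⁻¹) * (k * k')⁻¹) := by
      have h11 : z * (k * k') = (k * k') * z := h.Ov_cen hM (mul_mem hk hk')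
      rw [h11]; group
    rw [h9, h10] at h7
    exact hcp.1 (mul_right_cancel (mul_left_cancel h7))
  refine ⟨SS 𝒦, D K, D L, hP, hPmem K (Or.inl rfl), hPmem L (Or.inr rfl), hX K, hX L, ?_, hnc K hK, hnc L hL⟩
  intro x hx y hy
  have key : ∀ k ∈ K, ∀ l ∈ L, (g * k * g⁻¹ * k⁻¹) * (g * l * g⁻¹ * l⁻¹) = (g * l * g⁻¹ * l⁻¹) * (g * k * g⁻¹ * k⁻¹) := by
    intro k hk l hl
    have h4 := h.Ov_comm hK hL hLK.symm hk hl
    rw [hmul k (le_RR hK hk) l (le_RR hL hl), hmul l (le_RR hL hl) k (le_RR hK hk), h4]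
  have h5 : D K ≤ centralizer (D L : Set G) := by
    refine (closure_le _).2 ?_
    rintro _ ⟨k, hk, rfl⟩
    rw [SetLike.mem_coe, mem_centralizer_iff]
    intro w hw
    have h6 : D L ≤ centralizer {g * k * g⁻¹ * k⁻¹} := by
      refine (closure_le _).2 ?_
      rintro _ ⟨l, hl, rfl⟩
      rw [SetLike.mem_coe, mem_centralizer_singleton_iff]
      exact (key k hk l hl).symm
    exact mem_centralizer_singleton_iff.1 (h6 hw)
  exact ((mem_centralizer_iff.1 (h5 hx)) y hy).symm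

/-- **the NIL world without type I pairs is impossible** -/
theorem false_of_nil [Finite G] (h : WR Om) (hyp : Hyp Om) (hC : AllC Om) (h2 : R2 Om) (hN : NilC Om) (hz : z ∈ ZZ Om)
    (f : FSimp X) (hev : 2 ∣ Nat.card X) (gold : Cit.ROne.Gold X) (hB : CloEnd.Bend X) : False := by
  haveI : Fact (Nat.Prime 2) := ⟨Nat.prime_two⟩
  have hX : ∀ z ∈ ZZ Om, z ∈ X := fun z hz => zz_mem_of_fsimp hyp (fun K hK => h.two hK) f hev hz
  have hz2 : IsPGroup 2 (zpowers z) := by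
    refine IsPGroup.of_card (n := 1) ?_
    rw [Nat.card_zpowers, pow_one]
    exact orderOf_eq_prime (by rw [pow_two]; exact h.zz_sq hz) (h.zz_ne hz)
  obtain ⟨S, hS⟩ := hz2.exists_le_sylow
  have hzS : z ∈ (S : Subgroup G) := hS (mem_zpowers z)
  have c := h.cz hC h2 hN
  have hsc := h.closed hC h2 hN S hz hzS
  have hnc : ¬ IsMulCommutative X := by
    intro h2
    exact f.na fun x hx y hy => congrArg Subtype.val (h2.is_comm.comm ⟨x, hx⟩ ⟨y, hy⟩)
  obtain ⟨g, h3, h4⟩ := GH.QA.not_isolated f.sim hnc (u := (⟨z, hX z hz⟩ : X))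
    (Subtype.ext (h.zz_sq hz)) (fun h2 => h.zz_ne hz (congrArg Subtype.val h2))
  have h3' : z * (g * z * (g : G)⁻¹) = g * z * (g : G)⁻¹ * z := congrArg Subtype.val h3
  have h4' : z ≠ g * z * (g : G)⁻¹ := fun h5 => h4 (Subtype.ext h5.symm)
  have hcp : CP Om z (g * z * (g : G)⁻¹) := hC _ (h.zz_cj hz g) z hz h4' h3'
  obtain ⟨P, Q, R, k1, k2, k3, k4, k5, k6, k7, k8⟩ := h.exists_two (h2 z hz) f.nor g.2 hz hcp
  refine false_of_two f gold hB S (A := AZ (ZZ Om) z) ?_ ?_ (fun x hx y hy => c.AZ_comm hz x hx y hy) hsc k1 k2 k3 k4 k5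
    k6 k7 k8
  · intro h5
    have h6 := ComZ.self_mem hz
    rw [h5, mem_bot] at h6
    exact h.zz_ne hz h6
  · rw [AZ, closure_le]
    rintro u ⟨hu, -⟩
    exact hX u hu

end WR

end Cfsg.Agent.Cit.Nil.RG
end

-- part: Cit/Nil/CVT/RkThree_mg
section

end

-- part: Cit/Nil/CVA2/Conn
section
set_option linter.all false
open scoped Cfsg.Agent.FastGrp

/-!
# (6b)(CV), components of type `A2`: the blocks lie in one class (CONN)

* `conn_nil` : the case `zz K ∈ O_2(X)`;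
* `Conn0Stmt`, `ElemStmt` : (CONN0), (E);
* `exists_quot` : the quotient `X / O_2(X)` if `zz K ∉ O_2(X)`;
* `conn` : **all members of the block of `K` in `X` lie in the class of `K`**.
-/

set_option autoImplicit false
set_option linter.style.haveILetI false
set_option linter.unusedSectionVars false

namespace Cfsg.Agent.Cit.Nil.CVA2

open Subgroup Cfsg Cit Tau CV CV1 CVT Cfsg.Agent.Cit.Comp
open Cfsg.Agent.Cit.Nil.ROne (FSimp)

universe u

/-! ### The nilpotent case -/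

section nil

variable {G : Type*} [Group G] [Finite G] {Om : Set (Subgroup G)} {U : Subgroup G → Subgroup G}
  {A H K L M N T X : Subgroup G} {g v w x y : G}

/-- the elements of `X` which preserve the classes of the members of the block -/
def stab (Om : Set (Subgroup G)) (hyp : Hyp Om) (K X : Subgroup G) : Subgroup X where
  carrier := {g | ∀ L ∈ BL K X, Cl Om L (cj (g : G) L)}
  one_mem' := fun L _ => by
    rw [Subgroup.coe_one, cj_one]
    exact Cl.refl L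
  mul_mem' := by
    intro a b ha hb L hL
    have h1 : cj (b : G) L ∈ BL K X := by
      obtain ⟨c, hc, rfl⟩ := hL
      exact ⟨b * c, X.mul_mem b.2 hc, by rw [cj_mul]⟩
    rw [Subgroup.coe_mul, cj_mul]
    exact (hb L hL).trans (ha _ h1)
  inv_mem' := by
    intro a ha L hL
    have h1 : cj ((a : G)⁻¹) L ∈ BL K X := by
      obtain ⟨c, hc, rfl⟩ := hL
      exact ⟨(a : G)⁻¹ * c, X.mul_mem (X.inv_mem a.2) hc, by rw [cj_mul]⟩
    have h2 := ha _ h1
    rw [cj_cj_inv] at h2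
    rw [Subgroup.coe_inv]
    exact h2.symm

/-- the case `zz K ∈ O_2(X)` -/
theorem conn_nil (e : Elem Om U) (hK : K ∈ Om) (hKX : K ≤ X)
    (hgen : normalClosure ((K.subgroupOf X : Subgroup X) : Set X) = ⊤)
    (hz : zz (K.subgroupOf X) ∈ pCore 2 X) : ∀ L ∈ BL K X, Cl Om K L := by
  have hyp := e.cvw.hyp
  have hmem : ∀ L ∈ BL K X, L ∈ Om := fun L hL => BL_mem e.cvw hK hL
  -- the `zz`s lie in `O_2(X)`
  have hzT : ∀ L ∈ BL K X, zz L ∈ (pCore 2 X).map X.subtype := by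
    rintro _ ⟨g, hg, rfl⟩
    rw [hyp.zz_cj hK]
    have h1 := zz_map hyp (subgroupOf_mem_restr hK hKX)
    rw [map_subgroupOf_eq_of_le hKX] at h1
    refine ⟨(⟨g, hg⟩ * zz (K.subgroupOf X) * ⟨g, hg⟩⁻¹ :), (Lib.Cores.pCore_normal 2).conj_mem _ hz _, ?_⟩
    change g * ((zz (K.subgroupOf X) : X) : G) * g⁻¹ = _
    rw [h1]
  have hT : IsPGroup 2 ((pCore 2 X).map X.subtype) := by
    haveI : Fact (Nat.Prime 2) := ⟨Nat.prime_two⟩
    exact (Lib.Cores.pCore_isPGroup 2).map _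
  -- the members of the block lie in the stabiliser
  have hst : ∀ M ∈ BL K X, ∀ y ∈ M, ∀ L ∈ BL K X, Cl Om L (cj y L) := by
    intro M hM y hy L hL
    by_cases ho : Orth L M
    · have h1 : cj y L = L := by
        refine mem_normalizer_iff_cj.1 ?_
        rw [mem_normalizer_iff]
        intro x
        constructor
        · intro hx
          rw [← ho.2 x hx y hy, mul_inv_cancel_right]
          exact hx
        · intro hx
          have h2 := ho.2 _ hx y hy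
          have h3 : x = y * x * y⁻¹ := by
            have h4 : y⁻¹ * (y * x * y⁻¹ * y) * y⁻¹ = y⁻¹ * (y * (y * x * y⁻¹)) * y⁻¹ := by rw [h2]
            have h5 : y⁻¹ * (y * x * y⁻¹ * y) * y⁻¹ = x * y⁻¹ := by group
            have h6 : y⁻¹ * (y * (y * x * y⁻¹)) * y⁻¹ = y * x * y⁻¹ * y⁻¹ := by group
            rw [h5, h6] at h4
            exact mul_right_cancel h4
          rw [h3]
          exact hx
      rw [h1]
      exact Cl.refl L
    · have h1 : Cl Om L M := e.chain _ hT L (hmem L hL) M (hmem M hM) (hzT L hL) (hzT M hM) ho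
      have h2 := h1.cj hyp y
      rw [mem_normalizer_iff_cj.1 (le_normalizer hy)] at h2
      exact h1.trans h2.symm
  have htop : stab Om hyp K X = ⊤ := by
    rw [eq_top_iff, ← hgen, normalClosure, closure_le]
    intro x hx
    rw [Group.mem_conjugatesOfSet_iff] at hx
    obtain ⟨a, ha, hax⟩ := hx
    obtain ⟨g, rfl⟩ := isConj_iff.1 hax
    intro L hL
    refine hst (cj (g : G) K) ⟨g, g.2, rfl⟩ _ ?_ L hL
    exact conj_mem_cj (mem_subgroupOf.1 ha)
  rintro _ ⟨g, hg, rfl⟩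
  have h1 : (⟨g, hg⟩ : X) ∈ stab Om hyp K X := by rw [htop]; exact mem_top _
  exact h1 K self_mem_BL

end nil

/-! ### The statements (CONN0) and (E) -/

/-- (CONN0) -/
def Conn0Stmt : Prop := ∀ (G : Type u) [Group G] [Finite G] (Om : Set (Subgroup G)) (U : Subgroup G → Subgroup G)
  (F : Subgroup G), Elem Om U → (∀ K ∈ Om, ∀ L ∈ Om, ∃ g, L = cj g K) → Om.Nonempty → FSimp F →
  pPrimeCore 2 G = ⊥ → EvQ G → (∀ K ∈ Om, ∀ L ∈ Om, ¬ Orth K L) → ∀ (r : Subgroup G → Subgroup G → Prop),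
  (∀ K L, r K L → r L K) → (∀ K L M, r K L → r L M → r K M) → (∀ K ∈ Om, r K K) →
  (∀ g K L, r K L → r (cj g K) (cj g L)) → (∀ K L, Lkd Om K L → r K L) → ∀ K ∈ Om, ∀ L ∈ Om, r K L

/-- (E) -/
def ElemStmt : Prop := ∀ (G : Type u) [Group G] [Finite G] (Om : Set (Subgroup G)) (U : Subgroup G → Subgroup G),
  CVA.AW Om U → Elem Om U

/-! ### The quotient by `O_2(X)` -/

section quot

variable {G : Type u} [Group G] [Finite G] {Om : Set (Subgroup G)} {U : Subgroup G → Subgroup G}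
  {A H K L M N T X : Subgroup G} {g v w x y : G}

/-- `O_2(X / O_2(X)) = 1` -/
theorem pCore_quot {X : Type*} [Group X] [Finite X] {X' : Type*} [Group X'] [Finite X'] {f : X →* X'}
    (hf : Function.Surjective f) (hker : f.ker = pCore 2 X) : pCore 2 X' = ⊥ := by
  haveI : Fact (Nat.Prime 2) := ⟨Nat.prime_two⟩
  have h5 : (pCore 2 X').comap f ≤ pCore 2 X := by
    refine Lib.Cores.le_pCore ((Lib.Cores.pCore_normal 2).comap _) ?_
    refine (Lib.Cores.pCore_isPGroup 2).comap_of_ker_isPGroup _ ?_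
    rw [hker]
    exact Lib.Cores.pCore_isPGroup 2
  rw [eq_bot_iff]
  intro y hy
  obtain ⟨x, rfl⟩ := hf y
  have h6 : x ∈ f.ker := by rw [hker]; exact h5 hy
  exact mem_bot.2 (MonoidHom.mem_ker.1 h6)

/-- **the quotient world**: the data for a member `K` of `X` with `zz K ∉ O_2(X)` -/
structure QX (Om : Set (Subgroup G)) (U : Subgroup G → Subgroup G) (X K : Subgroup G) {X' : Type u} [Group X']
    (f : X →* X') (F : Subgroup X') : Prop extends LX Om U X K f where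
  ker : f.ker = pCore 2 X
  O1 : pPrimeCore 2 X' = ⊥
  O2 : pCore 2 X' = ⊥
  fs : FSimp F
  no' : ∀ L' ∈ cls ((K.subgroupOf X).map f), ∀ M' ∈ cls ((K.subgroupOf X).map f), ¬ Orth L' M'
  hex : ∃ L' ∈ cls ((K.subgroupOf X).map f), ∃ M' ∈ cls ((K.subgroupOf X).map f), L' ≠ M' ∧
      zz L' * zz M' = zz M' * zz L'
  e' : Elem (cls ((K.subgroupOf X).map f)) (imgU f (cls (K.subgroupOf X)) (uH X U))

theorem exists_quot (hE : ElemStmt.{u}) (hev : ∀ (G : Type u) [Group G] [Finite G], EvQ G) (e : Elem Om U)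
    (ih : TLt.{u} (Nat.card G)) (hK : K ∈ Om) (hKX : K ≤ X) (tw : TW (K.subgroupOf X) (uH X U)) (hX : X ≠ ⊤)
    (hz : zz (K.subgroupOf X) ∉ pCore 2 X) :
    ∃ (X' : Type u) (_ : Group X') (_ : Finite X') (f : X →* X') (F : Subgroup X'), QX Om U X K f F := by
  haveI : Fact (Nat.Prime 2) := ⟨Nat.prime_two⟩
  haveI hPn : (pCore 2 X).Normal := Lib.Cores.pCore_normal 2
  have hcard : Nat.card X < Nat.card G := by
    rw [← card_top (G := G)]
    have h2 : (X : Set G) ⊂ ((⊤ : Subgroup G) : Set G) := by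
      rw [Set.ssubset_def]
      refine ⟨fun x _ => mem_top x, fun hh => hX ?_⟩
      rw [eq_top_iff]
      exact hh
    exact Set.Finite.card_lt_card (Set.toFinite _) h2
  obtain ⟨f, hf⟩ : ∃ f, f = QuotientGroup.mk' (pCore 2 X) := ⟨_, rfl⟩
  have hsur : Function.Surjective f := by rw [hf]; exact QuotientGroup.mk'_surjective _
  have hker : f.ker = pCore 2 X := by rw [hf]; exact QuotientGroup.ker_mk' _
  have hcen := core_central tw hz
  have htwo : IsPGroup 2 f.ker := by rw [hker]; exact Lib.Cores.pCore_isPGroup 2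
  have hno : ∀ L ∈ cls (K.subgroupOf X), ∀ M ∈ cls (K.subgroupOf X), ¬ Orth L M := by
    have h1 := (ih X _ _ hcard tw).resolve_left hz
    rintro _ ⟨a, rfl⟩ M hM ho
    have h2 : Orth (K.subgroupOf X) (cj a⁻¹ M) := by
      have h3 := orth_cj ho a⁻¹
      rwa [cj_inv_cj] at h3
    refine h1 _ ?_ h2
    obtain ⟨b, rfl⟩ := hM
    exact ⟨a⁻¹ * b, by rw [cj_mul]⟩
  have c : LX Om U X K f :=
    { e := e, hK := hK, KX := hKX, tw := tw, no := hno, sur := hsur, cen := by rw [hker]; exact hcen,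
      two := htwo, hz := by rw [hker]; exact hz }
  have tw' : TW ((K.subgroupOf X).map f) (imgU f (cls (K.subgroupOf X)) (uH X U)) := c.tw'
  have hz' : zz ((K.subgroupOf X).map f) ∉ pCore 2 (X ⧸ pCore 2 X) := not_mem_pCore_quot tw hz hsur hker
  have hcard' : Nat.card (X ⧸ pCore 2 X) < Nat.card G := by
    refine lt_of_le_of_lt ?_ hcard
    exact Nat.card_le_card_of_surjective f hsur
  have hno' : ∀ L' ∈ cls ((K.subgroupOf X).map f), ∀ M' ∈ cls ((K.subgroupOf X).map f), ¬ Orth L' M' := by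
    have h1 := (ih _ _ _ hcard' tw').resolve_left hz'
    rintro _ ⟨a, rfl⟩ M hM ho
    have h2 : Orth ((K.subgroupOf X).map f) (cj a⁻¹ M) := by
      have h3 := orth_cj ho a⁻¹
      rwa [cj_inv_cj] at h3
    refine h1 _ ?_ h2
    obtain ⟨b, rfl⟩ := hM
    exact ⟨a⁻¹ * b, by rw [cj_mul]⟩
  have hO2 := pCore_quot hsur hker
  obtain ⟨F, hF, -⟩ := exists_fsimp tw'.odd hO2 (hev _) tw'.cvw tw'.gen
  have hex : ∃ L' ∈ cls ((K.subgroupOf X).map f), ∃ M' ∈ cls ((K.subgroupOf X).map f), L' ≠ M' ∧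
      zz L' * zz M' = zz M' * zz L' := by
    have hKm := self_mem_cls ((K.subgroupOf X).map f)
    obtain ⟨E, hEc, hEz⟩ := exists_comp tw'.odd hO2 tw'.cvw hKm
    obtain ⟨x, -, h1, h2⟩ := exists_conj tw'.odd hO2 (hev _) tw'.cvw hKm hEc hEz
    refine ⟨_, hKm, cj x ((K.subgroupOf X).map f), ⟨x, rfl⟩, ?_, ?_⟩
    · intro h3
      apply h2
      rw [← tw'.cvw.hyp.zz_cj hKm, ← h3]
    · rw [tw'.cvw.hyp.zz_cj hKm]
      exact h1
  exact ⟨_, inferInstance, inferInstance, f, F,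
    { toLX := c, ker := hker, O1 := tw'.odd, O2 := hO2, fs := hF, no' := hno', hex := hex,
      e' := hE _ _ _ (c.aw hno' hex) }⟩

/-- (CONN) in the quotient -/
theorem QX.conn (h0 : Conn0Stmt.{u}) (hev : ∀ (G : Type u) [Group G] [Finite G], EvQ G) {X' : Type u} [Group X']
    [Finite X'] {f : X →* X'} {F : Subgroup X'} (q : QX Om U X K f F) {L : Subgroup X}
    (hL : L ∈ cls (K.subgroupOf X)) : Cl Om K (L.map X.subtype) := by
  have c := q.toLX
  have hyp := q.e.cvw.hyp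
  obtain ⟨r, hr⟩ : ∃ r : Subgroup X' → Subgroup X' → Prop, r = fun A B => ∃ L ∈ cls (K.subgroupOf X),
      ∃ M ∈ cls (K.subgroupOf X), A = L.map f ∧ B = M.map f ∧ Cl Om (L.map X.subtype) (M.map X.subtype) := ⟨_, rfl⟩
  have h1 := h0 X' _ _ F q.e' (by
    rintro _ ⟨a, rfl⟩ _ ⟨b, rfl⟩
    exact ⟨b * a⁻¹, by rw [← cj_mul, inv_mul_cancel_right]⟩) ⟨_, self_mem_cls _⟩ q.fs q.O1 (hev X') q.no' r
    (by
      rw [hr]
      rintro A B ⟨L, hL, M, hM, h2, h3, h4⟩
      exact ⟨M, hM, L, hL, h3, h2, h4.symm⟩)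
    (by
      rw [hr]
      rintro A B C ⟨L, hL, M, hM, h2, h3, h4⟩ ⟨M', hM', N, hN, h5, h6, h7⟩
      have h8 : M = M' := c.map_inj hM hM' (by rw [← h3, h5])
      subst h8
      exact ⟨L, hL, N, hN, h2, h6, h4.trans h7⟩)
    (by
      rw [hr]
      intro A hA
      obtain ⟨L, hL, rfl⟩ := c.exists_pre hA
      exact ⟨L, hL, L, hL, rfl, rfl, Cl.refl _⟩)
    (by
      rw [hr]
      rintro g' A B ⟨L, hL, M, hM, rfl, rfl, h4⟩
      obtain ⟨g, rfl⟩ := c.sur g'
      refine ⟨cj g L, c.tw.cvw.hyp.conj L hL g, cj g M, c.tw.cvw.hyp.conj M hM g, by rw [cj_map], by rw [cj_map], ?_⟩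
      have h5 := h4.cj hyp (g : G)
      rw [cj_map, cj_map]
      exact h5)
    (by
      rw [hr]
      intro A B h2
      obtain ⟨L, hL, rfl⟩ := c.exists_pre h2.mK
      obtain ⟨M, hM, rfl⟩ := c.exists_pre h2.mL
      have h3 := h2.comm
      rw [c.zz_map' hL, c.zz_map' hM] at h3
      exact ⟨L, hL, M, hM, rfl, rfl, Cl.step (c.lkd hL hM (fun h => h2.ne (by rw [h])) (c.lift hL hM h3))⟩)
    ((K.subgroupOf X).map f) (self_mem_cls _) (L.map f) (by
      rw [← img_cls c.sur]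
      exact ⟨L, hL, rfl⟩)
  rw [hr] at h1
  obtain ⟨L1, hL1, M1, hM1, h2, h3, h4⟩ := h1
  have h5 : K.subgroupOf X = L1 := c.map_inj (self_mem_cls _) hL1 h2
  have h6 : L = M1 := c.map_inj hL hM1 h3
  rw [← h5, ← h6, map_subgroupOf_eq_of_le q.KX] at h4
  exact h4

/-- **(CONN)**: the block of `K` lies in the class of `K` -/
theorem conn (hE : ElemStmt.{u}) (h0 : Conn0Stmt.{u}) (hev : ∀ (G : Type u) [Group G] [Finite G], EvQ G)
    (e : Elem Om U) (ih : TLt.{u} (Nat.card G)) (hX : SNC H K X) (hK : K ∈ Om) (hH : pPrimeCore 2 H = ⊥)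
    (hXt : X ≠ ⊤) : ∀ L ∈ BL K X, Cl Om K L := by
  have tw : TW (K.subgroupOf X) (uH X U) := hX.tw e.cvw hK hH
  by_cases hz : zz (K.subgroupOf X) ∈ pCore 2 X
  · exact conn_nil e hK hX.KX hX.gen hz
  · obtain ⟨X', i1, i2, f, F, q⟩ := exists_quot hE hev e ih hK hX.KX tw hXt hz
    intro L hL
    have h1 := q.conn h0 hev (subgroupOf_mem_cls hX.KX hL)
    rwa [map_subgroupOf_eq_of_le (BL_le hX.KX hL)] at h1

end quot

end Cfsg.Agent.Cit.Nil.CVA2
end

-- part: Cit/Nil/CVA2/Conn0S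
section
set_option linter.all false

/-!
# (6b)(CV), components of type `A2`: `Conn0Stmt`
-/

set_option autoImplicit false

namespace Cfsg.Agent.Cit.Nil.CVA2

open Subgroup Cfsg Cit Tau CV CV1 CVT Cfsg.Agent.Cit.Comp

universe u

/-- **`Conn0Stmt`** -/
theorem conn0Stmt (h75 : ∀ (X : Type u) [Group X] [Finite X] [IsSimpleGroup X], CloEnd.Crit1175 X)
    (hB : ∀ (X : Type u) [Group X] [Finite X] [IsSimpleGroup X], CloEnd.Bend X) : Conn0Stmt.{u} := by
  intro G _ _ Om U F e one hne f hO hev no r rs rt rr rc rl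
  haveI := f.sim
  exact conn0 e one hne f hO hev no (h75 F) (hB F) rs rt rr rc rl

end Cfsg.Agent.Cit.Nil.CVA2
end

-- part: Cit/Nil/CVA2/ZF
section
set_option linter.all false

/-!
# (6b)(CV): the involutions `zz K` lie in the simple normal subgroup

* `zF` : `zz K ∈ F`, for every world `CVW`.
-/

set_option autoImplicit false
set_option linter.style.haveILetI false
set_option linter.unusedSectionVars false

namespace Cfsg.Agent.Cit.Nil.CVA2

open Subgroup Cfsg Cit Tau CV CV1 CVT Cfsg.Agent.Cit.Comp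
open Cfsg.Agent.Cit.Nil.ROne (FSimp)

variable {G : Type*} [Group G] [Finite G] {Om : Set (Subgroup G)} {U : Subgroup G → Subgroup G} {F : Subgroup G}

/-- **`zz K ∈ F`** -/
theorem zF_of (h : CVW Om U) (f : FSimp F) (h2 : 2 ∣ Nat.card F) : ∀ K ∈ Om, zz K ∈ F :=
  fun _ hK => CVW.mem_of_fsimp h f h2 hK

end Cfsg.Agent.Cit.Nil.CVA2
end

-- part: Cit/Nil/CVA2/A2
section
set_option linter.all false
open scoped Cfsg.Agent.FastGrp

/-!
# (6b)(CV), components of type `A2`: the assembly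

* `elemStmt`, `conn0Stmt` ;
* `F5Stmt` : linked members have the same orthogonal members;
* `a2` : in the simple case, core-free, with all components of type `A2`, there are no orthogonal members;
* `a2_of` : the same from the external theorems.
-/

set_option autoImplicit false
set_option linter.style.haveILetI false
set_option linter.unusedSectionVars false

namespace Cfsg.Agent.Cit.Nil.CVA2

open Subgroup Cfsg Cit Tau CV CV1 CVT Cfsg.Agent.Cit.Comp
open Cfsg.Agent.Cit.Nil.ROne (FSimp)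

universe u

theorem elemStmt : ElemStmt.{u} := fun _ _ _ _ _ c => CVA.elem c

/-- **(F5)** : linked members have the same orthogonal members -/
def F5Stmt : Prop := ∀ (G : Type u) [Group G] [Finite G] (K : Subgroup G) (U : Subgroup G → Subgroup G)
  (F : Subgroup G), SC K U F → (∀ t : G, orderOf t = 2 → centralizerPPrimeCore 2 t = ⊥) → CVA.AW (cls K) U →
  ∀ M L N, Lkd (cls K) M L → N ∈ cls K → Orth M N → Orth L N

/-- a simple normal subgroup with trivial centraliser: the centre is trivial -/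
theorem cent_ne_top {G : Type*} [Group G] {F : Subgroup G} (f : FSimp F) {e : G} (he : e ≠ 1) :
    centralizer ({e} : Set G) ≠ ⊤ := by
  intro h
  apply he
  have h1 : e ∈ centralizer (F : Set G) := by
    rw [mem_centralizer_iff]
    intro x _
    exact mem_centralizer_singleton_iff.1 (by rw [h]; exact mem_top x)
  rwa [f.cen, mem_bot] at h1

/-- **the case `A2`** -/
theorem a2 (hev : ∀ (G : Type u) [Group G] [Finite G], EvQ G)
    (c75 : ∀ (X : Type u) [Group X] [Finite X] [IsSimpleGroup X], CloEnd.Crit1175 X) (h0 : Conn0Stmt.{u})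
    (h5 : F5Stmt.{u}) {G : Type u} [Group G] [Finite G] {K F : Subgroup G} {U : Subgroup G → Subgroup G} (s : SC K U F)
    (hcf : ∀ t : G, orderOf t = 2 → centralizerPPrimeCore 2 t = ⊥)
    (hr : ∀ A, IsA (cls K) U A → RkTwo (cls K) U A) : ∀ L ∈ cls K, ¬ Orth K L := by
  intro L hL ho
  have w : CVA.AW (cls K) U := ⟨s.cvw, hr⟩
  have e : Elem (cls K) U := CVA.elem w
  haveI := s.f.sim
  refine false_of e cls_conj s.f (zF_of s.cvw s.f s.even) (h5 G K U F s hcf w) ?_ ⟨K, self_mem_cls K, L, hL, ho⟩ (c75 F)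
  intro u hu M hM hMu
  obtain ⟨X, hX⟩ := exists_snc hMu
  have hu1 : u ≠ 1 := by
    rintro rfl
    rw [orderOf_one] at hu
    exact absurd hu (by norm_num)
  refine ⟨X, hX, conn elemStmt h0 hev e s.ih hX hM (pPrimeCore_cent (hcf u hu)) ?_⟩
  intro hXt
  exact cent_ne_top s.f hu1 (top_le_iff.1 (hXt.symm.trans_le hX.XH))

/-- `F5Stmt` -/
theorem f5Stmt_of (h1173 : ∀ (G : Type u) [Group G] [Finite G], oddCore G = ⊥ → OneF.H1173 G)
    (h1171 : ∀ (G : Type u) [Group G] [Finite G], OneF.H1171 G) (hev : ∀ (G : Type u) [Group G] [Finite G], EvQ G) :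
    F5Stmt.{u} := by
  intro G _ _ K U F s hcf w M L N hl hN ho
  have ne1 : ∀ {t : G}, orderOf t = 2 → t ≠ 1 := by
    rintro t ht rfl
    rw [orderOf_one] at ht
    exact absurd ht (by norm_num)
  refine f5 h1173 h1171 hev s.ih (CVA.elem w) (fun t ht => pPrimeCore_cent (hcf t ht))
    (fun t ht => cent_ne_top s.f (ne1 ht)) ?_ hl hN ho
  intro M hM
  obtain ⟨v, hv, hv4⟩ := s.cvw.exists_v hM
  obtain ⟨A, hA, hvA, -⟩ := w.exists_A2 (w.rt_root hM hv hv4) (w.rt_root hM hv hv4) rfl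
  obtain ⟨x, hx, hlk⟩ := w.exists_lk hA hvA
  obtain ⟨-, -, L, hL, hxL⟩ := id hx
  exact ⟨L, w.lkd_of ⟨hM, hL, A, hA, v, hv, x, hxL, hvA, hx, hlk⟩⟩

/-- **the case `A2`, from the external theorems** -/
theorem a2_of (h1173 : ∀ (G : Type u) [Group G] [Finite G], oddCore G = ⊥ → OneF.H1173 G)
    (h1171 : ∀ (G : Type u) [Group G] [Finite G], OneF.H1171 G) (hev : ∀ (G : Type u) [Group G] [Finite G], EvQ G)
    (c75 : ∀ (X : Type u) [Group X] [Finite X] [IsSimpleGroup X], CloEnd.Crit1175 X) (bend : BendStmt.{u})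
    {G : Type u} [Group G] [Finite G] {K F : Subgroup G} {U : Subgroup G → Subgroup G} (s : SC K U F)
    (hcf : ∀ t : G, orderOf t = 2 → centralizerPPrimeCore 2 t = ⊥)
    (hr : ∀ A, IsA (cls K) U A → RkTwo (cls K) U A) : ∀ L ∈ cls K, ¬ Orth K L :=
  a2 hev c75 (conn0Stmt c75 bend) (f5Stmt_of h1173 h1171 hev) s hcf hr

end Cfsg.Agent.Cit.Nil.CVA2
end

-- part: Cit/Nil/CompR/SecBlkW
section
set_option linter.all false

/-!
# S1309 (n6), COMP, `r = 2`, the section of a block: the input world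

`SBlk Om` (for `G` = the stabiliser of the block, `Om` = the members over the block).
-/

set_option autoImplicit false

namespace Cfsg.Agent.Cit.Nil.CompR

open Subgroup Cfsg Cfsg.Agent.Cit Cfsg.Agent.Cit.Nil.RTwo

/-- the input of the section theorem: `B = ⟨Om⟩` core-free, `Om` connected and not nil in `B` -/
structure SBlk {G : Type*} [Group G] [Finite G] (Om : Set (Subgroup G)) : Prop where
  w : W2 Om
  core : pPrimeCore 2 ↥(sSup Om : Subgroup G) = ⊥
  conn : ∀ K ∈ Om, ∀ L ∈ Om, L ∈ IndDefs.comp Om K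
  nnil : ∀ K ∈ restr Om (sSup Om), ¬ IndDefs.NIL K
  c3 : C3E Om
  n3 : ∀ K ∈ Om, ¬ IndDefs.Three K

end Cfsg.Agent.Cit.Nil.CompR
end
end
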