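import Cfsg.Agent.Cit.Nil.RFour.Gen_m3
import Cfsg.Agent.Cit.Nil.Three.Lem_m3
import Cfsg.Agent.Cit.Nil.Comp.MThreeAbs
import Cfsg.Agent.Cit.Nil.RG.TZero
import Cfsg.Agent.Cit.Nil.LO.FormQ_m3
import Cfsg.Agent.Lib.Cores
import Cfsg.Agent.Cit.Nil.RI.Closed_m3
import Cfsg.Agent.Cit.FamFb_m3
import Cfsg.Agent.FastGrp
import Cfsg.Agent.Prune
set_option linter.all false

section
prune_inst 0x7ffcfefbaffcbfffffff7fffffffdffff9fdffffffdffffbfffdffffffff6fefffe7fbaffffcdefffef7e2bcb4f87b53fdffef7fef6bdd7ffffd5ff45fffff9fffffbfac71ffbcbe1ffe7ffffbfb7fffffffffffffffffffffffffffffffffffffffffffffff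

-- part: Cit/Nil/CompR/BThLift
section
set_option linter.all false
open scoped Cfsg.Agent.FastGrp

/-!
# Lifting from the quotient world, `r = 2`, `m = 1`

`Om` : a world `W2` over `M`, `f : M →* Y` with `QM Om f` (kernel = centraliser of the members).

* `QM.w2` : the images form a world `W2`;
* `QM.pt_inj`, `QM.exists_pt`, `QM.comm_lift`, `QM.fx_lift`, `QM.inn_lift`, `QM.ti_lift` : points, commuting, type I;
* `QM.fx_map`, `QM.inn_map`, `QM.ti_map` : the converses;
* **`QM.bth_lift`** : `BTh (img f Om) (f a)` implies `BTh Om a`.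
-/

set_option autoImplicit false
set_option linter.style.haveILetI false
set_option linter.unusedSectionVars false

namespace Cfsg.Agent.Cit.Nil.RTwoM.Quo.QM

open Subgroup Cfsg Cit IndDefs RTwo

variable {M Y : Type*} [Group M] [Group Y] [Finite M] {Om : Set (Subgroup M)} {K L : Subgroup M} {f : M →* Y}
  (q : QM Om f) (h : W2 Om) {a g x y : M}

include q h

/-- the points of `M` inject -/
theorem pt_inj (hx : InZ Om x) (hy : InZ Om y) (e : f x = f y) : x = y := by
  obtain ⟨K, hK, rfl⟩ := hx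
  obtain ⟨L, hL, rfl⟩ := hy
  rcases q.fib hK hL e with h1 | h1
  · rw [h1]
  · exact h.one K hK L hL h1

/-- the images form a world `W2` -/
theorem w2 : W2 (img f Om) where
  hyp := q.hyp_img
  card := by
    rintro _ ⟨K, hK, rfl⟩
    exact q.card_map hK
  two := by
    rintro _ ⟨K, hK, rfl⟩
    obtain ⟨L, hL, hne, hz, hall⟩ := h.two K hK
    refine ⟨L.map f, ⟨L, hL, rfl⟩, fun e => hne (q.map_inj hL hK (by rw [e])), ?_, ?_⟩
    · rw [q.zz_map hK, q.zz_map hL, hz]
    · rintro _ ⟨N, hN, rfl⟩ e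
      rw [q.zz_map hK, q.zz_map hN] at e
      have h1 : zz N = zz K := q.pt_inj h ⟨N, hN, rfl⟩ ⟨K, hK, rfl⟩ e
      rcases hall N hN h1 with h2 | h2
      · left; rw [h2]
      · right; rw [h2]
  one := by
    rintro _ ⟨K, hK, rfl⟩ _ ⟨L, hL, rfl⟩ hc
    rw [q.zz_map hK, q.zz_map hL, h.one K hK L hL (q.cm_lift hK hc)]

omit h in
theorem mem_map (hK : Mem Om x K) : Mem (img f Om) (f x) (K.map f) :=
  ⟨⟨K, hK.1, rfl⟩, by rw [q.zz_map hK.1, hK.2]⟩

omit h in
theorem inZ_map (hx : InZ Om x) : InZ (img f Om) (f x) := by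
  obtain ⟨K, hK⟩ := hx
  exact ⟨_, q.mem_map hK⟩

omit h in
theorem exists_pt {w : Y} (hw : InZ (img f Om) w) : ∃ x, InZ Om x ∧ f x = w := by
  obtain ⟨_, ⟨K, hK, rfl⟩, rfl⟩ := hw
  exact ⟨zz K, ⟨K, hK, rfl⟩, by rw [q.zz_map hK]⟩

/-- (Q) -/
theorem comm_lift (hx : InZ Om x) (e : f g * f x = f x * f g) : g * x = x * g := by
  have h1 : f (g * x * g⁻¹) = f x := by
    rw [map_mul, map_mul, map_inv, e, mul_inv_cancel_right]
  have h2 := q.pt_inj h (hx.conj h g) hx h1
  rwa [mul_inv_eq_iff_eq_mul] at h2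

omit h in
theorem fx_lift (hf : Fx (img f Om) (f x) (f g)) : Fx Om x g := by
  intro K hK
  exact q.cj_lift hK.1 hK.1 (hf _ (q.mem_map hK))

theorem inn_lift (hi : Inn (img f Om) (f x) (f g)) : Inn Om x g := by
  haveI : Finite Y := Finite.of_surjective f q.surj
  have h1 : Fx Om x g := q.fx_lift (hi.fx (q.w2 h))
  intro K hK k hk
  have h2 : g * k * g⁻¹ ∈ K := by
    have := conj_mem_cj (g := g) hk
    rwa [h1 K hK] at this
  rcases hi _ (q.mem_map hK) (f k) ⟨k, hk, rfl⟩ with h3 | h3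
  · left
    have h4 : f (g * k * g⁻¹ * k⁻¹) = 1 := by
      rw [map_mul, map_mul, map_mul, map_inv, map_inv, h3, mul_inv_cancel]
    exact mul_inv_eq_one.1 (q.inj hK.1 (mul_mem h2 (inv_mem hk)) h4)
  · right
    have h4 : f (g * k * g⁻¹ * (x * k)⁻¹) = 1 := by
      rw [map_mul, map_mul, map_mul, map_inv, map_inv, h3, map_mul, mul_inv_cancel]
    have hx : x ∈ K := by rw [← hK.2]; exact q.hyp.zz_mem hK.1
    exact mul_inv_eq_one.1 (q.inj hK.1 (mul_mem h2 (inv_mem (mul_mem hx hk))) h4)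

theorem ti_lift (hx : InZ Om x) (hy : InZ Om y) (ht : TI (img f Om) (f x) (f y)) : TI Om x y :=
  ⟨hx, hy, fun e => ht.2.2.1 (by rw [e]), q.comm_lift h hy ht.2.2.2.1, q.inn_lift h ht.2.2.2.2⟩

/-- **(b3) lifts** -/
theorem bth_lift (ha : InZ Om a) (hb : BTh (img f Om) (f a)) : BTh Om a := by
  haveI : Finite Y := Finite.of_surjective f q.surj
  obtain ⟨s, t, b⟩ := hb
  obtain ⟨x, hx, rfl⟩ := q.exists_pt b.ts.2.1
  obtain ⟨y, hy, rfl⟩ := q.exists_pt b.tt.2.1
  have hxy : x * y = y * x := q.comm_lift h hy b.comm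
  have hfx : Fx Om x y := q.fx_lift b.fx
  have hne : x ≠ y := by
    rintro rfl
    have h1 := b.st.2.1
    rw [b.ts.2.1.z2 (q.w2 h)] at h1
    exact h1.z1 (q.w2 h) rfl
  have hxyZ : InZ Om (x * y) := by
    by_contra hn
    obtain ⟨K, hK⟩ := hx
    exact (pr_of_not h ⟨K, hK⟩ hy hne hxy hn).sw K hK (hfx K hK)
  refine ⟨x, y, q.ti_lift h ha hx b.ts, q.ti_lift h ha hy b.tt, q.ti_lift h ha hxyZ ?_, hxy, hfx⟩
  rw [map_mul]
  exact b.st

end Cfsg.Agent.Cit.Nil.RTwoM.Quo.QM
end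

-- part: Cit/Nil/CompFour/Base
section
prune_inst 0x4000000000000000000000000000000000000000000200000000000000080400000000000000000000000000020000000004020000000000000000000000000000000000000000000000000000000000000000000000000000000000000000000000
set_option linter.all false
open scoped Cfsg.Agent.FastGrp

-- part: Cit/Nil/RI/Def
section
/-!
# S1309, (6b), (C3), `r = 4`, any `m`: the setting (helper764, from helper449's `RFour/Def.lean`)

`RFour/Def.lean` without the hypothesis `one` (`m = 1`).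

* `WM Om` : members are quaternion of order 8, exactly four over each `z`;
* `Mem Om z K` : `K` is a member over `z`; `InZ Om z`;
* `Inn Om z g` : `g` acts trivially on `K/⟨z⟩` for the members `K` over `z` (`⟺ g ∈ R_z X_z`);
* `CX Om z = X_z`, `RZ Om z = R_z`;
* `Fr Om z K` : `K : Fin 4 → Subgroup G` enumerates the members over `z`;
* `InZ.comm_of_cent` : `t ∈ Z` centralising a member over `z ≠ t`: `(z, t)` is a C-pair;
* `TI Om z t` : type I.
-/

set_option autoImplicit false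
set_option linter.unusedSectionVars false

namespace Cfsg.Agent.Cit.Nil.RI

open Subgroup Cfsg Cfsg.Agent.Cit

open RTwo (Q3 Act i11 i12 i21 i22 i_ne1 i_ne2 i_ne12 i_cases i_cases3)

variable {G : Type*} [Group G]

/-- the world `r = 4` -/
structure WM (Om : Set (Subgroup G)) : Prop where
  hyp : Hyp Om
  card : ∀ K ∈ Om, Nat.card K = 8
  four : ∀ K ∈ Om, {L | L ∈ Om ∧ zz L = zz K}.ncard = 4

/-- `K` is a member over `z` -/
def Mem (Om : Set (Subgroup G)) (z : G) (K : Subgroup G) : Prop := K ∈ Om ∧ zz K = z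

/-- `K 0, …, K 3` are the members over `z` -/
structure Fr (Om : Set (Subgroup G)) (z : G) (K : Fin 4 → Subgroup G) : Prop where
  mem : ∀ i, Mem Om z (K i)
  inj : Function.Injective K
  cov : ∀ M, Mem Om z M → ∃ i, K i = M

/-- `z ∈ Z` -/
def InZ (Om : Set (Subgroup G)) (z : G) : Prop := ∃ K, Mem Om z K

/-- `g` acts on the members over `z` as an inner automorphism -/
def Inn (Om : Set (Subgroup G)) (z g : G) : Prop :=
  ∀ K, Mem Om z K → ∀ k ∈ K, g * k * g⁻¹ = k ∨ g * k * g⁻¹ = z * k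

/-- `X_z` -/
def CX (Om : Set (Subgroup G)) (z : G) : Subgroup G := centralizer {k | ∃ K, Mem Om z K ∧ k ∈ K}

/-- `R_z` -/
def RZ (Om : Set (Subgroup G)) (z : G) : Subgroup G := sSup {K | Mem Om z K}

variable {Om : Set (Subgroup G)} {K L M : Subgroup G} {g g' t x y z : G}

theorem mem_CX : g ∈ CX Om z ↔ ∀ K, Mem Om z K → ∀ k ∈ K, g * k = k * g := by
  rw [CX, mem_centralizer_iff]
  constructor
  · intro h K hK k hk
    exact (h k ⟨K, hK, hk⟩).symm
  · rintro h k ⟨K, hK, hk⟩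
    exact (h K hK k hk).symm

theorem Mem.inZ (h : Mem Om z K) : InZ Om z := ⟨K, h⟩

theorem Mem.le_RZ (h : Mem Om z K) : K ≤ RZ Om z := le_sSup h

theorem RZ_le (h : ∀ K, Mem Om z K → K ≤ M) : RZ Om z ≤ M := sSup_le fun K hK => h K hK

section Fin

variable [Finite G]

theorem WM.isPGroup (h : WM Om) (hK : K ∈ Om) : IsPGroup 2 K := by
  refine IsPGroup.of_card (n := 3) ?_
  rw [h.card K hK]; norm_num

/-- coordinates of a member -/
theorem WM.exists_q3 (h : WM Om) (hK : Mem Om z K) : ∃ x, Q3 K z x := by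
  obtain ⟨hK, rfl⟩ := hK
  obtain ⟨c, v, n, hgq⟩ := h.hyp.exists_gq hK (syl_self (h.isPGroup hK))
  have hn : n = 0 := by
    have h1 := hgq.card
    rw [h.card K hK] at h1
    have h2 : (2 : ℕ) ^ 3 = 2 ^ (n + 3) := by rw [← h1]; norm_num
    have h3 := Nat.pow_right_injective (le_refl 2) h2
    omega
  subst hn
  have hcc : c * c = zz K := by
    have h1 := hgq.w_sq
    rwa [pow_zero, pow_one] at h1
  have hvv : v * v = zz K := hgq.v_sq
  have hz2 : zz K * zz K = 1 := hgq.z_mul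
  have hzc : zz K * c = c * zz K := by rw [← hcc, mul_assoc]
  have hzv : zz K * v = v * zz K := by rw [← hvv, mul_assoc]
  have hci : c⁻¹ = zz K * c := by
    apply inv_eq_of_mul_eq_one_right
    rw [hzc, ← mul_assoc, hcc, hz2]
  have hvc : v * c = zz K * (c * v) := by
    have h1 := hgq.conj_pow 1
    rw [pow_one] at h1
    rw [h1, hci, mul_assoc]
  have hcvc : c * v * c = v := by
    rw [mul_assoc, hvc]
    calc c * (zz K * (c * v)) = (c * zz K) * (c * v) := by group
      _ = (zz K * c) * (c * v) := by rw [hzc]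
      _ = zz K * (c * c) * v := by group
      _ = v := by rw [hcc, hz2, one_mul]
  have hvcv : v * (c * v) = c := by
    calc v * (c * v) = (v * c) * v := by group
      _ = zz K * (c * v) * v := by rw [hvc]
      _ = zz K * (c * (v * v)) := by group
      _ = zz K * (c * zz K) := by rw [hvv]
      _ = zz K * (zz K * c) := by rw [hzc]
      _ = c := by rw [← mul_assoc, hz2, one_mul]
  -- powers of `c`
  have hpow : ∀ i : ℤ, c ^ i = 1 ∨ c ^ i = c ∨ c ^ i = zz K ∨ c ^ i = zz K * c := by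
    intro i
    have h4 : c ^ (4 : ℤ) = 1 := by
      have : c ^ (4 : ℤ) = (c * c) * (c * c) := by
        rw [show (4 : ℤ) = ((4 : ℕ) : ℤ) from rfl, zpow_natCast]
        simp only [pow_succ, pow_zero, one_mul, mul_assoc]
      rw [this, hcc, hz2]
    have h5 : c ^ i = c ^ (i % 4) := by
      conv_lhs => rw [← Int.emod_add_mul_ediv i 4, zpow_add, zpow_mul, h4, one_zpow, mul_one]
    have h6 : i % 4 = 0 ∨ i % 4 = 1 ∨ i % 4 = 2 ∨ i % 4 = 3 := by omega
    rw [h5]
    rcases h6 with h6 | h6 | h6 | h6 <;> rw [h6]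
    · left; exact zpow_zero c
    · right; left; exact zpow_one c
    · right; right; left
      have : c ^ (2 : ℤ) = c * c := by
        rw [show (2 : ℤ) = ((2 : ℕ) : ℤ) from rfl, zpow_natCast, pow_two]
      rw [this, hcc]
    · right; right; right
      have : c ^ (3 : ℤ) = (c * c) * c := by
        rw [show (3 : ℤ) = ((3 : ℕ) : ℤ) from rfl, zpow_natCast]
        simp only [pow_succ, pow_zero, one_mul]
      rw [this, hcc]
  refine ⟨![c, v, c * v], ?_, ?_, ?_, hz2, hgq.z_ne, ?_⟩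
  · intro m
    fin_cases m
    · exact hgq.c_mem
    · exact hgq.v_mem
    · exact mul_mem hgq.c_mem hgq.v_mem
  · intro m
    fin_cases m
    · exact hcc
    · exact hvv
    · show c * v * (c * v) = zz K
      rw [← mul_assoc, hcvc, hvv]
  · intro m
    fin_cases m
    · rfl
    · exact hvcv
    · exact hcvc
  · intro k hk
    rcases hgq.covZ hk with h1 | ⟨i, h1⟩
    · obtain ⟨i, hi⟩ := mem_zpowers_iff.1 h1
      rcases hpow i with h2 | h2 | h2 | h2
      · left; rw [← hi, h2]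
      · right; right; exact ⟨0, Or.inl (by rw [← hi, h2]; rfl)⟩
      · right; left; rw [← hi, h2]
      · right; right; exact ⟨0, Or.inr (by rw [← hi, h2]; rfl)⟩
    · rcases hpow i with h2 | h2 | h2 | h2
      · right; right; exact ⟨1, Or.inl (by rw [h1, h2, mul_one]; rfl)⟩
      · right; right; exact ⟨2, Or.inr (by rw [h1, h2, hvc]; rfl)⟩
      · right; right; exact ⟨1, Or.inr (by rw [h1, h2, ← hzv]; rfl)⟩
      · right; right
        refine ⟨2, Or.inl ?_⟩
        rw [h1, h2]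
        show v * (zz K * c) = c * v
        calc v * (zz K * c) = (v * zz K) * c := by group
          _ = (zz K * v) * c := by rw [hzv]
          _ = zz K * (v * c) := by group
          _ = c * v := by rw [hvc, ← mul_assoc, hz2, one_mul]

theorem InZ.exists_q3 (hz : InZ Om z) (h : WM Om) : ∃ K x, Mem Om z K ∧ Q3 K z x := by
  obtain ⟨K, hK⟩ := hz
  obtain ⟨x, hx⟩ := h.exists_q3 hK
  exact ⟨K, x, hK, hx⟩

theorem InZ.z2 (hz : InZ Om z) (h : WM Om) : z * z = 1 := by
  obtain ⟨K, x, -, hx⟩ := hz.exists_q3 h; exact hx.z2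

theorem InZ.z1 (hz : InZ Om z) (h : WM Om) : z ≠ 1 := by
  obtain ⟨K, x, -, hx⟩ := hz.exists_q3 h; exact hx.z1

theorem InZ.inv (hz : InZ Om z) (h : WM Om) : z⁻¹ = z := inv_eq_of_mul_eq_one_right (hz.z2 h)

theorem InZ.orderOf (hz : InZ Om z) (h : WM Om) : orderOf z = 2 :=
  orderOf_eq_prime (by rw [pow_two]; exact hz.z2 h) (hz.z1 h)

theorem Mem.zmem (hK : Mem Om z K) (h : WM Om) : z ∈ K := by
  obtain ⟨hK, rfl⟩ := hK; exact h.hyp.zz_mem hK

theorem Mem.comm_z (hK : Mem Om z K) (h : WM Om) {k : G} (hk : k ∈ K) : k * z = z * k := by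
  obtain ⟨hK, rfl⟩ := hK
  exact h.hyp.comm_zz hK (le_normalizer hk)

theorem Mem.cj (hK : Mem Om z K) (h : WM Om) (g : G) : Mem Om (g * z * g⁻¹) (Cit.cj g K) := by
  obtain ⟨hK, rfl⟩ := hK
  exact ⟨h.hyp.conj K hK g, h.hyp.zz_cj hK g⟩

theorem Mem.cj_comm (hK : Mem Om z K) (h : WM Om) (hg : g * z = z * g) : Mem Om z (Cit.cj g K) := by
  have := hK.cj h g
  rwa [hg, mul_inv_cancel_right] at this

theorem Mem.of_cj (hK : Mem Om z K) (h : WM Om) (hg : Cit.cj g K = K) : g * z = z * g := by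
  have h1 := hK.cj h g
  rw [hg] at h1
  have h2 : g * z * g⁻¹ = z := h1.2.symm.trans hK.2
  rw [← mul_inv_eq_iff_eq_mul, h2]

theorem InZ.conj (hz : InZ Om z) (h : WM Om) (g : G) : InZ Om (g * z * g⁻¹) := by
  obtain ⟨K, hK⟩ := hz; exact ⟨_, hK.cj h g⟩

theorem Mem.comm (hK : Mem Om z K) (hL : Mem Om z L) (h : WM Om) (hne : K ≠ L) {k l : G} (hk : k ∈ K)
    (hl : l ∈ L) : k * l = l * k := by
  rcases h.hyp.h2 K hK.1 L hL.1 (hK.2.trans hL.2.symm) with h1 | h1
  · exact absurd h1 hne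
  rw [OO_eq_bot_of_two (h.isPGroup hK.1), bot_inf_eq, le_bot_iff, Subgroup.commutator_eq_bot_iff_le_centralizer] at h1
  exact (mem_centralizer_iff.1 (h1 hk) l hl).symm

theorem InZ.exists_fr (hz : InZ Om z) (h : WM Om) : ∃ K, Fr Om z K := by
  obtain ⟨K, hK, rfl⟩ := hz
  have h4 := h.four K hK
  have hf : Set.Finite {L | L ∈ Om ∧ zz L = zz K} := Set.toFinite _
  have e := Finite.equivFinOfCardEq (α := {L | L ∈ Om ∧ zz L = zz K}) (n := 4)
    (by rw [Nat.card_coe_set_eq]; exact h4)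
  refine ⟨fun i => (e.symm i : Subgroup G), fun i => (e.symm i).2, fun i j hij => ?_, fun M hM => ?_⟩
  · exact e.symm.injective (Subtype.ext hij)
  · exact ⟨e ⟨M, hM⟩, by rw [Equiv.symm_apply_apply]⟩

theorem Fr.inZ {K : Fin 4 → Subgroup G} (f : Fr Om z K) : InZ Om z := ⟨K 0, f.mem 0⟩

theorem Fr.ne {K : Fin 4 → Subgroup G} (f : Fr Om z K) {i j : Fin 4} (hij : i ≠ j) : K i ≠ K j :=
  fun h1 => hij (f.inj h1)

theorem Fr.perm {K : Fin 4 → Subgroup G} (f : Fr Om z K) (σ : Equiv.Perm (Fin 4)) : Fr Om z (fun i => K (σ i)) where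
  mem i := f.mem _
  inj := f.inj.comp σ.injective
  cov M hM := by
    obtain ⟨i, hi⟩ := f.cov M hM
    exact ⟨σ.symm i, by rw [Equiv.apply_symm_apply]; exact hi⟩

theorem Fr.conj {K : Fin 4 → Subgroup G} (f : Fr Om z K) (h : WM Om) (g : G) :
    Fr Om (g * z * g⁻¹) (fun i => Cit.cj g (K i)) where
  mem i := (f.mem i).cj h g
  inj i j hij := f.inj (cj_inj.1 hij)
  cov M hM := by
    have h1 := hM.cj h g⁻¹
    have h2 : g⁻¹ * (g * z * g⁻¹) * g⁻¹⁻¹ = z := by group
    rw [h2] at h1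
    obtain ⟨i, hi⟩ := f.cov _ h1
    exact ⟨i, by show Cit.cj g (K i) = M; rw [hi, cj_cj_inv]⟩

/-- a third member -/
theorem Mem.third (hK : Mem Om z K) (hL : Mem Om z L) (h : WM Om) : ∃ M, Mem Om z M ∧ M ≠ K ∧ M ≠ L := by
  obtain ⟨F, f⟩ := hK.inZ.exists_fr h
  obtain ⟨i, rfl⟩ := f.cov K hK
  obtain ⟨j, rfl⟩ := f.cov L hL
  have h1 : ∀ i j : Fin 4, ∃ k, k ≠ i ∧ k ≠ j := by decide
  obtain ⟨k, h2, h3⟩ := h1 i j
  exact ⟨F k, f.mem k, f.ne h2, f.ne h3⟩

theorem Mem.other (hK : Mem Om z K) (h : WM Om) : ∃ L, Mem Om z L ∧ K ≠ L := by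
  obtain ⟨L, hL, h1, -⟩ := hK.third hK h
  exact ⟨L, hL, h1.symm⟩

/-- two given different members are the first two of a frame -/
theorem Mem.exists_fr2 (hK : Mem Om z K) (hL : Mem Om z L) (h : WM Om) (hne : K ≠ L) :
    ∃ F, Fr Om z F ∧ F 0 = K ∧ F 1 = L := by
  obtain ⟨F, f⟩ := hK.inZ.exists_fr h
  obtain ⟨i, rfl⟩ := f.cov K hK
  obtain ⟨j, rfl⟩ := f.cov L hL
  have hij : i ≠ j := fun h1 => hne (by rw [h1])
  have h1 : ∀ i j : Fin 4, i ≠ j → ∃ σ : Equiv.Perm (Fin 4), σ 0 = i ∧ σ 1 = j := by decide +kernel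
  obtain ⟨σ, h2, h3⟩ := h1 i j hij
  exact ⟨_, f.perm σ, by show F (σ 0) = F i; rw [h2], by show F (σ 1) = F j; rw [h3]⟩

theorem Mem.exists_fr1 (hK : Mem Om z K) (h : WM Om) : ∃ F, Fr Om z F ∧ F 0 = K := by
  obtain ⟨L, hL, hne⟩ := hK.other h
  obtain ⟨F, f, h1, -⟩ := hK.exists_fr2 hL h hne
  exact ⟨F, f, h1⟩

/-- three given different members are the first three of a frame -/
theorem Mem.exists_fr3 (hK : Mem Om z K) (hL : Mem Om z L) (hM : Mem Om z M) (h : WM Om) (hne : K ≠ L)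
    (hne1 : K ≠ M) (hne2 : L ≠ M) : ∃ F, Fr Om z F ∧ F 0 = K ∧ F 1 = L ∧ F 2 = M := by
  obtain ⟨F, f⟩ := hK.inZ.exists_fr h
  obtain ⟨i, rfl⟩ := f.cov K hK
  obtain ⟨j, rfl⟩ := f.cov L hL
  obtain ⟨k, rfl⟩ := f.cov M hM
  have hij : i ≠ j := fun h1 => hne (by rw [h1])
  have hik : i ≠ k := fun h1 => hne1 (by rw [h1])
  have hjk : j ≠ k := fun h1 => hne2 (by rw [h1])
  have h1 : ∀ i j k : Fin 4, i ≠ j → i ≠ k → j ≠ k → ∃ σ : Equiv.Perm (Fin 4), σ 0 = i ∧ σ 1 = j ∧ σ 2 = k := by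
    decide +kernel
  obtain ⟨σ, h2, h3, h4⟩ := h1 i j k hij hik hjk
  exact ⟨_, f.perm σ, by show F (σ 0) = F i; rw [h2], by show F (σ 1) = F j; rw [h3],
    by show F (σ 2) = F k; rw [h4]⟩

theorem Mem.inf (hK : Mem Om z K) (hL : Mem Om z L) (h : WM Om) (hne : K ≠ L) {k : G} (hk : k ∈ K)
    (hl : k ∈ L) : k = 1 ∨ k = z := by
  obtain ⟨x, hx⟩ := h.exists_q3 hK
  exact hx.cent hk (i_ne1 0) (hK.comm hL h hne (hx.mem _) hl).symm (hK.comm hL h hne (hx.mem _) hl).symm

/-! ### `R_z` and `X_z` -/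

/-- `R_z` is the product of the members -/
theorem mem_RZ {K : Fin 4 → Subgroup G} (f : Fr Om z K) (h : WM Om) {r : G} :
    r ∈ RZ Om z ↔ ∃ k : Fin 4 → G, (∀ i, k i ∈ K i) ∧ r = k 0 * k 1 * k 2 * k 3 := by
  have hc : ∀ {i j : Fin 4} {a b : G}, i ≠ j → a ∈ K i → b ∈ K j → a * b = b * a := fun hij ha hb =>
    (f.mem _).comm (f.mem _) h (f.ne hij) ha hb
  constructor
  · intro hr
    -- the set of products is a subgroup
    let H : Subgroup G :=
      { carrier := {r | ∃ k : Fin 4 → G, (∀ i, k i ∈ K i) ∧ r = k 0 * k 1 * k 2 * k 3}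
        mul_mem' := by
          rintro _ _ ⟨k, hk, rfl⟩ ⟨l, hl, rfl⟩
          refine ⟨fun i => k i * l i, fun i => mul_mem (hk i) (hl i), ?_⟩
          have c1 : k 3 * l 0 = l 0 * k 3 := hc (by decide) (hk 3) (hl 0)
          have c2 : k 2 * l 0 = l 0 * k 2 := hc (by decide) (hk 2) (hl 0)
          have c3 : k 1 * l 0 = l 0 * k 1 := hc (by decide) (hk 1) (hl 0)
          have c4 : k 3 * l 1 = l 1 * k 3 := hc (by decide) (hk 3) (hl 1)
          have c5 : k 2 * l 1 = l 1 * k 2 := hc (by decide) (hk 2) (hl 1)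
          have c6 : k 3 * l 2 = l 2 * k 3 := hc (by decide) (hk 3) (hl 2)
          calc k 0 * k 1 * k 2 * k 3 * (l 0 * l 1 * l 2 * l 3)
              = k 0 * k 1 * k 2 * (k 3 * l 0) * l 1 * l 2 * l 3 := by group
            _ = k 0 * k 1 * (k 2 * l 0) * k 3 * l 1 * l 2 * l 3 := by rw [c1]; group
            _ = k 0 * (k 1 * l 0) * k 2 * k 3 * l 1 * l 2 * l 3 := by rw [c2]; group
            _ = k 0 * l 0 * k 1 * k 2 * (k 3 * l 1) * l 2 * l 3 := by rw [c3]; group
            _ = k 0 * l 0 * k 1 * (k 2 * l 1) * k 3 * l 2 * l 3 := by rw [c4]; group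
            _ = k 0 * l 0 * k 1 * l 1 * k 2 * (k 3 * l 2) * l 3 := by rw [c5]; group
            _ = (k 0 * l 0) * (k 1 * l 1) * (k 2 * l 2) * (k 3 * l 3) := by rw [c6]; group
        one_mem' := ⟨fun _ => 1, fun i => one_mem _, by simp⟩
        inv_mem' := by
          rintro _ ⟨k, hk, rfl⟩
          refine ⟨fun i => (k i)⁻¹, fun i => inv_mem (hk i), ?_⟩
          have c1 : (k 3)⁻¹ * (k 2)⁻¹ = (k 2)⁻¹ * (k 3)⁻¹ := hc (by decide) (inv_mem (hk 3)) (inv_mem (hk 2))
          have c2 : (k 3)⁻¹ * (k 1)⁻¹ = (k 1)⁻¹ * (k 3)⁻¹ := hc (by decide) (inv_mem (hk 3)) (inv_mem (hk 1))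
          have c3 : (k 3)⁻¹ * (k 0)⁻¹ = (k 0)⁻¹ * (k 3)⁻¹ := hc (by decide) (inv_mem (hk 3)) (inv_mem (hk 0))
          have c4 : (k 2)⁻¹ * (k 1)⁻¹ = (k 1)⁻¹ * (k 2)⁻¹ := hc (by decide) (inv_mem (hk 2)) (inv_mem (hk 1))
          have c5 : (k 2)⁻¹ * (k 0)⁻¹ = (k 0)⁻¹ * (k 2)⁻¹ := hc (by decide) (inv_mem (hk 2)) (inv_mem (hk 0))
          have c6 : (k 1)⁻¹ * (k 0)⁻¹ = (k 0)⁻¹ * (k 1)⁻¹ := hc (by decide) (inv_mem (hk 1)) (inv_mem (hk 0))
          calc (k 0 * k 1 * k 2 * k 3)⁻¹ = (k 3)⁻¹ * (k 2)⁻¹ * (k 1)⁻¹ * (k 0)⁻¹ := by group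
            _ = (k 2)⁻¹ * ((k 3)⁻¹ * (k 1)⁻¹) * (k 0)⁻¹ := by rw [c1]; group
            _ = (k 2)⁻¹ * (k 1)⁻¹ * ((k 3)⁻¹ * (k 0)⁻¹) := by rw [c2]; group
            _ = ((k 2)⁻¹ * (k 1)⁻¹) * (k 0)⁻¹ * (k 3)⁻¹ := by rw [c3]; group
            _ = (k 1)⁻¹ * ((k 2)⁻¹ * (k 0)⁻¹) * (k 3)⁻¹ := by rw [c4]; group
            _ = ((k 1)⁻¹ * (k 0)⁻¹) * (k 2)⁻¹ * (k 3)⁻¹ := by rw [c5]; group
            _ = (k 0)⁻¹ * (k 1)⁻¹ * (k 2)⁻¹ * (k 3)⁻¹ := by rw [c6] }
    have h1 : RZ Om z ≤ H := by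
      refine RZ_le fun M hM x hx => ?_
      obtain ⟨i, rfl⟩ := f.cov M hM
      refine ⟨fun j => if j = i then x else 1, fun j => ?_, ?_⟩
      · show (if j = i then x else 1) ∈ K j
        split_ifs with hj
        · rw [hj]; exact hx
        · exact one_mem _
      · (revert i; simp only [_root_.Fin.forall_fin_succ, Fin.isValue, _root_.mul_ite, _root_.ite_mul, _root_.one_mul, _root_.mul_one, Fin.reduceEq, ↓reduceIte, _root_.one_ne_zero, _root_.implies_true, _root_.Fin.succ_zero_eq_one, _root_.zero_ne_one, _root_.Fin.succ_one_eq_two, Fin.reduceSucc, _root_.IsEmpty.forall_iff, _root_.and_self])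
    exact h1 hr
  · rintro ⟨k, hk, rfl⟩
    have h1 : ∀ i, k i ∈ RZ Om z := fun i => (f.mem i).le_RZ (hk i)
    exact mul_mem (mul_mem (mul_mem (h1 0) (h1 1)) (h1 2)) (h1 3)

theorem z_mem_RZ (hz : InZ Om z) (h : WM Om) : z ∈ RZ Om z := by
  obtain ⟨K, hK⟩ := hz; exact hK.le_RZ (hK.zmem h)

theorem z_mem_CX (h : WM Om) : z ∈ CX Om z := by
  rw [mem_CX]
  intro K hK k hk
  exact (hK.comm_z h hk).symm

theorem CX_comm (hr : t ∈ RZ Om z) (hx : x ∈ CX Om z) : x * t = t * x := by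
  have h1 : RZ Om z ≤ centralizer {x} := by
    refine RZ_le fun K hK k hk => ?_
    rw [mem_centralizer_singleton_iff]
    exact (mem_CX.1 hx K hK k hk).symm
  exact (mem_centralizer_singleton_iff.1 (h1 hr)).symm

theorem CX_le (hz : InZ Om z) (h : WM Om) (hx : x ∈ CX Om z) : x * z = z * x := by
  exact CX_comm (z_mem_RZ hz h) hx

theorem RZ_le_centralizer (h : WM Om) (hx : x ∈ RZ Om z) : x * z = z * x := by
  have h1 : RZ Om z ≤ centralizer {z} := by
    refine RZ_le fun K hK k hk => ?_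
    rw [mem_centralizer_singleton_iff]
    exact hK.comm_z h hk
  exact mem_centralizer_singleton_iff.1 (h1 hx)

theorem CX_conj (h : WM Om) (g : G) : g * x * g⁻¹ ∈ CX Om (g * z * g⁻¹) ↔ x ∈ CX Om z := by
  have key : ∀ (g x z : G), x ∈ CX Om z → g * x * g⁻¹ ∈ CX Om (g * z * g⁻¹) := by
    intro g x z hx
    rw [mem_CX] at hx ⊢
    intro K hK k hk
    have h1 := hK.cj h g⁻¹
    have h2 : g⁻¹ * (g * z * g⁻¹) * g⁻¹⁻¹ = z := by group
    rw [h2] at h1
    have h3 := hx _ h1 _ (conj_mem_cj (g := g⁻¹) hk)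
    calc g * x * g⁻¹ * k = g * (x * (g⁻¹ * k * g⁻¹⁻¹)) * g⁻¹ := by group
      _ = g * (g⁻¹ * k * g⁻¹⁻¹ * x) * g⁻¹ := by rw [h3]
      _ = _ := by group
  refine ⟨fun hx => ?_, key g x z⟩
  have := key g⁻¹ _ _ hx
  have h1 : g⁻¹ * (g * x * g⁻¹) * g⁻¹⁻¹ = x := by group
  have h2 : g⁻¹ * (g * z * g⁻¹) * g⁻¹⁻¹ = z := by group
  rwa [h1, h2] at this

theorem CX_conj_comm (h : WM Om) (hg : g * z = z * g) (hx : x ∈ CX Om z) : g * x * g⁻¹ ∈ CX Om z := by
  have := (CX_conj h g).2 hx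
  rwa [hg, mul_inv_cancel_right] at this

theorem RZ_conj (h : WM Om) (g : G) (hx : x ∈ RZ Om z) : g * x * g⁻¹ ∈ RZ Om (g * z * g⁻¹) := by
  have h1 : RZ Om z ≤ (RZ Om (g * z * g⁻¹)).comap (MulAut.conj g).toMonoidHom := by
    refine RZ_le fun K hK k hk => ?_
    exact (hK.cj h g).le_RZ (conj_mem_cj hk)
  exact h1 hx

/-! ### `Inn` -/

theorem Inn.comm_z (hi : Inn Om z g) (hz : InZ Om z) (h : WM Om) : g * z = z * g := by
  obtain ⟨K, hK⟩ := hz
  rcases hi K hK z (hK.zmem h) with h1 | h1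
  · rw [← mul_inv_eq_iff_eq_mul, h1]
  · rw [hK.inZ.z2 h, mul_inv_eq_one] at h1
    exact absurd (mul_eq_left.1 h1) (hK.inZ.z1 h)

theorem Inn.one : Inn Om z (1 : G) := fun _ _ _ _ => Or.inl (by group)

theorem Inn.mul (hg : Inn Om z g) (hg' : Inn Om z g') (hz : InZ Om z) (h : WM Om) : Inn Om z (g * g') := by
  intro K hK k hk
  have hgz := hg.comm_z hz h
  have h1 : g * g' * k * (g * g')⁻¹ = g * (g' * k * g'⁻¹) * g⁻¹ := by group
  have h2 : g * (z * k) * g⁻¹ = z * (g * k * g⁻¹) := by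
    calc g * (z * k) * g⁻¹ = (g * z) * k * g⁻¹ := by group
      _ = (z * g) * k * g⁻¹ := by rw [hgz]
      _ = _ := by group
  rw [h1]
  rcases hg' K hK k hk with h3 | h3
  · rw [h3]; exact hg K hK k hk
  · rw [h3, h2]
    rcases hg K hK k hk with h4 | h4
    · right; rw [h4]
    · left; rw [h4, ← mul_assoc, hz.z2 h, one_mul]

theorem Inn.inv (hg : Inn Om z g) (hz : InZ Om z) (h : WM Om) : Inn Om z g⁻¹ := by
  intro K hK k hk
  have hgz := hg.comm_z hz h
  rcases hg K hK k hk with h1 | h1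
  · left
    conv_lhs => rw [← h1]
    group
  · right
    have h2 : k = z * (g * k * g⁻¹) := by rw [h1, ← mul_assoc, hz.z2 h, one_mul]
    calc g⁻¹ * k * g⁻¹⁻¹ = g⁻¹ * (z * (g * k * g⁻¹)) * g⁻¹⁻¹ := by rw [← h2]
      _ = g⁻¹ * (z * g) * k := by group
      _ = g⁻¹ * (g * z) * k := by rw [hgz]
      _ = _ := by group

theorem Inn.mul_left (hg : Inn Om z g) (hgg : Inn Om z (g * g')) (hz : InZ Om z) (h : WM Om) : Inn Om z g' := by
  have := (hg.inv hz h).mul hgg hz h
  rwa [inv_mul_cancel_left] at this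

theorem Inn.mul_right (hg : Inn Om z g') (hgg : Inn Om z (g * g')) (hz : InZ Om z) (h : WM Om) : Inn Om z g := by
  have := hgg.mul (hg.inv hz h) hz h
  rwa [mul_inv_cancel_right] at this

theorem Inn.of_CX (hx : x ∈ CX Om z) : Inn Om z x := by
  intro K hK k hk
  left
  rw [mem_CX.1 hx K hK k hk, mul_inv_cancel_right]

theorem Inn.of_mem (hL : Mem Om z L) (h : WM Om) (hg : g ∈ L) : Inn Om z g := by
  intro K hK k hk
  by_cases hne : K = L
  · subst hne
    obtain ⟨x, hx⟩ := h.exists_q3 hK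
    have hz : z ∈ K := hK.zmem h
    rcases hx.cov g hg with rfl | rfl | ⟨i, hi⟩
    · left; group
    · left; rw [← hK.comm_z h hk, mul_inv_cancel_right]
    · have h1 : g * k * g⁻¹ = x i * k * (x i)⁻¹ := by
        rcases hi with rfl | rfl
        · rfl
        · have h2 : (z * x i * k * (z * x i)⁻¹) = z * (x i * k * (x i)⁻¹) * z⁻¹ := by group
          rw [h2, ← hK.comm_z h (mul_mem (mul_mem (hx.mem i) hk) (inv_mem (hx.mem i))), mul_inv_cancel_right]
      rw [h1]
      rcases hx.cov k hk with rfl | rfl | ⟨j, hj⟩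
      · left; group
      · left; rw [← hx.zc, mul_inv_cancel_right]
      · have h3 : x i * x j * (x i)⁻¹ = x j ∨ x i * x j * (x i)⁻¹ = z * x j := by
          by_cases hij : i = j
          · subst hij; left; exact Q3.conj_self i
          · right; exact hx.conj_ne hij
        rcases hj with rfl | rfl
        · exact h3
        · have h4 : x i * (z * x j) * (x i)⁻¹ = z * (x i * x j * (x i)⁻¹) := by
            calc x i * (z * x j) * (x i)⁻¹ = (x i * z) * x j * (x i)⁻¹ := by group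
              _ = (z * x i) * x j * (x i)⁻¹ := by rw [hx.zc]
              _ = _ := by group
          rw [h4]
          rcases h3 with h3 | h3
          · left; rw [h3]
          · right; rw [h3]
  · left
    rw [← hK.comm hL h hne hk hg, mul_inv_cancel_right]

theorem Inn.of_RZ (hz : InZ Om z) (h : WM Om) (hr : g ∈ RZ Om z) : Inn Om z g := by
  obtain ⟨K, f⟩ := hz.exists_fr h
  obtain ⟨k, hk, rfl⟩ := (mem_RZ f h).1 hr
  exact (((Inn.of_mem (f.mem 0) h (hk 0)).mul (Inn.of_mem (f.mem 1) h (hk 1)) hz h).mul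
    (Inn.of_mem (f.mem 2) h (hk 2)) hz h).mul (Inn.of_mem (f.mem 3) h (hk 3)) hz h

theorem Inn.conj (hi : Inn Om z x) (h : WM Om) (g : G) : Inn Om (g * z * g⁻¹) (g * x * g⁻¹) := by
  intro K hK k hk
  have h1 := hK.cj h g⁻¹
  have h2 : g⁻¹ * (g * z * g⁻¹) * g⁻¹⁻¹ = z := by group
  rw [h2] at h1
  have h3 : g * x * g⁻¹ * k * (g * x * g⁻¹)⁻¹ = g * (x * (g⁻¹ * k * g⁻¹⁻¹) * x⁻¹) * g⁻¹ := by group
  rcases hi _ h1 _ (conj_mem_cj (g := g⁻¹) hk) with h4 | h4
  · left; rw [h3, h4]; group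
  · right; rw [h3, h4]; group

theorem Inn.conj_comm (hi : Inn Om z x) (h : WM Om) (hg : g * z = z * g) : Inn Om z (g * x * g⁻¹) := by
  have := hi.conj h g
  rwa [hg, mul_inv_cancel_right] at this

theorem Inn.cj_eq (hi : Inn Om z g) (hK : Mem Om z K) (h : WM Om) : Cit.cj g K = K := by
  have key : ∀ g, Inn Om z g → Cit.cj g K ≤ K := by
    rintro g hi _ ⟨k, hk, rfl⟩
    rcases hi K hK k hk with h1 | h1
    · show g * k * g⁻¹ ∈ K
      rw [h1]; exact hk
    · show g * k * g⁻¹ ∈ K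
      rw [h1]; exact mul_mem (hK.zmem h) hk
  refine le_antisymm (key g hi) ?_
  have h1 := key g⁻¹ (hi.inv hK.inZ h)
  have h2 := cj_mono g h1
  rwa [cj_cj_inv] at h2

/-! ### The trichotomy -/

/-- `t ∈ Z` centralising a member over `z ≠ t` : C-pair -/
theorem InZ.comm_of_cent (hK : Mem Om z K) (hL : Mem Om t L) (h : WM Om) (hne : z ≠ t)
    (hc : ∀ k ∈ K, t * k = k * t) : ∀ k ∈ K, ∀ l ∈ L, k * l = l * k := by
  have hKL : K ≠ L := by
    rintro rfl
    exact hne (hK.2.symm.trans hL.2)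
  exact h.hyp.comm_of_zz_comm hK.1 hL.1 (h.isPGroup hK.1) (h.isPGroup hL.1)
    (fun k hk => by rw [hL.2]; exact (hc k hk).symm) hKL

/-- if `t` centralises one member over `z`, it centralises all -/
theorem InZ.cent_all (hK : Mem Om z K) (ht : InZ Om t) (h : WM Om) (hne : z ≠ t)
    (hc : ∀ k ∈ K, t * k = k * t) (hM : Mem Om z M) : ∀ k ∈ M, t * k = k * t := by
  obtain ⟨L, hL⟩ := ht
  have h1 := InZ.comm_of_cent hK hL h hne hc
  have h2 : ∀ l ∈ L, z * l = l * z := fun l hl => h1 z (hK.zmem h) l hl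
  have h3 := InZ.comm_of_cent hL hM h hne.symm h2
  exact fun k hk => h3 t (hL.zmem h) k hk

/-- (H3) -/
theorem WM.h3 (h : WM Om) (hK : Mem Om z K) (hL : Mem Om t L) (hy : y ∈ K) (hs : y * y = z)
    (hyt : y * t = t * y) : cj y L = L := by
  rw [← mem_normalizer_iff_cj]
  refine h.hyp.h3 K hK.1 L hL.1 y hy ?_ ?_ (by rw [hL.2]; exact hyt)
  · exact (h.isPGroup hK.1).to_le (by rwa [zpowers_le])
  · have h1 : orderOf y = 4 := by
      have h2 := orderOf_eq_prime_pow (p := 2) (n := 1) (x := y)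
        (by rw [pow_one, pow_two, hs]; exact hK.inZ.z1 h)
        (by
          have : y ^ 2 ^ (1 + 1) = (y * y) * (y * y) := by
            show y ^ 4 = _
            simp only [pow_succ, pow_zero, one_mul, mul_assoc]
          rw [this, hs, hK.inZ.z2 h])
      simpa using h2
    omega

/-- `t` inner on one member over `z`: `z` is inner on the members over `t` -/
theorem WM.inn_of_one (h : WM Om) (hK : Mem Om z K) (ht : InZ Om t) (hne : t ≠ z)
    (hi : ∀ k ∈ K, t * k * t⁻¹ = k ∨ t * k * t⁻¹ = z * k) : Inn Om t z := by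
  obtain ⟨x, hx⟩ := h.exists_q3 hK
  rcases hx.inner_cases hi with h1 | ⟨j, h1⟩
  · intro L hL l hl
    left
    have h2 := InZ.comm_of_cent hK hL h hne.symm (fun k hk => by
      have := h1 k hk; rwa [mul_inv_eq_iff_eq_mul] at this) z (hK.zmem h) l hl
    rw [h2, mul_inv_cancel_right]
  have hyt : x j * t = t * x j := by
    have := h1 (x j) (hx.mem j)
    rw [Q3.conj_self, mul_inv_eq_iff_eq_mul] at this
    exact this.symm
  have hzt : z * t = t * z := by
    rw [← hx.sq j, mul_assoc, hyt, ← mul_assoc, hyt, mul_assoc]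
  intro L hL
  obtain ⟨l, hl⟩ := h.exists_q3 hL
  have h2 := h.h3 hK hL (hx.mem j) (hx.sq j) hyt
  obtain ⟨σ, hσ⟩ := hl.exists_act hl h2 hyt
  have h3 : Act t l l z (σ * σ) := by
    have := hσ.comp hl.z2 hσ hyt
    rwa [hx.sq] at this
  have h5 : Act t l l (z * z) (σ * σ * (σ * σ)) := h3.comp hl.z2 h3 hzt
  rw [hx.z2] at h5
  have h6 := h5.unique hl (Act.one l t)
  have h7 : ∀ σ : Equiv.Perm (Fin 3), σ * σ * (σ * σ) = 1 → σ * σ = 1 := by decide +kernel
  have h8 := h7 σ h6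
  rw [h8] at h3
  exact h3.inner hl hzt

/-- **trichotomy**: `t` inner on one member over `z` implies type I -/
theorem WM.inn_both (h : WM Om) (hK : Mem Om z K) (ht : InZ Om t) (hne : t ≠ z)
    (hi : ∀ k ∈ K, t * k * t⁻¹ = k ∨ t * k * t⁻¹ = z * k) : Inn Om z t ∧ Inn Om t z := by
  have h1 := h.inn_of_one hK ht hne hi
  obtain ⟨L, hL⟩ := ht
  exact ⟨h.inn_of_one hL hK.inZ hne.symm (h1 L hL), h1⟩

theorem Inn.symm (hi : Inn Om z t) (hz : InZ Om z) (ht : InZ Om t) (h : WM Om) : Inn Om t z := by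
  by_cases hne : t = z
  · subst hne; exact Inn.of_CX (z_mem_CX h)
  obtain ⟨K, hK⟩ := hz
  exact h.inn_of_one hK ht hne (hi K hK)

/-- `(z, t)` is a pair of type I -/
def TI (Om : Set (Subgroup G)) (z t : G) : Prop :=
  InZ Om z ∧ InZ Om t ∧ z ≠ t ∧ z * t = t * z ∧ Inn Om z t ∧ ∀ K, Mem Om z K → ¬ ∀ k ∈ K, t * k = k * t

theorem TI.inZ (h : TI Om z t) : InZ Om z := h.1
theorem TI.inT (h : TI Om z t) : InZ Om t := h.2.1
theorem TI.ne (h : TI Om z t) : z ≠ t := h.2.2.1
theorem TI.comm (h : TI Om z t) : z * t = t * z := h.2.2.2.1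
theorem TI.inn (h : TI Om z t) : Inn Om z t := h.2.2.2.2.1
theorem TI.nc (h : TI Om z t) (hK : Mem Om z K) : ¬ ∀ k ∈ K, t * k = k * t := h.2.2.2.2.2 K hK

theorem TI.symm (hti : TI Om z t) (h : WM Om) : TI Om t z := by
  refine ⟨hti.inT, hti.inZ, hti.ne.symm, hti.comm.symm, hti.inn.symm hti.inZ hti.inT h, fun L hL hc => ?_⟩
  obtain ⟨K, hK⟩ := hti.inZ
  have h1 := InZ.comm_of_cent hL hK h hti.ne.symm hc
  exact hti.nc hK fun k hk => h1 t (hL.zmem h) k hk

theorem TI.conj (hti : TI Om z t) (h : WM Om) (g : G) : TI Om (g * z * g⁻¹) (g * t * g⁻¹) := by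
  refine ⟨hti.inZ.conj h g, hti.inT.conj h g, fun h1 => hti.ne (mul_left_cancel (mul_right_cancel h1)), ?_,
    hti.inn.conj h g, fun K hK hc => ?_⟩
  · calc g * z * g⁻¹ * (g * t * g⁻¹) = g * (z * t) * g⁻¹ := by group
      _ = g * (t * z) * g⁻¹ := by rw [hti.comm]
      _ = _ := by group
  · have h1 := hK.cj h g⁻¹
    have h2 : g⁻¹ * (g * z * g⁻¹) * g⁻¹⁻¹ = z := by group
    rw [h2] at h1
    refine hti.nc h1 fun k hk => ?_
    rw [mem_cj, inv_inv] at hk
    have h3 := hc _ hk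
    calc t * k = g⁻¹ * (g * t * g⁻¹ * (g * k * g⁻¹)) * g := by group
      _ = g⁻¹ * (g * k * g⁻¹ * (g * t * g⁻¹)) * g := by rw [h3]
      _ = k * t := by group

/-- `t ∈ Z`, inner and not trivial on one member over `z`, is of type I -/
theorem TI.of_one (h : WM Om) (hK : Mem Om z K) (ht : InZ Om t) (hne : z ≠ t)
    (hi : ∀ k ∈ K, t * k * t⁻¹ = k ∨ t * k * t⁻¹ = z * k) (hn : ¬ ∀ k ∈ K, t * k = k * t) : TI Om z t := by
  have h1 := h.inn_both hK ht hne.symm hi
  exact ⟨hK.inZ, ht, hne, (h1.1.comm_z hK.inZ h).symm, h1.1, fun M hM hc =>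
    hn (InZ.cent_all hM ht h hne hc hK)⟩

end Fin

end Cfsg.Agent.Cit.Nil.RI
end

-- part: Cit/Nil/RI/TypeI
section
/-!
# `r = 4`, any `m`: type I pairs (helper449's `RFour/TypeI.lean` without `one`)

* `As K t y` : `y ∈ K` and `t` acts on `K` as `y`;
* `TI.exists_as` : a type I neighbour `t` of `z` acts on `K` (over `z`) as some `y` with `y² = z`;
* `TI.exists_q` : coordinates of `K` with `y = a 0`;
* `TI.rot` : the quarter turn: `y ∈ K` acts on `L` (over `t`) as an automorphism of order 4 about `x`;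
* `TI.conj_z`, `TI.conj_y`, `TI.mul_right`, `TI.mul_left`;
* `TI.hh` : (H);
* `TI.mem_RZ` : `t ∈ R_z`;
* `RZ_center`, `eq_or_of_as`;
* `TI.xx_mem`, `TI.xx_not_cent` : (1.5).
-/

set_option autoImplicit false
set_option linter.style.haveILetI false
set_option linter.unusedSectionVars false

namespace Cfsg.Agent.Cit.Nil.RI

open Subgroup Cfsg Cfsg.Agent.Cit

open RTwo (Q3 Act i11 i12 i21 i22 i_ne1 i_ne2 i_ne12 i_cases i_cases3)

variable {G : Type*} [Group G]

/-- `t` acts on `K` as `y ∈ K` -/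
def As (K : Subgroup G) (t y : G) : Prop := y ∈ K ∧ ∀ k ∈ K, t * k * t⁻¹ = y * k * y⁻¹

namespace As

variable {K L : Subgroup G} {s t y x g : G}

theorem self (hy : y ∈ K) : As K y y := ⟨hy, fun _ _ => rfl⟩

theorem one_iff : As K t 1 ↔ ∀ k ∈ K, t * k = k * t := by
  constructor
  · intro h k hk
    have := h.2 k hk
    rw [one_mul, inv_one, mul_one, mul_inv_eq_iff_eq_mul] at this
    exact this
  · intro h
    refine ⟨one_mem _, fun k hk => ?_⟩
    rw [h k hk, mul_inv_cancel_right, one_mul, inv_one, mul_one]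

theorem mul (h : As K s x) (h' : As K t y) : As K (s * t) (x * y) := by
  refine ⟨mul_mem h.1 h'.1, fun k hk => ?_⟩
  have h1 : t * k * t⁻¹ ∈ K := by
    rw [h'.2 k hk]; exact mul_mem (mul_mem h'.1 hk) (inv_mem h'.1)
  calc s * t * k * (s * t)⁻¹ = s * (t * k * t⁻¹) * s⁻¹ := by group
    _ = x * (t * k * t⁻¹) * x⁻¹ := h.2 _ h1
    _ = x * (y * k * y⁻¹) * x⁻¹ := by rw [h'.2 k hk]
    _ = _ := by group

theorem inv (h : As K t y) : As K t⁻¹ y⁻¹ := by
  refine ⟨inv_mem h.1, fun k hk => ?_⟩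
  have h1 : y⁻¹ * k * y ∈ K := mul_mem (mul_mem (inv_mem h.1) hk) h.1
  have h2 := h.2 _ h1
  have h3 : y * (y⁻¹ * k * y) * y⁻¹ = k := by group
  rw [h3] at h2
  calc t⁻¹ * k * t⁻¹⁻¹ = t⁻¹ * (t * (y⁻¹ * k * y) * t⁻¹) * t⁻¹⁻¹ := by rw [h2]
    _ = _ := by group

theorem conj (h : As K t y) (g : G) : As (cj g K) (g * t * g⁻¹) (g * y * g⁻¹) := by
  refine ⟨conj_mem_cj h.1, fun k hk => ?_⟩
  rw [mem_cj] at hk
  have h1 := h.2 _ hk
  calc g * t * g⁻¹ * k * (g * t * g⁻¹)⁻¹ = g * (t * (g⁻¹ * k * g) * t⁻¹) * g⁻¹ := by group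
    _ = g * (y * (g⁻¹ * k * g) * y⁻¹) * g⁻¹ := by rw [h1]
    _ = _ := by group

theorem conj_comm (h : As K t y) (hg : g * t = t * g) : As (cj g K) t (g * y * g⁻¹) := by
  have := h.conj g
  rwa [hg, mul_inv_cancel_right] at this

/-- `t` acts as `y`, so it commutes with `y` -/
theorem comm (h : As K t y) : t * y = y * t := by
  have h1 := h.2 y h.1
  rw [mul_inv_cancel_right, mul_inv_eq_iff_eq_mul] at h1
  exact h1

theorem cj_eq (h : As K t y) : Cit.cj t K = K := by
  refine le_antisymm ?_ ?_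
  · rintro _ ⟨k, hk, rfl⟩
    change t * k * t⁻¹ ∈ K
    rw [h.2 k hk]
    exact mul_mem (mul_mem h.1 hk) (inv_mem h.1)
  · intro k hk
    rw [mem_cj]
    have h1 := h.inv.2 k hk
    rw [inv_inv] at h1
    rw [h1]
    exact mul_mem (mul_mem (inv_mem h.1) hk) (inv_mem (inv_mem h.1))

end As

section

variable [Finite G] {Om : Set (Subgroup G)} {K K' L L' M : Subgroup G} {z t g n x x' y y' u s : G} {a b c d : Fin 3 → G}

theorem Mem.as_z (hK : Mem Om z K) (h : WM Om) : As K z 1 :=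
  As.one_iff.2 fun _ hk => (hK.comm_z h hk).symm

theorem Mem.as_one (hK : Mem Om z K) (hL : Mem Om z L) (h : WM Om) (hne : K ≠ L) (hx : x ∈ L) : As K x 1 :=
  As.one_iff.2 fun _ hk => (hK.comm hL h hne hk hx).symm

theorem Mem.as_center (hK : Mem Om z K) (h : WM Om) (h1 : As K t y) (h2 : As K t 1) : y = 1 ∨ y = z := by
  obtain ⟨a, qa⟩ := h.exists_q3 hK
  have h3 : ∀ k ∈ K, y * k = k * y := by
    intro k hk
    have := h1.2 k hk
    rw [As.one_iff.1 h2 k hk, mul_inv_cancel_right, eq_mul_inv_iff_mul_eq] at this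
    exact this.symm
  exact qa.center h1.1 (h3 _ (qa.mem 0)) (h3 _ (qa.mem 1))

theorem Mem.as_unique (hK : Mem Om z K) (h : WM Om) (h1 : As K t y) (h2 : As K t y') : y' = y ∨ y' = z * y := by
  have h3 := h2.mul h1.inv
  rw [mul_inv_cancel] at h3
  have h4 : As K (1 : G) 1 := As.self (one_mem _)
  rcases hK.as_center h h3 h4 with h5 | h5
  · left; exact mul_inv_eq_one.1 h5
  · right; rw [mul_inv_eq_iff_eq_mul] at h5; exact h5

/-- `y² = z` excludes the trivial action -/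
theorem Mem.not_as_one (hK : Mem Om z K) (h : WM Om) (h1 : As K t y) (hy : y * y = z) : ¬ As K t 1 := by
  intro h2
  have hz1 := hK.inZ.z1 h
  rcases hK.as_center h h1 h2 with h3 | h3
  · rw [h3, one_mul] at hy; exact hz1 hy.symm
  · rw [h3, hK.inZ.z2 h] at hy; exact hz1 hy.symm

theorem Mem.sq_cases (hK : Mem Om z K) (h : WM Om) (hx : x ∈ K) : x = 1 ∨ x = z ∨ x * x = z := by
  obtain ⟨a, qa⟩ := h.exists_q3 hK
  rcases qa.cov x hx with h1 | h1 | ⟨i, h1⟩
  · exact Or.inl h1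
  · exact Or.inr (Or.inl h1)
  · right; right
    rcases h1 with rfl | rfl
    · exact qa.sq i
    · calc z * a i * (z * a i) = z * (a i * z) * a i := by group
        _ = z * (z * a i) * a i := by rw [qa.zc]
        _ = z := by rw [qa.zzx, qa.sq]

theorem Mem.inv_eq (hK : Mem Om z K) (h : WM Om) (hx : x ∈ K) (hxx : x * x = z) : x⁻¹ = z * x := by
  apply inv_eq_of_mul_eq_one_right
  rw [← mul_assoc, hK.comm_z h hx, mul_assoc, hxx, hK.inZ.z2 h]

theorem TI.exists_as (hti : TI Om z t) (h : WM Om) (hK : Mem Om z K) : ∃ y, As K t y ∧ y * y = z := by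
  obtain ⟨a, qa⟩ := h.exists_q3 hK
  rcases qa.inner_cases (hti.inn K hK) with h1 | ⟨j, h1⟩
  · exfalso
    exact hti.nc hK fun k hk => by
      have := h1 k hk
      rwa [mul_inv_eq_iff_eq_mul] at this
  · exact ⟨a j, ⟨qa.mem j, h1⟩, qa.sq j⟩

/-- the action of a type I neighbour is nontrivial -/
theorem TI.sq_of_as (hti : TI Om z t) (h : WM Om) (hK : Mem Om z K) (hy : As K t y) : y * y = z := by
  obtain ⟨y', h1, h2⟩ := hti.exists_as h hK
  rcases hK.as_unique h h1 hy with rfl | rfl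
  · exact h2
  · calc z * y' * (z * y') = z * (y' * z) * y' := by group
      _ = z * (z * y') * y' := by rw [hK.comm_z h h1.1]
      _ = (z * z) * (y' * y') := by group
      _ = z := by rw [hK.inZ.z2 h, h2, one_mul]

/-- coordinates of `K` starting with a given element -/
theorem Mem.exists_q (hK : Mem Om z K) (h : WM Om) (hy : y ∈ K) (hyy : y * y = z) :
    ∃ a, Q3 K z a ∧ a 0 = y := by
  obtain ⟨a, qa⟩ := h.exists_q3 hK
  obtain ⟨i, hi⟩ := qa.of_sq hy hyy
  have h1 := qa.rot i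
  have h2 : a (0 + i) = a i := by rw [zero_add]
  rcases hi with hi | hi
  · exact ⟨_, h1, by rw [hi]; exact h2⟩
  · refine ⟨_, h1.flip, ?_⟩
    simp only [Fin.isValue, zero_ne_one, if_false]
    rw [hi, h2]

/-- coordinates starting with two given elements -/
theorem Mem.exists_q2 (hK : Mem Om z K) (h : WM Om) (hy : y ∈ K) (hyy : y * y = z) (hu : u ∈ K) (huu : u * u = z)
    (hne : y * u ≠ u * y) : ∃ a, Q3 K z a ∧ a 0 = y ∧ a 1 = u := by
  obtain ⟨a, qa⟩ := h.exists_q3 hK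
  exact ⟨_, qa.of_pair hy hu hyy huu hne, rfl, rfl⟩

/-- an element of `K` commuting with `y` -/
theorem Mem.of_comm (hK : Mem Om z K) (h : WM Om) (hy : y ∈ K) (hyy : y * y = z) (hu : u ∈ K)
    (hc : y * u = u * y) : u = 1 ∨ u = z ∨ u = y ∨ u = z * y := by
  obtain ⟨a, qa, rfl⟩ := hK.exists_q h hy hyy
  rcases qa.cov u hu with h1 | h1 | ⟨i, h1⟩
  · exact Or.inl h1
  · exact Or.inr (Or.inl h1)
  by_cases hi : i = 0
  · subst hi; exact Or.inr (Or.inr h1)
  exfalso
  have h2 := qa.anti (Ne.symm hi)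
  rcases h1 with rfl | rfl
  · rw [hc, mul_assoc] at h2
    exact qa.zne _ h2.symm
  · have h3 : a 0 * (z * a i) = z * (a 0 * a i) := by
      rw [← mul_assoc, ← qa.zc, mul_assoc]
    rw [h3, mul_assoc z (a i)] at hc
    have h4 := mul_left_cancel hc
    rw [h4, mul_assoc] at h2
    exact qa.zne _ h2.symm

/-- an element of order 4 not commuting with `y` inverts it -/
theorem Mem.anti (hK : Mem Om z K) (h : WM Om) (hy : y ∈ K) (hyy : y * y = z) (hu : u ∈ K) (huu : u * u = z)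
    (hne : y * u ≠ u * y) : u * y * u⁻¹ = z * y := by
  obtain ⟨a, qa, rfl, rfl⟩ := hK.exists_q2 h hy hyy hu huu hne
  exact qa.conj_ne (by decide)

theorem Mem.comm_or (hK : Mem Om z K) (h : WM Om) (hy : y ∈ K) (hu : u ∈ K) : u * y * u⁻¹ = y ∨ u * y * u⁻¹ = z * y := by
  rcases hK.sq_cases h hy with h1 | h1 | h1
  · left; rw [h1]; group
  · left; rw [h1, hK.comm_z h hu, mul_inv_cancel_right]
  rcases hK.sq_cases h hu with h2 | h2 | h2
  · left; rw [h2]; group
  · left; rw [h2, ← hK.comm_z h hy, mul_inv_cancel_right]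
  by_cases hc : y * u = u * y
  · left; rw [← hc, mul_inv_cancel_right]
  · right; exact hK.anti h hy h1 hu h2 hc

/-! ### The quarter turn -/

/-- `y ∈ K` (the action of `t`) acts on `L` as a quarter turn about `x` (the action of `z`) -/
theorem TI.rot (hti : TI Om z t) (h : WM Om) (hK : Mem Om z K) (hL : Mem Om t L) (hy : As K t y) (hx : As L z x) :
    cj y L = L ∧ y * x = x * y ∧ ∀ u ∈ L, u * u = t → x * u ≠ u * x →
      y * u * y⁻¹ = x * u ∨ y * u * y⁻¹ = t * (x * u) := by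
  have hyy := hti.sq_of_as h hK hy
  have hxx := (hti.symm h).sq_of_as h hL hx
  have h1 := h.h3 hK hL hy.1 hyy hy.comm.symm
  obtain ⟨c, qc, hc0⟩ := hL.exists_q h hx.1 hxx
  have key : ∀ c : Fin 3 → G, Q3 L t c → c 0 = x → y * c 0 * y⁻¹ = c 0 ∧ (y * c 1 * y⁻¹ = c 2 ∨ y * c 1 * y⁻¹ = t * c 2) := by
    intro c qc hc0
    refine qc.quarter (fun k hk => ?_) fun k hk => ?_
    · have := conj_mem_cj (g := y) hk
      rwa [h1] at this
    · rw [hc0, ← hx.2 k hk]
      have : y * (y * k * y⁻¹) * y⁻¹ = (y * y) * k * (y * y)⁻¹ := by group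
      rw [this, hyy]
  refine ⟨h1, ?_, fun u hu huu hxu => ?_⟩
  · have h2 := (key c qc hc0).1
    rw [hc0, mul_inv_eq_iff_eq_mul] at h2
    exact h2
  · obtain ⟨c, qc, hc0, hc1⟩ := hL.exists_q2 h hx.1 hxx hu huu hxu
    have h2 := (key c qc hc0).2
    have h3 : c 2 = x * u := by
      have := qc.mul 0
      rw [hc0] at this
      simp only [zero_add] at this
      rw [hc1] at this
      exact this.symm
    rw [hc1, h3] at h2
    exact h2

theorem TI.yx (hti : TI Om z t) (h : WM Om) (hK : Mem Om z K) (hL : Mem Om t L) (hy : As K t y) (hx : As L z x) :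
    y * x = x * y := (hti.rot h hK hL hy hx).2.1

/-- an element of `L` not commuting with `x` -/
theorem Mem.exists_nc (hL : Mem Om t L) (h : WM Om) (hx : x ∈ L) (hxx : x * x = t) :
    ∃ u ∈ L, u * u = t ∧ x * u ≠ u * x := by
  obtain ⟨c, qc, rfl⟩ := hL.exists_q h hx hxx
  refine ⟨c 1, qc.mem 1, qc.sq 1, fun h1 => ?_⟩
  have h2 := qc.anti (i_ne1 0)
  simp only [zero_add] at h2
  rw [h1, mul_assoc] at h2
  exact qc.zne _ h2.symm

/-- `u z u⁻¹ = z t` -/
theorem As.conj_z (hL : Mem Om t L) (h : WM Om) (hx : As L z x) (hxx : x * x = t) (hu : u ∈ L)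
    (huu : u * u = t) (hxu : x * u ≠ u * x) : u * z * u⁻¹ = z * t := by
  have h1 := hx.2 u hu
  have h2 : x * u * x⁻¹ = t * u := hL.anti h hu huu hx.1 hxx (fun h3 => hxu h3.symm)
  rw [h2, mul_inv_eq_iff_eq_mul] at h1
  -- `z u = t u z`
  have h3 : t * u = u * t := (hL.comm_z h hu).symm
  have htt := hL.inZ.z2 h
  have h4 : u * z = z * t * u := by
    calc u * z = (t * t) * u * z := by rw [htt, one_mul]
      _ = t * (t * u * z) := by group
      _ = t * (z * u) := by rw [h1]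
      _ = t * (z * u) := rfl
      _ = (t * z) * u := by group
      _ = z * t * u := by
        have h5 : t * z = z * t := by
          -- `z` commutes with `t = u²`
          have h6 : z * (u * u) = (u * u) * z := by
            calc z * (u * u) = (z * u) * u := by group
              _ = t * u * z * u := by rw [h1]
              _ = t * u * (z * u) := by group
              _ = t * u * (t * u * z) := by rw [h1]
              _ = t * (u * t) * u * z := by group
              _ = t * (t * u) * u * z := by rw [h3]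
              _ = (t * t) * (u * u) * z := by group
              _ = (u * u) * z := by rw [htt, one_mul]
          rw [huu] at h6
          exact h6.symm
        rw [h5]
  rw [h4, mul_inv_cancel_right]

theorem TI.conj_z (hti : TI Om z t) (h : WM Om) (hL : Mem Om t L) (hx : As L z x) (hu : u ∈ L)
    (huu : u * u = t) (hxu : x * u ≠ u * x) : u * z * u⁻¹ = z * t :=
  As.conj_z hL h hx ((hti.symm h).sq_of_as h hL hx) hu huu hxu

/-- `u y u⁻¹ = x^{±1} y` -/
theorem TI.conj_y (hti : TI Om z t) (h : WM Om) (hK : Mem Om z K) (hL : Mem Om t L) (hy : As K t y) (hx : As L z x)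
    (hu : u ∈ L) (huu : u * u = t) (hxu : x * u ≠ u * x) :
    u * y * u⁻¹ = x * y ∨ u * y * u⁻¹ = t * (x * y) := by
  obtain ⟨-, h1, h2⟩ := hti.rot h hK hL hy hx
  have hxx := (hti.symm h).sq_of_as h hL hx
  have ht : t * u = u * t := (hL.comm_z h hu).symm
  have htx : t * x = x * t := (hL.comm_z h hx.1).symm
  have htt := hL.inZ.z2 h
  have h3 : x * u * x⁻¹ = t * u := hL.anti h hu huu hx.1 hxx (fun h3 => hxu h3.symm)
  have h4 : x * u = t * u * x := by rwa [mul_inv_eq_iff_eq_mul] at h3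
  have h5 : t * (t * (x * y)) = x * y := by rw [← mul_assoc, htt, one_mul]
  have hxu' : u * x = t * (x * u) := by
    rw [h4]
    calc u * x = (t * t) * u * x := by rw [htt, one_mul]
      _ = _ := by group
  rcases h2 u hu huu hxu with h6 | h6
  · -- `y u = x u y`
    right
    rw [mul_inv_eq_iff_eq_mul] at h6 ⊢
    calc u * y = (t * t) * (u * y) := by rw [htt, one_mul]
      _ = t * (t * (x * x)⁻¹) * (x * x) * (u * y) := by group
      _ = t * (t * t⁻¹) * (x * x) * (u * y) := by rw [hxx]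
      _ = t * x * (x * u * y) := by group
      _ = t * x * (y * u) := by rw [h6]
      _ = t * (x * y) * u := by group
  · left
    rw [mul_inv_eq_iff_eq_mul] at h6 ⊢
    calc u * y = (t * t) * (u * y) := by rw [htt, one_mul]
      _ = (x * x) * t * (u * y) := by rw [hxx]
      _ = x * (x * t) * (u * y) := by group
      _ = x * (t * x) * (u * y) := by rw [htx]
      _ = x * (t * (x * u) * y) := by group
      _ = x * (y * u) := by rw [h6]
      _ = x * y * u := by group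

/-! ### The third involution -/

theorem TI.mul_right (hti : TI Om z t) (h : WM Om) : TI Om z (z * t) := by
  obtain ⟨K, hK⟩ := hti.inZ
  obtain ⟨y, hy, hyy⟩ := hti.exists_as h hK
  obtain ⟨v, hv, hvv, hyv⟩ := hK.exists_nc h hy.1 hyy
  have h1 := (hti.symm h).conj_z h hK hy hv hvv hyv
  have h2 := hti.conj h v
  rw [h1, hK.comm_z h hv, mul_inv_cancel_right, ← hti.comm] at h2
  exact h2

theorem TI.mul_left (hti : TI Om z t) (h : WM Om) : TI Om t (z * t) := by
  have := (hti.symm h).mul_right h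
  rwa [← hti.comm] at this

theorem TI.inZ_mul (hti : TI Om z t) (h : WM Om) : InZ Om (z * t) := (hti.mul_right h).inT

/-! ### (H) -/

/-- `V = {1, z, t, zt}` -/
def VV (z t v : G) : Prop := v = 1 ∨ v = z ∨ v = t ∨ v = z * t

theorem VV.one : VV z t 1 := Or.inl rfl

/-- elements of `V` are trivial on all members over `z`, or act as `t` on all members -/
theorem VV.act {v : G} (hv : VV z t v) (hti : TI Om z t) (h : WM Om) :
    (∀ K, Mem Om z K → As K v 1) ∨ (∀ K, Mem Om z K → ∀ y, As K t y → As K v y) := by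
  rcases hv with rfl | rfl | rfl | rfl
  · exact Or.inl fun K _ => As.self (one_mem _)
  · exact Or.inl fun K hK => hK.as_z h
  · exact Or.inr fun K _ y hy => hy
  · refine Or.inr fun K hK y hy => ?_
    have := (hK.as_z h).mul hy
    rwa [one_mul] at this

/-- **(H)** -/
theorem TI.hh (hti : TI Om z t) (h : WM Om) (hK : Mem Om z K) (hL : Mem Om t L) (hL' : Mem Om t L') (hne : L ≠ L')
    (hy : As K t y) (hx : As L z x) (hx' : As L' z x') :
    ∃ K' y' v, Mem Om z K' ∧ K ≠ K' ∧ As K' t y' ∧ VV z t v ∧ x * x' = v * (y * y') := by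
  have hyy := hti.sq_of_as h hK hy
  have hxx := (hti.symm h).sq_of_as h hL hx
  have hxx' := (hti.symm h).sq_of_as h hL' hx'
  have htt := hL.inZ.z2 h
  have hzz := hK.inZ.z2 h
  obtain ⟨u, hu, huu, hxu⟩ := hL.exists_nc h hx.1 hxx
  obtain ⟨u', hu', huu', hxu'⟩ := hL'.exists_nc h hx'.1 hxx'
  have e1 := hti.conj_z h hL hx hu huu hxu
  have e2 := hti.conj_z h hL' hx' hu' huu' hxu'
  have f1 := hti.conj_y h hK hL hy hx hu huu hxu
  have f2 := hti.conj_y h hK hL' hy hx' hu' huu' hxu'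
  obtain ⟨g, hg⟩ : ∃ g, g = u'⁻¹ * u := ⟨_, rfl⟩
  have hut : u * t = t * u := hL.comm_z h hu
  have hut' : u' * t = t * u' := hL'.comm_z h hu'
  have hgt : g * t = t * g := by
    rw [hg, mul_assoc, hut, ← mul_assoc, ← mul_assoc]
    congr 1
    rw [inv_mul_eq_iff_eq_mul, ← mul_assoc, hut', mul_inv_cancel_right]
  have hgz : g * z = z * g := by
    have e3 : u'⁻¹ * (z * t) * u' = z := by rw [← e2]; group
    rw [hg]
    calc u'⁻¹ * u * z = u'⁻¹ * (u * z * u⁻¹) * u := by group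
      _ = u'⁻¹ * (z * t) * u := by rw [e1]
      _ = (u'⁻¹ * (z * t) * u') * (u'⁻¹ * u) := by group
      _ = _ := by rw [e3]
  have hK' : Mem Om z (cj g K) := hK.cj_comm h hgz
  have hy' : As (cj g K) t (g * y * g⁻¹) := hy.conj_comm hgt
  have hxc : x * x' = x' * x := hL.comm hL' h hne hx.1 hx'.1
  have hux' : u * x' = x' * u := hL.comm hL' h hne hu hx'.1
  have hxu'c : x * u' = u' * x := hL.comm hL' h hne hx.1 hu'
  have htx : t * x = x * t := (hL.comm_z h hx.1).symm
  have htx' : t * x' = x' * t := (hL'.comm_z h hx'.1).symm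
  -- `g y g⁻¹ = t^δ x x' y`
  have h1 : g * y * g⁻¹ = x * x' * y ∨ g * y * g⁻¹ = t * (x * x' * y) := by
    have h3 : x' * u' * x'⁻¹ = t * u' := hL'.anti h hu' huu' hx'.1 hxx' (fun h3 => hxu' h3.symm)
    have h4 : u'⁻¹ * x' * u' = t * x' := by
      have h5 : u' * x' * u'⁻¹ = t * x' := hL'.anti h hx'.1 hxx' hu' huu' hxu'
      have h6 : u'⁻¹ * (u' * x' * u'⁻¹) * u' = x' := by group
      rw [h5] at h6
      have h7 : u'⁻¹ * (t * x') * u' = t * (u'⁻¹ * x' * u') := by
        have h8 : u'⁻¹ * t = t * u'⁻¹ := by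
          rw [inv_mul_eq_iff_eq_mul, ← mul_assoc, hut', mul_inv_cancel_right]
        calc u'⁻¹ * (t * x') * u' = (u'⁻¹ * t) * x' * u' := by group
          _ = (t * u'⁻¹) * x' * u' := by rw [h8]
          _ = _ := by group
      rw [h7] at h6
      calc u'⁻¹ * x' * u' = (t * t) * (u'⁻¹ * x' * u') := by rw [htt, one_mul]
        _ = t * (t * (u'⁻¹ * x' * u')) := by group
        _ = t * x' := by rw [h6]
    have h8 : u'⁻¹ * t * u' = t := by
      rw [mul_assoc, ← hut', inv_mul_cancel_left]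
    have h9 : u'⁻¹ * x * u' = x := by
      rw [mul_assoc, hxu'c, inv_mul_cancel_left]
    -- `u'⁻¹ y u'`
    have h10 : u'⁻¹ * y * u' = x' * y ∨ u'⁻¹ * y * u' = t * (x' * y) := by
      have h11 : ∀ w : G, t * (t * w) = w := fun w => by rw [← mul_assoc, htt, one_mul]
      have h12 : x'⁻¹ = t * x' := hL'.inv_eq h hx'.1 hxx'
      rcases f2 with f2 | f2
      · -- `u' y u'⁻¹ = x' y`
        left
        have h13 : y = (u'⁻¹ * x' * u') * (u'⁻¹ * y * u') := by
          calc y = u'⁻¹ * (u' * y * u'⁻¹) * u' := by group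
            _ = u'⁻¹ * (x' * y) * u' := by rw [f2]
            _ = _ := by group
        rw [h4] at h13
        have h14 : u'⁻¹ * y * u' = (t * x')⁻¹ * y := by
          rw [eq_inv_mul_iff_mul_eq]; exact h13.symm
        rw [h14, ← h12, inv_inv]
      · right
        have h13 : y = (u'⁻¹ * t * u') * (u'⁻¹ * x' * u') * (u'⁻¹ * y * u') := by
          calc y = u'⁻¹ * (u' * y * u'⁻¹) * u' := by group
            _ = u'⁻¹ * (t * (x' * y)) * u' := by rw [f2]
            _ = _ := by group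
        rw [h4, h8, h11] at h13
        have h14 : u'⁻¹ * y * u' = x'⁻¹ * y := by
          rw [eq_inv_mul_iff_mul_eq]; exact h13.symm
        rw [h14, h12, mul_assoc]
    have h15 : g * y * g⁻¹ = u'⁻¹ * (u * y * u⁻¹) * u' := by rw [hg]; group
    have h16 : ∀ w, w = x * y ∨ w = t * (x * y) → u'⁻¹ * w * u' = x * (u'⁻¹ * y * u') ∨
        u'⁻¹ * w * u' = t * (x * (u'⁻¹ * y * u')) := by
      rintro w (rfl | rfl)
      · left
        calc u'⁻¹ * (x * y) * u' = (u'⁻¹ * x * u') * (u'⁻¹ * y * u') := by group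
          _ = _ := by rw [h9]
      · right
        calc u'⁻¹ * (t * (x * y)) * u' = (u'⁻¹ * t * u') * ((u'⁻¹ * x * u') * (u'⁻¹ * y * u')) := by group
          _ = _ := by rw [h8, h9]
    have h11 : ∀ w : G, t * (t * w) = w := fun w => by rw [← mul_assoc, htt, one_mul]
    have h17 : x * (t * (x' * y)) = t * (x * x' * y) := by
      calc x * (t * (x' * y)) = (x * t) * x' * y := by group
        _ = (t * x) * x' * y := by rw [htx]
        _ = _ := by group
    rw [h15]
    rcases h16 _ f1 with h18 | h18 <;> rcases h10 with h19 | h19 <;> rw [h18, h19]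
    · left; group
    · right; exact h17
    · right; group
    · left; rw [h17, h11]
  -- `K' ≠ K`
  have hyx : x * x' * y = y * (x * x') := by
    have a1 := hti.yx h hK hL hy hx
    have a2 := hti.yx h hK hL' hy hx'
    calc x * x' * y = x * (x' * y) := by group
      _ = x * (y * x') := by rw [a2]
      _ = (x * y) * x' := by group
      _ = (y * x) * x' := by rw [a1]
      _ = _ := by group
  have hKK' : K ≠ cj g K := by
    intro he
    have hy'' : As K t (g * y * g⁻¹) := by rw [he]; exact hy'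
    have h2 : VV z t (x * x') := by
      -- `x x' y ∈ V y`
      have h3 : ∀ w, x * x' * y = w * y → x * x' = w := fun w hw => mul_right_cancel hw
      have h11 : ∀ w : G, t * (t * w) = w := fun w => by rw [← mul_assoc, htt, one_mul]
      rcases hK.as_unique h hy hy'' with h4 | h4 <;> rcases h1 with h1 | h1
      · left; apply h3; rw [one_mul, ← h1, h4]
      · right; right; left; apply h3
        rw [h4] at h1
        rw [← h11 (x * x' * y), ← h1]
      · right; left; apply h3; rw [← h1, h4]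
      · right; right; right; apply h3
        rw [h4] at h1
        rw [← h11 (x * x' * y), ← h1, ← mul_assoc, hti.comm]
    -- act on the members over `t`
    obtain ⟨L'', hL'', hn1, hn2⟩ := hL.third hL' h
    have h3 : As L (x * x') x := by
      have := (As.self hx.1).mul (hL.as_one hL' h hne hx'.1)
      rwa [mul_one] at this
    have h4 : As L'' (x * x') 1 := by
      have := (hL''.as_one hL h hn1 hx.1).mul (hL''.as_one hL' h hn2 hx'.1)
      rwa [mul_one] at this
    have h2' : VV t z (x * x') := by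
      rcases h2 with h2 | h2 | h2 | h2
      · exact Or.inl h2
      · exact Or.inr (Or.inr (Or.inl h2))
      · exact Or.inr (Or.inl h2)
      · exact Or.inr (Or.inr (Or.inr (by rw [h2, hti.comm])))
    rcases h2'.act (hti.symm h) h with h5 | h5
    · exact hL.not_as_one h h3 hxx (h5 L hL)
    · obtain ⟨x'', hx'', hxx''⟩ := (hti.symm h).exists_as h hL''
      exact hL''.not_as_one h (h5 L'' hL'' x'' hx'') hxx'' h4
  refine ⟨cj g K, g * y * g⁻¹, ?_⟩
  -- `x x' = t^δ (g y g⁻¹) y⁻¹`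
  have hyi : y⁻¹ = z * y := hK.inv_eq h hy.1 hyy
  have hyy' : y * (g * y * g⁻¹) = g * y * g⁻¹ * y := hK.comm hK' h hKK' hy.1 hy'.1
  have hzy' : z * (g * y * g⁻¹) = (g * y * g⁻¹) * z := (hK'.comm_z h hy'.1).symm
  have h11 : ∀ w : G, t * (t * w) = w := fun w => by rw [← mul_assoc, htt, one_mul]
  rcases h1 with h1 | h1
  · refine ⟨z, hK', hKK', hy', Or.inr (Or.inl rfl), ?_⟩
    have h2 : x * x' = g * y * g⁻¹ * y⁻¹ := by rw [h1, mul_inv_cancel_right]
    rw [h2, hyi, hyy', ← mul_assoc, ← hzy', mul_assoc]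
  · refine ⟨z * t, hK', hKK', hy', Or.inr (Or.inr (Or.inr rfl)), ?_⟩
    have h2 : x * x' = t * (g * y * g⁻¹ * y⁻¹) := by
      rw [h1]
      calc x * x' = t * (t * (x * x')) := (h11 _).symm
        _ = _ := by group
    rw [h2, hyi, hyy']
    calc t * (g * y * g⁻¹ * (z * y)) = t * ((g * y * g⁻¹ * z) * y) := by group
      _ = t * ((z * (g * y * g⁻¹)) * y) := by rw [hzy']
      _ = (t * z) * (g * y * g⁻¹ * y) := by group
      _ = _ := by rw [hti.comm]

/-! ### `R_z` -/

/-- the components of an element of `R_z` -/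
theorem Fr.as_prod {F : Fin 4 → Subgroup G} (f : Fr Om z F) (h : WM Om) {k : Fin 4 → G} (hk : ∀ i, k i ∈ F i)
    (i : Fin 4) : As (F i) (k 0 * k 1 * k 2 * k 3) (k i) := by
  have key : ∀ i j : Fin 4, As (F i) (k j) (if j = i then k i else 1) := by
    intro i j
    split_ifs with hij
    · subst hij; exact As.self (hk j)
    · exact (f.mem i).as_one (f.mem j) h (f.ne (Ne.symm hij)) (hk j)
  have h1 := (((key i 0).mul (key i 1)).mul (key i 2)).mul (key i 3)
  fin_cases i <;> simpa using h1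

/-- an element of `R_z` which centralises all members is `1` or `z` -/
theorem RZ_center (h : WM Om) (hz : InZ Om z) (hr : g ∈ RZ Om z) (hc : ∀ K, Mem Om z K → As K g 1) :
    g = 1 ∨ g = z := by
  obtain ⟨F, f⟩ := hz.exists_fr h
  obtain ⟨k, hk, rfl⟩ := (mem_RZ f h).1 hr
  have h1 : ∀ i, k i = 1 ∨ k i = z := fun i => (f.mem i).as_center h (f.as_prod h hk i) (hc _ (f.mem i))
  have hzz := hz.z2 h
  rcases h1 0 with h2 | h2 <;> rcases h1 1 with h3 | h3 <;> rcases h1 2 with h4 | h4 <;> rcases h1 3 with h5 | h5 <;>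
    rw [h2, h3, h4, h5] <;> simp [hzz]

/-- two elements of `R_z` with the same action on all members -/
theorem eq_or_of_as (h : WM Om) (hz : InZ Om z) (hg : g ∈ RZ Om z) (hn : n ∈ RZ Om z)
    (hc : ∀ K, Mem Om z K → ∃ y, As K g y ∧ As K n y) : n = g ∨ n = z * g := by
  have h1 : n * g⁻¹ ∈ RZ Om z := mul_mem hn (inv_mem hg)
  rcases RZ_center h hz h1 fun K hK => by
    obtain ⟨y, h2, h3⟩ := hc K hK
    have := h3.mul h2.inv
    rwa [mul_inv_cancel] at this with h2 | h2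
  · left; exact mul_inv_eq_one.1 h2
  · right; rw [mul_inv_eq_iff_eq_mul] at h2; exact h2

/-- `t ∈ Z ∩ R_z`, `t ≠ z` is of type I -/
theorem TI.of_mem_RZ (h : WM Om) (hz : InZ Om z) (ht : InZ Om t) (hne : z ≠ t) (hr : t ∈ RZ Om z) : TI Om z t := by
  refine ⟨hz, ht, hne, (RZ_le_centralizer h hr).symm, Inn.of_RZ hz h hr, fun K hK hc => ?_⟩
  rcases RZ_center h hz hr (fun M hM => As.one_iff.2 (InZ.cent_all hK ht h hne hc hM)) with h1 | h1
  · exact ht.z1 h h1
  · exact hne h1.symm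

theorem exists_as_of_inn (h : WM Om) (hK : Mem Om z K) (hi : Inn Om z g) : ∃ y, As K g y := by
  obtain ⟨a, qa⟩ := h.exists_q3 hK
  rcases qa.inner_cases (hi K hK) with h1 | ⟨j, h1⟩
  · exact ⟨1, one_mem _, fun k hk => by rw [h1 k hk]; group⟩
  · exact ⟨a j, qa.mem j, h1⟩

theorem exists_as_of_mem (h : WM Om) (hK : Mem Om z K) (hg : g ∈ RZ Om z) : ∃ y, As K g y :=
  exists_as_of_inn h hK (Inn.of_RZ hK.inZ h hg)

theorem VV.mem_of {v : G} (hv : VV z t v) (hz : InZ Om z) (h : WM Om) (ht : t ∈ RZ Om z) : v ∈ RZ Om z := by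
  rcases hv with rfl | rfl | rfl | rfl
  · exact one_mem _
  · exact z_mem_RZ hz h
  · exact ht
  · exact mul_mem (z_mem_RZ hz h) ht

theorem VV.mul {v w : G} (hzz : z * z = 1) (htt : t * t = 1) (hzt : z * t = t * z) (hv : VV z t v) (hw : VV z t w) :
    VV z t (v * w) := by
  have e1 : ∀ g : G, z * (z * g) = g := fun g => by rw [← mul_assoc, hzz, one_mul]
  have e2 : ∀ g : G, t * (t * g) = g := fun g => by rw [← mul_assoc, htt, one_mul]
  have e3 : ∀ g : G, t * (z * g) = z * (t * g) := fun g => by rw [← mul_assoc, ← hzt, mul_assoc]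
  rcases hv with rfl | rfl | rfl | rfl <;> rcases hw with rfl | rfl | rfl | rfl <;>
    simp only [VV, one_mul, mul_one, mul_assoc, hzz, htt, e1, e3, ← hzt, true_or, or_true]

/-- **(1.4)** a type I neighbour of `z` lies in `R_z` -/
theorem TI.mem_RZ (hti : TI Om z t) (h : WM Om) : t ∈ RZ Om z := by
  obtain ⟨L, hL⟩ := hti.inT
  obtain ⟨L', hL', hne⟩ := hL.other h
  obtain ⟨K, hK⟩ := hti.inZ
  obtain ⟨x, hx, hxx⟩ := (hti.symm h).exists_as h hL
  obtain ⟨x', hx', hxx'⟩ := (hti.symm h).exists_as h hL'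
  obtain ⟨y0, hy0, hyy0⟩ := hti.exists_as h hK
  obtain ⟨K', y1, v, hK', hKK', hy1, hv, e1⟩ := hti.hh h hK hL hL' hne hy0 hx hx'
  obtain ⟨F, f, rfl, rfl⟩ := hK.exists_fr2 hK' h hKK'
  obtain ⟨y2, hy2, hyy2⟩ := hti.exists_as h (f.mem 2)
  obtain ⟨y3, hy3, hyy3⟩ := hti.exists_as h (f.mem 3)
  have hyy1 := hti.sq_of_as h (f.mem 1) hy1
  obtain ⟨K'', w, v', hK'', hne2, hw, hv', e2⟩ := hti.hh h (f.mem 2) hL hL' hne hy2 hx hx'
  obtain ⟨j, rfl⟩ := f.cov K'' hK''
  have hzz := hK.inZ.z2 h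
  have htt := hL.inZ.z2 h
  have hzt := hti.comm
  have hz1 := hK.inZ.z1 h
  -- actions
  have as1 : ∀ {i j : Fin 4} {x : G}, i ≠ j → x ∈ F j → As (F i) x 1 := fun hij hx =>
    (f.mem _).as_one (f.mem _) h (f.ne hij) hx
  have e : v * (y0 * y1) = v' * (y2 * w) := e1.symm.trans e2
  have hj : j = 3 := by
    have hj2 : j ≠ 2 := fun hh => hne2 (by rw [hh])
    -- `j = i ∈ {0, 1}`
    have key : ∀ i i' : Fin 4, i ≠ i' → i ≠ 2 → i' ≠ 2 → i ≠ 3 → i' ≠ 3 → ∀ p q : G, As (F i) t p → As (F i') t q →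
        v * (p * q) = v' * (y2 * w) → j = i → False := by
      intro i i' hii hi2 hi2' hi3 hi3' p q hp hq he hji
      subst hji
      have hqq := hti.sq_of_as h (f.mem i') hq
      have a1 : As (F i') (v⁻¹ * v' * (y2 * w)) q := by
        have h1 : v⁻¹ * v' * (y2 * w) = p * q := by rw [mul_assoc, ← he, inv_mul_cancel_left]
        rw [h1]
        have := (as1 (Ne.symm hii) hp.1).mul (As.self hq.1)
        rwa [one_mul] at this
      have a2 : As (F i') (y2 * w) 1 := by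
        have := (as1 hi2' hy2.1).mul (as1 (Ne.symm hii) hw.1)
        rwa [one_mul] at this
      have a3 : As (F i') (v⁻¹ * v') q := by
        have := a1.mul a2.inv
        rwa [mul_inv_cancel_right, inv_one, mul_one] at this
      have a4 : As (F 3) (v⁻¹ * v') 1 := by
        have h1 : v⁻¹ * v' = p * q * (y2 * w)⁻¹ := by
          rw [eq_mul_inv_iff_mul_eq, mul_assoc, ← he, inv_mul_cancel_left]
        rw [h1]
        have := ((as1 (Ne.symm hi3) hp.1).mul (as1 (Ne.symm hi3') hq.1)).mul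
          ((as1 (show (3 : Fin 4) ≠ 2 by decide) hy2.1).mul (as1 (Ne.symm hi3) hw.1)).inv
        simpa using this
      have hvi : v⁻¹ = v := by
        rcases hv with rfl | rfl | rfl | rfl
        · simp
        · exact inv_eq_of_mul_eq_one_right hzz
        · exact inv_eq_of_mul_eq_one_right htt
        · apply inv_eq_of_mul_eq_one_right
          calc z * t * (z * t) = z * (t * z) * t := by group
            _ = (z * z) * (t * t) := by rw [← hzt]; group
            _ = 1 := by rw [hzz, htt, one_mul]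
      have h5 : VV z t (v⁻¹ * v') := by rw [hvi]; exact hv.mul hzz htt hzt hv'
      rcases h5.act hti h with h6 | h6
      · exact (f.mem i').not_as_one h a3 hqq (h6 _ (f.mem i'))
      · exact (f.mem 3).not_as_one h (h6 _ (f.mem 3) _ hy3) hyy3 a4
    by_contra hj3
    have h01 : j = 0 ∨ j = 1 := by
      have hf : ∀ j : Fin 4, j ≠ 2 → j ≠ 3 → j = 0 ∨ j = 1 := by decide
      exact hf j hj2 hj3
    rcases h01 with h0 | h0
    · exact key 0 1 (by decide) (by decide) (by decide) (by decide) (by decide) y0 y1 hy0 hy1 e h0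
    · refine key 1 0 (by decide) (by decide) (by decide) (by decide) (by decide) y1 y0 hy1 hy0 ?_ h0
      rw [← e, (f.mem 1).comm (f.mem 0) h (f.ne (by decide)) hy1.1 hy0.1]
  subst hj
  -- `w0 = y0 y1 y2 w ∈ V`
  have hww := hti.sq_of_as h (f.mem 3) hw
  have hRZ : ∀ {i : Fin 4} {x : G}, x ∈ F i → x ∈ RZ Om z := fun hx => (f.mem _).le_RZ hx
  have hvi : v⁻¹ = v := by
    rcases hv with rfl | rfl | rfl | rfl
    · simp
    · exact inv_eq_of_mul_eq_one_right hzz
    · exact inv_eq_of_mul_eq_one_right htt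
    · apply inv_eq_of_mul_eq_one_right
      calc z * t * (z * t) = z * (t * z) * t := by group
        _ = (z * z) * (t * t) := by rw [← hzt]; group
        _ = 1 := by rw [hzz, htt, one_mul]
  have h5 : VV z t (v⁻¹ * v') := by rw [hvi]; exact hv.mul hzz htt hzt hv'
  have h6 : v⁻¹ * v' = y0 * y1 * (y2 * w)⁻¹ := by
    rw [eq_mul_inv_iff_mul_eq, mul_assoc, ← e, inv_mul_cancel_left]
  have h7 : v⁻¹ * v' ∈ RZ Om z := by
    rw [h6]; exact mul_mem (mul_mem (hRZ hy0.1) (hRZ hy1.1)) (inv_mem (mul_mem (hRZ hy2.1) (hRZ hw.1)))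
  have h8 : As (F 0) (v⁻¹ * v') y0 := by
    rw [h6]
    have := ((As.self hy0.1).mul (as1 (show (0 : Fin 4) ≠ 1 by decide) hy1.1)).mul
      ((as1 (show (0 : Fin 4) ≠ 2 by decide) hy2.1).mul (as1 (show (0 : Fin 4) ≠ 3 by decide) hw.1)).inv
    simpa using this
  have h9 := (f.mem 0).not_as_one h h8 hyy0
  rcases h5 with h10 | h10 | h10 | h10
  · rw [h10] at h9; exact absurd (As.self (one_mem _)) h9
  · rw [h10] at h9; exact absurd ((f.mem 0).as_z h) h9
  · rwa [h10] at h7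
  · rw [h10] at h7
    have h11 : t = z * (z * t) := by rw [← mul_assoc, hzz, one_mul]
    rw [h11]
    exact mul_mem (z_mem_RZ hK.inZ h) h7

theorem TI.iff (h : WM Om) (hz : InZ Om z) : TI Om z t ↔ InZ Om t ∧ z ≠ t ∧ t ∈ RZ Om z :=
  ⟨fun h1 => ⟨h1.inT, h1.ne, h1.mem_RZ h⟩, fun h1 => TI.of_mem_RZ h hz h1.1 h1.2.1 h1.2.2⟩

/-- **(1.5)** `x x' ∈ R_z` -/
theorem TI.xx_mem (hti : TI Om z t) (h : WM Om) (hL : Mem Om t L) (hL' : Mem Om t L') (hne : L ≠ L')
    (hx : As L z x) (hx' : As L' z x') : x * x' ∈ RZ Om z := by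
  obtain ⟨K, hK⟩ := hti.inZ
  obtain ⟨y, hy, -⟩ := hti.exists_as h hK
  obtain ⟨K', y', v, hK', -, hy', hv, e1⟩ := hti.hh h hK hL hL' hne hy hx hx'
  rw [e1]
  exact mul_mem (hv.mem_of hK.inZ h (hti.mem_RZ h)) (mul_mem (hK.le_RZ hy.1) (hK'.le_RZ hy'.1))

/-- `x x'` is `v y y'` with `K` prescribed, two other members on which it acts like `v` -/
theorem TI.xx_not_cent (hti : TI Om z t) (h : WM Om) (hL : Mem Om t L) (hL' : Mem Om t L') (hne : L ≠ L')
    (hx : As L z x) (hx' : As L' z x') : ¬ ∀ K, Mem Om z K → As K (x * x') 1 := by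
  intro hc
  obtain ⟨K, hK⟩ := hti.inZ
  obtain ⟨y, hy, hyy⟩ := hti.exists_as h hK
  obtain ⟨K', y', v, hK', hKK', hy', hv, e1⟩ := hti.hh h hK hL hL' hne hy hx hx'
  obtain ⟨M, hM, hn1, hn2⟩ := hK.third hK' h
  rw [e1] at hc
  have a1 : As K (y * y') y := by
    have := (As.self hy.1).mul (hK.as_one hK' h hKK' hy'.1)
    rwa [mul_one] at this
  have a2 : As M (y * y') 1 := by
    have := (hM.as_one hK h hn1 hy.1).mul (hM.as_one hK' h hn2 hy'.1)
    rwa [mul_one] at this
  rcases hv.act hti h with h5 | h5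
  · have := (h5 K hK).mul a1
    rw [one_mul] at this
    exact hK.not_as_one h this hyy (hc K hK)
  · obtain ⟨m, hm, hmm⟩ := hti.exists_as h hM
    have := (h5 M hM m hm).mul a2
    rw [mul_one] at this
    exact hM.not_as_one h this hmm (hc M hM)

end

end Cfsg.Agent.Cit.Nil.RI
end

-- part: Cit/Nil/RI/TSFour
section
/-!
# S1309, (6b), (C3), `r = 4`, any `m`: THEOREM TS4 (helper488, section 2 of `blueprints/R18-6b-r4-helper488.md`)

Type I pairs exist (every `z ∈ Z` has a type I neighbour).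

* `WM.wr`, `RR_eq`, `tri` : bridge to `RG` (helper488);
* `cp_of_ti` (1.6) : `(z, a)` C-pair, `(z, t)` type I, then `(t, a)` is a C-pair;
* `Blk Om z t` : same block (connected component of the type I graph); `cp_blk`, `not_cp_blk`;
* `line`, `exists_fixed` (1.4), without counting;
* `key` (KEY), `four` (FOUR), `exists_cd`, `not_all_moved` (2b), **`ts4`**;
* **`cases`** : commuting elements of `Z` are equal, a C-pair or in the same block.
-/

set_option autoImplicit false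
set_option linter.style.haveILetI false
set_option linter.unusedSectionVars false

namespace Cfsg.Agent.Cit.Nil.RI

open Subgroup Cfsg Cfsg.Agent.Cit

open RG (WR CP Ov)

variable {G : Type*} [Group G] [Finite G] {Om : Set (Subgroup G)} {K L M : Subgroup G} {a c d s t u v x y z g : G}

/-! ### The bridge -/

theorem WM.wr (h : WM Om) : WR Om := WR.of_hyp h.hyp h.card

theorem RR_eq (z : G) : RG.RR Om z = RZ Om z := by
  refine le_antisymm (RG.SS_le fun K hK => Mem.le_RZ (z := z) hK) (RZ_le fun K hK => WR.le_RR (z := z) hK)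

theorem InZ.zz (hz : InZ Om z) : z ∈ RG.ZZ Om := hz

theorem TI.of_rg (h : WM Om) (hz : InZ Om z) (ht : InZ Om t) (hti : RG.TI Om z t) : TI Om z t := by
  obtain ⟨K, hK⟩ := hz
  obtain ⟨y, hy, hyy, h1⟩ := hti.2 K hK
  have hn : ¬ ∀ k ∈ K, y * k = k * y := by
    intro h2
    rcases h.wr.Ov_central hK hy h2 with h3 | h3
    · rw [h3, one_mul] at hyy
      exact hK.inZ.z1 h hyy.symm
    · rw [h3, hK.inZ.z2 h] at hyy
      exact hK.inZ.z1 h hyy.symm
  have hn' : ¬ ∀ k ∈ K, t * k = k * t := by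
    intro h2
    apply hn
    intro k hk
    have h3 := h1 k hk
    rw [h2 k hk, mul_inv_cancel_right, eq_mul_inv_iff_mul_eq] at h3
    exact h3.symm
  refine TI.of_one h hK ht ?_ ?_ hn'
  · rintro rfl
    exact hn' fun k hk => (hK.comm_z h hk).symm
  · intro k hk
    rw [h1 k hk]
    exact hK.comm_or h hk hy

/-- the trichotomy -/
theorem tri (h : WM Om) (hz : InZ Om z) (ht : InZ Om t) (hne : z ≠ t) :
    CP Om z t ∨ TI Om z t ∨ (RG.Fr Om z t ∧ RG.Fr Om t z) := by
  rcases h.wr.tri hz.zz ht.zz hne with h1 | h1 | h1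
  · exact Or.inl h1
  · exact Or.inr (Or.inl (TI.of_rg h hz ht h1))
  · exact Or.inr (Or.inr h1)

theorem cp_comm (h : WM Om) (hz : InZ Om z) (ht : InZ Om t) (hc : CP Om z t) : z * t = t * z :=
  h.wr.CP_comm hc hz ht

/-- the groups `R` of a C-pair commute -/
theorem cp_RZ (h : WM Om) (hc : CP Om z t) (hx : x ∈ RZ Om z) (hy : y ∈ RZ Om t) : x * y = y * x := by
  rw [← RR_eq] at hx hy
  exact h.wr.CP_RR hc hx hy

theorem cp_conj (h : WM Om) (hc : CP Om z t) (g : G) : CP Om (g * z * g⁻¹) (g * t * g⁻¹) := h.wr.CP_cj hc g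

/-! ### Blocks -/

theorem TI.not_cp (h : WM Om) (hti : TI Om z t) : ¬ CP Om z t := by
  intro hc
  obtain ⟨K, hK⟩ := hti.inZ
  exact hti.nc hK fun k hk => (cp_RZ h hc (hK.le_RZ hk) (z_mem_RZ hti.inT h)).symm

/-- **(1.6)** -/
theorem cp_of_ti (h : WM Om) (ha : InZ Om a) (hc : CP Om z a) (hti : TI Om z t) : CP Om t a := by
  obtain ⟨K, hK⟩ := ha
  have h1 : ∀ k ∈ K, t * k = k * t := fun k hk => cp_RZ h hc (hti.mem_RZ h) (hK.le_RZ hk)
  refine (h.wr.CP_of_cen hK h1 ?_).symm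
  rintro rfl
  exact hti.not_cp h hc

/-- the same block -/
def Blk (Om : Set (Subgroup G)) (z t : G) : Prop := Relation.ReflTransGen (TI Om) z t

theorem Blk.refl (z : G) : Blk Om z z := Relation.ReflTransGen.refl

theorem Blk.trans (h1 : Blk Om z t) (h2 : Blk Om t u) : Blk Om z u := Relation.ReflTransGen.trans h1 h2

theorem TI.blk (hti : TI Om z t) : Blk Om z t := Relation.ReflTransGen.single hti

theorem Blk.symm (h : WM Om) (h1 : Blk Om z t) : Blk Om t z := by
  induction h1 with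
  | refl => exact Blk.refl z
  | tail _ h2 ih => exact (h2.symm h).blk.trans ih

theorem Blk.conj (h : WM Om) (h1 : Blk Om z t) (g : G) : Blk Om (g * z * g⁻¹) (g * t * g⁻¹) := by
  induction h1 with
  | refl => exact Blk.refl _
  | tail _ h2 ih => exact ih.trans (h2.conj h g).blk

theorem Blk.inZ (hz : InZ Om z) (h1 : Blk Om z t) : InZ Om t := by
  induction h1 with
  | refl => exact hz
  | tail _ h2 _ => exact h2.inT

theorem cp_blk (h : WM Om) (ha : InZ Om a) (hc : CP Om z a) (hb : Blk Om z t) : CP Om t a := by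
  induction hb with
  | refl => exact hc
  | tail _ h2 ih => exact cp_of_ti h ha ih h2

theorem not_cp_blk (h : WM Om) (ht : InZ Om t) (hb : Blk Om z t) : ¬ CP Om z t := fun hc =>
  (cp_blk h ht hc hb).1 rfl

/-! ### (1.4) -/

/-- the product of the action with `z` -/
theorem Mem.as_mul_z (hK : Mem Om z K) (h : WM Om) (h1 : As K t y) : As K t (z * y) := by
  refine ⟨mul_mem (hK.zmem h) h1.1, fun k hk => ?_⟩
  have h2 : y * k * y⁻¹ ∈ K := mul_mem (mul_mem h1.1 hk) (inv_mem h1.1)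
  have h3 := hK.comm_z h h2
  rw [h1.2 k hk]
  calc y * k * y⁻¹ = (y * k * y⁻¹) * z * z⁻¹ := by group
    _ = z * (y * k * y⁻¹) * z⁻¹ := by rw [h3]
    _ = _ := by group

/-- **the third direction** -/
theorem line {t' y' : G} {L' : Subgroup G} (h : WM Om) (hti : TI Om s t) (hti' : TI Om s t') (hL : Mem Om t L)
    (hL' : Mem Om t' L') (hy : As L s y) (hy' : As L' s y') :
    y * t' * y⁻¹ = y' * t * y'⁻¹ ∨ y * t' * y⁻¹ = s * (y' * t * y'⁻¹) := by
  have hsy : y * s = s * y := hy.comm.symm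
  have hsy' : y' * s = s * y' := hy'.comm.symm
  have h1 := hti'.conj h y
  have h2 := hti.conj h y'
  rw [hsy, mul_inv_cancel_right] at h1
  rw [hsy', mul_inv_cancel_right] at h2
  refine eq_or_of_as h hti.inZ (h2.mem_RZ h) (h1.mem_RZ h) fun K hK => ?_
  obtain ⟨u, hu, huu⟩ := hti.exists_as h hK
  obtain ⟨u', hu', huu'⟩ := hti'.exists_as h hK
  obtain ⟨r1, r2, r3⟩ := (hti.symm h).rot h hL hK hy hu
  obtain ⟨p1, p2, p3⟩ := (hti'.symm h).rot h hL' hK hy' hu'
  have e1 : As K (y * t' * y⁻¹) (y * u' * y⁻¹) := by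
    have := hu'.conj y
    rwa [r1] at this
  have e2 : As K (y' * t * y'⁻¹) (y' * u * y'⁻¹) := by
    have := hu.conj y'
    rwa [p1] at this
  by_cases hc : u * u' = u' * u
  · have f1 : y * u' * y⁻¹ = u' := by
      rcases hK.of_comm h hu.1 huu hu'.1 hc with h3 | h3 | h3 | h3
      · rw [h3, one_mul] at huu'
        exact absurd huu'.symm (hK.inZ.z1 h)
      · rw [h3, hK.inZ.z2 h] at huu'
        exact absurd huu'.symm (hK.inZ.z1 h)
      · rw [h3, r2, mul_inv_cancel_right]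
      · rw [h3]
        calc y * (s * u) * y⁻¹ = (y * s) * u * y⁻¹ := by group
          _ = s * (y * u) * y⁻¹ := by rw [hsy]; group
          _ = s * (u * y) * y⁻¹ := by rw [r2]
          _ = s * u := by group
    have f2 : y' * u * y'⁻¹ = u := by
      rcases hK.of_comm h hu'.1 huu' hu.1 hc.symm with h3 | h3 | h3 | h3
      · rw [h3, one_mul] at huu
        exact absurd huu.symm (hK.inZ.z1 h)
      · rw [h3, hK.inZ.z2 h] at huu
        exact absurd huu.symm (hK.inZ.z1 h)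
      · rw [h3, p2, mul_inv_cancel_right]
      · rw [h3]
        calc y' * (s * u') * y'⁻¹ = (y' * s) * u' * y'⁻¹ := by group
          _ = s * (y' * u') * y'⁻¹ := by rw [hsy']; group
          _ = s * (u' * y') * y'⁻¹ := by rw [p2]
          _ = s * u' := by group
    rw [f1] at e1
    rw [f2] at e2
    rcases hK.of_comm h hu.1 huu hu'.1 hc with h3 | h3 | h3 | h3
    · rw [h3, one_mul] at huu'
      exact absurd huu'.symm (hK.inZ.z1 h)
    · rw [h3, hK.inZ.z2 h] at huu'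
      exact absurd huu'.symm (hK.inZ.z1 h)
    · rw [h3] at e1
      exact ⟨u, e2, e1⟩
    · rw [h3] at e1
      exact ⟨s * u, hK.as_mul_z h e2, e1⟩
  · have hanti : u' * u = s * (u * u') := by
      have h3 := hK.anti h hu.1 huu hu'.1 huu' hc
      rw [mul_inv_eq_iff_eq_mul] at h3
      rw [h3, mul_assoc]
    have hss := hK.inZ.z2 h
    have g1 : As K (y * t' * y⁻¹) (u * u') := by
      rcases r3 u' hu'.1 huu' hc with h3 | h3
      · rw [h3] at e1; exact e1
      · rw [h3] at e1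
        have := hK.as_mul_z h e1
        rwa [← mul_assoc, hss, one_mul] at this
    have g2 : As K (y' * t * y'⁻¹) (u' * u) := by
      rcases p3 u hu.1 huu (fun h3 => hc h3.symm) with h3 | h3
      · rw [h3] at e2; exact e2
      · rw [h3] at e2
        have := hK.as_mul_z h e2
        rwa [← mul_assoc, hss, one_mul] at this
    rw [hanti] at g2
    exact ⟨s * (u * u'), g2, hK.as_mul_z h g1⟩

/-- **(1.4)** an involution commuting with `s` fixes a direction -/
theorem exists_fixed (h : WM Om) (hti : TI Om s t) (ha : a * a = 1) (has : a * s = s * a) :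
    ∃ u, TI Om s u ∧ (a * u * a⁻¹ = u ∨ a * u * a⁻¹ = s * u) := by
  obtain ⟨L, hL⟩ := hti.inT
  obtain ⟨y, hy, -⟩ := (hti.symm h).exists_as h hL
  have hti' : TI Om s (a * t * a⁻¹) := by
    have := hti.conj h a
    rwa [has, mul_inv_cancel_right] at this
  have hL' : Mem Om (a * t * a⁻¹) (cj a L) := hL.cj h a
  have hy' : As (cj a L) s (a * y * a⁻¹) := hy.conj_comm has
  have h1 := line h hti hti' hL hL' hy hy'
  have h2 : TI Om s (y * (a * t * a⁻¹) * y⁻¹) := by
    have := hti'.conj h y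
    rwa [hy.comm.symm, mul_inv_cancel_right] at this
  refine ⟨_, h2, ?_⟩
  have h3 : a * (y * (a * t * a⁻¹) * y⁻¹) * a⁻¹ = a * y * a⁻¹ * t * (a * y * a⁻¹)⁻¹ := by
    calc a * (y * (a * t * a⁻¹) * y⁻¹) * a⁻¹ = (a * y * a⁻¹) * ((a * a) * t * (a * a)⁻¹) * (a * y * a⁻¹)⁻¹ := by group
      _ = _ := by rw [ha, one_mul, inv_one, mul_one]
  have hss := hti.inZ.z2 h
  rw [h3]
  rcases h1 with h1 | h1
  · left; exact h1.symm
  · right; rw [h1, ← mul_assoc, hss, one_mul]

/-! ### (KEY), (FOUR) -/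

/-- **(KEY)** -/
theorem key (h : WM Om) (hc : InZ Om c) (hx : x * x = 1) (hxc : x * c = c * x) (hf : RG.Fr Om x c) (hv : v ∈ RZ Om c)
    (hvv : v * v = 1) (hm : x * v * x⁻¹ = v ∨ x * v * x⁻¹ = c * v) : x * v * x⁻¹ = v := by
  rw [← RR_eq] at hv
  have h1 := (h.wr.surj hc hx hxc hf hv hm).1
  rw [h1]
  exact inv_eq_of_mul_eq_one_right hvv

/-- **(FOUR)** -/
theorem four (h : WM Om) (hK : Mem Om z K) (hu : u * u = 1) (hv : v * v = 1) (huv : u * v = v * u) (huK : cj u K = K)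
    (hvK : cj v K = K) (nu : ¬ RG.Inn u K) (nv : ¬ RG.Inn v K) (nuv : ¬ RG.Inn (u * v) K) : False := by
  obtain ⟨a, ha⟩ := (h.wr.inn_or_tr hK.1 huK hu).resolve_left nu
  obtain ⟨b, hb⟩ := (h.wr.inn_or_tr hK.1 hvK hv).resolve_left nv
  obtain ⟨w, hw⟩ : ∃ w, w = v * a * v⁻¹ := ⟨_, rfl⟩
  have hwK : w ∈ K := by rw [hw]; exact RG.conj_mem_of_cj hvK ha.mem
  have hzK : v * zz K * v⁻¹ = zz K := by
    rw [← h.wr.zcj hK.1, hvK]
  have hww : w * w = zz K := by
    calc w * w = v * (a * a) * v⁻¹ := by rw [hw]; group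
      _ = zz K := by rw [ha.sq, hzK]
  have h1 : u * w * u⁻¹ = w⁻¹ := by
    calc u * w * u⁻¹ = (u * v) * a * (u * v)⁻¹ := by rw [hw]; group
      _ = (v * u) * a * (v * u)⁻¹ := by rw [huv]
      _ = v * (u * a * u⁻¹) * v⁻¹ := by group
      _ = v * a⁻¹ * v⁻¹ := by rw [ha.inv]
      _ = w⁻¹ := by rw [hw]; group
  have h2 : w = a ∨ w = a⁻¹ := by
    by_contra hcon
    push Not at hcon
    exact (ha.ne w hwK hww hcon.1 hcon.2).2 h1
  have h3 : b = a ∨ b = a⁻¹ := by
    by_contra hcon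
    push Not at hcon
    have h4 : a ≠ b := fun h5 => hcon.1 h5.symm
    have h5 : a ≠ b⁻¹ := fun h6 => hcon.2 (by rw [h6, inv_inv])
    have h6 := hb.ne a ha.mem ha.sq h4 h5
    rw [← hw] at h6
    rcases h2 with h2 | h2
    · exact h6.1 h2
    · exact h6.2 h2
  exact nuv (h.wr.inn_of_tr hK.1 huK hvK ha hb h3)

/-! ### (b) -/

theorem Fr.mul_comm' {F : Fin 4 → Subgroup G} (f : Fr Om z F) (h : WM Om) {i j : Fin 4} (hij : i ≠ j) {p q : G}
    (hp : p ∈ F i) (hq : q ∈ F j) : p * q = q * p := (f.mem i).comm (f.mem j) h (f.ne hij) hp hq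

/-- if `a` moves all members over `s`: an element `d = k₀ k₁` with `[a, d] = c`, `(s, c)` of type I -/
theorem exists_cd (h : WM Om) (hti : TI Om s t) (ha : a * a = 1) (has : a * s = s * a) (hat : a * t = t * a)
    (hcon : ∀ K, Mem Om s K → cj a K ≠ K) :
    ∃ c d, TI Om s c ∧ a * c = c * a ∧ d ∈ RZ Om s ∧ d ∈ RZ Om c ∧ d * d = 1 ∧ a * d * a⁻¹ = c * d := by
  obtain ⟨K, hK⟩ := hti.inZ
  have hK' := hK.cj_comm h has
  have haK : ∀ M : Subgroup G, cj a (cj a M) = M := fun M => by rw [← cj_mul, ha, cj_one]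
  obtain ⟨M, hM, hMK, hMK'⟩ := hK.third hK' h
  -- the frame `K, M, K^a, M^a`
  have hM' := hM.cj_comm h has
  obtain ⟨F, f⟩ : ∃ F : Fin 4 → Subgroup G, Fr Om s F ∧ F 0 = K ∧ F 1 = M ∧ F 2 = cj a K ∧ F 3 = cj a M := by
    obtain ⟨F, f, h0, h1, h2⟩ := hK.exists_fr3 hM hK' h hMK.symm (fun h1 => hcon K hK h1.symm) hMK'
    refine ⟨F, f, h0, h1, h2, ?_⟩
    obtain ⟨i, hi⟩ := f.cov _ hM'
    have e0 : i ≠ 0 := by
      rintro rfl
      apply hMK'
      rw [← haK M, ← hi, h0]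
    have e1 : i ≠ 1 := by
      rintro rfl
      apply hcon M hM
      rw [← hi, h1]
    have e2 : i ≠ 2 := by
      rintro rfl
      apply hMK
      rw [h2] at hi
      exact (cj_inj.1 hi).symm
    have hf4 : ∀ i : Fin 4, i ≠ 0 → i ≠ 1 → i ≠ 2 → i = 3 := by decide
    have e3 : i = 3 := hf4 i e0 e1 e2
    rw [← hi, e3]
  obtain ⟨f, f0, f1, f2, f3⟩ := f
  obtain ⟨k, hk, htk⟩ := (mem_RZ f h).1 (hti.mem_RZ h)
  have hsz := hti.inZ.z2 h
  have hka : ∀ i, As (F i) t (k i) := fun i => by rw [htk]; exact f.as_prod h hk i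
  have hkk : ∀ i, k i * k i = s := fun i => hti.sq_of_as h (f.mem i) (hka i)
  -- `a k₀ a⁻¹ ∈ {k₂, s k₂}`
  have e0 : a * k 0 * a⁻¹ = k 2 ∨ a * k 0 * a⁻¹ = s * k 2 := by
    refine (f.mem 2).as_unique h (hka 2) ?_
    have h1 := (hka 0).conj_comm hat
    rwa [f0, ← f2] at h1
  have e1 : a * k 1 * a⁻¹ = k 3 ∨ a * k 1 * a⁻¹ = s * k 3 := by
    refine (f.mem 3).as_unique h (hka 3) ?_
    have h1 := (hka 1).conj_comm hat
    rwa [f1, ← f3] at h1
  have c01 : k 0 * k 1 = k 1 * k 0 := f.mul_comm' h (by decide) (hk 0) (hk 1)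
  obtain ⟨d, hd⟩ : ∃ d, d = k 0 * k 1 := ⟨_, rfl⟩
  have hdd : d * d = 1 := by
    calc d * d = k 0 * (k 1 * k 0) * k 1 := by rw [hd]; group
      _ = (k 0 * k 0) * (k 1 * k 1) := by rw [← c01]; group
      _ = 1 := by rw [hkk, hkk, hsz]
  have hsk : ∀ i, s * k i = k i * s := fun i => ((f.mem i).comm_z h (hk i)).symm
  -- `a d a⁻¹ = k₂ k₃ s^i`
  have h23 : a * d * a⁻¹ = k 2 * k 3 ∨ a * d * a⁻¹ = s * (k 2 * k 3) := by
    have h1 : a * d * a⁻¹ = (a * k 0 * a⁻¹) * (a * k 1 * a⁻¹) := by rw [hd]; group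
    rw [h1]
    rcases e0 with e0 | e0 <;> rcases e1 with e1 | e1 <;> rw [e0, e1]
    · left; rfl
    · right
      calc k 2 * (s * k 3) = (k 2 * s) * k 3 := by group
        _ = (s * k 2) * k 3 := by rw [hsk]
        _ = _ := by group
    · right; group
    · left
      calc s * k 2 * (s * k 3) = s * (k 2 * s) * k 3 := by group
        _ = s * (s * k 2) * k 3 := by rw [hsk]
        _ = (s * s) * (k 2 * k 3) := by group
        _ = _ := by rw [hsz, one_mul]
  have htd : d * (k 2 * k 3) = t := by rw [htk, hd]; group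
  -- `c`
  obtain ⟨c, hc, hcs⟩ : ∃ c, c = d * (a * d * a⁻¹) ∧ (c = t ∨ c = s * t) := by
    refine ⟨_, rfl, ?_⟩
    have hsd : s * d = d * s := by
      calc s * d = (s * k 0) * k 1 := by rw [hd]; group
        _ = k 0 * (s * k 1) := by rw [hsk]; group
        _ = d * s := by rw [hsk, hd]; group
    rcases h23 with h1 | h1
    · left; rw [h1, htd]
    · right
      rw [h1]
      calc d * (s * (k 2 * k 3)) = (d * s) * (k 2 * k 3) := by group
        _ = s * (d * (k 2 * k 3)) := by rw [← hsd]; group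
        _ = s * t := by rw [htd]
  have hcti : TI Om s c := by
    rcases hcs with rfl | rfl
    · exact hti
    · exact hti.mul_right h
  have hac : a * c = c * a := by
    rcases hcs with rfl | rfl
    · exact hat
    · rw [← mul_assoc, has, mul_assoc, hat, mul_assoc]
  have hasc : ∀ i, As (F i) c (k i) := by
    intro i
    rcases hcs with rfl | rfl
    · exact hka i
    · have := ((f.mem i).as_z h).mul (hka i)
      rwa [one_mul] at this
  have hdR : d ∈ RZ Om c := by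
    rw [hd]
    exact (hcti.symm h).xx_mem h (f.mem 0) (f.mem 1) (f.ne (by decide)) (hasc 0) (hasc 1)
  have hds : d ∈ RZ Om s := by
    rw [hd]
    exact mul_mem ((f.mem 0).le_RZ (hk 0)) ((f.mem 1).le_RZ (hk 1))
  have hadc : a * d * a⁻¹ = c * d := by
    have h1 : d * c = a * d * a⁻¹ := by rw [hc, ← mul_assoc, hdd, one_mul]
    rw [← h1]
    exact RZ_le_centralizer h hdR
  exact ⟨c, d, hcti, hac, hds, hdR, hdd, hadc⟩

/-- **(2b)** `a` does not act fixed point freely on the members over `s` -/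
theorem not_all_moved (h : WM Om) (hti : TI Om s t) (ha : a * a = 1) (has : a * s = s * a) (hat : a * t = t * a)
    (hf : ∀ c, TI Om s c → a * c = c * a → RG.Fr Om a c) : ∃ K, Mem Om s K ∧ cj a K = K := by
  by_contra hcon
  push Not at hcon
  obtain ⟨c, d, hcti, hac, -, hdR, hdd, hadc⟩ := exists_cd h hti ha has hat hcon
  have h2 := key h hcti.inT ha hac (hf c hcti hac) hdR hdd (Or.inr hadc)
  rw [h2] at hadc
  exact hcti.inT.z1 h (mul_eq_right.1 hadc.symm)

/-! ### TS4 -/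

/-- the permutation of the members -/
theorem Fr.exists_perm {F : Fin 4 → Subgroup G} (f : Fr Om z F) (h : WM Om) (hg : g * z = z * g) :
    ∃ σ : Equiv.Perm (Fin 4), ∀ i, cj g (F i) = F (σ i) := by
  have h1 : ∀ i, ∃ j, F j = cj g (F i) := fun i => f.cov _ ((f.mem i).cj_comm h hg)
  choose φ hφ using h1
  have hinj : Function.Injective φ := by
    intro i j hij
    have h2 := hφ i
    rw [hij, hφ j] at h2
    exact (f.inj (cj_inj.1 h2)).symm
  exact ⟨Equiv.ofBijective φ (Finite.injective_iff_bijective.1 hinj), fun i => (hφ i).symm⟩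

set_option maxRecDepth 100000 in
theorem perm_four : ∀ p q : Equiv.Perm (Fin 4), p * p = 1 → q * q = 1 → p * q = q * p → (∃ i, p i = i) →
    (∃ i, q i = i) → (∃ i, (p * q) i = i) → ∃ i, p i = i ∧ q i = i := by decide +kernel

/-- **THEOREM TS4** -/
theorem ts4 (h : WM Om) (hT : ∀ z, InZ Om z → ∃ t, TI Om z t) (hx : InZ Om x) (hs : InZ Om s) (hxs : x * s = s * x)
    (hc : ¬ CP Om x s) (hb : ¬ Blk Om x s) : False := by
  -- a pair in different blocks
  obtain ⟨N, hN⟩ : ∃ N : G → G → Prop, ∀ x s, N x s ↔ (InZ Om x ∧ InZ Om s ∧ x * s = s * x ∧ ¬ CP Om x s ∧ ¬ Blk Om x s) :=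
    ⟨_, fun _ _ => Iff.rfl⟩
  have Nsymm : ∀ x s, N x s → N s x := by
    intro x s h1
    rw [hN] at h1 ⊢
    obtain ⟨a1, a2, a3, a4, a5⟩ := h1
    exact ⟨a2, a1, a3.symm, fun h2 => a4 h2.symm, fun h2 => a5 (h2.symm h)⟩
  have Nfr : ∀ x s, N x s → RG.Fr Om x s := by
    intro x s h1
    rw [hN] at h1
    obtain ⟨a1, a2, a3, a4, a5⟩ := h1
    have hne : x ≠ s := by
      rintro rfl
      exact a5 (Blk.refl x)
    rcases tri h a1 a2 hne with h2 | h2 | h2
    · exact absurd h2 a4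
    · exact absurd h2.blk a5
    · exact h2.1
  have Nblk : ∀ x s s', N x s → TI Om s s' → x * s' = s' * x → N x s' := by
    intro x s s' h1 h2 h3
    rw [hN] at h1 ⊢
    obtain ⟨a1, a2, a3, a4, a5⟩ := h1
    refine ⟨a1, h2.inT, h3, fun h4 => a4 ?_, fun h4 => a5 (h4.trans (h2.symm h).blk)⟩
    exact (cp_of_ti h a1 h4.symm (h2.symm h)).symm
  -- `t`
  have ht : ∀ x s, N x s → ∃ t, TI Om s t ∧ x * t = t * x := by
    intro x s h1
    have h2 := (hN x s).1 h1
    obtain ⟨t0, ht0⟩ := hT s h2.2.1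
    have hxx := h2.1.z2 h
    obtain ⟨t, ht, hm⟩ := exists_fixed h ht0 hxx h2.2.2.1
    refine ⟨t, ht, ?_⟩
    have h3 := key h h2.2.1 hxx h2.2.2.1 (Nfr x s h1) (ht.mem_RZ h) (ht.inT.z2 h) hm
    rwa [mul_inv_eq_iff_eq_mul] at h3
  have hfix : ∀ x s, N x s → ∃ K, Mem Om s K ∧ cj x K = K := by
    intro x s h1
    obtain ⟨t, ht, hxt⟩ := ht x s h1
    have h2 := (hN x s).1 h1
    exact not_all_moved h ht (h2.1.z2 h) h2.2.2.1 hxt fun c hc hxc => Nfr x c (Nblk x s c h1 hc hxc)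
  have h0 : N x s := (hN x s).2 ⟨hx, hs, hxs, hc, hb⟩
  obtain ⟨t, ht, hxt⟩ := ht x s h0
  have h1 : N x t := Nblk x s t h0 ht hxt
  have hst := ht.mul_right h
  have hxst : x * (s * t) = (s * t) * x := by rw [← mul_assoc, hxs, mul_assoc, hxt, mul_assoc]
  have h2 : N x (s * t) := Nblk x s _ h0 hst hxst
  obtain ⟨F, f⟩ := hx.exists_fr h
  obtain ⟨p, hp⟩ := f.exists_perm h hxs.symm
  obtain ⟨q, hq⟩ := f.exists_perm h hxt.symm
  have hss := hs.z2 h
  have htt := ht.inT.z2 h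
  have hpp : p * p = 1 := by
    ext i
    have h3 := hp (p i)
    rw [← hp i, ← cj_mul, hss, cj_one] at h3
    have h4 := f.inj h3
    rw [Equiv.Perm.mul_apply, ← h4]; rfl
  have hqq : q * q = 1 := by
    ext i
    have h3 := hq (q i)
    rw [← hq i, ← cj_mul, htt, cj_one] at h3
    have h4 := f.inj h3
    rw [Equiv.Perm.mul_apply, ← h4]; rfl
  have hpq : ∀ i, cj (s * t) (F i) = F ((p * q) i) := by
    intro i
    rw [cj_mul, hq, hp]; rfl
  have hqp : ∀ i, cj (s * t) (F i) = F ((q * p) i) := by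
    intro i
    rw [ht.comm, cj_mul, hp, hq]; rfl
  have hcomm : p * q = q * p := by
    ext i
    have h3 := hqp i
    rw [hpq i] at h3
    exact congrArg Fin.val (f.inj h3)
  have hfx : ∀ {s' : G} {σ : Equiv.Perm (Fin 4)}, N x s' → (∀ i, cj s' (F i) = F (σ i)) → ∃ i, σ i = i := by
    intro s' σ h3 hσ
    obtain ⟨K, hK, hK'⟩ := hfix s' x (Nsymm _ _ h3)
    obtain ⟨i, rfl⟩ := f.cov K hK
    rw [hσ i] at hK'
    exact ⟨i, f.inj hK'⟩
  obtain ⟨i, hi1, hi2⟩ := perm_four p q hpp hqq hcomm (hfx h0 hp) (hfx h1 hq) (hfx h2 hpq)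
  have k1 : cj s (F i) = F i := by rw [hp i, hi1]
  have k2 : cj t (F i) = F i := by rw [hq i, hi2]
  have k3 : cj (s * t) (F i) = F i := by rw [cj_mul, k2, k1]
  exact four h (f.mem i) hss htt ht.comm k1 k2 (Nfr _ _ (Nsymm _ _ h0) _ (f.mem i) k1)
    (Nfr _ _ (Nsymm _ _ h1) _ (f.mem i) k2) (Nfr _ _ (Nsymm _ _ h2) _ (f.mem i) k3)

/-- **commuting elements of `Z`** -/
theorem cases (h : WM Om) (hT : ∀ z, InZ Om z → ∃ t, TI Om z t) (hx : InZ Om x) (hs : InZ Om s) (hxs : x * s = s * x) :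
    CP Om x s ∨ Blk Om x s := by
  by_contra hcon
  push Not at hcon
  exact ts4 h hT hx hs hxs hcon.1 hcon.2

end Cfsg.Agent.Cit.Nil.RI
end

-- part: Cit/Nil/CompFour/Base
section
/-!
# S1309, node (n5): `r = 4`, type I pairs, `m ≥ 2` (NIL or not): the world, the multipartite lemma

Text: `blueprints/R18-6b-n5-helper449.md`.

* `CC Om z t` : `(z, t)` is a C-pair of elements of `Z`;
* `TB Om` : `WM Om`, type I partners, (B2), (B3), TSB (section 1 of the text);
* `OmC Om e`, `OT e`, `TPr Om` : `T'` for all centralisers of involutions;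
* `TPr.mp` : (MP): the C-relation on the C-partners of `a` is complete multipartite;
* `Eqv`, `EQ`, `TPr.eq_of_three` : (EQ) in the presence of 3-cliques.
-/

set_option autoImplicit false
set_option linter.style.haveILetI false
set_option linter.unusedSectionVars false

namespace Cfsg.Agent.Cit.Nil.CompFour

open Subgroup Cfsg Cfsg.Agent.Cit Cfsg.Agent.Cit.Nil.RI Cfsg.Agent.Cit.Nil.IndDefs

open RG (WR CP Ov)

variable {G : Type*} [Group G]

/-- C-pair of elements of `Z` -/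
def CC (Om : Set (Subgroup G)) (z t : G) : Prop := InZ Om z ∧ InZ Om t ∧ CP Om z t

/-- blocks: section 1 -/
structure TB (Om : Set (Subgroup G)) : Prop where
  w : WM Om
  ti : ∀ z, InZ Om z → ∃ t, TI Om z t
  /-- (B2) -/
  f1 : ∀ x u, InZ Om x → InZ Om u → ¬ CP Om u (x * u * x⁻¹)
  /-- (B3) -/
  two : ∀ P : Subgroup G, IsPGroup 2 P → ∀ x ∈ P, ∀ u ∈ P, InZ Om x → InZ Om u → Blk Om x u ∨ CP Om x u
  /-- TSB -/
  tsb : ∀ s x, InZ Om s → InZ Om x → s * x = x * s → s ≠ x → Blk Om s x →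
    ∃ c, Blk Om s c ∧ s * x ∈ RZ Om c ∧ ∃ K, Mem Om c K ∧ ∀ k ∈ K, s * x * k = k * (s * x)

/-- the members in `C(e)` -/
def OmC (Om : Set (Subgroup G)) (e : G) : Set (Subgroup G) := {K | K ∈ Om ∧ K ≤ centralizer {e}}

/-- `O_2(C(e))` -/
def OT (e : G) : Subgroup G := (Cfsg.pCore 2 ↥(centralizer ({e} : Set G))).map (centralizer ({e} : Set G)).subtype

theorem OT_two (e : G) [Finite G] : IsPGroup 2 (OT e) := (Lib.Cores.pCore_isPGroup 2).map _

theorem OT_norm (e : G) : centralizer {e} ≤ normalizer (OT e : Set G) := by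
  intro g hg
  have h1 : ∀ g : ↥(centralizer ({e} : Set G)), ∀ x ∈ OT e, (g : G) * x * (g : G)⁻¹ ∈ OT e := by
    rintro g _ ⟨x, hx, rfl⟩
    have := (Lib.Cores.pCore_normal 2 (G := ↥(centralizer ({e} : Set G)))).conj_mem x hx g
    exact ⟨_, this, rfl⟩
  rw [mem_normalizer_iff]
  intro x
  refine ⟨h1 ⟨g, hg⟩ x, fun hx => ?_⟩
  have h2 := h1 ⟨g, hg⟩⁻¹ _ hx
  have h3 : g⁻¹ * (g * x * g⁻¹) * g⁻¹⁻¹ = x := by group
  have h4 : ((⟨g, hg⟩⁻¹ : ↥(centralizer ({e} : Set G))) : G) = g⁻¹ := rfl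
  rwa [h4, h3] at h2

/-- `T'` for the centralisers of involutions -/
def TPr (Om : Set (Subgroup G)) : Prop := ∀ e : G, e * e = 1 → e ≠ 1 → ∀ K ∈ OmC Om e,
  zz K ∈ OT e ∨ ONE (OmC Om e) K

variable {Om : Set (Subgroup G)} {K L M N P : Subgroup G} {a b c d e s t u v x y z g h' p k w' : G}

/-! ### C-pairs -/

namespace CC

theorem symm (h : CC Om z t) : CC Om t z := ⟨h.2.1, h.1, h.2.2.symm⟩

theorem ne (h : CC Om z t) : z ≠ t := h.2.2.1

variable (w : TB Om)

include w

theorem conj [Finite G] (h : CC Om z t) (g : G) : CC Om (g * z * g⁻¹) (g * t * g⁻¹) :=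
  ⟨h.1.conj w.w g, h.2.1.conj w.w g, cp_conj w.w h.2.2 g⟩

theorem comm [Finite G] (h : CC Om z t) : z * t = t * z := cp_comm w.w h.1 h.2.1 h.2.2

theorem rz [Finite G] (h : CC Om z t) (hx : x ∈ RZ Om z) (hy : y ∈ RZ Om t) : x * y = y * x := cp_RZ w.w h.2.2 hx hy

/-- `z` centralises `R_t` -/
theorem z_rz [Finite G] (h : CC Om z t) (hy : y ∈ RZ Om t) : z * y = y * z := h.rz w (z_mem_RZ h.1 w.w) hy

theorem cm [Finite G] (h : CC Om z t) (hK : Mem Om z K) (hL : Mem Om t L) : Cm K L := fun _ hk _ hl =>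
  h.rz w (hK.le_RZ hk) (hL.le_RZ hl)

theorem blk [Finite G] (h : CC Om z t) (hb : Blk Om z x) : CC Om x t :=
  ⟨hb.inZ h.1, h.2.1, cp_blk w.w h.2.1 h.2.2 hb⟩

theorem blk' [Finite G] (h : CC Om z t) (hb : Blk Om t x) : CC Om z x := (h.symm.blk w hb).symm

theorem not_blk [Finite G] (h : CC Om z t) : ¬ Blk Om z t := fun hb => not_cp_blk w.w h.2.1 hb h.2.2

/-- an element of `Z` centralising a member -/
theorem of_cent [Finite G] (hK : Mem Om z K) (ht : InZ Om t) (hne : z ≠ t) (hc : ∀ k ∈ K, t * k = k * t) : CC Om z t :=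
  ⟨hK.inZ, ht, w.w.wr.CP_of_cen hK hc hne⟩

theorem of_cm [Finite G] (hK : Mem Om z K) (hL : Mem Om t L) (hne : z ≠ t) (hc : Cm K L) : CC Om z t :=
  of_cent w hK hL.inZ hne fun k hk => (hc k hk t (hL.zmem w.w)).symm

theorem conj_iff [Finite G] (g : G) : CC Om (g * z * g⁻¹) (g * t * g⁻¹) ↔ CC Om z t := by
  refine ⟨fun h => ?_, fun h => h.conj w g⟩
  have h1 := h.conj w g⁻¹
  have e : ∀ x : G, g⁻¹ * (g * x * g⁻¹) * g⁻¹⁻¹ = x := fun x => by group
  rwa [e, e] at h1

theorem le_cent [Finite G] (h : CC Om z t) (hL : Mem Om t L) : L ≤ centralizer {z} := fun l hl => by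
  rw [mem_centralizer_singleton_iff]
  exact (h.z_rz w (hL.le_RZ hl)).symm

theorem mem_OmC [Finite G] (h : CC Om z t) (hL : Mem Om t L) : L ∈ OmC Om z := ⟨hL.1, h.le_cent w hL⟩

end CC

namespace TB

variable [Finite G] (w : TB Om)

include w

/-- commuting elements of `Z` -/
theorem cases (hx : InZ Om x) (hs : InZ Om s) (hxs : x * s = s * x) : CC Om x s ∨ Blk Om x s := by
  rcases RI.cases w.w w.ti hx hs hxs with h1 | h1
  · exact Or.inl ⟨hx, hs, h1⟩
  · exact Or.inr h1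

/-- elements of `Z` in a 2-group -/
theorem cases_two (hP : IsPGroup 2 P) (hxP : x ∈ P) (huP : u ∈ P) (hx : InZ Om x) (hu : InZ Om u) :
    CC Om x u ∨ Blk Om x u := by
  rcases w.two P hP x hxP u huP hx hu with h1 | h1
  · exact Or.inr h1
  · exact Or.inl ⟨hx, hu, h1⟩

theorem not_swap (hx : InZ Om x) (hu : InZ Om u) : ¬ CC Om u (x * u * x⁻¹) := fun h => w.f1 x u hx hu h.2.2

/-- members over the elements of a type I pair do not commute -/
theorem not_cm (hti : TI Om u v) (hK : Mem Om u K) (hL : Mem Om v L) : ¬ Cm K L := fun h =>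
  hti.nc hK fun k hk => (h k hk v (hL.zmem w.w)).symm

theorem adj (hti : TI Om u v) (hK : Mem Om u K) (hL : Mem Om v L) (hKe : K ∈ OmC Om e) (hLe : L ∈ OmC Om e) :
    Adj (OmC Om e) K L := ⟨hKe, hLe, w.not_cm hti hK hL⟩

/-- the members over a C-partner lie in one component -/
theorem comp_same (hau : CC Om a u) (hK : Mem Om u K) (hL : Mem Om u L) : L ∈ comp (OmC Om a) K := by
  obtain ⟨v, hv⟩ := w.ti u hau.2.1
  obtain ⟨M, hM⟩ := hv.inT
  have hav : CC Om a v := hau.blk' w hv.blk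
  refine mem_comp_of (mem_comp_of mem_comp_self (w.adj hv hK hM (hau.mem_OmC w hK) (hav.mem_OmC w hM))) ?_
  exact (w.adj hv hL hM (hau.mem_OmC w hL) (hav.mem_OmC w hM)).symm

end TB

theorem comp_sub' (hK : K ∈ OmC Om e) (hL : L ∈ comp (OmC Om e) K) : L ∈ OmC Om e := comp_sub hK hL

/-- the members outside the component commute with the component -/
theorem cm_of_not_comp {A : Set (Subgroup G)} (hL : L ∈ comp A K) (hK : K ∈ A) (hM : M ∈ A) (hn : M ∉ comp A K) :
    Cm L M := by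
  by_contra hc
  exact hn (mem_comp_of hL ⟨comp_sub hK hL, hM, hc⟩)

theorem one_comp {A : Set (Subgroup G)} (h : ONE A K) (hL : L ∈ comp A K) : ONE A L := by
  unfold ONE at h ⊢
  rwa [comp_eq hL]

section tp

variable [Finite G] (w : TB Om) (tp : TPr Om)

include w tp

omit tp in
/-- a C-pair and a type I partner in a component which is `ONE` -/
theorem false_of_one (hone : ONE (OmC Om e) K) (hL : L ∈ comp (OmC Om e) K)
    (hM : M ∈ comp (OmC Om e) K) (hN : N ∈ comp (OmC Om e) K) (hLa : Mem Om a L) (hMb : Mem Om b M) (hNc : Mem Om c N)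
    (hab : CC Om a b) (hbc : TI Om b c) : False := by
  have h1 := hone L hL M hM (hab.cm w hLa hMb) N hN
  rw [hLa.2, hMb.2] at h1
  have hac : CC Om a c := hab.blk' w hbc.blk
  refine (hbc.symm w.w).nc hNc fun k hk => ?_
  have h2 := h1 k hk
  have h3 : a * k = k * a := hac.z_rz w (hNc.le_RZ hk)
  have h4 : a * b = b * a := hab.comm w
  calc b * k = a⁻¹ * (a * b * k) := by group
    _ = a⁻¹ * (k * (a * b)) := by rw [h2]
    _ = a⁻¹ * (k * a) * b := by group
    _ = a⁻¹ * (a * k) * b := by rw [h3]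
    _ = k * b := by group

/-- **(2.2)** -/
theorem TPr.not_cc (hau : CC Om a u) (hav : CC Om a v) (hK : Mem Om u K) (hL : Mem Om v L)
    (hc : L ∈ comp (OmC Om a) K) : ¬ CC Om u v := by
  intro huv
  have haa := hau.1.z2 w.w
  have ha1 := hau.1.z1 w.w
  have hKA := hau.mem_OmC w hK
  by_cases hone : ONE (OmC Om a) K
  · obtain ⟨v', hv'⟩ := w.ti v hav.2.1
    obtain ⟨M, hM⟩ := hv'.inT
    have hav' : CC Om a v' := hav.blk' w hv'.blk
    have hMc : M ∈ comp (OmC Om a) K :=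
      mem_comp_of hc (w.adj hv' hL hM (hav.mem_OmC w hL) (hav'.mem_OmC w hM))
    exact false_of_one w hone mem_comp_self hc hMc hK hL hM huv hv'
  · have hnil : ∀ M ∈ comp (OmC Om a) K, zz M ∈ OT a := by
      intro M hM
      rcases tp a haa ha1 M (comp_sub hKA hM) with h1 | h1
      · exact h1
      · exact (hone (one_comp h1 (comp_symm hM))).elim
    have key : ∀ M ∈ comp (OmC Om a) K, Blk Om (zz K) (zz M) := by
      intro M hM
      have hM' := hM
      unfold comp at hM'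
      rw [Set.mem_ofPred_eq] at hM'
      induction hM' with
      | refl => exact Blk.refl _
      | @tail M N h1 h2 ih =>
        have h3 := ih h1
        have hMm : Mem Om (zz M) M := ⟨h2.1.1, rfl⟩
        have hNm : Mem Om (zz N) N := ⟨h2.2.1.1, rfl⟩
        rcases w.cases_two (OT_two a) (hnil M h1) (hnil N hM) hMm.inZ hNm.inZ with h4 | h4
        · exact (h2.2.2 (h4.cm w hMm hNm)).elim
        · exact h3.trans h4
    have h1 := key L hc
    rw [hK.2, hL.2] at h1
    exact huv.not_blk w h1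

omit tp in
/-- **(2.3)** -/
theorem comp_or_cc (hau : CC Om a u) (hav : CC Om a v) (hK : Mem Om u K) (hL : Mem Om v L) :
    L ∈ comp (OmC Om a) K ∨ CC Om u v := by
  by_cases hc : L ∈ comp (OmC Om a) K
  · exact Or.inl hc
  right
  have h1 : Cm K L := cm_of_not_comp mem_comp_self (hau.mem_OmC w hK) (hav.mem_OmC w hL) hc
  refine CC.of_cm w hK hL ?_ h1
  rintro rfl
  exact hc (w.comp_same hau hK hL)

/-- **(MP)** -/
theorem TPr.mp (hau : CC Om a u) (hav : CC Om a v) (hab : CC Om a b) (hub : CC Om u b) : CC Om u v ∨ CC Om v b := by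
  obtain ⟨K, hK⟩ := hau.2.1
  obtain ⟨L, hL⟩ := hav.2.1
  obtain ⟨M, hM⟩ := hab.2.1
  rcases comp_or_cc w hau hav hK hL with h1 | h1
  · rcases comp_or_cc w hav hab hL hM with h2 | h2
    · exact (TPr.not_cc w tp hau hab hK hM (comp_trans h1 h2) hub).elim
    · exact Or.inr h2
  · exact Or.inl h1

end tp

/-! ### (EQ) -/

/-- the same C-partners -/
def Eqv (Om : Set (Subgroup G)) (z x : G) : Prop := ∀ b, CC Om z b ↔ CC Om x b

namespace Eqv

theorem refl (z : G) : Eqv Om z z := fun _ => Iff.rfl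
theorem symm (h : Eqv Om z x) : Eqv Om x z := fun b => (h b).symm
theorem trans (h : Eqv Om z x) (h' : Eqv Om x y) : Eqv Om z y := fun b => (h b).trans (h' b)

theorem not_cc (h : Eqv Om z x) : ¬ CC Om z x := fun h1 => ((h x).1 h1).ne rfl

theorem conj [Finite G] (w : TB Om) (h : Eqv Om z x) (g : G) : Eqv Om (g * z * g⁻¹) (g * x * g⁻¹) := by
  intro b
  have e : b = g * (g⁻¹ * b * g) * g⁻¹ := by group
  rw [e, CC.conj_iff w, CC.conj_iff w]
  exact h _

theorem of_blk [Finite G] (w : TB Om) (h : Blk Om z x) : Eqv Om z x := fun _ =>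
  ⟨fun h1 => h1.blk w h, fun h1 => h1.blk w (h.symm w.w)⟩

/-- members of the class and C-partners -/
theorem cc_left (h : Eqv Om z x) (h' : CC Om z b) : CC Om x b := (h b).1 h'

theorem cc_right (h : Eqv Om z x) (h' : CC Om b z) : CC Om b x := ((h b).1 h'.symm).symm

end Eqv

/-- **(EQ)** -/
def EQ (Om : Set (Subgroup G)) : Prop := ∀ z a x, CC Om z a → CC Om x a → CC Om z x ∨ Eqv Om z x

/-- (EQ) in the presence of 3-cliques -/
theorem TPr.eq_of_three [Finite G] (w : TB Om) (tp : TPr Om)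
    (h3 : ∀ z, InZ Om z → ∃ b c, CC Om z b ∧ CC Om z c ∧ CC Om b c) : EQ Om := by
  -- one half
  have half : ∀ z a x, CC Om z a → CC Om x a → ¬ CC Om z x → ∀ b, CC Om z b → CC Om x b := by
    intro z a x hza hxa hn b hzb
    have first : ∀ a, CC Om z a → CC Om x a → ∀ b, CC Om z b → CC Om a b → CC Om x b := by
      intro a hza hxa b hzb hab
      rcases tp.mp w hza.symm hxa.symm hab hzb with h1 | h1
      · exact (hn h1).elim
      · exact h1
    by_cases hab : CC Om a b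
    · exact first a hza hxa b hzb hab
    · obtain ⟨b', c', hb', hc', hbc⟩ := h3 z hza.1
      have h1 : ∃ c, CC Om z c ∧ CC Om a c := by
        rcases tp.mp w hb' hza hc' hbc with h1 | h1
        · exact ⟨b', hb', h1.symm⟩
        · exact ⟨c', hc', h1⟩
      obtain ⟨c, hc, hac⟩ := h1
      have hcb : CC Om c b := by
        rcases tp.mp w hza hzb hc hac with h2 | h2
        · exact (hab h2).elim
        · exact h2.symm
      exact first c hc (first a hza hxa c hc hac) b hzb hcb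
  intro z a x hza hxa
  by_cases hn : CC Om z x
  · exact Or.inl hn
  · exact Or.inr fun b => ⟨half z a x hza hxa hn b, half x a z hxa hza (fun h => hn h.symm) b⟩

end Cfsg.Agent.Cit.Nil.CompFour
end

private theorem dce_91da4bb9ac19 : _root_.True := by
  try have : _root_.True := by simp only [_root_.Cfsg.Agent.Cit.Nil.RI.CX.eq_1]
  try have : _root_.True := by simp only [_root_.Cfsg.Agent.Cit.Nil.RI.VV.eq_1]
  exact _root_.True.intro
end

-- part: Cit/Nil/CompFour/NC
section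
set_option linter.all false
open scoped Cfsg.Agent.FastGrp

/-!
# S1309, node (n5): the world of section 5 (no 3-clique, (EQ) false)

Text: `blueprints/R18-6b-n5-helper449.md`, section 5.
-/

set_option autoImplicit false
set_option linter.unusedSectionVars false

namespace Cfsg.Agent.Cit.Nil.CompFour

open Subgroup Cfsg Cfsg.Agent.Cit Cfsg.Agent.Cit.Nil.RI Cfsg.Agent.Cit.Nil.IndDefs

variable {G : Type*} [Group G]

/-- no 3-clique, and the C-partners of `c` are not in one block -/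
structure NC (Om : Set (Subgroup G)) : Prop where
  b : TB Om
  tp : TPr Om
  m2 : ∀ x y v, CC Om x y → CC Om x v → CC Om y v → False
  nb : ∀ c, InZ Om c → ∃ v v', CC Om c v ∧ CC Om c v' ∧ ¬ Blk Om v v'
  nq : ∀ c, InZ Om c → ∃ v v', CC Om c v ∧ CC Om c v' ∧ ¬ Eqv Om v v'
  cd : ∀ c d, InZ Om c → InZ Om d → {v | CC Om c v}.ncard = {v | CC Om d v}.ncard
  /-- `Z` is one class -/
  cls : ∀ c d, InZ Om c → InZ Om d → ∃ g : G, g * c * g⁻¹ = d

variable [Finite G] {Om : Set (Subgroup G)}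

/-- the world of section 5 if (EQ) is false -/
theorem NC.of (w : TB Om) (tp : TPr Om) (m2 : ∀ x y v, CC Om x y → CC Om x v → CC Om y v → False)
    (cls : ∀ c d, InZ Om c → InZ Om d → ∃ g : G, g * c * g⁻¹ = d) (hn : ¬ EQ Om) : NC Om := by
  have key : ∀ (c : G) (g : G), {v | CC Om (g * c * g⁻¹) v} = (fun x => g * x * g⁻¹) '' {v | CC Om c v} := by
    intro c g
    ext v
    constructor
    · intro hv
      have h1 := CC.conj w (show CC Om (g * c * g⁻¹) v from hv) g⁻¹
      have h2 : g⁻¹ * (g * c * g⁻¹) * g⁻¹⁻¹ = c := by group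
      rw [h2] at h1
      refine ⟨_, h1, ?_⟩
      change g * (g⁻¹ * v * g⁻¹⁻¹) * g⁻¹ = v
      group
    · rintro ⟨u, hu, rfl⟩
      exact CC.conj w (show CC Om c u from hu) g
  have hex : ∃ z a x, CC Om z a ∧ CC Om x a ∧ ¬ Eqv Om z x := by
    unfold EQ at hn
    push Not at hn
    obtain ⟨z, a, x, h1, h2, -, h3⟩ := hn
    exact ⟨z, a, x, h1, h2, h3⟩
  obtain ⟨z, a, x, hza, hxa, hzx⟩ := hex
  have nq : ∀ c, InZ Om c → ∃ v v', CC Om c v ∧ CC Om c v' ∧ ¬ Eqv Om v v' := by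
    intro c hc
    obtain ⟨g, rfl⟩ := cls a c hza.2.1 hc
    refine ⟨_, _, CC.conj w hza.symm g, CC.conj w hxa.symm g, fun h => hzx ?_⟩
    have h1 := Eqv.conj w h g⁻¹
    have h2 : ∀ y : G, g⁻¹ * (g * y * g⁻¹) * g⁻¹⁻¹ = y := fun y => by group
    rwa [h2, h2] at h1
  refine ⟨w, tp, m2, fun c hc => ?_, nq, ?_, cls⟩
  · obtain ⟨v, v', h1, h2, h3⟩ := nq c hc
    exact ⟨v, v', h1, h2, fun h => h3 (Eqv.of_blk w h)⟩
  · intro c d hc hd
    obtain ⟨g, rfl⟩ := cls c d hc hd
    rw [key]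
    exact (Set.ncard_image_of_injective _ fun u v huv => mul_left_cancel (mul_right_cancel huv)).symm

end Cfsg.Agent.Cit.Nil.CompFour
end

-- part: Cit/Nil/CompFour/SecDef
section
set_option linter.all false

/-!
# S1309, node (n5), section 5: the component of `B` (interface, helper488)

`SL Om a B L` : `B` contains the members over the C-partners of `a`, `L` is the component of `B`.
-/

set_option autoImplicit false
set_option linter.unusedSectionVars false

namespace Cfsg.Agent.Cit.Nil.CompFour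

open Subgroup Cfsg Cfsg.Agent.Cit

/-- see the head of the file -/
structure SL {G : Type*} [Group G] (Om : Set (Subgroup G)) (a : G) (B L : Subgroup G) : Prop where
  C : RTwo.CompOf B L
  Ba : B ≤ centralizer {a}
  nor : B ≤ normalizer (L : Set G)
  mem : ∀ K ∈ Om, CC Om a (zz K) → K ≤ B
  zL : ∀ K ∈ Om, CC Om a (zz K) → zz K ∈ L
  cen : ∀ x ∈ L, (∀ l ∈ L, x * l = l * x) → ∀ b ∈ B, x * b = b * x

end Cfsg.Agent.Cit.Nil.CompFour
end

-- part: Cit/Nil/RI/NZero
section
prune_inst 0x2010040010000000000000000000004000000002000000002000000001000001804500003000001001100430280a802001080009422800002a008a0000040000040030c000001000000000404800000000000000000000000000000000000000000000000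
set_option linter.all false
open scoped Cfsg.Agent.FastGrp

/-!
# `r = 4`, any `m`: the action of `X_z` on `R_t` (section 2 of `blueprints/CIT-6b-r4m1-helper449.md`)

* `TI.fix` : `n ∈ X_z` normalises all members over a type I neighbour `t`;
* `TI.transfer` : `n ∈ X_z` trivial on one member over `t` is trivial on all members over `z t`;
* `TI.CX_or` : `n ∈ X_z` implies `n ∈ X_t` or `z n ∈ X_t`;
* `TI.CX_const` : `n ∈ X_z ∩ X_t` implies `n ∈ X_t'` for all type I neighbours `t'` of `z`;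
* `N0 Om z`, `mem_N0`, `TI.N0_or`, `TI.N0_eq`, `N0_conj`, `N0_le`.
-/

set_option autoImplicit false
set_option linter.style.haveILetI false
set_option linter.unusedSectionVars false

namespace Cfsg.Agent.Cit.Nil.RI

open Subgroup Cfsg Cfsg.Agent.Cit

open RTwo (Q3 Act i11 i12 i21 i22 i_ne1 i_ne2 i_ne12 i_cases i_cases3)

variable {G : Type*} [Group G] [Finite G] {Om : Set (Subgroup G)} {K K' L L' M : Subgroup G}
  {z t t' g n x x' y y' u s : G}

theorem CX_as (hn : n ∈ CX Om z) (hK : Mem Om z K) : As K n 1 := As.one_iff.2 (mem_CX.1 hn K hK)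

theorem mem_CX_of_as (hn : ∀ K, Mem Om z K → As K n 1) : n ∈ CX Om z :=
  mem_CX.2 fun K hK => As.one_iff.1 (hn K hK)

/-- **(2.1)** -/
theorem TI.fix (hti : TI Om z t) (h : WM Om) (hn : n ∈ CX Om z) (hL : Mem Om t L) : cj n L = L := by
  have hnt : n * t = t * n := CX_comm (hti.mem_RZ h) hn
  by_contra hne
  obtain ⟨x, hx, hxx⟩ := (hti.symm h).exists_as h hL
  have hLn : Mem Om t (cj n L) := hL.cj_comm h hnt
  have key : ∀ L', Mem Om t L' → L ≠ L' → cj n L' = L := by
    intro L' hL' hLL'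
    by_contra hne'
    obtain ⟨x', hx', -⟩ := (hti.symm h).exists_as h hL'
    have hc : n * (x * x') = (x * x') * n := CX_comm (hti.xx_mem h hL hL' hLL' hx hx') hn
    have h1 : (n * x * n⁻¹) * (n * x' * n⁻¹) = x * x' := by
      calc (n * x * n⁻¹) * (n * x' * n⁻¹) = n * (x * x') * n⁻¹ := by group
        _ = x * x' := by rw [hc, mul_inv_cancel_right]
    have h2 : As L (x * x') x := by
      have := (As.self hx.1).mul (hL.as_one hL' h hLL' hx'.1)
      rwa [mul_one] at this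
    have h3 : As L (x * x') 1 := by
      rw [← h1]
      have := (hL.as_one hLn h (Ne.symm hne) (conj_mem_cj (g := n) hx.1)).mul
        (hL.as_one (hL'.cj_comm h hnt) h (Ne.symm hne') (conj_mem_cj (g := n) hx'.1))
      rwa [mul_one] at this
    exact hL.not_as_one h h2 hxx h3
  obtain ⟨L', hL', h1⟩ := hL.other h
  obtain ⟨L'', hL'', h2, h3⟩ := hL.third hL' h
  exact h3 (cj_inj.1 ((key L'' hL'' (Ne.symm h2)).trans (key L' hL' h1).symm))

/-- **(2.3)** -/
theorem TI.transfer (hti : TI Om z t) (h : WM Om) (hn : n ∈ CX Om z) (hL : Mem Om t L) (hnL : As L n 1)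
    (hM : Mem Om (z * t) M) : As M n 1 := by
  obtain ⟨x, hx, hxx⟩ := (hti.symm h).exists_as h hL
  obtain ⟨u, hu, huu, hxu⟩ := hL.exists_nc h hx.1 hxx
  have e1 := hti.conj_z h hL hx hu huu hxu
  have hK : Mem Om z (cj u⁻¹ M) := by
    have := hM.cj h u⁻¹
    rw [← e1] at this
    have h2 : u⁻¹ * (u * z * u⁻¹) * u⁻¹⁻¹ = z := by group
    rwa [h2] at this
  have hnu : u * n = n * u := (As.one_iff.1 hnL u hu).symm
  refine As.one_iff.2 fun m hm => ?_
  have h1 : u⁻¹ * m * u⁻¹⁻¹ ∈ cj u⁻¹ M := conj_mem_cj hm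
  have h2 := mem_CX.1 hn _ hK _ h1
  have h3 : m = u * (u⁻¹ * m * u⁻¹⁻¹) * u⁻¹ := by group
  have h4 : n * u⁻¹ = u⁻¹ * n := by
    rw [eq_inv_mul_iff_mul_eq, ← mul_assoc, hnu, mul_inv_cancel_right]
  calc n * m = n * (u * (u⁻¹ * m * u⁻¹⁻¹) * u⁻¹) := by rw [← h3]
    _ = (n * u) * (u⁻¹ * m * u⁻¹⁻¹) * u⁻¹ := by group
    _ = (u * n) * (u⁻¹ * m * u⁻¹⁻¹) * u⁻¹ := by rw [hnu]
    _ = u * (n * (u⁻¹ * m * u⁻¹⁻¹)) * u⁻¹ := by group
    _ = u * ((u⁻¹ * m * u⁻¹⁻¹) * n) * u⁻¹ := by rw [h2]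
    _ = u * (u⁻¹ * m * u⁻¹⁻¹) * (n * u⁻¹) := by group
    _ = u * (u⁻¹ * m * u⁻¹⁻¹) * (u⁻¹ * n) := by rw [h4]
    _ = m * n := by group

theorem zzt (hz : InZ Om z) (h : WM Om) : z * (z * t) = t := by rw [← mul_assoc, hz.z2 h, one_mul]

/-- **(2.3)**: all members over `t` -/
theorem TI.transfer' (hti : TI Om z t) (h : WM Om) (hn : n ∈ CX Om z) (hL : Mem Om t L) (hnL : As L n 1)
    (hL' : Mem Om t L') : As L' n 1 := by
  obtain ⟨M, hM⟩ := hti.inZ_mul h
  have h1 := hti.transfer h hn hL hnL hM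
  refine (hti.mul_right h).transfer h hn hM h1 ?_
  rw [zzt hti.inZ h]
  exact hL'

theorem TI.CX_of_as (hti : TI Om z t) (h : WM Om) (hn : n ∈ CX Om z) (hL : Mem Om t L) (hnL : As L n 1) :
    n ∈ CX Om t :=
  mem_CX_of_as fun _ hL' => hti.transfer' h hn hL hnL hL'

theorem TI.CX_mul (hti : TI Om z t) (h : WM Om) (hn : n ∈ CX Om z) (hnt : n ∈ CX Om t) : n ∈ CX Om (z * t) := by
  obtain ⟨L, hL⟩ := hti.inT
  exact mem_CX_of_as fun _ hM => hti.transfer h hn hL (CX_as hnt hL) hM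

theorem z_mul_CX (h : WM Om) (hn : n ∈ CX Om z) : z * n ∈ CX Om z := mul_mem (z_mem_CX h) hn

/-- **(2.2)** -/
theorem TI.cases_L (hti : TI Om z t) (h : WM Om) (hn : n ∈ CX Om z) (hL : Mem Om t L) (hx : As L z x) :
    As L n 1 ∨ As L (z * n) 1 ∨ ∃ w ∈ L, As L z w ∧ w * w = t ∧ ∀ M, Mem Om (z * t) M → ∀ m ∈ M,
      n * m * n⁻¹ = w * m * w⁻¹ := by
  have hxx := (hti.symm h).sq_of_as h hL hx
  obtain ⟨u, hu, huu, hxu⟩ := hL.exists_nc h hx.1 hxx
  obtain ⟨K, hK⟩ := hti.inZ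
  obtain ⟨y, hy, hyy⟩ := hti.exists_as h hK
  have hnt : n * t = t * n := CX_comm (hti.mem_RZ h) hn
  have hnz : n * z = z * n := CX_le hK.inZ h hn
  have hny : n * y = y * n := mem_CX.1 hn K hK y hy.1
  have hfix := hti.fix h hn hL
  have htt := hL.inZ.z2 h
  have htx : t * x = x * t := (hL.comm_z h hx.1).symm
  have htu : t * u = u * t := (hL.comm_z h hu).symm
  obtain ⟨c, qc, hc0, hc1⟩ := hL.exists_q2 h hx.1 hxx hu huu hxu
  -- the case `n u = u n`
  have caseA : ∀ n, n ∈ CX Om z → n * u = u * n → As L n 1 := by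
    intro n hn hnu
    have hny : n * y = y * n := mem_CX.1 hn K hK y hy.1
    have hnt : n * t = t * n := CX_comm (hti.mem_RZ h) hn
    obtain ⟨-, h1, h2⟩ := hti.rot h hK hL hy hx
    have h3 : n * (x * u) = (x * u) * n := by
      have h4 : n * (y * u * y⁻¹) = (y * u * y⁻¹) * n := by
        have h5 : n * y⁻¹ = y⁻¹ * n := by
          rw [eq_inv_mul_iff_mul_eq, ← mul_assoc, ← hny, mul_inv_cancel_right]
        calc n * (y * u * y⁻¹) = (n * y) * u * y⁻¹ := by group
          _ = y * (n * u) * y⁻¹ := by rw [hny]; group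
          _ = y * u * (n * y⁻¹) := by rw [hnu]; group
          _ = _ := by rw [h5]; group
      rcases h2 u hu huu hxu with h6 | h6
      · rwa [h6] at h4
      · rw [h6] at h4
        have h7 : n * (t * (x * u)) = t * (n * (x * u)) := by
          rw [← mul_assoc, hnt, mul_assoc]
        rw [h7, mul_assoc t] at h4
        exact mul_left_cancel h4
    have h4 : n * x = x * n := by
      apply mul_right_cancel (b := u)
      calc n * x * u = n * (x * u) := by group
        _ = x * (u * n) := by rw [h3]; group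
        _ = x * n * u := by rw [← hnu]; group
    refine As.one_iff.2 fun k hk => ?_
    refine qc.comm_of ?_ ?_ hk
    · rw [hc0]; exact h4
    · rw [hc1]; exact hnu
  -- `n u n⁻¹`
  have hnx : n * x * n⁻¹ = x ∨ n * x * n⁻¹ = t * x := by
    have h1 := hx.conj n
    rw [hfix, hnz, mul_inv_cancel_right] at h1
    exact hL.as_unique h hx h1
  have hnuL : n * u * n⁻¹ ∈ L := by
    have := conj_mem_cj (g := n) hu
    rwa [hfix] at this
  have hnuu : (n * u * n⁻¹) * (n * u * n⁻¹) = t := by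
    calc (n * u * n⁻¹) * (n * u * n⁻¹) = n * (u * u) * n⁻¹ := by group
      _ = t := by rw [huu, hnt, mul_inv_cancel_right]
  obtain ⟨i, hi⟩ := qc.of_sq hnuL hnuu
  rw [← hc0] at hnx
  have hi0 : i ≠ 0 := by
    intro hi0
    rw [hi0] at hi
    -- `n u n⁻¹ = ± x = ± n x n⁻¹`
    have h1 : u = x ∨ u = t * x := by
      have key : ∀ p q : G, n * p * n⁻¹ = n * q * n⁻¹ → p = q := fun p q hpq =>
        mul_left_cancel (mul_right_cancel hpq)
      have e : n * (t * x) * n⁻¹ = t * (n * x * n⁻¹) := by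
        calc n * (t * x) * n⁻¹ = (n * t) * x * n⁻¹ := by group
          _ = (t * n) * x * n⁻¹ := by rw [hnt]
          _ = _ := by group
      rw [hc0] at hi hnx
      rcases hi with hi | hi <;> rcases hnx with hnx | hnx
      · left; exact key _ _ (hi.trans hnx.symm)
      · right; apply key; rw [e, hnx, ← mul_assoc, htt, one_mul, hi]
      · right; apply key; rw [e, hnx, hi]
      · left; exact key _ _ (hi.trans hnx.symm)
    rcases h1 with h1 | h1
    · exact hxu (by rw [h1])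
    · exact hxu (by rw [h1, ← mul_assoc, ← htx, mul_assoc])
  have hi12 : i = 1 ∨ i = 2 := by
    have hf : ∀ i : Fin 3, i ≠ 0 → i = 1 ∨ i = 2 := by decide
    exact hf i hi0
  rcases hi12 with rfl | rfl
  · rw [hc1] at hi
    rcases hi with hi | hi
    · left; exact caseA n hn (by rwa [mul_inv_eq_iff_eq_mul] at hi)
    · right; left
      refine caseA (z * n) (z_mul_CX h hn) ?_
      rw [mul_inv_eq_iff_eq_mul] at hi
      have h1 : z * u * z⁻¹ = t * u := by
        rw [hx.2 u hu]; exact hL.anti h hu huu hx.1 hxx (fun h3 => hxu h3.symm)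
      rw [mul_inv_eq_iff_eq_mul] at h1
      calc z * n * u = z * (n * u) := by group
        _ = z * (t * u * n) := by rw [hi]
        _ = (z * t) * u * n := by group
        _ = (t * z) * u * n := by rw [hti.comm]
        _ = t * (z * u) * n := by group
        _ = t * (t * u * z) * n := by rw [h1]
        _ = (t * t) * u * (z * n) := by group
        _ = u * (z * n) := by rw [htt, one_mul]
  · right; right
    have hc2 : c 2 = x * u := by
      have := qc.mul 0
      simp only [zero_add] at this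
      rw [hc0, hc1] at this
      exact this.symm
    rw [hc2] at hi
    -- `n u n⁻¹ = w u`
    have h1 : ∃ w ∈ L, As L z w ∧ w * w = t ∧ n * u * n⁻¹ = w * u := by
      rcases hi with hi | hi
      · exact ⟨x, hx.1, hx, hxx, hi⟩
      · refine ⟨t * x, mul_mem (hL.zmem h) hx.1, ?_, ?_, by rw [hi, mul_assoc]⟩
        · refine ⟨mul_mem (hL.zmem h) hx.1, fun k hk => ?_⟩
          rw [hx.2 k hk]
          have h2 : t * (x * k * x⁻¹) * t⁻¹ = x * k * x⁻¹ := by
            rw [← hL.comm_z h (mul_mem (mul_mem hx.1 hk) (inv_mem hx.1)), mul_inv_cancel_right]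
          rw [← h2]; group
        · calc t * x * (t * x) = t * (x * t) * x := by group
            _ = t * (t * x) * x := by rw [htx]
            _ = (t * t) * (x * x) := by group
            _ = t := by rw [htt, hxx, one_mul]
    obtain ⟨w, hwL, hw, hww, hwu⟩ := h1
    refine ⟨w, hwL, hw, hww, fun M hM m hm => ?_⟩
    have e1 := hti.conj_z h hL hx hu huu hxu
    have hK' : Mem Om z (cj u⁻¹ M) := by
      have := hM.cj h u⁻¹
      rw [← e1] at this
      have h2 : u⁻¹ * (u * z * u⁻¹) * u⁻¹⁻¹ = z := by group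
      rwa [h2] at this
    have h1 : u⁻¹ * m * u⁻¹⁻¹ ∈ cj u⁻¹ M := conj_mem_cj hm
    have h2 := mem_CX.1 hn _ hK' _ h1
    calc n * m * n⁻¹ = (n * u * n⁻¹) * (n * (u⁻¹ * m * u⁻¹⁻¹)) * n⁻¹ * (n * u * n⁻¹)⁻¹ := by group
      _ = (w * u) * ((u⁻¹ * m * u⁻¹⁻¹) * n) * n⁻¹ * (w * u)⁻¹ := by rw [hwu, h2]
      _ = w * m * w⁻¹ := by group

/-- **(2.4)** : `n` or `z n` centralises `R_t` -/
theorem TI.CX_or (hti : TI Om z t) (h : WM Om) (hn : n ∈ CX Om z) : n ∈ CX Om t ∨ z * n ∈ CX Om t := by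
  obtain ⟨L, hL⟩ := hti.inT
  obtain ⟨L', hL', hne⟩ := hL.other h
  obtain ⟨x, hx, hxx⟩ := (hti.symm h).exists_as h hL
  obtain ⟨x', hx', hxx'⟩ := (hti.symm h).exists_as h hL'
  rcases hti.cases_L h hn hL hx with h1 | h1 | ⟨w, hwL, hw, hww, h1⟩
  · exact Or.inl (hti.CX_of_as h hn hL h1)
  · exact Or.inr (hti.CX_of_as h (z_mul_CX h hn) hL h1)
  rcases hti.cases_L h hn hL' hx' with h2 | h2 | ⟨w', hwL', hw', hww', h2⟩
  · exact Or.inl (hti.CX_of_as h hn hL' h2)
  · exact Or.inr (hti.CX_of_as h (z_mul_CX h hn) hL' h2)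
  exfalso
  -- `w⁻¹ w'` centralises all members over `z t`
  have hst : TI Om (z * t) t := (hti.mul_left h).symm h
  have hLt : As L t 1 := hL.as_z h
  have hLt' : As L' t 1 := hL'.as_z h
  have a1 : As L (z * t) w⁻¹ := by
    have h3 : As L (z * t) w := by
      have := hw.mul hLt
      rwa [mul_one] at this
    rw [hL.inv_eq h hwL hww]
    refine ⟨mul_mem (hL.zmem h) hwL, fun k hk => ?_⟩
    rw [h3.2 k hk]
    have h4 : t * (w * k * w⁻¹) * t⁻¹ = w * k * w⁻¹ := by
      rw [← hL.comm_z h (mul_mem (mul_mem hwL hk) (inv_mem hwL)), mul_inv_cancel_right]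
    rw [← h4]; group
  have a2 : As L' (z * t) w' := by
    have := hw'.mul hLt'
    rwa [mul_one] at this
  refine hst.xx_not_cent h hL hL' hne a1 a2 fun M hM => As.one_iff.2 fun m hm => ?_
  have h3 := (h1 M hM m hm).symm.trans (h2 M hM m hm)
  calc w⁻¹ * w' * m = w⁻¹ * (w' * m * w'⁻¹) * w' := by group
    _ = w⁻¹ * (w * m * w⁻¹) * w' := by rw [h3]
    _ = m * (w⁻¹ * w') := by group

/-- `n ∈ X_z` commutes with the elements of `R_t` commuting with `z` -/
theorem TI.comm_of (hti : TI Om z t) (h : WM Om) (hn : n ∈ CX Om z) (hx : x ∈ RZ Om t) (hxz : z * x = x * z) :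
    n * x = x * n := by
  rcases hti.CX_or h hn with h1 | h1
  · exact CX_comm hx h1
  · have h2 : z * n * x = x * (z * n) := CX_comm hx h1
    apply mul_left_cancel (a := z)
    calc z * (n * x) = z * n * x := by group
      _ = x * (z * n) := h2
      _ = (x * z) * n := by group
      _ = (z * x) * n := by rw [hxz]
      _ = z * (x * n) := by group

/-- **(2.5)** -/
theorem TI.CX_const (hti : TI Om z t) (hti' : TI Om z t') (h : WM Om) (hn : n ∈ CX Om z) (hnt : n ∈ CX Om t) :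
    n ∈ CX Om t' := by
  obtain ⟨L, hL⟩ := hti.inT
  obtain ⟨x, hx, hxx⟩ := (hti.symm h).exists_as h hL
  have hxz : x * z = z * x := hx.comm.symm
  -- `t'' = x t' x⁻¹`
  obtain ⟨t'', ht''⟩ : ∃ t'', t'' = x * t' * x⁻¹ := ⟨_, rfl⟩
  have hti'' : TI Om z t'' := by
    have := hti'.conj h x
    rwa [hxz, mul_inv_cancel_right, ← ht''] at this
  obtain ⟨L'', hL''⟩ := hti''.inT
  obtain ⟨x'', hx'', hxx''⟩ := (hti''.symm h).exists_as h hL''
  have hxz'' : x'' * z = z * x'' := hx''.comm.symm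
  obtain ⟨s, hs⟩ : ∃ s, s = x'' * t * x''⁻¹ := ⟨_, rfl⟩
  have htis : TI Om z s := by
    have := hti.conj h x''
    rwa [hxz'', mul_inv_cancel_right, ← hs] at this
  have hns : n ∈ CX Om s := by
    have h1 : n * x'' = x'' * n := hti''.comm_of h hn (hL''.le_RZ hx''.1) hxz''.symm
    have h2 := (CX_conj h x'').2 hnt
    rwa [← h1, mul_inv_cancel_right, ← hs] at h2
  -- `s` and `t'` have the same action
  have hact : ∀ K, Mem Om z K → ∃ y, As K s y ∧ As K t' y := by
    intro K hK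
    obtain ⟨y, hy, hyy⟩ := hti.exists_as h hK
    obtain ⟨y', hy', hyy'⟩ := hti'.exists_as h hK
    have hzy : z * y = y * z := (hK.comm_z h hy.1).symm
    have hzy' : z * y' = y' * z := (hK.comm_z h hy'.1).symm
    have hzz := hK.inZ.z2 h
    have e1 : ∀ g : G, z * (z * g) = g := fun g => by rw [← mul_assoc, hzz, one_mul]
    obtain ⟨r1, r2, r3⟩ := (hti.symm h).rot h hL hK hx hy
    have hy'' : As K t'' (x * y' * x⁻¹) := by
      have := hy'.conj x
      rwa [r1, ← ht''] at this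
    obtain ⟨y'', hy''e⟩ : ∃ y'', y'' = x * y' * x⁻¹ := ⟨_, rfl⟩
    rw [← hy''e] at hy''
    have hyy'' := hti''.sq_of_as h hK hy''
    obtain ⟨s1, s2, s3⟩ := (hti''.symm h).rot h hL'' hK hx'' hy''
    have hys : As K s (x'' * y * x''⁻¹) := by
      have := hy.conj x''
      rwa [s1, ← hs] at this
    -- `As` is insensitive to `z`
    have hzas : ∀ {g w}, As K g w → As K g (z * w) := by
      intro g w hw
      refine ⟨mul_mem (hK.zmem h) hw.1, fun k hk => ?_⟩
      rw [hw.2 k hk]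
      have h4 : z * (w * k * w⁻¹) * z⁻¹ = w * k * w⁻¹ := by
        rw [← hK.comm_z h (mul_mem (mul_mem hw.1 hk) (inv_mem hw.1)), mul_inv_cancel_right]
      rw [← h4]; group
    by_cases hc : y * y' = y' * y
    · -- same axis
      have h1 : y' = y ∨ y' = z * y := by
        rcases hK.of_comm h hy.1 hyy hy'.1 hc with h2 | h2 | h2
        · rw [h2, one_mul] at hyy'
          exact absurd hyy'.symm (hK.inZ.z1 h)
        · rw [h2, hzz] at hyy'
          exact absurd hyy'.symm (hK.inZ.z1 h)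
        · exact h2
      have h2 : y'' = y' := by
        rw [hy''e]
        rcases h1 with h1 | h1
        · rw [h1, r2, mul_inv_cancel_right]
        · rw [h1]
          calc x * (z * y) * x⁻¹ = (x * z) * y * x⁻¹ := by group
            _ = z * (x * y) * x⁻¹ := by rw [hxz]; group
            _ = z * (y * x) * x⁻¹ := by rw [r2]
            _ = z * y := by group
      have h3 : x'' * y * x''⁻¹ = y := by
        rw [h2] at s2
        have h4 : x'' * y = y * x'' := by
          rcases h1 with h1 | h1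
          · rw [← h1]; exact s2
          · have h5 : y = z * y' := by rw [h1, e1]
            rw [h5]
            calc x'' * (z * y') = (x'' * z) * y' := by group
              _ = (z * x'') * y' := by rw [hxz'']
              _ = z * (x'' * y') := by group
              _ = z * (y' * x'') := by rw [s2]
              _ = z * y' * x'' := by group
        rw [h4, mul_inv_cancel_right]
      rw [h3] at hys
      rcases h1 with h1 | h1
      · exact ⟨y, hys, by rw [← h1]; exact hy'⟩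
      · exact ⟨y', by rw [h1]; exact hzas hys, hy'⟩
    · -- different axes
      have hanti : y' * y = z * (y * y') := by
        have h1 := hK.anti h hy.1 hyy hy'.1 hyy' hc
        rw [mul_inv_eq_iff_eq_mul] at h1
        rw [h1, mul_assoc]
      have h1 : y'' = y * y' ∨ y'' = z * (y * y') := by
        rw [hy''e]
        exact r3 y' hy'.1 hyy' hc
      have e2 : y * (y * y') = z * y' := by rw [← mul_assoc, hyy]
      have e3 : y * y' * y = y' := by
        rw [mul_assoc, hanti, ← mul_assoc, ← hzy, mul_assoc, e2, e1]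
      have hc2 : y'' * y ≠ y * y'' := by
        intro h2
        apply hK.inZ.z1 h
        rcases h1 with h1 | h1
        · rw [h1, e3, e2] at h2
          exact (mul_eq_right.1 h2.symm)
        · rw [h1] at h2
          have h3 : z * (y * y') * y = z * y' := by rw [mul_assoc, e3]
          have h4 : y * (z * (y * y')) = y' := by
            rw [← mul_assoc, ← hzy, mul_assoc, e2, e1]
          rw [h3, h4] at h2
          exact (mul_eq_right.1 h2)
      have h3 : y'' * y = y' ∨ y'' * y = z * y' := by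
        rcases h1 with h1 | h1
        · left; rw [h1, e3]
        · right; rw [h1, mul_assoc, e3]
      have h4 : x'' * y * x''⁻¹ = y' ∨ x'' * y * x''⁻¹ = z * y' := by
        rcases s3 y hy.1 hyy hc2 with h5 | h5 <;> rcases h3 with h6 | h6
        · left; rw [h5, h6]
        · right; rw [h5, h6]
        · right; rw [h5, h6]
        · left; rw [h5, h6, e1]
      rcases h4 with h4 | h4
      · exact ⟨y', by rw [h4] at hys; exact hys, hy'⟩
      · refine ⟨z * y', by rw [h4] at hys; exact hys, hzas hy'⟩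
  rcases eq_or_of_as h hti.inZ (hti'.mem_RZ h) (htis.mem_RZ h) (fun K hK => by
    obtain ⟨y, h1, h2⟩ := hact K hK
    exact ⟨y, h2, h1⟩) with h1 | h1
  · rwa [h1] at hns
  · have h2 := htis.CX_mul h hn hns
    rwa [h1, zzt hti.inZ h] at h2

/-! ### `N⁰` -/

/-- `N⁰_z` -/
def N0 (Om : Set (Subgroup G)) (z : G) : Subgroup G := CX Om z ⊓ ⨅ (t : G) (_ : TI Om z t), CX Om t

theorem mem_N0 : n ∈ N0 Om z ↔ n ∈ CX Om z ∧ ∀ t, TI Om z t → n ∈ CX Om t := by
  rw [N0, mem_inf, Subgroup.mem_iInf]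
  refine and_congr_right fun _ => forall_congr' fun t => ?_
  rw [Subgroup.mem_iInf]

theorem TI.mem_N0 (hti : TI Om z t) (h : WM Om) : n ∈ N0 Om z ↔ n ∈ CX Om z ∧ n ∈ CX Om t := by
  rw [RI.mem_N0]
  exact ⟨fun h1 => ⟨h1.1, h1.2 t hti⟩, fun h1 => ⟨h1.1, fun t' ht' => hti.CX_const ht' h h1.1 h1.2⟩⟩

theorem TI.N0_or (hti : TI Om z t) (h : WM Om) (hn : n ∈ CX Om z) : n ∈ N0 Om z ∨ z * n ∈ N0 Om z := by
  rcases hti.CX_or h hn with h1 | h1
  · exact Or.inl ((hti.mem_N0 h).2 ⟨hn, h1⟩)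
  · exact Or.inr ((hti.mem_N0 h).2 ⟨z_mul_CX h hn, h1⟩)

/-- **(2.6)** -/
theorem TI.N0_eq (hti : TI Om z t) (h : WM Om) : N0 Om z = N0 Om t := by
  ext n
  rw [hti.mem_N0 h, (hti.symm h).mem_N0 h, and_comm]

end Cfsg.Agent.Cit.Nil.RI

private theorem dce_a5dd541965d4 : _root_.True := by
  try have : _root_.True := by simp only [_root_.Cfsg.Agent.Cit.Nil.RI.N0.eq_1]
  exact _root_.True.intro
end

-- part: Cit/Nil/CompFour/NoThree
section
prune_inst 0x10040000000000000000000000004000000002000000002000000001000001804400003000001001102030000a802001080009420800002a008a0000040000040030c000001000000000404800000000000000000000000000000000000000000000000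
set_option linter.all false
open scoped Cfsg.Agent.FastGrp

/-!
# S1309, COMP, `r = 4` with type I pairs: THREE PROPAGATION, K-free (helper449's text)

World: `WM Om`, the member `K` over `a` has a type I neighbour `v` (`TI Om a v`), `O(C(a)) = 1`.

* `TI.act_swap` : the action of `x ∈ L` (over `v`, `x` acts on `L` as `a`) on the members over `a`;
* `exists_inner` : elements of `R_a` inducing a given inner action;
* `TI.exists_ck` : `CK K c` implies `CK K c₂` with `c₂` centralising `X_a`;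
* **`TI.three`** : `CK K c` implies `Three K`;
* **`three_of_cent`** : THREE in `C(s)` implies THREE in `G`, every involution `s`.
-/

set_option autoImplicit false
set_option linter.style.haveILetI false
set_option linter.unusedSectionVars false

namespace Cfsg.Agent.Cit.Nil.RI

open Subgroup Cfsg Cfsg.Agent.Cit

open RTwo (Q3 Act i11 i12 i21 i22 i_ne1 i_ne2 i_ne12 i_cases i_cases3)
open Three (H8 CK CP comm_of_pow_two act_inv odd_perm act_pow)

variable {G : Type*} [Group G] [Finite G] {Om : Set (Subgroup G)} {K L M : Subgroup G} {a b c d g n r s v x y z : G}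
  {q : Fin 3 → G}

theorem WM.h8 (h : WM Om) : H8 Om := ⟨h.hyp, h.card⟩

/-- **the quarter turn as a transposition** -/
theorem TI.act_swap (hti : TI Om a v) (h : WM Om) (hM : Mem Om a M) (hL : Mem Om v L) (hx : As L a x)
    (hq : Q3 M a q) {i : Fin 3} (hy : As M v (q i)) : Act a q q x (Equiv.swap (i + 1) (i + 2)) := by
  obtain ⟨h1, h2, h3⟩ := (hti.symm h).rot h hL hM hx hy
  obtain ⟨σ, hσ⟩ := hq.exists_act hq h1 hx.comm.symm
  have e1 : σ i = i := by
    have h4 : x * q i * x⁻¹ = q i := by rw [h2, mul_inv_cancel_right]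
    rcases hσ i with h5 | h5
    · rw [h4] at h5; exact (hq.inj (Or.inl h5)).symm
    · rw [h4] at h5; exact (hq.inj (Or.inr h5)).symm
  have hnc : q i * q (i + 1) ≠ q (i + 1) * q i := by
    intro h4
    rw [hq.mul, hq.mul'] at h4
    exact hq.zx_ne _ h4.symm
  have e2 : σ (i + 1) = i + 2 := by
    have h4 := h3 (q (i + 1)) (hq.mem _) (hq.sq _) hnc
    rw [hq.mul] at h4
    rcases h4 with h4 | h4 <;> rcases hσ (i + 1) with h5 | h5 <;> rw [h4] at h5
    · exact (hq.inj (Or.inl h5)).symm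
    · exact (hq.inj (Or.inr h5)).symm
    · exact hq.inj (Or.inr h5.symm)
    · exact (hq.inj (Or.inl (mul_left_cancel h5))).symm
  have key : ∀ (σ : Equiv.Perm (Fin 3)) (i : Fin 3), σ i = i → σ (i + 1) = i + 2 →
      σ = Equiv.swap (i + 1) (i + 2) := by decide
  rw [← key σ i e1 e2]
  exact hσ

/-- an element inducing inner automorphisms on the members over `z` acts as an element of `R_z` -/
theorem exists_inner (h : WM Om) (hz : InZ Om z) (hi : Inn Om z g) : ∃ ρ ∈ RZ Om z, g * ρ⁻¹ ∈ CX Om z := by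
  obtain ⟨F, f⟩ := hz.exists_fr h
  have h1 : ∀ i, ∃ y, As (F i) g y := fun i => exists_as_of_inn h (f.mem i) hi
  choose k hk using h1
  refine ⟨k 0 * k 1 * k 2 * k 3, (mem_RZ f h).2 ⟨k, fun i => (hk i).1, rfl⟩, ?_⟩
  refine mem_CX_of_as fun M hM => ?_
  obtain ⟨i, rfl⟩ := f.cov M hM
  have h2 := (hk i).mul (f.as_prod h (fun i => (hk i).1) i).inv
  rwa [mul_inv_cancel] at h2

/-- the members over `a` other than `K` are in `C_P(K)` -/
theorem le_CP (h : WM Om) (hcore : oddCore ↥(centralizer ({zz K} : Set G)) = ⊥) (hK : K ∈ Om) (hM : Mem Om (zz K) M)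
    (hne : M ≠ K) : M ≤ CP (zz K) K := by
  have h1 := h.h8.over hcore
  intro m hm
  have hmC : m ∈ centralizer ({zz K} : Set G) := mem_centralizer_singleton_iff.2 (hM.comm_z h hm)
  refine Three.mem_CP.2 ⟨⟨hmC, ?_⟩, fun k hk _ => ?_⟩
  · refine h1.le (M.subgroupOf (centralizer {zz K})) ⟨M, hM.1, hM.2, rfl⟩ ?_
    exact mem_subgroupOf.2 hm
  · exact Mem.comm (z := zz K) ⟨hK, rfl⟩ hM h hne.symm hk hm

/-- components of `C(a)` are in `X_a` -/
theorem component_le (h : WM Om) (hcore : oddCore ↥(centralizer ({z} : Set G)) = ⊥)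
    {E : Subgroup ↥(centralizer ({z} : Set G))} (hE : IsComponent E) {e : ↥(centralizer ({z} : Set G))} (he : e ∈ E) :
    (e : G) ∈ CX Om z := by
  rw [mem_CX]
  intro M hM m hm
  have h1 := h.h8.over (a := z) hcore
  have hmC : m ∈ centralizer ({z} : Set G) := mem_centralizer_singleton_iff.2 (hM.comm_z h hm)
  have hmP : (⟨m, hmC⟩ : ↥(centralizer ({z} : Set G))) ∈ pCore 2 ↥(centralizer ({z} : Set G)) :=
    h1.le (M.subgroupOf (centralizer {z})) ⟨M, hM.1, hM.2, rfl⟩ (mem_subgroupOf.2 hm)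
  exact congrArg Subtype.val (Three.comm_layer hmP
    (Cfsg.Agent.SignalizersComponents.Components.component_le_layer hE he))

/-- **an odd element rotating `K`, centralising `X_a` and `C_P(K)`** -/
theorem TI.exists_ck (hti : TI Om (zz K) v) (h : WM Om) (hcore : oddCore ↥(centralizer ({zz K} : Set G)) = ⊥)
    (hK : K ∈ Om) (hc : CK K c) : ∃ c₂, CK K c₂ ∧ ∀ n ∈ CX Om (zz K), c₂ * n = n * c₂ := by
  obtain ⟨a, ha⟩ : ∃ a, a = zz K := ⟨_, rfl⟩
  have hKm : Mem Om a K := ⟨hK, ha.symm⟩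
  rw [← ha] at hti hcore ⊢
  have hca : c * a = a * c := hKm.of_cj h hc.nor
  -- `c` centralises the other members
  have hcM : ∀ M, Mem Om a M → M ≠ K → ∀ m ∈ M, c * m = m * c := by
    intro M hM hne m hm
    refine hc.cr m (le_CP h ?_ hK ?_ hne hm)
    · rw [← ha]; exact hcore
    · rw [← ha]; exact hM
  obtain ⟨L, hL⟩ := hti.inT
  obtain ⟨x, hx, hxx⟩ := (hti.symm h).exists_as h hL
  have hti' : TI Om a (c * v * c⁻¹) := by
    have := hti.conj h c
    rwa [hca, mul_inv_cancel_right] at this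
  have hL' : Mem Om (c * v * c⁻¹) (cj c L) := hL.cj h c
  have hx' : As (cj c L) a (c * x * c⁻¹) := hx.conj_comm hca
  have hxa : x * a = a * x := hx.comm.symm
  have hxa' : (c * x * c⁻¹) * a = a * (c * x * c⁻¹) := hx'.comm.symm
  obtain ⟨g, hg⟩ : ∃ g, g = x * (c * x * c⁻¹) := ⟨_, rfl⟩
  have hga : g * a = a * g := by
    rw [hg]
    calc x * (c * x * c⁻¹) * a = x * ((c * x * c⁻¹) * a) := by group
      _ = x * (a * (c * x * c⁻¹)) := by rw [hxa']
      _ = (x * a) * (c * x * c⁻¹) := by group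
      _ = (a * x) * (c * x * c⁻¹) := by rw [hxa]
      _ = _ := by group
  have hzz := hKm.inZ.z2 h
  -- `c⁻¹ g` is inner
  have hinn : Inn Om a (c⁻¹ * g) := by
    intro M hM
    obtain ⟨y, hy, hyy⟩ := hti.exists_as h hM
    obtain ⟨q, hq, hq0⟩ := hM.exists_q h hy.1 hyy
    rw [← hq0] at hy
    have h1 := hti.act_swap h hM hL hx hq hy
    have hcia : c⁻¹ * a = a * c⁻¹ := by
      rw [inv_mul_eq_iff_eq_mul, ← mul_assoc, hca, mul_inv_cancel_right]
    have hca' : (c⁻¹ * g) * a = a * (c⁻¹ * g) := by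
      calc (c⁻¹ * g) * a = c⁻¹ * (g * a) := by group
        _ = c⁻¹ * (a * g) := by rw [hga]
        _ = (c⁻¹ * a) * g := by group
        _ = (a * c⁻¹) * g := by rw [hcia]
        _ = _ := by group
    by_cases hne : M = K
    · subst hne
      obtain ⟨τ, hτ⟩ := hq.exists_act hq hc.nor hca
      have hτ3 : τ * τ * τ = 1 := by
        have h2 := act_pow hzz hτ hca (orderOf c)
        rw [pow_orderOf_eq_one] at h2
        exact odd_perm hc.odd (h2.unique hq (Act.one q a))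
      have hτ1 : τ ≠ 1 := by
        rintro rfl
        obtain ⟨k, hk, hne⟩ := hc.nt
        exact hne (Three.comm_of_odd_inn hzz hc.odd hca (Act.inner hq hτ hca k hk))
      -- `c v c⁻¹` acts as `q (τ 0)`
      have hy' : As M (c * v * c⁻¹) (q (τ 0)) := by
        have h2 := hy.conj c
        rw [hc.nor] at h2
        rcases hτ 0 with h3 | h3
        · rwa [h3] at h2
        · rw [h3] at h2
          have h4 := hM.as_mul_z h h2
          rwa [← mul_assoc, hzz, one_mul] at h4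
      have h2 := hti'.act_swap h hM hL' hx' hq hy'
      have h3 := h2.comp hzz h1 hxa
      rw [← hg] at h3
      have h4 := h3.comp hzz (act_inv hq hτ hca hc.nor) hcia
      have key : ∀ τ : Equiv.Perm (Fin 3), τ * τ * τ = 1 → τ ≠ 1 →
          τ⁻¹ * (Equiv.swap (0 + 1) (0 + 2) * Equiv.swap (τ 0 + 1) (τ 0 + 2)) = 1 := by decide
      rw [key τ hτ3 hτ1] at h4
      exact Act.inner hq h4 hca'
    · have hcM' := hcM M hM hne
      have hcjM : cj c M = M := Three.cj_eq_of_mem fun m hm => by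
        rw [hcM' m hm, mul_inv_cancel_right]; exact hm
      have hy' : As M (c * v * c⁻¹) (q 0) := by
        have h2 := hy.conj c
        rw [hcjM, hcM' _ (hq.mem 0), mul_inv_cancel_right] at h2
        exact h2
      have h2 := hti'.act_swap h hM hL' hx' hq hy'
      have h3 := h2.comp hzz h1 hxa
      rw [← hg] at h3
      have key : Equiv.swap ((0 : Fin 3) + 1) (0 + 2) * Equiv.swap ((0 : Fin 3) + 1) (0 + 2) = 1 := by decide
      rw [key] at h3
      have h4 := Act.inner hq h3 hga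
      intro m hm
      have h5 : ∀ m ∈ M, c⁻¹ * m * c⁻¹⁻¹ = m := fun m hm => by
        rw [inv_inv, mul_assoc, ← hcM' m hm, inv_mul_cancel_left]
      have h6 : c⁻¹ * g * m * (c⁻¹ * g)⁻¹ = c⁻¹ * (g * m * g⁻¹) * c⁻¹⁻¹ := by group
      rw [h6]
      rcases h4 m hm with h7 | h7
      · left; rw [h7, h5 m hm]
      · right; rw [h7, h5 _ (mul_mem (hM.zmem h) hm)]
  obtain ⟨ρ, hρ, hn⟩ := exists_inner h hKm.inZ hinn
  obtain ⟨n, hn'⟩ : ∃ n, n = c⁻¹ * g * ρ⁻¹ := ⟨_, rfl⟩
  rw [← hn'] at hn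
  obtain ⟨b, hb⟩ : ∃ b, b = g * ρ⁻¹ := ⟨_, rfl⟩
  have hbcn : b = c * n := by rw [hb, hn']; group
  -- `b` centralises `X_a`
  have hbX : ∀ n ∈ CX Om a, b * n = n * b := by
    intro n hn
    have e1 : n * x = x * n := hti.comm_of h hn (hL.le_RZ hx.1) hxa.symm
    have e2 : n * (c * x * c⁻¹) = (c * x * c⁻¹) * n := hti'.comm_of h hn (hL'.le_RZ hx'.1) hxa'.symm
    have e3 : n * ρ = ρ * n := CX_comm hρ hn
    have e4 : Commute n b := by
      rw [hb, hg]
      have c1 : Commute n x := e1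
      have c2 : Commute n (c * x * c⁻¹) := e2
      have c3 : Commute n ρ := e3
      exact (c1.mul_right c2).mul_right c3.inv_right
    exact e4.eq.symm
  have hcn : Commute c n := by
    have h1 := hbX n hn
    rw [hbcn] at h1
    have h2 : (c * n) * n = (n * c) * n := by rw [h1]; group
    exact mul_right_cancel h2
  obtain ⟨s, m, hm, hsm⟩ : ∃ s m : ℕ, Odd m ∧ orderOf b = 2 ^ s * m := by
    obtain ⟨n, m, hm, hnm⟩ := Nat.exists_eq_two_pow_mul_odd (orderOf_pos b).ne'
    exact ⟨n, m, hm, hnm⟩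
  obtain ⟨c₂, hc₂⟩ : ∃ c₂, c₂ = b ^ 2 ^ s := ⟨_, rfl⟩
  have ho : Odd (orderOf c₂) := by
    have h1 : c₂ ^ m = 1 := by rw [hc₂, ← pow_mul, ← hsm, pow_orderOf_eq_one]
    exact hm.of_dvd_nat (orderOf_dvd_of_pow_eq_one h1)
  have hc₂X : ∀ n ∈ CX Om a, c₂ * n = n * c₂ := by
    intro n hn
    have h1 : Commute b n := hbX n hn
    rw [hc₂]
    exact (h1.pow_left _).eq
  have hc₂e : c₂ = c ^ 2 ^ s * n ^ 2 ^ s := by rw [hc₂, hbcn, hcn.mul_pow]
  have hnK : ∀ k ∈ K, n * k = k * n := mem_CX.1 hn K hKm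
  have hnm : n ^ 2 ^ s ∈ CX Om a := pow_mem hn _
  have hc₂a : c₂ * a = a * c₂ := hc₂X a (z_mem_CX h)
  refine ⟨c₂, ⟨ho, ?_, ?_, ?_⟩, hc₂X⟩
  · rw [← mem_normalizer_iff_cj, hc₂]
    refine pow_mem ?_ _
    rw [hbcn]
    refine mul_mem (mem_normalizer_iff_cj.2 hc.nor) (mem_normalizer_iff_cj.2 ?_)
    exact Three.cj_eq_of_mem fun k hk => by rw [hnK k hk, mul_inv_cancel_right]; exact hk
  · by_contra hcon
    push Not at hcon
    obtain ⟨k, hk, hne⟩ := hc.nt
    apply hne
    refine (comm_of_pow_two hc.odd (n := s) ?_).eq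
    have h1 : Commute c₂ k := hcon k hk
    have h2 : Commute (n ^ 2 ^ s) k := mem_CX.1 hnm K hKm k hk
    have h3 : c ^ 2 ^ s = c₂ * (n ^ 2 ^ s)⁻¹ := by rw [hc₂e, mul_inv_cancel_right]
    rw [h3]
    exact h1.mul_left h2.inv_left
  · intro r hr
    have hcr : Commute c r := hc.cr r hr
    rw [← ha] at hr
    obtain ⟨⟨hrC, hrP⟩, -⟩ := Three.mem_CP.1 hr
    have hra : r * a = a * r := mem_centralizer_singleton_iff.1 hrC
    obtain ⟨d, hd⟩ : ∃ d, d = c₂⁻¹ * r * c₂ * r⁻¹ := ⟨_, rfl⟩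
    have hcr' : (c ^ 2 ^ s)⁻¹ * r * c ^ 2 ^ s = r := by
      have h1 : Commute (c ^ 2 ^ s) r := hcr.pow_left _
      rw [mul_assoc, ← h1.eq, inv_mul_cancel_left]
    have hdX : d ∈ CX Om a := by
      have h1 : d = (n ^ 2 ^ s)⁻¹ * (r * n ^ 2 ^ s * r⁻¹) := by
        rw [hd, hc₂e]
        calc (c ^ 2 ^ s * n ^ 2 ^ s)⁻¹ * r * (c ^ 2 ^ s * n ^ 2 ^ s) * r⁻¹
            = (n ^ 2 ^ s)⁻¹ * ((c ^ 2 ^ s)⁻¹ * r * c ^ 2 ^ s) * n ^ 2 ^ s * r⁻¹ := by group
          _ = _ := by rw [hcr']; group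
      rw [h1]
      exact mul_mem (inv_mem hnm) (CX_conj_comm h hra hnm)
    have hdP : ∃ l : ℕ, d ^ 2 ^ l = 1 := by
      have hc₂C : c₂ ∈ centralizer ({a} : Set G) := mem_centralizer_singleton_iff.2 hc₂a
      have h1 := (pCore 2 ↥(centralizer ({a} : Set G))).mul_mem
        (Three.conj_mem_pCore hrP (⟨c₂, hc₂C⟩ : ↥(centralizer ({a} : Set G)))⁻¹)
        ((pCore 2 ↥(centralizer ({a} : Set G))).inv_mem hrP)
      obtain ⟨l, hl⟩ := Three.pow_two_of_mem h1
      refine ⟨l, ?_⟩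
      have h2 := congrArg Subtype.val hl
      change (c₂⁻¹ * r * c₂⁻¹⁻¹ * r⁻¹) ^ 2 ^ l = 1 at h2
      rw [inv_inv, ← hd] at h2
      exact h2
    obtain ⟨l, hl⟩ := hdP
    have hcd : Commute c₂ d := hc₂X d hdX
    have h1 : r * c₂ * r⁻¹ = c₂ * d := by rw [hd]; group
    have h2 : d ^ orderOf c₂ = 1 := by
      have h3 : (r * c₂ * r⁻¹) ^ orderOf c₂ = 1 := by rw [conj_pow, pow_orderOf_eq_one, mul_one, mul_inv_cancel]
      rw [h1, hcd.mul_pow, pow_orderOf_eq_one, one_mul] at h3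
      exact h3
    have h3 : d = 1 := by
      rw [← orderOf_eq_one_iff]
      have h4 : Nat.Coprime (orderOf c₂) (2 ^ l) := Nat.Coprime.pow_right _ (Nat.coprime_two_right.2 ho)
      exact Nat.eq_one_of_dvd_coprimes h4 (orderOf_dvd_of_pow_eq_one h2) (orderOf_dvd_of_pow_eq_one hl)
    rw [h3, mul_one, mul_inv_eq_iff_eq_mul] at h1
    exact h1.symm

/-- **`CK K c` implies THREE** -/
theorem TI.three (hti : TI Om (zz K) v) (h : WM Om) (hcore : oddCore ↥(centralizer ({zz K} : Set G)) = ⊥)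
    (hK : K ∈ Om) (hc : CK K c) : IndDefs.Three K := by
  obtain ⟨c₂, hc₂, hX⟩ := hti.exists_ck h hcore hK hc
  refine h.h8.three hK hcore hc₂ fun E hE => ⟨1, one_mem E, fun x hx => ?_⟩
  have h1 := hX x (component_le h hcore hE hx)
  rw [h1, mul_inv_cancel_right]
  change (x : G) = 1 * x * 1⁻¹
  rw [one_mul, inv_one, mul_one]

/-- **THREE PROPAGATION**: THREE in `C(s)` implies THREE in `G` -/
theorem three_of_cent (h : WM Om) (hT : ∀ z, InZ Om z → ∃ t, TI Om z t)
    (hcore : ∀ K ∈ Om, oddCore ↥(centralizer ({zz K} : Set G)) = ⊥) (hs : s * s = 1)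
    {K₁ : Subgroup ↥(centralizer ({s} : Set G))} (hK₁ : K₁ ∈ restr Om (centralizer {s})) (h3 : IndDefs.Three K₁) :
    IndDefs.Three (K₁.map (centralizer ({s} : Set G)).subtype) := by
  obtain ⟨c, hc, -⟩ := h.h8.exists_ck hs hK₁ h3 (hcore _ hK₁)
  obtain ⟨v, hv⟩ := hT _ ⟨K₁.map (centralizer ({s} : Set G)).subtype, hK₁, rfl⟩
  exact hv.three h (hcore _ hK₁) hK₁ hc

end Cfsg.Agent.Cit.Nil.RI
end

-- part: Cit/Nil/RI/TSB
section
prune_inst 0x3010450014000000000000000200006020000002000000002000000009000001804500003010001081d024b0684ac02001080109422800002a008a0000040000040130e000341c00100000404800000000000000000000000000000000000000000000000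
set_option linter.all false
open scoped Cfsg.Agent.FastGrp

/-!
# S1309, (6b), (C3), `r = 4`, any `m`, type I: TSB (helper488; (1.4) of `blueprints/R18-6b-n5-helper449.md`)

Two commuting elements `x ≠ s` of one block: there is `c` in the block with `x s ∈ R_c`, and a member over `c` which
`x s` centralises.
-/

set_option autoImplicit false
set_option linter.style.haveILetI false
set_option linter.unusedSectionVars false

namespace Cfsg.Agent.Cit.Nil.RI

open Subgroup Cfsg Cfsg.Agent.Cit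

open RG (WR CP Ov)

variable {G : Type*} [Group G] [Finite G] {Om : Set (Subgroup G)} {K L M : Subgroup G} {a c d s t u v x y z g : G}

/-- `x` fixes the member `K` over `s`, not inner on it: `x` is conjugate to `x s` under `K` -/
theorem exists_conj_mul (h : WM Om) (hx : InZ Om x) (hxs : x * s = s * x) (hK : Mem Om s K)
    (hf : cj x K = K) (hni : ¬ RG.Inn x K) : ∃ y, y * x * y⁻¹ = x * s ∧ y * s * y⁻¹ = s := by
  obtain ⟨y, hy⟩ := (h.wr.inn_or_tr hK.1 hf (hx.z2 h)).resolve_left hni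
  have hyy : y * y = s := by rw [hy.sq, hK.2]
  have hys : y * s = s * y := hK.comm_z h hy.mem
  have hss := hK.inZ.z2 h
  have h1 : x * y * x⁻¹ = s * y := by rw [hy.inv, hK.inv_eq h hy.mem hyy]
  have h2 : x * y = s * y * x := by rwa [mul_inv_eq_iff_eq_mul] at h1
  refine ⟨y, ?_, by rw [hys, mul_inv_cancel_right]⟩
  rw [mul_inv_eq_iff_eq_mul]
  calc y * x = (s * s) * (y * x) := by rw [hss, one_mul]
    _ = s * (s * y * x) := by group
    _ = s * (x * y) := by rw [h2]
    _ = (s * x) * y := by group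
    _ = x * s * y := by rw [hxs]

/-- the conclusion of TSB, for the pair `(x, s)` -/
def TSBc (Om : Set (Subgroup G)) (x s : G) : Prop :=
  ∃ c, InZ Om c ∧ Blk Om c s ∧ x * s ∈ RZ Om c ∧ ∃ K, Mem Om c K ∧ ∀ k ∈ K, (x * s) * k = k * (x * s)

theorem TSBc.of_inZ (h : WM Om) (hc : InZ Om (x * s)) (hb : Blk Om (x * s) s) : TSBc Om x s := by
  obtain ⟨K, hK⟩ := id hc
  exact ⟨x * s, hc, hb, z_mem_RZ hc h, K, hK, fun k hk => (hK.comm_z h hk).symm⟩

/-- the action of `x = x₀ x₁ x₂ x₃` (`x_i` not commuting with `s_i`) on `y` -/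
theorem TI.conj_four {F : Fin 4 → Subgroup G} {k l : Fin 4 → G} (hti : TI Om s c) (h : WM Om) (f : Fr Om c F)
    (hL : Mem Om s L) (hy : As L c y) (hl : ∀ i, l i ∈ F i) (hll : ∀ i, l i * l i = c)
    (hk : ∀ i, As (F i) s (k i)) (hnc : ∀ i, k i * l i ≠ l i * k i) :
    (l 0 * l 1 * l 2 * l 3) * y * (l 0 * l 1 * l 2 * l 3)⁻¹ = k 0 * k 1 * k 2 * k 3 * y ∨
    (l 0 * l 1 * l 2 * l 3) * y * (l 0 * l 1 * l 2 * l 3)⁻¹ = c * (k 0 * k 1 * k 2 * k 3 * y) := by
  have hcc := f.inZ.z2 h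
  have hcl : ∀ i, l i * c = c * l i := fun i => (f.mem i).comm_z h (hl i)
  have hck : ∀ i, k i * c = c * k i := fun i => (f.mem i).comm_z h (hk i).1
  have hlk : ∀ i j, i ≠ j → l i * k j = k j * l i := fun i j hij =>
    (f.mem i).comm (f.mem j) h (f.ne hij) (hl i) (hk j).1
  have hkk : ∀ i j, i ≠ j → k i * k j = k j * k i := fun i j hij =>
    (f.mem i).comm (f.mem j) h (f.ne hij) (hk i).1 (hk j).1
  have step : ∀ j (w v : G), l j * w = w * l j → w * c = c * w → (v = w * y ∨ v = c * (w * y)) →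
      (l j * v * (l j)⁻¹ = w * k j * y ∨ l j * v * (l j)⁻¹ = c * (w * k j * y)) := by
    intro j w v h1 h2 h3
    have h4 := hti.conj_y h hL (f.mem j) hy (hk j) (hl j) (hll j) (hnc j)
    have h5 : l j * (w * y) * (l j)⁻¹ = w * (l j * y * (l j)⁻¹) := by
      calc l j * (w * y) * (l j)⁻¹ = (l j * w) * y * (l j)⁻¹ := by group
        _ = (w * l j) * y * (l j)⁻¹ := by rw [h1]
        _ = _ := by group
    have h6 : l j * (w * y) * (l j)⁻¹ = w * k j * y ∨ l j * (w * y) * (l j)⁻¹ = c * (w * k j * y) := by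
      rw [h5]
      rcases h4 with h4 | h4 <;> rw [h4]
      · left; group
      · right
        calc w * (c * (k j * y)) = (w * c) * (k j * y) := by group
          _ = (c * w) * (k j * y) := by rw [h2]
          _ = _ := by group
    rcases h3 with h3 | h3
    · rw [h3]; exact h6
    · have h7 : l j * v * (l j)⁻¹ = c * (l j * (w * y) * (l j)⁻¹) := by
        rw [h3]
        calc l j * (c * (w * y)) * (l j)⁻¹ = (l j * c) * (w * y) * (l j)⁻¹ := by group
          _ = (c * l j) * (w * y) * (l j)⁻¹ := by rw [hcl]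
          _ = _ := by group
      rw [h7]
      rcases h6 with h6 | h6 <;> rw [h6]
      · right; rfl
      · left; rw [← mul_assoc, hcc, one_mul]
  have s3 := step 3 1 y (by rw [one_mul, mul_one]) (by rw [one_mul, mul_one]) (Or.inl (by rw [one_mul]))
  rw [one_mul] at s3
  have s2 := step 2 (k 3) _ (hlk 2 3 (by decide)) (hck 3) s3
  have e1 : l 1 * (k 3 * k 2) = k 3 * k 2 * l 1 := by
    rw [← mul_assoc, hlk 1 3 (by decide), mul_assoc, hlk 1 2 (by decide), ← mul_assoc]
  have e1' : k 3 * k 2 * c = c * (k 3 * k 2) := by rw [mul_assoc, hck, ← mul_assoc, hck, mul_assoc]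
  have s1 := step 1 (k 3 * k 2) _ e1 e1' s2
  have e0 : l 0 * (k 3 * k 2 * k 1) = k 3 * k 2 * k 1 * l 0 := by
    rw [← mul_assoc, ← mul_assoc, hlk 0 3 (by decide), mul_assoc (k 3), hlk 0 2 (by decide), ← mul_assoc, mul_assoc _ (l 0),
      hlk 0 1 (by decide), ← mul_assoc]
  have e0' : k 3 * k 2 * k 1 * c = c * (k 3 * k 2 * k 1) := by
    rw [mul_assoc, hck, ← mul_assoc, e1', mul_assoc]
  have s0 := step 0 (k 3 * k 2 * k 1) _ e0 e0' s1
  have e2 : k 3 * k 2 * k 1 * k 0 = k 0 * k 1 * k 2 * k 3 := by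
    calc k 3 * k 2 * k 1 * k 0 = (k 3 * k 2) * (k 1 * k 0) := by group
      _ = (k 2 * k 3) * (k 0 * k 1) := by rw [hkk 3 2 (by decide), hkk 1 0 (by decide)]
      _ = k 2 * (k 3 * k 0) * k 1 := by group
      _ = k 2 * (k 0 * k 3) * k 1 := by rw [hkk 3 0 (by decide)]
      _ = (k 2 * k 0) * (k 3 * k 1) := by group
      _ = (k 0 * k 2) * (k 1 * k 3) := by rw [hkk 2 0 (by decide), hkk 3 1 (by decide)]
      _ = k 0 * (k 2 * k 1) * k 3 := by group
      _ = k 0 * (k 1 * k 2) * k 3 := by rw [hkk 2 1 (by decide)]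
      _ = _ := by group
  rw [e2] at s0
  have e3 : l 0 * (l 1 * (l 2 * (l 3 * y * (l 3)⁻¹) * (l 2)⁻¹) * (l 1)⁻¹) * (l 0)⁻¹ =
      (l 0 * l 1 * l 2 * l 3) * y * (l 0 * l 1 * l 2 * l 3)⁻¹ := by group
  rwa [e3] at s0

/-- `c` of type I with `x` and with `s`, the actions of `x` and `s` on the members over `c` never commute: `x` fixes
the members over `s` -/
theorem cj_eq_of_ti (h : WM Om) (hsc : TI Om s c) (hxc : TI Om x c) (hxs : x * s = s * x)
    (hno : ∀ K, Mem Om c K → ¬ As K (x * s) 1) (hL : Mem Om s L) : cj x L = L := by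
  obtain ⟨F, f⟩ := hsc.inT.exists_fr h
  obtain ⟨k, hk, hsk⟩ := (mem_RZ f h).1 ((hsc.symm h).mem_RZ h)
  obtain ⟨l, hl, hxl⟩ := (mem_RZ f h).1 ((hxc.symm h).mem_RZ h)
  have ak : ∀ i, As (F i) s (k i) := fun i => by rw [hsk]; exact f.as_prod h hk i
  have al : ∀ i, As (F i) x (l i) := fun i => by rw [hxl]; exact f.as_prod h hl i
  have hkk : ∀ i, k i * k i = c := fun i => (hsc.symm h).sq_of_as h (f.mem i) (ak i)
  have hll : ∀ i, l i * l i = c := fun i => (hxc.symm h).sq_of_as h (f.mem i) (al i)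
  have hcc := f.inZ.z2 h
  have hc1 := f.inZ.z1 h
  have hnc : ∀ i, k i * l i ≠ l i * k i := by
    intro i hc
    apply hno _ (f.mem i)
    have h1 := (al i).mul (ak i)
    have h2 : l i * k i = 1 ∨ l i * k i = c := by
      rcases (f.mem i).of_comm h (ak i).1 (hkk i) (hl i) hc with h3 | h3 | h3 | h3
      · have := hll i
        rw [h3, one_mul] at this
        exact absurd this.symm hc1
      · have := hll i
        rw [h3, hcc] at this
        exact absurd this.symm hc1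
      · right; rw [h3, hkk]
      · left; rw [h3, mul_assoc, hkk, hcc]
    rcases h2 with h2 | h2
    · rwa [h2] at h1
    · rw [h2] at h1
      have h3 := h1.mul (As.one_iff.2 fun k' hk' => by
        rw [inv_eq_of_mul_eq_one_right hcc]; exact ((f.mem i).comm_z h hk').symm : As (F i) c⁻¹ 1)
      refine As.one_iff.2 fun k' hk' => ?_
      have h4 := h1.2 k' hk'
      have h5 := (f.mem i).comm_z h hk'
      have h6 : c * k' * c⁻¹ = k' := by rw [← h5, mul_inv_cancel_right]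
      rw [h6, mul_inv_eq_iff_eq_mul] at h4
      exact h4
  obtain ⟨y, hy, hyy⟩ := hsc.exists_as h hL
  have h1 := hsc.conj_four h f hL hy hl hll ak hnc
  rw [← hxl, ← hsk] at h1
  by_contra hne
  have hL' : Mem Om s (cj x L) := hL.cj_comm h hxs
  have hy' : As (cj x L) c (x * y * x⁻¹) := hy.conj_comm hxc.comm
  obtain ⟨M, hM, hML, hML'⟩ := hL.third hL' h
  obtain ⟨m, hm, hmm⟩ := hsc.exists_as h hM
  -- trivial actions
  have a1 : As L (x * y * x⁻¹) 1 := hL.as_one hL' h (fun h2 => hne h2.symm) hy'.1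
  have a2 : As M (x * y * x⁻¹) 1 := hM.as_one hL' h hML' hy'.1
  have a3 : As M y 1 := hM.as_one hL h hML hy.1
  rcases h1 with h1 | h1
  · rw [h1] at a1
    have a4 := (hL.as_z h).mul (As.self hy.1)
    rw [one_mul] at a4
    exact hL.not_as_one h a4 hyy a1
  · rw [h1] at a2
    have a4 := hm.mul ((hM.as_z h).mul a3)
    rw [one_mul, mul_one] at a4
    exact hM.not_as_one h a4 hmm a2

/-- **TSB** -/
theorem tsb (h : WM Om) (hT : ∀ z, InZ Om z → ∃ t, TI Om z t) (hx : InZ Om x) (hs : InZ Om s) (hne : x ≠ s)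
    (hxs : x * s = s * x) (hb : Blk Om x s) : TSBc Om x s := by
  rcases tri h hx hs hne with h1 | h1 | ⟨h1, h2⟩
  · exact absurd h1 (not_cp_blk h hs hb)
  · exact TSBc.of_inZ h (h1.inZ_mul h) ((h1.mul_left h).symm h).blk
  -- free both ways
  by_cases hfix : ∃ K, Mem Om s K ∧ cj x K = K
  · obtain ⟨K, hK, hf⟩ := hfix
    obtain ⟨y, hy1, hy2⟩ := exists_conj_mul h hx hxs hK hf (h1 K hK hf)
    have h3 := hx.conj h y
    have h4 := hb.conj h y
    rw [hy1] at h3 h4
    rw [hy2] at h4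
    exact TSBc.of_inZ h h3 h4
  by_cases hfix' : ∃ K, Mem Om x K ∧ cj s K = K
  · obtain ⟨K, hK, hf⟩ := hfix'
    obtain ⟨y, hy1, hy2⟩ := exists_conj_mul h hs hxs.symm hK hf (h2 K hK hf)
    have h3 := hs.conj h y
    have h4 := hb.conj h y
    rw [hy1, ← hxs] at h3
    rw [hy1, hy2, ← hxs] at h4
    exact TSBc.of_inZ h h3 ((h4.symm h).trans hb)
  push Not at hfix
  have hxx := hx.z2 h
  obtain ⟨t0, ht0⟩ := hT s hs
  obtain ⟨t, ht, hm⟩ := exists_fixed h ht0 hxx hxs
  have h3 := key h hs hxx hxs h1 (ht.mem_RZ h) (ht.inT.z2 h) hm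
  have hxt : x * t = t * x := by rwa [mul_inv_eq_iff_eq_mul] at h3
  obtain ⟨c, hc, hxc, hnf⟩ : ∃ c, TI Om s c ∧ x * c = c * x ∧ ¬ RG.Fr Om x c := by
    by_contra hcon
    push Not at hcon
    obtain ⟨K, hK, hf⟩ := not_all_moved h ht hxx hxs hxt hcon
    exact hfix K hK hf
  have hxne : x ≠ c := by
    rintro rfl
    obtain ⟨K, hK⟩ := hs
    exact hfix K hK (by
      obtain ⟨y, hy, -⟩ := hc.exists_as h hK
      exact hy.cj_eq)
  have hti : TI Om x c := by
    rcases tri h hx hc.inT hxne with h4 | h4 | h4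
    · exact absurd h4 (not_cp_blk h hc.inT (hb.trans hc.blk))
    · exact h4
    · exact absurd h4.1 hnf
  have hR : x * s ∈ RZ Om c := mul_mem ((hti.symm h).mem_RZ h) ((hc.symm h).mem_RZ h)
  by_contra hno
  obtain ⟨K, hK⟩ := hs
  refine hfix K hK (cj_eq_of_ti h hc hti hxs (fun M hM hM1 => hno ?_) hK)
  exact ⟨c, hc.inT, (hc.symm h).blk, hR, M, hM, As.one_iff.1 hM1⟩

/-- **TSB**, as the field `CompFour.TB.tsb` -/
theorem tsb' (h : WM Om) (hT : ∀ z, InZ Om z → ∃ t, TI Om z t) :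
    ∀ s x, InZ Om s → InZ Om x → s * x = x * s → s ≠ x → Blk Om s x →
      ∃ c, Blk Om s c ∧ s * x ∈ RZ Om c ∧ ∃ K, Mem Om c K ∧ ∀ k ∈ K, s * x * k = k * (s * x) := by
  intro s x hs hx hsx hne hb
  obtain ⟨c, -, h1, h2, h3⟩ := tsb h hT hs hx hne hsx hb
  exact ⟨c, hb.trans (h1.symm h), h2, h3⟩

end Cfsg.Agent.Cit.Nil.RI
end

-- part: Cit/Nil/CompFour/MM
section
prune_inst 0x2010400000000000000000000000004000000002000000002000000000000001800500003000001001102020200a800001000009022000002000820000000000040030c000001000000000404800000000000000000000000000000000000000000000000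
set_option linter.all false
open scoped Cfsg.Agent.FastGrp

/-!
# S1309, node (n5): `SF`, the subgroups `M_z`

Text: `blueprints/R18-6b-n5-helper449.md`, section 3.

* `WE Om` : `TB Om`, `TPr Om`, `EQ Om`, every `z` has a C-partner;
* `SF Om z x` : C-pair or the same C-partners: an equivalence relation on `Z`;
* `MM w z = M_z = {g | SF z (g z g⁻¹)}`, `MM_eq`, `cent_le`;
* (3.3) `SF.of_mem`; (3.4) `mem_of_conj`; (3.5) `exists_cs`.
-/

set_option autoImplicit false
set_option linter.style.haveILetI false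
set_option linter.unusedSectionVars false

namespace Cfsg.Agent.Cit.Nil.CompFour

open Subgroup Cfsg Cfsg.Agent.Cit Cfsg.Agent.Cit.Nil.RI Cfsg.Agent.Cit.Nil.IndDefs

open RG (WR CP Ov)

variable {G : Type*} [Group G]

/-- the world with (EQ) -/
structure WE (Om : Set (Subgroup G)) : Prop where
  b : TB Om
  tp : TPr Om
  eq : EQ Om
  pt : ∀ z, InZ Om z → ∃ a, CC Om z a

/-- C-pair or the same C-partners -/
def SF (Om : Set (Subgroup G)) (z x : G) : Prop := CC Om z x ∨ Eqv Om z x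

variable {Om : Set (Subgroup G)} {K L M N P : Subgroup G} {a b c d e s t u v x y z g h : G}

theorem Eqv.inZ (w : WE Om) (h : Eqv Om z x) (hz : InZ Om z) : InZ Om x := by
  obtain ⟨a, ha⟩ := w.pt z hz
  exact ((h a).1 ha).1

namespace SF

theorem refl (z : G) : SF Om z z := Or.inr (Eqv.refl z)

theorem symm (h : SF Om z x) : SF Om x z := h.imp CC.symm Eqv.symm

theorem trans (w : WE Om) (h : SF Om z x) (h' : SF Om x y) : SF Om z y := by
  rcases h with h | h <;> rcases h' with h' | h'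
  · exact w.eq z x y h h'.symm
  · exact Or.inl (h'.cc_right h)
  · exact Or.inl (h.symm.cc_left h')
  · exact Or.inr (h.trans h')

theorem inZ (w : WE Om) (h : SF Om z x) (hz : InZ Om z) : InZ Om x := by
  rcases h with h | h
  · exact h.2.1
  · exact h.inZ w hz

theorem conj [Finite G] (w : TB Om) (h : SF Om z x) (g : G) : SF Om (g * z * g⁻¹) (g * x * g⁻¹) :=
  h.imp (fun h => h.conj w g) (fun h => h.conj w g)

theorem of_blk [Finite G] (w : TB Om) (h : Blk Om z x) : SF Om z x := Or.inr (Eqv.of_blk w h)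

/-- elements of a 2-group -/
theorem of_two [Finite G] (w : TB Om) (hP : IsPGroup 2 P) (hz : z ∈ P) (hx : x ∈ P) (hz' : InZ Om z) (hx' : InZ Om x) :
    SF Om z x := by
  rcases w.cases_two hP hz hx hz' hx' with h1 | h1
  · exact Or.inl h1
  · exact of_blk w h1

end SF

variable [Finite G]

/-- `M_z` -/
def MM (w : WE Om) (z : G) : Subgroup G where
  carrier := {g | SF Om z (g * z * g⁻¹)}
  mul_mem' := by
    intro g h hg hh
    have h1 := SF.conj w.b hh g
    have h2 : g * (h * z * h⁻¹) * g⁻¹ = g * h * z * (g * h)⁻¹ := by group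
    rw [h2] at h1
    exact SF.trans w hg h1
  one_mem' := by
    have h1 : (1 : G) * z * 1⁻¹ = z := by group
    change SF Om z (1 * z * 1⁻¹)
    rw [h1]
    exact SF.refl z
  inv_mem' := by
    intro g hg
    have h1 := SF.conj w.b (SF.symm hg) g⁻¹
    have h2 : g⁻¹ * (g * z * g⁻¹) * g⁻¹⁻¹ = z := by group
    rw [h2] at h1
    exact h1

variable (w : WE Om)

theorem mem_MM : g ∈ MM w z ↔ SF Om z (g * z * g⁻¹) := Iff.rfl

include w

theorem mem_MM_of (h : SF Om z x) (h' : SF Om x (g * x * g⁻¹)) : g ∈ MM w z := by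
  rw [mem_MM]
  exact SF.trans w (SF.trans w h h') (SF.conj w.b h.symm g)

/-- `M_z = M_x` -/
theorem MM_eq (h : SF Om z x) : MM w z = MM w x := by
  ext g
  constructor
  · intro hg
    exact mem_MM_of w h.symm hg
  · intro hg
    exact mem_MM_of w h hg

theorem self_mem_MM : z ∈ MM w z := by
  rw [mem_MM, mul_inv_cancel_right]
  exact SF.refl z

/-- **(3.3)** -/
theorem SF.of_mem (hz : InZ Om z) (hx : InZ Om x) (hxM : x ∈ MM w z) : SF Om z x := by
  haveI : Fact (Nat.Prime 2) := ⟨Nat.prime_two⟩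
  have hp : ∀ {y : G}, InZ Om y → y ∈ MM w z → ∃ S : Sylow 2 ↥(MM w z), ∀ h : y ∈ MM w z, (⟨y, h⟩ : ↥(MM w z)) ∈ S := by
    intro y hy hyM
    have h1 : IsPGroup 2 (zpowers (⟨y, hyM⟩ : ↥(MM w z))) := by
      refine IsPGroup.of_card (n := 1) ?_
      rw [Nat.card_zpowers, pow_one]
      refine orderOf_eq_prime ?_ ?_
      · rw [pow_two]; exact Subtype.ext (hy.z2 w.b.w)
      · intro h; exact hy.z1 w.b.w (congrArg Subtype.val h)
    obtain ⟨S, hS⟩ := h1.exists_le_sylow
    exact ⟨S, fun _ => hS (mem_zpowers _)⟩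
  obtain ⟨S, hS⟩ := hp hz (self_mem_MM w)
  obtain ⟨T, hT⟩ := hp hx hxM
  obtain ⟨m, hm⟩ := MulAction.exists_smul_eq ↥(MM w z) S T
  have h2 : m * ⟨z, self_mem_MM w⟩ * m⁻¹ ∈ (T : Subgroup ↥(MM w z)) := by
    rw [← hm, Sylow.coe_subgroup_smul]
    exact Subgroup.smul_mem_pointwise_smul _ (MulAut.conj m) _ (hS _)
  have hP : IsPGroup 2 ((T : Subgroup ↥(MM w z)).map (MM w z).subtype) := T.isPGroup'.map _
  have h3 : (m : G) * z * (m : G)⁻¹ ∈ (T : Subgroup ↥(MM w z)).map (MM w z).subtype := ⟨_, h2, rfl⟩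
  have h4 : x ∈ (T : Subgroup ↥(MM w z)).map (MM w z).subtype := ⟨_, hT hxM, rfl⟩
  exact SF.trans w m.2 (SF.of_two w.b hP h3 h4 (hz.conj w.b.w _) hx)

/-- a Sylow subgroup containing `z` lies in `M_z` -/
theorem sylow_le {S : Subgroup G} (hS : IsPGroup 2 S) (hz : InZ Om z) (hzS : z ∈ S) : S ≤ MM w z := by
  intro s hs
  rw [mem_MM]
  exact SF.of_two w.b hS hzS (mul_mem (mul_mem hs hzS) (inv_mem hs)) hz (hz.conj w.b.w s)

omit w

/-! ### `CS(S)` -/

theorem cs_inZ {S : Subgroup G} (hz : z ∈ CS Om S) : InZ Om z := by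
  obtain ⟨K, hK, -⟩ := hz
  exact ⟨K, hK⟩

theorem cs_mem (w : TB Om) {S : Subgroup G} (hz : z ∈ CS Om S) : z ∈ S := by
  obtain ⟨K, hK, hKS⟩ := hz
  exact hKS (Mem.zmem (Om := Om) hK w.w)

/-- different elements of `CS(S)` -/
theorem cs_cc (w : TB Om) {S : Subgroup G} (hS : IsPGroup 2 S) (hz : z ∈ CS Om S) (hu : u ∈ CS Om S) (hne : z ≠ u) :
    CC Om z u := ⟨cs_inZ hz, cs_inZ hu, CS_cp w.w.wr hS hz hu hne⟩

theorem cs_cj (w : TB Om) (S : Subgroup G) (g : G) : CS Om (cj g S) = (fun x => g * x * g⁻¹) '' CS Om S := by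
  have key : ∀ (S : Subgroup G) (g x : G), x ∈ CS Om S → g * x * g⁻¹ ∈ CS Om (cj g S) := by
    rintro S g x ⟨K, hK, hKS⟩
    exact ⟨cj g K, Mem.cj (Om := Om) hK w.w g, cj_mono g hKS⟩
  ext x
  constructor
  · intro hx
    have h1 := key _ g⁻¹ x hx
    have h2 : cj g⁻¹ (cj g S) = S := by rw [← cj_mul, inv_mul_cancel, cj_one]
    rw [h2] at h1
    refine ⟨_, h1, ?_⟩
    change g * (g⁻¹ * x * g⁻¹⁻¹) * g⁻¹ = x
    group
  · rintro ⟨y, hy, rfl⟩
    exact key _ g y hy

theorem cs_ncard (w : TB Om) (S T : Sylow 2 G) : (CS Om (S : Subgroup G)).ncard = (CS Om (T : Subgroup G)).ncard := by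
  haveI : Fact (Nat.Prime 2) := ⟨Nat.prime_two⟩
  obtain ⟨g, hg⟩ := MulAction.exists_smul_eq G S T
  have h1 : (T : Subgroup G) = cj g (S : Subgroup G) := by rw [← hg]; rfl
  rw [h1, cs_cj w]
  exact (Set.ncard_image_of_injective _ fun u v huv => mul_left_cancel (mul_right_cancel huv)).symm

/-- **(3.5)** every class in `Σ(z)` meets `CS(S)` -/
theorem exists_cs (w : WE Om) (S : Sylow 2 G) (hz : z ∈ CS Om (S : Subgroup G)) (hu : SF Om z u) :
    ∃ s ∈ CS Om (S : Subgroup G), Eqv Om u s := by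
  haveI : Fact (Nat.Prime 2) := ⟨Nat.prime_two⟩
  by_contra hn
  push Not at hn
  have hzZ := cs_inZ hz
  have huZ := hu.inZ w hzZ
  have h1 : ∀ s ∈ CS Om (S : Subgroup G), CC Om u s := by
    intro s hs
    have h2 : SF Om z s := by
      by_cases hne : z = s
      · rw [hne]; exact SF.refl s
      · exact Or.inl (cs_cc w.b S.isPGroup' hz hs hne)
    rcases SF.trans w hu.symm h2 with h3 | h3
    · exact h3
    · exact (hn s hs h3).elim
  obtain ⟨K, hK⟩ := huZ
  obtain ⟨H, hH⟩ : ∃ H : Subgroup G, H = sSup {L | L ∈ Om ∧ L ≤ (S : Subgroup G)} := ⟨_, rfl⟩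
  have hHS : H ≤ (S : Subgroup G) := by rw [hH]; exact sSup_le fun L hL => hL.2
  have hKH : K ≤ centralizer (H : Set G) := by
    intro k hk
    have h3 : H ≤ centralizer {k} := by
      rw [hH]
      refine sSup_le fun L hL l hl => ?_
      rw [mem_centralizer_singleton_iff]
      have h4 := h1 (zz L) ⟨L, ⟨hL.1, rfl⟩, hL.2⟩
      exact (h4.rz w.b (hK.le_RZ hk) (Mem.le_RZ (Om := Om) ⟨hL.1, rfl⟩ hl)).symm
    rw [mem_centralizer_iff]
    intro x hx
    exact mem_centralizer_singleton_iff.1 (h3 hx)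
  have hP : IsPGroup 2 (H ⊔ K : Subgroup G) :=
    IsPGroup.to_sup_of_normal_left' (S.isPGroup'.to_le hHS) (w.b.w.isPGroup hK.1)
      (hKH.trans (Subgroup.centralizer_le_normalizer _))
  obtain ⟨T, hT⟩ := hP.exists_le_sylow
  have h5 : insert u (CS Om (S : Subgroup G)) ⊆ CS Om (T : Subgroup G) := by
    intro y hy
    rcases Set.mem_insert_iff.1 hy with rfl | hy
    · exact ⟨K, hK, le_sup_right.trans hT⟩
    · obtain ⟨L, hL, hLS⟩ := hy
      refine ⟨L, hL, le_trans ?_ (le_sup_left.trans hT)⟩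
      rw [hH]
      exact le_sSup ⟨hL.1, hLS⟩
  have h6 : u ∉ CS Om (S : Subgroup G) := fun h => hn u h (Eqv.refl u)
  have h7 := Set.ncard_le_ncard h5 (Set.toFinite _)
  rw [Set.ncard_insert_of_notMem h6 (Set.toFinite _), ← cs_ncard w.b S T] at h7
  omega

/-- `Z ∩ M_z` and `C_S`: an element of `CS(S)` with `SF` -/
theorem cs_sf (w : TB Om) {S : Subgroup G} (hS : IsPGroup 2 S) (hz : z ∈ CS Om S) (hu : u ∈ CS Om S) : SF Om z u := by
  by_cases hne : z = u
  · rw [hne]; exact SF.refl u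
  · exact Or.inl (cs_cc w hS hz hu hne)

end Cfsg.Agent.Cit.Nil.CompFour
end

-- part: Cit/Nil/CompFour/SE
section
prune_inst 0x1000450014000000000000000000004000000002000000002000000001000001804500003000001001102430280a802001080009422800002a008a0000000000040030c000001000000000404800000000000000000000000000000000000000000000000
set_option linter.all false
open scoped Cfsg.Agent.FastGrp

/-!
# S1309 (n5), `r = 4` with type I pairs: LEMMA SE (helper449's text, section 4)

* `SE.move` : `(z, t)` of type I, `L` over `t`: some `r ∈ R_z`, `r² = 1`, `r` commutes with `z`, `t`, moves `L` to another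
  member over `t` (RI (1.2));
* `SE.exists_e` = **LEMMA SE**: `N` normalised by `R_z`, `R_t`, `g ∈ N`, `t = g z g⁻¹`: there is `e ∈ N ∩ R_t`, `e² = 1`,
  `e = a b`, `a`, `b` of order 4 in two different members `L₁`, `L₂` over `t`, `e` centralises the other members over `t`;
* `SE.exists_e'` : the same, with `e` centralising one member over `t`, not centralising another one, and no `e c`,
  `c` centralising `R_t`, in `Z`;
* `SE.eq_or_cp`, `SE.false_of_conj`, `SE.false_of_conj'` : `N` normalised by `R_z`, `R_t`, `z, t ∈ N`, `D ≤ C(R_t)`,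
  all involutions of `N` outside `D` conjugate modulo `D`: `False`.
-/

set_option autoImplicit false
set_option linter.style.haveILetI false
set_option linter.unusedSectionVars false

namespace Cfsg.Agent.Cit.Nil.CompFour.SE

open Subgroup Cfsg Cfsg.Agent.Cit
open Cfsg.Agent.Cit.Nil.RI
open RG (WR CP Ov)

variable {G : Type*} [Group G] [Finite G] {Om : Set (Subgroup G)} {K L M N D : Subgroup G}
  {a b c d e s t u v x y z g : G}

/-- the bridge to `RG` -/
theorem rg (h : WM Om) (hti : TI Om z t) : RG.TI Om z t := by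
  have key : ∀ {z t : G}, TI Om z t → RG.IN Om t z := by
    intro z t hti K hK
    obtain ⟨y, hy, hyy⟩ := hti.exists_as h (K := K) hK
    exact ⟨y, hy.1, hyy, hy.2⟩
  exact ⟨key (hti.symm h), key hti⟩

theorem ax (hK : Mem Om z K) (hy : As K t y) (hyy : y * y = z) : RG.Ax t K y where
  mem := hy.1
  sq := hyy.trans hK.2.symm
  act := hy.2

/-- an element of order four off the axis -/
theorem exists_off (h : WM Om) (hti : TI Om z t) (hK : Mem Om z K) :
    ∃ y u, As K t y ∧ y * y = z ∧ u ∈ K ∧ u * u = z ∧ u ≠ y ∧ u ≠ y⁻¹ := by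
  obtain ⟨y, hy, hyy⟩ := hti.exists_as h hK
  obtain ⟨u, hu, huu, hyu⟩ := hK.exists_nc h hy.1 hyy
  refine ⟨y, u, hy, hyy, hu, huu, ?_, ?_⟩
  · rintro rfl; exact hyu rfl
  · rintro rfl; exact hyu (by rw [mul_inv_cancel, inv_mul_cancel])

/-- RI (1.2) -/
theorem move (h : WM Om) (hti : TI Om z t) (hL : Mem Om t L) :
    ∃ r ∈ RZ Om z, r * r = 1 ∧ r * z = z * r ∧ r * t = t * r ∧ Mem Om t (cj r L) ∧ cj r L ≠ L := by
  obtain ⟨F, f⟩ := hti.inZ.exists_fr h
  obtain ⟨y, u, hy, hyy, hu, huu, h1, h2⟩ := exists_off h hti (f.mem 0)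
  obtain ⟨y', u', hy', hyy', hu', huu', h1', h2'⟩ := exists_off h hti (f.mem 1)
  obtain ⟨w, hw, hww⟩ := (hti.symm h).exists_as h hL
  obtain ⟨m1, m2, m3, m4, m5, -⟩ := h.wr.move (rg h (hti.symm h)) (K := L) hL (L := F 0) (f.mem 0) (L' := F 1) (f.mem 1)
    (f.ne (by decide)) ⟨F 2, f.mem 2, f.ne (by decide), f.ne (by decide)⟩ (ax hL hw hww) (ax (f.mem 0) hy hyy)
    (ax (f.mem 1) hy' hyy') hu (huu.trans (f.mem 0).2.symm) h1 h2 hu' (huu'.trans (f.mem 1).2.symm) h1' h2'
  exact ⟨u * u', mul_mem ((f.mem 0).le_RZ hu) ((f.mem 1).le_RZ hu'), m3, m2, m1, m4, m5⟩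

/-- elements of `R_t` fix the members over `t` -/
theorem cj_eq_of_mem_RZ (h : WM Om) (hL : Mem Om t L) (hr : x ∈ RZ Om t) : cj x L = L := by
  obtain ⟨y, hy⟩ := exists_as_of_mem h hL hr
  exact hy.cj_eq

/-- **LEMMA SE** -/
theorem exists_e (h : WM Om) (hti : TI Om z t) (hz : RZ Om z ≤ normalizer (N : Set G))
    (ht : RZ Om t ≤ normalizer (N : Set G)) (hg : g ∈ N) (hgt : g * z * g⁻¹ = t) :
    ∃ L₁ L₂ a b, Mem Om t L₁ ∧ Mem Om t L₂ ∧ L₁ ≠ L₂ ∧ a ∈ L₁ ∧ b ∈ L₂ ∧ a * a = t ∧ b * b = t ∧ a * b ∈ N ∧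
      a * b ∈ RZ Om t ∧ (a * b) * (a * b) = 1 := by
  obtain ⟨L, hL⟩ := hti.inT
  obtain ⟨r, hr, -, hrz, -, hm, hne⟩ := move h hti hL
  -- `r' = g r g⁻¹ ∈ R_t`
  have hr' : g * r * g⁻¹ ∈ RZ Om t := by
    have := RZ_conj h g hr
    rwa [hgt] at this
  obtain ⟨q, hq⟩ : ∃ q, q = g * r * g⁻¹ := ⟨_, rfl⟩
  rw [← hq] at hr'
  obtain ⟨lam, hlam⟩ : ∃ lam, lam = q⁻¹ * r := ⟨_, rfl⟩
  have hlamN : lam ∈ N := by
    have h1 : r⁻¹ * g⁻¹ * r⁻¹⁻¹ ∈ N :=
      (mem_normalizer_iff.1 (inv_mem (hz hr)) g⁻¹).1 (inv_mem hg)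
    have h2 : lam = g * (r⁻¹ * g⁻¹ * r⁻¹⁻¹) := by rw [hlam, hq]; group
    rw [h2]
    exact mul_mem hg h1
  have hcj : cj lam L = cj r L := by
    rw [hlam, cj_mul]
    exact cj_eq_of_mem_RZ h hm (inv_mem hr')
  obtain ⟨l, hl, hll⟩ : ∃ l ∈ L, l * l = t := by
    obtain ⟨w, hw, hww⟩ := (hti.symm h).exists_as h hL
    exact ⟨w, hw.1, hww⟩
  have hlN : l ∈ normalizer (N : Set G) := ht (hL.le_RZ hl)
  have hlamt : lam * t * lam⁻¹ = t := by
    have h1 := hL.cj h lam
    rw [hcj] at h1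
    exact h1.2.symm.trans hm.2
  have htt := hti.inT.z2 h
  refine ⟨L, cj r L, l⁻¹, lam * l * lam⁻¹, hL, hm, hne.symm, inv_mem hl, ?_, ?_, ?_, ?_, ?_, ?_⟩
  · rw [← hcj]; exact conj_mem_cj hl
  · rw [← mul_inv_rev, hll]; exact hti.inT.inv h
  · calc lam * l * lam⁻¹ * (lam * l * lam⁻¹) = lam * (l * l) * lam⁻¹ := by group
      _ = t := by rw [hll, hlamt]
  · have h1 : l⁻¹ * lam * l⁻¹⁻¹ ∈ N := (mem_normalizer_iff.1 (inv_mem hlN) lam).1 hlamN
    have h2 : l⁻¹ * (lam * l * lam⁻¹) = (l⁻¹ * lam * l⁻¹⁻¹) * lam⁻¹ := by group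
    rw [h2]
    exact mul_mem h1 (inv_mem hlamN)
  · refine mul_mem (inv_mem (hL.le_RZ hl)) (hm.le_RZ ?_)
    rw [← hcj]; exact conj_mem_cj hl
  · have h1 : lam * l * lam⁻¹ ∈ cj r L := by rw [← hcj]; exact conj_mem_cj hl
    have h2 : l⁻¹ * (lam * l * lam⁻¹) = (lam * l * lam⁻¹) * l⁻¹ := hL.comm hm h hne.symm (inv_mem hl) h1
    have h3 : lam * l * lam⁻¹ * (lam * l * lam⁻¹) = t := by
      calc lam * l * lam⁻¹ * (lam * l * lam⁻¹) = lam * (l * l) * lam⁻¹ := by group
        _ = t := by rw [hll, hlamt]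
    calc l⁻¹ * (lam * l * lam⁻¹) * (l⁻¹ * (lam * l * lam⁻¹))
        = l⁻¹ * (lam * l * lam⁻¹) * ((lam * l * lam⁻¹) * l⁻¹) := by rw [h2]
      _ = l⁻¹ * (lam * l * lam⁻¹ * (lam * l * lam⁻¹)) * l⁻¹ := by group
      _ = l⁻¹ * (l * l) * l⁻¹ := by rw [h3, hll]
      _ = 1 := by group

/-- **LEMMA SE**, second form -/
theorem exists_e' (h : WM Om) (hti : TI Om z t) (hz : RZ Om z ≤ normalizer (N : Set G))
    (ht : RZ Om t ≤ normalizer (N : Set G)) (hg : g ∈ N) (hgt : g * z * g⁻¹ = t) :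
    ∃ e ∈ N, e ∈ RZ Om t ∧ e ≠ 1 ∧ e * e = 1 ∧ (∃ L, Mem Om t L ∧ ∀ k ∈ L, e * k = k * e) ∧
      (∃ L, Mem Om t L ∧ ¬ ∀ k ∈ L, e * k = k * e) ∧ ∀ c ∈ CX Om t, ¬ InZ Om (e * c) := by
  obtain ⟨L₁, L₂, a, b, hL1, hL2, hne, ha, hb, haa, hbb, hN, hR, hee⟩ := exists_e h hti hz ht hg hgt
  obtain ⟨L₃, hL3, h31, h32⟩ := hL1.third hL2 h
  have hc3 : ∀ k ∈ L₃, a * b * k = k * (a * b) := by
    intro k hk
    have h1 : a * k = k * a := hL1.comm hL3 h (Ne.symm h31) ha hk
    have h2 : b * k = k * b := hL2.comm hL3 h (Ne.symm h32) hb hk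
    rw [mul_assoc, h2, ← mul_assoc, h1, mul_assoc]
  have hn1 : ¬ ∀ k ∈ L₁, a * b * k = k * (a * b) := by
    intro h1
    have h2 : As L₁ (a * b) a := by
      refine ⟨ha, fun k hk => ?_⟩
      have h3 : b * k = k * b := (hL1.comm hL2 h hne hk hb).symm
      calc a * b * k * (a * b)⁻¹ = a * (b * k) * b⁻¹ * a⁻¹ := by group
        _ = a * (k * b) * b⁻¹ * a⁻¹ := by rw [h3]
        _ = a * k * a⁻¹ := by group
    exact hL1.not_as_one h h2 haa (As.one_iff.2 h1)
  refine ⟨a * b, hN, hR, ?_, hee, ⟨L₃, hL3, hc3⟩, ⟨L₁, hL1, hn1⟩, ?_⟩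
  · intro h1
    exact hn1 fun k _ => by rw [h1, one_mul, mul_one]
  · intro c hc hZ
    rw [mem_CX] at hc
    by_cases h1 : t = a * b * c
    · -- `e c = t` centralises `L₁`
      refine hn1 fun k hk => ?_
      have h2 := hc L₁ hL1 k hk
      have h3 : k * (a * b * c) = a * b * c * k := by rw [← h1]; exact hL1.comm_z h hk
      have h4 : a * b * k * c = k * (a * b) * c := by
        calc a * b * k * c = a * b * (k * c) := by group
          _ = a * b * (c * k) := by rw [h2]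
          _ = a * b * c * k := by group
          _ = k * (a * b * c) := h3.symm
          _ = k * (a * b) * c := by group
      exact mul_right_cancel h4
    · have h2 : ∀ k ∈ L₃, a * b * c * k = k * (a * b * c) := by
        intro k hk
        rw [mul_assoc (a * b), hc L₃ hL3 k hk, ← mul_assoc, hc3 k hk, mul_assoc]
      have h3 := InZ.cent_all hL3 hZ h h1 h2 hL1
      refine hn1 fun k hk => ?_
      have h4 : a * b * k * c = k * (a * b) * c := by
        calc a * b * k * c = a * b * (k * c) := by group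
          _ = a * b * (c * k) := by rw [hc L₁ hL1 k hk]
          _ = a * b * c * k := by group
          _ = k * (a * b * c) := h3 k hk
          _ = k * (a * b) * c := by group
      exact mul_right_cancel h4

/-- **the use of LEMMA SE**: `N/D` cannot have all its involutions conjugate -/
theorem false_of_conj (h : WM Om) (hti : TI Om z t) (hz : RZ Om z ≤ normalizer (N : Set G))
    (ht : RZ Om t ≤ normalizer (N : Set G)) (hzN : z ∈ N) (htN : t ∈ N) (hDX : D ≤ CX Om t) (htD : t ∉ D)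
    (hD : ∀ c ∈ D, ∀ g ∈ N, g * z * g⁻¹ = t * c → g * z * g⁻¹ = t)
    (hconj : ∀ x ∈ N, ∀ y ∈ N, x * x = 1 → x ∉ D → y * y = 1 → y ∉ D → ∃ g ∈ N, ∃ c ∈ D, g * x * g⁻¹ = y * c) :
    False := by
  have hzz := hti.inZ.z2 h
  have htt := hti.inT.z2 h
  have hzD : z ∉ D := fun h1 => by
    obtain ⟨L, hL⟩ := hti.inT
    exact (hti.symm h).nc hL fun k hk => (mem_CX.1 (hDX h1) L hL k hk)
  obtain ⟨g, hg, c, hc, h1⟩ := hconj z hzN t htN hzz hzD htt htD
  obtain ⟨e, heN, -, -, hee, -, ⟨L, hL, hnc⟩, hnZ⟩ := exists_e' h hti hz ht hg (hD c hc g hg h1)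
  have heD : e ∉ D := fun h2 => hnc fun k hk => mem_CX.1 (hDX h2) L hL k hk
  obtain ⟨g', -, c', hc', h2⟩ := hconj z hzN e heN hzz hzD hee heD
  refine hnZ c' (hDX hc') ?_
  rw [← h2]
  exact hti.inZ.conj h g'

/-- `D = 1` -/
theorem false_of_conj' (h : WM Om) (hti : TI Om z t) (hz : RZ Om z ≤ normalizer (N : Set G))
    (ht : RZ Om t ≤ normalizer (N : Set G)) (hzN : z ∈ N) (htN : t ∈ N)
    (hconj : ∀ x ∈ N, ∀ y ∈ N, x * x = 1 → x ≠ 1 → y * y = 1 → y ≠ 1 → ∃ g ∈ N, g * x * g⁻¹ = y) : False := by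
  refine false_of_conj (D := ⊥) h hti hz ht hzN htN bot_le (fun h1 => hti.inT.z1 h (mem_bot.1 h1)) ?_ ?_
  · intro c hc g _ h1
    rwa [mem_bot.1 hc, mul_one] at h1
  · intro x hx y hy h1 h2 h3 h4
    obtain ⟨g, hg, h5⟩ := hconj x hx y hy h1 (fun h6 => h2 (mem_bot.2 h6)) h3 (fun h6 => h4 (mem_bot.2 h6))
    exact ⟨g, hg, 1, one_mem _, by rw [mul_one]; exact h5⟩

end Cfsg.Agent.Cit.Nil.CompFour.SE
end

-- part: Cit/Nil/CompFour/LemC
section
prune_inst 0x2010440010000000000000000000004000000002000000002000000000000001804400003000001001102430280a802001080009422800002a008a0000040000040030c000001000000000404800000000000000000000000000000000000000000000000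
set_option linter.all false
open scoped Cfsg.Agent.FastGrp

/-!
# S1309, node (n5): LEMMAS A, B, C of `blueprints/R18-6b-n5-helper449.md`, section 4 (helper488)

* `lemA` : `e` an involution, members `K₁, K, K' ≤ C(e)` over `a₁, v, v'`, `(v, v')` of type I, `(a₁, v)` a C-pair: `C(e) ≤ M_v`;
* `lemC` : `(a₁, a₂)` a C-pair: `C(a₁ a₂) ≤ M_{a₁}`;
* `lemB` : `e` an involution, members `K₁, K₂ ≤ C(e)` over a C-pair `(a₁, a₂)`: `C(e) ≤ M_{a₁}`.
-/

set_option autoImplicit false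
set_option linter.style.haveILetI false
set_option linter.unusedSectionVars false

namespace Cfsg.Agent.Cit.Nil.CompFour.LemC

open Subgroup Cfsg Cfsg.Agent.Cit Cfsg.Agent.Cit.Nil.RI Cfsg.Agent.Cit.Nil.IndDefs Cfsg.Agent.Cit.Nil.CompFour

open RG (WR CP Ov)

variable {G : Type*} [Group G] [Finite G] {Om : Set (Subgroup G)} {K L M N P K1 K2 : Subgroup G}
  {a b c d e s t u v x y z g a1 a2 v' : G}

/-- members over `z` and over `x` which commute -/
theorem SF.of_cm (w : TB Om) (hK : Mem Om z K) (hL : Mem Om x L) (hc : Cm K L) : SF Om z x := by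
  by_cases hne : z = x
  · rw [hne]; exact SF.refl x
  · exact Or.inl (CC.of_cm w hK hL hne hc)

/-- a conjugate of a member in `C(e)` -/
theorem OmC_cj (w : WM Om) (hK : K ∈ OmC Om e) (hg : g ∈ centralizer {e}) : cj g K ∈ OmC Om e := by
  refine ⟨w.hyp.conj K hK.1 g, ?_⟩
  rintro _ ⟨k, hk, rfl⟩
  exact mul_mem (mul_mem hg (hK.2 hk)) (inv_mem hg)

section

variable (w : WE Om)

include w

/-- **LEMMA A** -/
theorem lemA (hee : e * e = 1) (he1 : e ≠ 1) (h1 : K1 ∈ OmC Om e) (hK1 : Mem Om a1 K1) (h2 : K ∈ OmC Om e)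
    (hK : Mem Om v K) (h3 : L ∈ OmC Om e) (hL : Mem Om v' L) (hti : TI Om v v') (hc : CC Om a1 v) :
    centralizer {e} ≤ MM w v := by
  intro g hg
  rw [mem_MM]
  have hKg := OmC_cj w.b.w h2 hg
  have hKg' : Mem Om (g * v * g⁻¹) (cj g K) := hK.cj w.b.w g
  rcases w.tp e hee he1 K h2 with h4 | h4
  · -- NIL
    rw [hK.2] at h4
    exact SF.of_two w.b (OT_two e) h4 ((mem_normalizer_iff.1 (OT_norm e hg) v).1 h4) hc.2.1 (hc.2.1.conj w.b.w g)
  · have h5 : L ∈ comp (OmC Om e) K := mem_comp_of mem_comp_self (w.b.adj hti hK hL h2 h3)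
    have h6 : K1 ∉ comp (OmC Om e) K := fun h6 =>
      false_of_one w.b h4 h6 mem_comp_self h5 hK1 hK hL hc hti
    by_cases h7 : cj g K ∈ comp (OmC Om e) K
    · have h8 : Cm (cj g K) K1 := cm_of_not_comp h7 h2 h1 h6
      exact SF.trans w (Or.inl hc.symm) (SF.symm (SF.of_cm w.b hKg' hK1 h8))
    · exact SF.of_cm w.b hK hKg' (cm_of_not_comp mem_comp_self h2 hKg h7)

/-- a C-pair `(a₁, a₂)` with a common C-partner: `C(a₁ a₂) ≤ M_{a₁}` -/
theorem lemC_three (hc : CC Om a1 a2) (h1 : CC Om v a1) (h2 : CC Om v a2) : centralizer {a1 * a2} ≤ MM w a1 := by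
  have haa : a1 * a2 = a2 * a1 := hc.comm w.b
  have e1 : a1 * a2 * (a1 * a2) = 1 := by
    calc a1 * a2 * (a1 * a2) = a1 * (a2 * a1) * a2 := by group
      _ = (a1 * a1) * (a2 * a2) := by rw [← haa]; group
      _ = 1 := by rw [hc.1.z2 w.b.w, hc.2.1.z2 w.b.w, one_mul]
  have e2 : a1 * a2 ≠ 1 := fun h => hc.ne (by
    rw [← hc.2.1.inv w.b.w, eq_inv_iff_mul_eq_one]; exact h)
  obtain ⟨v', hv'⟩ := w.b.ti v h1.1
  obtain ⟨K, hK⟩ := h1.1
  obtain ⟨L, hL⟩ := hv'.inT
  obtain ⟨K1, hK1⟩ := hc.1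
  have key : ∀ {u : G} {M : Subgroup G}, CC Om u a1 → CC Om u a2 → Mem Om u M → M ∈ OmC Om (a1 * a2) := by
    intro u M hu1 hu2 hM
    refine ⟨hM.1, fun m hm => ?_⟩
    rw [mem_centralizer_singleton_iff]
    have f1 := hu1.symm.z_rz w.b (hM.le_RZ hm)
    have f2 := hu2.symm.z_rz w.b (hM.le_RZ hm)
    rw [← mul_assoc, ← f1, mul_assoc, ← f2, ← mul_assoc]
  have h3 : K1 ∈ OmC Om (a1 * a2) := by
    refine ⟨hK1.1, fun m hm => ?_⟩
    rw [mem_centralizer_singleton_iff]
    have f1 := hK1.comm_z w.b.w hm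
    have f2 := hc.symm.z_rz w.b (hK1.le_RZ hm)
    rw [← mul_assoc, f1, mul_assoc, ← f2, ← mul_assoc]
  have h4 := lemA w e1 e2 h3 hK1 (key h1 h2 hK) hK (key (h1.blk w.b hv'.blk) (h2.blk w.b hv'.blk) hL) hL hv' h1.symm
  rwa [MM_eq w (Or.inl h1 : SF Om v a1)] at h4

omit w in
/-- a C-pair `(a₁, a₂)` without common C-partners: `C(a₁ a₂)` normalises `{a₁, a₂}`, by `Z*` modulo `a₁ a₂` -/
theorem star (w : TB Om) (hO : ∀ N : Subgroup G, N ≤ centralizer {a1 * a2} → centralizer {a1 * a2} ≤ normalizer (N : Set G) →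
      Odd (Nat.card N) → N = ⊥)
    (hc : CC Om a1 a2) (hno : ∀ v, CC Om v a1 → ¬ CC Om v a2) :
    ∀ g, g * (a1 * a2) = a1 * a2 * g → g * a1 * g⁻¹ = a1 ∨ g * a1 * g⁻¹ = a2 := by
  have haa : a1 * a2 = a2 * a1 := hc.comm w
  have q1 := hc.1.z2 w.w
  have q2 := hc.2.1.z2 w.w
  have e1 : a1 * a2 * (a1 * a2) = 1 := by
    calc a1 * a2 * (a1 * a2) = a1 * (a2 * a1) * a2 := by group
      _ = (a1 * a1) * (a2 * a2) := by rw [← haa]; group
      _ = 1 := by rw [q1, q2, one_mul]
  have e2 : a1 * a2 ≠ 1 := fun h => hc.ne (by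
    rw [← hc.2.1.inv w.w, eq_inv_iff_mul_eq_one]; exact h)
  have e3 : a1 ≠ a1 * a2 := fun h => hc.2.1.z1 w.w (mul_eq_left.1 h.symm)
  have hza : a1 * a2 * a1 = a2 := by rw [haa, mul_assoc, q1, mul_one]
  -- `R_{a₁}` is not centralised by `x`, `Blk x a₁`
  have hcx : ∀ {x a y : G}, InZ Om a → InZ Om x → Blk Om x a → x ≠ a → CC Om a y → CC Om a (y * x * a) → False := by
    intro x a y ha hx hb hne hy hy'
    obtain ⟨K, hK⟩ := ha
    have h1 : ∀ k ∈ K, x * k = k * x := by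
      intro k hk
      have f1 := hy.symm.z_rz w (hK.le_RZ hk)
      have f2 := hy'.symm.z_rz w (hK.le_RZ hk)
      have f3 : k * a = a * k := hK.comm_z w.w hk
      have f4 : y * (x * k) * a = y * (k * x) * a := by
        calc y * (x * k) * a = y * x * (k * a) := by group
          _ = y * x * (a * k) := by rw [f3]
          _ = (y * x * a) * k := by group
          _ = k * (y * x * a) := f2
          _ = (k * y) * x * a := by group
          _ = (y * k) * x * a := by rw [f1]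
          _ = _ := by group
      exact mul_left_cancel (mul_right_cancel f4)
    exact (CC.of_cent w hK hx hne.symm h1).not_blk w (hb.symm w.w)
  obtain ⟨O, hO1, hO2, hO3, hO4⟩ := TwoB.zstar_mod (C := centralizer {a1 * a2}) (z := a1 * a2) (t := a1)
    (mem_centralizer_singleton_iff.2 rfl) (fun c hc => mem_centralizer_singleton_iff.1 hc) e1 e2
    (mem_centralizer_singleton_iff.2 (by rw [hza, ← mul_assoc, q1, one_mul])) q1 (hc.1.z1 w.w) e3 (by
      intro g hg hcomm
      rw [mem_centralizer_singleton_iff] at hg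
      obtain ⟨x, hx⟩ : ∃ x, x = g * a1 * g⁻¹ := ⟨_, rfl⟩
      obtain ⟨x', hx'⟩ : ∃ x', x' = g * a2 * g⁻¹ := ⟨_, rfl⟩
      have hxx' : x * x' = a1 * a2 := by
        calc x * x' = g * (a1 * a2) * g⁻¹ := by rw [hx, hx']; group
          _ = a1 * a2 := by rw [hg, mul_inv_cancel_right]
      have hC : CC Om x x' := by rw [hx, hx']; exact hc.conj w g
      rw [← hx] at hcomm ⊢
      have q3 := hC.1.z2 w.w
      rcases hcomm with h1 | h1
      · -- `x` commutes with `a₁`, so with `a₂`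
        have hxh : x * (a1 * a2) = a1 * a2 * x := by
          rw [← hxx']
          rw [mul_assoc, ← hC.comm w]
        have h2 : x * a2 = a2 * x := by
          have h3 : a1 * (x * a2) = a1 * (a2 * x) := by
            calc a1 * (x * a2) = (a1 * x) * a2 := by group
              _ = (x * a1) * a2 := by rw [h1]
              _ = x * (a1 * a2) := by group
              _ = a1 * a2 * x := hxh
              _ = _ := by group
          exact mul_left_cancel h3
        have hx'e : x' = x * a1 * a2 := by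
          calc x' = x * (x * x') := by rw [← mul_assoc, q3, one_mul]
            _ = x * (a1 * a2) := by rw [hxx']
            _ = _ := by group
        by_cases hxa1 : x = a1
        · left; exact hxa1
        by_cases hxa2 : x = a2
        · right; rw [hza]; exact hxa2
        exfalso
        rcases w.cases hC.1 hc.1 h1 with h3 | h3
        · rcases w.cases hC.1 hc.2.1 h2 with h4 | h4
          · exact hno x h3 h4
          · -- `Blk x a₂`
            have h5 : CC Om a2 x' := hC.blk w h4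
            refine hcx (a := a2) (x := x) (y := a1) hc.2.1 hC.1 h4 hxa2 hc.symm ?_
            have h6 : x' = a1 * x * a2 := by rw [hx'e, h1]
            rwa [← h6]
        · have h5 : CC Om a1 x' := hC.blk w h3
          refine hcx (a := a1) (x := x) (y := a2) hc.1 hC.1 h3 hxa1 hc ?_
          have h6 : x' = a2 * x * a1 := by
            rw [hx'e, ← h2, mul_assoc, haa, ← mul_assoc]
          rwa [← h6]
      · -- `x a₁ x⁻¹ = a₂`
        exfalso
        have h2 : x * a1 * x⁻¹ = a2 := by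
          rw [mul_inv_eq_iff_eq_mul, h1]
          calc a1 * a2 * (a1 * x) = (a1 * a2 * a1) * x := by group
            _ = a2 * x := by rw [hza]
        exact w.not_swap hC.1 hc.1 (by rw [h2]; exact hc))
  have hbot := hO O hO1 (fun c hc => by
    rw [mem_normalizer_iff]
    intro x
    refine ⟨fun hx => hO3 c hc x hx, fun hx => ?_⟩
    have h2 := hO3 c⁻¹ (inv_mem hc) _ hx
    have h3 : c⁻¹ * (c * x * c⁻¹) * c⁻¹⁻¹ = x := by group
    rwa [h3] at h2) hO2
  intro c hcc
  rcases hO4 c (mem_centralizer_singleton_iff.2 hcc) with h1 | h1 <;> rw [hbot, mem_bot] at h1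
  · left
    rw [← hc.1.inv w.w, eq_inv_iff_mul_eq_one, hc.1.inv w.w]; exact h1
  · right
    have h3 : c * a1 * c⁻¹ * a1 = a1 * a2 := by
      rw [← mul_right_inj (a1 * a2), h1, e1]
    calc c * a1 * c⁻¹ = c * a1 * c⁻¹ * a1 * a1 := by rw [mul_assoc _ a1 a1, q1, mul_one]
      _ = a1 * a2 * a1 := by rw [h3]
      _ = a2 := hza

/-- a C-pair `(a₁, a₂)` without common C-partners: `C(a₁ a₂) ≤ M_{a₁}` -/
theorem lemC_two (hO : ∀ N : Subgroup G, N ≤ centralizer {a1 * a2} → centralizer {a1 * a2} ≤ normalizer (N : Set G) →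
      Odd (Nat.card N) → N = ⊥)
    (hc : CC Om a1 a2) (hno : ∀ v, CC Om v a1 → ¬ CC Om v a2) :
    centralizer {a1 * a2} ≤ MM w a1 := by
  intro c hcc
  rw [mem_MM]
  rcases star w.b hO hc hno c (mem_centralizer_singleton_iff.1 hcc) with h1 | h1 <;> rw [h1]
  · exact SF.refl a1
  · exact Or.inl hc

/-- **LEMMA C** -/
theorem lemC (hO : ∀ e : G, e * e = 1 → e ≠ 1 → ∀ N : Subgroup G, N ≤ centralizer {e} →
      centralizer {e} ≤ normalizer (N : Set G) → Odd (Nat.card N) → N = ⊥)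
    (hc : CC Om a1 a2) : centralizer {a1 * a2} ≤ MM w a1 := by
  by_cases hno : ∀ v, CC Om v a1 → ¬ CC Om v a2
  · refine lemC_two w ?_ hc hno
    have haa : a1 * a2 = a2 * a1 := hc.comm w.b
    have e1 : a1 * a2 * (a1 * a2) = 1 := by
      calc a1 * a2 * (a1 * a2) = a1 * (a2 * a1) * a2 := by group
        _ = (a1 * a1) * (a2 * a2) := by rw [← haa]; group
        _ = 1 := by rw [hc.1.z2 w.b.w, hc.2.1.z2 w.b.w, one_mul]
    have e2 : a1 * a2 ≠ 1 := fun h => hc.ne (by
      rw [← hc.2.1.inv w.b.w, eq_inv_iff_mul_eq_one]; exact h)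
    exact hO _ e1 e2
  · push Not at hno
    obtain ⟨v, h1, h2⟩ := hno
    exact lemC_three w hc h1 h2

/-- **LEMMA B** -/
theorem lemB_of (hC : centralizer {a1 * a2} ≤ MM w a1) (hee : e * e = 1) (he1 : e ≠ 1) (h1 : K1 ∈ OmC Om e)
    (hK1 : Mem Om a1 K1) (h2 : K2 ∈ OmC Om e) (hK2 : Mem Om a2 K2) (hc : CC Om a1 a2) :
    centralizer {e} ≤ MM w a1 := by
  intro g hg
  rw [mem_MM]
  have hKg := OmC_cj w.b.w h1 hg
  have hKg' : Mem Om (g * a1 * g⁻¹) (cj g K1) := hK1.cj w.b.w g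
  rcases w.tp e hee he1 K1 h1 with h4 | h4
  · rw [hK1.2] at h4
    exact SF.of_two w.b (OT_two e) h4 ((mem_normalizer_iff.1 (OT_norm e hg) a1).1 h4) hc.1 (hc.1.conj w.b.w g)
  · by_cases h7 : cj g K1 ∈ comp (OmC Om e) K1
    · by_cases h6 : K2 ∈ comp (OmC Om e) K1
      · have h8 := h4 K1 mem_comp_self K2 h6 (hc.cm w.b hK1 hK2) _ h7
        rw [hK1.2, hK2.2] at h8
        have h9 : g * a1 * g⁻¹ ∈ MM w a1 := by
          apply hC
          rw [mem_centralizer_singleton_iff]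
          exact (h8 _ (hKg'.zmem w.b.w)).symm
        exact SF.of_mem w hc.1 (hc.1.conj w.b.w g) h9
      · have h8 : Cm (cj g K1) K2 := cm_of_not_comp h7 h1 h2 h6
        exact SF.trans w (Or.inl hc) (SF.symm (SF.of_cm w.b hKg' hK2 h8))
    · exact SF.of_cm w.b hK1 hKg' (cm_of_not_comp mem_comp_self h1 hKg h7)

/-- **LEMMA B**, in helper449's form -/
theorem lemB (hO : ∀ e : G, e * e = 1 → e ≠ 1 → ∀ N : Subgroup G, N ≤ centralizer {e} →
      centralizer {e} ≤ normalizer (N : Set G) → Odd (Nat.card N) → N = ⊥) :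
    ∀ (e a1 a2 : G) (K1 K2 : Subgroup G), e * e = 1 → e ≠ 1 → Mem Om a1 K1 → Mem Om a2 K2 → K1 ∈ OmC Om e →
      K2 ∈ OmC Om e → CC Om a1 a2 → centralizer {e} ≤ MM w a1 := fun _ _ _ _ _ hee he1 hK1 hK2 h1 h2 hc =>
  lemB_of w (lemC w hO hc) hee he1 h1 hK1 h2 hK2 hc

end

end Cfsg.Agent.Cit.Nil.CompFour.LemC
end
end
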