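import Cfsg.Agent.Cit.Nil.RTwoM.Base_m3
import Cfsg.Agent.Cit.Nil.LO.FormQ_m3
import Cfsg.Agent.Cit.Nil.SC_m3
import Mathlib
import Cfsg.Agent.Nodes.TyChart
import Cfsg.Agent.Cit.OmB3.Torus_m3
import Cfsg.Agent.OddOrderLocal.NilParts
import Cfsg.Agent.FastGrp
import Cfsg.Agent.Prune
set_option linter.all false

section
prune_inst 0x7f00000000000000000000000000000000000000000000000000000000000000000000000000000000000000000000000000000000000000000000000000000000000000000000000000000000000000003fffffffffffffffffffffffffffbeffbdffffffff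

-- part: Cit/Nil/CompR/TPm
section
set_option linter.all false
open scoped Cfsg.Agent.FastGrp

/-!
# S1309 (6b), COMP, any `r`: `T'` for `C(s)`, for members and for points, from the induction hypothesis

* `MOm Om s` : the members contained in `C(s)`; `MCl Om s K` : the class of `K` (component of the non-commuting graph);
* `OneM`, `TPm Om s` : `T'` for the members in `C(s)` : nil or `ONE`;
* `TPm.tps` : `TPm Om s → TPs (ZZ Om) (RR Om) s` (`T'` for the points `z` with `R_z ≤ C(s)`);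
* `tpm_of_ih`, `tp_of_ih` : `TPm`, `TP` from the field `ih` of helper500's `SCW`, if `O(C(s)) = 1` and no member in
  `C(s)` has `Three` in `C(s)`.
-/

set_option autoImplicit false
set_option linter.style.haveILetI false
set_option linter.unusedSectionVars false

namespace Cfsg.Agent.Cit.Nil.CompR

open Subgroup Cfsg Cfsg.Agent.Cit
open Cfsg.Agent.Cit.Nil.ROne (CP CS TT OneCls)
open Cfsg.Agent.Cit.Nil.AN (Cm Ce Om Cl OneC St cl_sub cl_symm cl_refl)
open Cfsg.Agent.OddOrderLocal.NilParts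
open RG (WR ZZ Ov RR)

section defs

variable {G : Type*} [Group G]

/-- the members contained in `C(s)` -/
def MOm (Ω : Set (Subgroup G)) (s : G) : Set (Subgroup G) := {K | K ∈ Ω ∧ K ≤ centralizer {s}}

/-- a step in the non-commuting graph of `MOm Ω s` -/
def MSt (Ω : Set (Subgroup G)) (s : G) (K L : Subgroup G) : Prop := L ∈ MOm Ω s ∧ ¬ Cm K L

/-- the class of `K` -/
def MCl (Ω : Set (Subgroup G)) (s : G) (K : Subgroup G) : Set (Subgroup G) :=
  {L | Relation.ReflTransGen (MSt Ω s) K L}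

/-- `ONE` -/
def OneM (Ω : Set (Subgroup G)) (s : G) (K : Subgroup G) : Prop :=
  ∀ K₁ ∈ MCl Ω s K, ∀ K₂ ∈ MCl Ω s K, Cm K₁ K₂ → ∀ L ∈ MCl Ω s K, Ce (zz K₁ * zz K₂) L

/-- `T'` for the members in `C(s)` -/
def TPm (Ω : Set (Subgroup G)) (s : G) : Prop :=
  ∀ K ∈ MOm Ω s, zz K ∈ oP 2 (centralizer {s}) ∨ OneM Ω s K

variable {Ω : Set (Subgroup G)} {K L M : Subgroup G} {z v w x y g s a b c : G}

theorem mcl_refl : K ∈ MCl Ω s K := Relation.ReflTransGen.refl

theorem mcl_sub (hK : K ∈ MOm Ω s) (hL : L ∈ MCl Ω s K) : L ∈ MOm Ω s := by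
  rcases Relation.ReflTransGen.cases_tail hL with h | ⟨c, -, h⟩
  · rw [h]; exact hK
  · exact h.1

theorem mcl_step (hL : L ∈ MCl Ω s K) (hM : M ∈ MOm Ω s) (h : ¬ Cm L M) : M ∈ MCl Ω s K :=
  Relation.ReflTransGen.tail hL ⟨hM, h⟩

theorem mcl_trans (hL : L ∈ MCl Ω s K) (hM : M ∈ MCl Ω s L) : M ∈ MCl Ω s K := Relation.ReflTransGen.trans hL hM

end defs

universe u

variable {G : Type u} [Group G] {Ω : Set (Subgroup G)} {K L M : Subgroup G} {z v w x y g s a b c : G}

section points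

variable (h : WR Ω)

include h

/-- a member over a point of `Om Z K s` is contained in `C(s)` -/
theorem mem_MOm (hx : x ∈ Om (ZZ Ω) (RR Ω) s) (hL : L ∈ Ov Ω x) : L ∈ MOm Ω s :=
  ⟨hL.1, fun k hk => mem_centralizer_singleton_iff.2 (hx.2 k (WR.le_RR hL hk)).symm⟩

/-- members over non-C-related points do not commute -/
theorem not_cm_of (hne : x ≠ y) (hn : ¬ Cm (RR Ω x) (RR Ω y)) (hK : K ∈ Ov Ω x) (hL : L ∈ Ov Ω y) : ¬ Cm K L := by
  intro h1
  have h2 : RG.CP Ω x y := h.CP_of_cen hK (fun k hk => (h1 k hk y (h.Ov_mem hL)).symm) hne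
  exact hn fun a ha b hb => h.CP_RR h2 ha hb

theorem mcl_aux (hx : x ∈ Om (ZZ Ω) (RR Ω) s) (hK : K ∈ Ov Ω x) (hy : y ∈ Cl (ZZ Ω) (RR Ω) s x) :
    y = x ∨ ∀ L ∈ Ov Ω y, L ∈ MCl Ω s K := by
  have hy' : Relation.ReflTransGen (St (ZZ Ω) (RR Ω) s) x y := hy
  clear hy
  induction hy' with
  | refl => exact Or.inl rfl
  | @tail b c h1 h2 ih =>
    have hb : b ∈ Om (ZZ Ω) (RR Ω) s := cl_sub hx h1
    by_cases hcx : c = x
    · exact Or.inl hcx
    right
    intro L hL
    rcases ih with rfl | ih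
    · exact mcl_step mcl_refl (mem_MOm h h2.1 hL) (not_cm_of h (Ne.symm hcx) h2.2 hK hL)
    · by_cases hbc : b = c
      · subst hbc
        exact ih L hL
      · obtain ⟨M, hM⟩ := hb.1
        exact mcl_step (ih M hM) (mem_MOm h h2.1 hL) (not_cm_of h hbc h2.2 hM hL)

/-- all members over the points of a nontrivial class lie in one class -/
theorem mcl_all (hx : x ∈ Om (ZZ Ω) (RR Ω) s) (hK : K ∈ Ov Ω x) (hy : y ∈ Cl (ZZ Ω) (RR Ω) s x) (hyx : y ≠ x)
    (hv : v ∈ Cl (ZZ Ω) (RR Ω) s x) (hL : L ∈ Ov Ω v) : L ∈ MCl Ω s K := by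
  by_cases hvx : v = x
  · subst hvx
    have hyO := cl_sub hx hy
    obtain ⟨M, hM⟩ := hyO.1
    exact mcl_trans ((mcl_aux h hx hK hy).resolve_left hyx M hM)
      ((mcl_aux h hyO hM (cl_symm hx hy)).resolve_left hyx.symm L hL)
  · exact (mcl_aux h hx hK hv).resolve_left hvx L hL

variable [Finite G]

/-- **`T'` for the points** -/
theorem TPm.tps (hyp : Hyp Ω) (hT : TPm Ω s) : TPs (ZZ Ω) (RR Ω) s := by
  intro x hx
  obtain ⟨K, hK⟩ := hx.1
  rcases hT K (mem_MOm h hx hK) with h4 | h4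
  · left
    rwa [hK.2] at h4
  · right
    intro u hu v hv huv y hy k hk
    have hne : u ≠ v := fun e => (GW.of_wr h hyp).nab (cl_sub hx hu).1 (by
      nth_rewrite 2 [e]
      exact huv)
    have hnt : ∃ y ∈ Cl (ZZ Ω) (RR Ω) s x, y ≠ x := by
      by_cases h5 : u = x
      · exact ⟨v, hv, fun e => hne (h5.trans e.symm)⟩
      · exact ⟨u, hu, h5⟩
    obtain ⟨y₀, hy₀, hy₀x⟩ := hnt
    have hall : ∀ {v : G}, v ∈ Cl (ZZ Ω) (RR Ω) s x → ∀ {L : Subgroup G}, L ∈ Ov Ω v →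
        L ∈ MCl Ω s K := fun hv _ hL => mcl_all h hx hK hy₀ hy₀x hv hL
    obtain ⟨A, hA⟩ := (cl_sub hx hu).1
    obtain ⟨B, hB⟩ := (cl_sub hx hv).1
    have hcm : Cm A B := fun a ha b hb => huv a (WR.le_RR hA ha) b (WR.le_RR hB hb)
    refine (RG.SS_comm (𝒦 := Ov Ω y) (x := u * v) (fun L hL l hl => ?_) hk)
    have h5 := h4 _ (hall hu hA) _ (hall hv hB) hcm _ (hall hy hL) l hl
    rwa [hA.2, hB.2] at h5

end points

/-! ### From `TStat` -/

section ind

open IndDefs (Adj comp T0 NIL ONE Three THREE TStat SCW mem_comp_self comp_symm comp_trans comp_eq mem_comp_of comp_sub)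

variable [Finite G]

theorem cm_subOf_iff (hK : K ≤ centralizer {s}) (hL : L ≤ centralizer {s}) :
    IndDefs.Cm (K.subgroupOf (centralizer {s})) (L.subgroupOf (centralizer {s})) ↔ Cm K L := by
  constructor
  · intro h1 k hk l hl
    exact congrArg Subtype.val (h1 ⟨k, hK hk⟩ hk ⟨l, hL hl⟩ hl)
  · intro h1 k hk l hl
    exact Subtype.ext (h1 k hk l hl)

theorem zz_subOf (hyp : Hyp Ω) (hK : K ∈ MOm Ω s) :
    ((zz (K.subgroupOf (centralizer {s})) : ↥(centralizer {s})) : G) = zz K := by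
  rw [zz_map hyp (subgroupOf_mem_restr hK.1 hK.2), map_subgroupOf_eq_of_le hK.2]

theorem mcl_comp (hK : K ∈ MOm Ω s) (hL : L ∈ MCl Ω s K) :
    L.subgroupOf (centralizer {s}) ∈ comp (restr Ω (centralizer {s})) (K.subgroupOf (centralizer {s})) := by
  have hL' : Relation.ReflTransGen (MSt Ω s) K L := hL
  clear hL
  induction hL' with
  | refl => exact mem_comp_self
  | @tail b c h1 h2 ih =>
    have hb := mcl_sub hK h1
    refine mem_comp_of ih ⟨subgroupOf_mem_restr hb.1 hb.2, subgroupOf_mem_restr h2.1.1 h2.1.2, fun h3 => h2.2 ?_⟩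
    exact (cm_subOf_iff hb.2 h2.1.2).1 h3

theorem tpm_of_tstat (hyp : Hyp Ω) (hT : ∀ K ∈ restr Ω (centralizer {s}), TStat (restr Ω (centralizer {s})) K)
    (h3 : ∀ K ∈ restr Ω (centralizer {s}), ¬ Three K) : TPm Ω s := by
  intro K hK
  have h1 := subgroupOf_mem_restr hK.1 hK.2
  rcases hT _ h1 with h4 | h4 | ⟨K₁, h5, h6⟩
  · left
    have h5 : zz (K.subgroupOf (centralizer {s})) ∈ Cfsg.pCore 2 ↥(centralizer {s}) := h4
    rw [oP_def]
    exact ⟨zz (K.subgroupOf (centralizer {s})), h5, zz_subOf hyp hK⟩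
  · right
    intro K₁ hK₁ K₂ hK₂ hc L hL l hl
    have m1 := mcl_sub hK hK₁
    have m2 := mcl_sub hK hK₂
    have m3 := mcl_sub hK hL
    have h5 := h4 _ (mcl_comp hK hK₁) _ (mcl_comp hK hK₂) ((cm_subOf_iff m1.2 m2.2).2 hc) _ (mcl_comp hK hL)
      ⟨l, m3.2 hl⟩ hl
    have h6 := congrArg Subtype.val h5
    simp only [Subgroup.coe_mul] at h6
    rwa [zz_subOf hyp m1, zz_subOf hyp m2] at h6
  · exact absurd h6 (h3 K₁ (comp_sub h1 h5))

theorem restr_t0 (t0 : T0 Ω) (hc : Cfsg.pPrimeCore 2 ↥(centralizer {s}) = ⊥) : T0 (restr Ω (centralizer {s})) where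
  hyp := t0.hyp.restr _
  card K hK := by
    rw [Nat.card_congr (K.equivMapOfInjective _ (centralizer {s}).subtype_injective).toEquiv]
    exact t0.card _ hK
  core := hc

/-- **`T'` for the members in `C(s)` from the induction hypothesis** -/
theorem tpm_of_ih (w : SCW G Ω) (hs : s ≠ 1) (hc : Cfsg.pPrimeCore 2 ↥(centralizer {s}) = ⊥)
    (h3 : ∀ K ∈ restr Ω (centralizer {s}), ¬ Three K) : TPm Ω s := by
  have f := ROne.fsimp_of w.simple w.na
  have hlt : Nat.card ↥(centralizer {s}) < Nat.card G := by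
    refine lt_of_le_of_ne (Subgroup.card_le_card_group _) fun h1 => hs ?_
    have h2 : centralizer {s} = ⊤ := Subgroup.eq_top_of_card_eq _ h1
    rw [← Subgroup.mem_bot, ← f.cen, mem_centralizer_iff]
    intro y _
    have h4 : y ∈ centralizer {s} := by rw [h2]; exact mem_top y
    exact mem_centralizer_singleton_iff.1 h4
  exact tpm_of_tstat w.t0.hyp (w.ih _ _ hlt (restr_t0 w.t0 hc)) h3

end ind

end Cfsg.Agent.Cit.Nil.CompR
end

-- part: Cit/Nil/LO/ChartSimply
section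
set_option linter.all false
open scoped Cfsg.Agent.FastGrp

/-!
# Lie odd sections: the simply laced charts (S1309, (n1), piece (C))

Text: `blueprints/CIT-6b-LieOdd-helper443.md`, section 3.

* `dich` : `e` centralises `X y`, or inverts `X y` and `y` is not orthogonal to only one `± r ∈ F` (`OneF`);
* `conn`, `exists_nb` : the graph of the roots, not orthogonal = joined, of an irreducible system has diameter two;
* `all_or_none` : `e` inverts all `X y` with `OneF y` or none;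
* `out_of`, `out` : **the output** `Out c.cls F` for the charts of type `A n` (`n ≥ 2`), `D n`, `E6`, `E7`, `E8`.
-/

set_option autoImplicit false
set_option linter.unusedSectionVars false
set_option linter.dupNamespace false

namespace Cfsg.Agent.LOC.Simply

open CoxeterSystem Cfsg.Agent.ChevalleyStructure.CoxeterGeom Cfsg.Agent.Tits.Roots Cfsg.Agent.Tits.Core
  Cfsg.Agent.Tits.RootComb Cfsg.Agent.Nodes.Comb Cfsg.Agent.Nodes.Reps Cfsg.Agent.Nodes.BNOf
  Cfsg.Agent.Nodes.RGDLib Cfsg.Agent.Nodes.PosPair Cfsg.Agent.Nodes.Chart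
  Cfsg.Agent.Nodes.Coroot Cfsg.Agent.Nodes.SimplyLaced Cfsg.Agent.Nodes.KindBase Cfsg.Agent.Nodes.OppDec
  Cfsg.Agent.LOC.ChartDefs Cfsg.Agent.LOC.Wt Cfsg.Agent.LOC.FormGrp Cfsg.Agent.LOC.SL
open scoped commutatorElement

variable {I W Y : Type*} [Fintype I] [DecidableEq I] [Group W] [Fintype W] [Group Y] {M : CoxeterMatrix I}
  {cs : CoxeterSystem M W} {A : I → I → ℤ} {h : IsCartan M A}

/-! ### The graph of the roots -/

section graph

/-- a root is not orthogonal to some simple root -/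
theorem exists_sr {v : I → ℤ} (hv : IsRoot cs h v) : ∃ i, cpr cs h v (sr i) ≠ 0 := by
  by_contra hcon
  push Not at hcon
  have h1 : ∀ i, form cs h (sr i) v = 0 := by
    intro i
    rw [form_comm]
    exact (cpr_zero_iff cs h v (isRoot_sr cs h i)).1 (hcon i)
  have h2 : Nodes.CenVV.fh cs h v v = 0 := by
    conv_lhs => rw [eq_sum_sr v]
    rw [map_sum]
    refine Finset.sum_eq_zero fun k _ => ?_
    rw [map_zsmul, Nodes.CenVV.fh_apply]
    have h3 : form cs h (sr k) (∑ k, v k • sr k) = 0 := by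
      rw [← eq_sum_sr v]
      exact h1 k
    rw [h3, smul_zero]
  exact absurd h2 (ne_of_gt (form_pos cs h hv.ne_zero))

variable (h4 : ∀ i j, M i j ≠ 4) (h6 : ∀ i j, M i j ≠ 6)
  (irr : ∀ J : Set I, J.Nonempty → J ≠ Set.univ → ∃ a ∈ J, ∃ b, b ∉ J ∧ M a b ≠ 2)
include h4 h6 irr

/-- two roots have a common neighbour -/
theorem conn {y y' : I → ℤ} (hy : IsRoot cs h y) (hy' : IsRoot cs h y') :
    ∃ x, IsRoot cs h x ∧ cpr cs h x y ≠ 0 ∧ cpr cs h x y' ≠ 0 := by
  have closed : ∀ u v, IsRoot cs h u → IsRoot cs h v → cpr cs h u v ≠ 0 →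
      (∃ x, IsRoot cs h x ∧ cpr cs h x y ≠ 0 ∧ cpr cs h x u ≠ 0) →
      ∃ x, IsRoot cs h x ∧ cpr cs h x y ≠ 0 ∧ cpr cs h x v ≠ 0 := by
    rintro u v hu hv huv ⟨x, hx, h1, h2⟩
    by_cases h3 : cpr cs h u y = 0
    · by_cases h5 : cpr cs h x v = 0
      · refine ⟨x - cpr cs h x u • u, isRoot_refl cs h hx hu, ?_, ?_⟩
        · rw [cpr_sub cs h _ _ hy, cpr_smul cs h _ _ hy, h3, mul_zero, sub_zero]
          exact h1
        · rw [cpr_sub cs h _ _ hv, cpr_smul cs h _ _ hv, h5, zero_sub]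
          exact neg_ne_zero.2 (mul_ne_zero h2 huv)
      · exact ⟨x, hx, h1, h5⟩
    · exact ⟨u, hu, h3, huv⟩
  have hyy : ∃ x, IsRoot cs h x ∧ cpr cs h x y ≠ 0 ∧ cpr cs h x y ≠ 0 :=
    ⟨y, hy, by rw [cpr_self cs h hy]; decide, by rw [cpr_self cs h hy]; decide⟩
  let J : Set I := {i | ∃ x, IsRoot cs h x ∧ cpr cs h x y ≠ 0 ∧ cpr cs h x (sr i) ≠ 0}
  have hJ : J = Set.univ := by
    by_contra hne
    obtain ⟨i, hi⟩ := exists_sr hy
    obtain ⟨a, ha, b, hb, hab⟩ := irr J ⟨i, closed y (sr i) hy (isRoot_sr cs h i) hi hyy⟩ hne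
    apply hb
    refine closed (sr a) (sr b) (isRoot_sr cs h a) (isRoot_sr cs h b) ?_ ha
    rw [cpr_sr, Nodes.ZFam.pairing_sr']
    have hne' : a ≠ b := fun e => hb (e ▸ ha)
    rcases h.rel a b hne' with ⟨e, -⟩ | ⟨-, -, e⟩ | ⟨e, -⟩ | ⟨e, -⟩
    · exact absurd e hab
    · rw [e]; decide
    · exact absurd e (h4 a b)
    · exact absurd e (h6 a b)
  obtain ⟨i, hi⟩ := exists_sr hy'
  have h1 : i ∈ J := by rw [hJ]; trivial
  refine closed (sr i) y' (isRoot_sr cs h i) hy' ?_ h1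
  intro e
  exact hi ((cpr_zero_comm cs h hy' (isRoot_sr cs h i)).2 e)

/-- neighbours (rank at least two) -/
theorem exists_nb (h2 : ∃ i j : I, i ≠ j) {x : I → ℤ} (hx : IsRoot cs h x) :
    ∃ y, IsRoot cs h y ∧ cpr cs h x y = 1 := by
  obtain ⟨i, j, hij⟩ := h2
  have hsr : ∀ i : I, IsRoot cs h (sr i) := fun i => isRoot_sr cs h i
  have hk : ∃ k, sr k ≠ x ∧ sr k ≠ -x := by
    by_contra hcon
    push Not at hcon
    have e1 := hcon i
    have e2 := hcon j
    have hne : (sr i : I → ℤ) ≠ sr j := fun e => by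
      have := congrFun e i
      simp only [sr, Pi.single_eq_same] at this
      rw [Pi.single_eq_of_ne hij] at this
      exact one_ne_zero this
    have hne' : (sr i : I → ℤ) ≠ -sr j := fun e => by
      have := congrFun e i
      simp only [sr, Pi.single_eq_same, Pi.neg_apply] at this
      rw [Pi.single_eq_of_ne hij] at this
      simp at this
    by_cases a1 : sr i = x
    · by_cases a2 : sr j = x
      · exact hne (a1.trans a2.symm)
      · have a3 := e2 a2
        exact hne' (by rw [a3, neg_neg, a1])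
    · have a3 := e1 a1
      by_cases a2 : sr j = x
      · exact hne' (by rw [a3, a2])
      · exact hne (a3.trans (e2 a2).symm)
  obtain ⟨k, k1, k2⟩ := hk
  have key : ∃ y, IsRoot cs h y ∧ x ≠ y ∧ x ≠ -y ∧ cpr cs h x y ≠ 0 := by
    obtain ⟨x', hx', c1, c2⟩ := conn h4 h6 irr hx (hsr k)
    by_cases b1 : x' = x
    · rw [b1] at c2
      exact ⟨sr k, hsr k, k1.symm, fun e => k2 (by rw [e, neg_neg]), c2⟩
    by_cases b2 : x' = -x
    · rw [b2, cpr_neg cs h x (hsr k)] at c2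
      exact ⟨sr k, hsr k, k1.symm, fun e => k2 (by rw [e, neg_neg]), neg_ne_zero.1 c2⟩
    · exact ⟨x', hx', Ne.symm b1, fun e => b2 (by rw [e, neg_neg]),
        fun e => c1 ((cpr_zero_comm cs h hx hx').1 e)⟩
  obtain ⟨y, hy, n1, n2, n3⟩ := key
  have e1 := abs_cpr_le_one cs h h4 h6 hx hy n1 n2
  rw [abs_le] at e1
  by_cases e2 : cpr cs h x y = 1
  · exact ⟨y, hy, e2⟩
  · exact ⟨-y, hy.neg, by rw [cpr_neg_right cs h x hy]; omega⟩

end graph

/-! ### The signs -/

variable {p : ℕ} {T : Subgroup Y} {n : I → Y}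
  {X : (I → ℤ) → Subgroup Y} {R : Set (I → ℤ)} {Z : (I → ℤ) → Subgroup Y} {z : (I → ℤ) → Y}
  {C : Cls cs h p T n X R Z z} {F : Set (I → ℤ)}

/-- `y` is not orthogonal to exactly one `± r` of `F` -/
def OneF (cs : CoxeterSystem M W) (h : IsCartan M A) (F : Set (I → ℤ)) (y : I → ℤ) : Prop :=
  ∃ r ∈ F, cpr cs h y r = 1 ∧ ∀ t ∈ F, t ≠ r → t ≠ -r → cpr cs h y t = 0

/-- a sign for a member of `F` -/
theorem exists_sign (h4 : ∀ i j, M i j ≠ 4) (h6 : ∀ i j, M i j ≠ 6) (hF : MaxF C F) {y r : I → ℤ}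
    (hy : IsRoot cs h y) (hyF : y ∉ F) (hr : r ∈ F) (h0 : cpr cs h y r ≠ 0) :
    ∃ r' ∈ F, (r' = r ∨ r' = -r) ∧ cpr cs h y r' = 1 := by
  have hrr := C.root r (hF.sub r hr)
  have e1 := abs_cpr_le_one cs h h4 h6 hy hrr (fun e => hyF (e ▸ hr)) (fun e => hyF (e ▸ hF.neg r hr))
  rw [abs_le] at e1
  by_cases e2 : cpr cs h y r = 1
  · exact ⟨r, hr, Or.inl rfl, e2⟩
  · exact ⟨-r, hF.neg r hr, Or.inr rfl, by rw [cpr_neg_right cs h y hrr]; omega⟩

variable [Finite Y] [Fact p.Prime] (S : SLC C)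
include S

section one

variable (hF : MaxF C F) {K : Subgroup Y} {e : Y} (hK : QK K e) (hc : Cen C F K)
include hF hK hc

theorem dich {y : I → ℤ} (hy : IsRoot cs h y) : (∀ v ∈ X y, e * v * e⁻¹ = v) ∨
    ((∀ v ∈ X y, e * v * e⁻¹ = v⁻¹) ∧ OneF cs h F y) := by
  by_cases hyF : y ∈ F
  · left
    intro v hv
    rw [hc.comm y hyF v (by rw [S.ZX y hy]; exact hv) e hK.mem]
    group
  obtain ⟨r0, hr0, h0⟩ := hF.max y (S.all y hy)
  obtain ⟨r, hr, -, hr1⟩ := exists_sign S.h4 S.h6 hF hy hyF hr0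
    (fun e => h0 ((cpr_zero_iff cs h y (C.root r0 (hF.sub r0 hr0))).1 e))
  by_cases h1 : ∀ t ∈ F, t ≠ r → t ≠ -r → cpr cs h y t = 0
  · rcases S.triv_one hF hK hc hy hr hr1 h1 with h2 | h2
    · exact Or.inl h2
    · exact Or.inr ⟨h2, r, hr, hr1, h1⟩
  left
  push Not at h1
  obtain ⟨s0, hs0, n1, n2, hs00⟩ := h1
  obtain ⟨s, hs, es, hs1⟩ := exists_sign S.h4 S.h6 hF hy hyF hs0 hs00
  have hsr : s ≠ r ∧ s ≠ -r := by
    rcases es with rfl | rfl
    · exact ⟨n1, n2⟩
    · exact ⟨fun e => n2 (by rw [← e, neg_neg]), fun e => n1 (neg_injective e)⟩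
  by_cases h2 : ∀ t ∈ F, t ≠ r → t ≠ -r → t ≠ s → t ≠ -s → cpr cs h y t = 0
  · exact S.triv_two hF hK hc hy hr hs hsr.1.symm hr1 hs1 h2
  push Not at h2
  obtain ⟨t0, ht0, m1, m2, m3, m4, ht00⟩ := h2
  obtain ⟨t, ht, et, ht1⟩ := exists_sign S.h4 S.h6 hF hy hyF ht0 ht00
  have htr : t ≠ r := by
    rcases et with rfl | rfl
    · exact m1
    · exact fun e => m2 (by rw [← e, neg_neg])
  have hts : t ≠ s := by
    rcases et with rfl | rfl
    · exact m3
    · exact fun e => m4 (by rw [← e, neg_neg])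
  exact S.triv_three hF hK hc hy hr hs ht hsr.1.symm htr.symm hts.symm hr1 hs1 ht1

omit hF hK hc in
theorem not_both {y : I → ℤ} (hy : IsRoot cs h y) (h1 : ∀ v ∈ X y, e * v * e⁻¹ = v) :
    ¬ ∀ v ∈ X y, e * v * e⁻¹ = v⁻¹ := by
  intro h2
  obtain ⟨v, hv, hv1⟩ := S.ne_one hy
  have h3 := h2 v hv
  rw [h1 v hv] at h3
  exact hv1 (sq_eq_one (S.odd_X hy) hv (by nth_rw 1 [h3]; exact inv_mul_cancel v))

omit hF hK hc in
theorem pp {x y : I → ℤ} (hx : IsRoot cs h x) (hy : IsRoot cs h y) (h0 : cpr cs h x y = -1)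
    (h1 : ∀ v ∈ X x, e * v * e⁻¹ = v) (h2 : ∀ v ∈ X y, e * v * e⁻¹ = v) :
    ∀ v ∈ X (x + y), e * v * e⁻¹ = v := by
  intro w hw
  obtain ⟨u, hu, hu1⟩ := S.ne_one hx
  obtain ⟨v, hv, rfl⟩ := nd C.rgd S.h4 S.h6 hx hy h0 hu hu1 hw
  rw [conj_comm, h1 u hu, h2 v hv]

omit hF hK hc in
theorem pn {x y : I → ℤ} (hx : IsRoot cs h x) (hy : IsRoot cs h y) (h0 : cpr cs h x y = -1)
    (h1 : ∀ v ∈ X x, e * v * e⁻¹ = v) (h2 : ∀ v ∈ X y, e * v * e⁻¹ = v⁻¹) :
    ∀ v ∈ X (x + y), e * v * e⁻¹ = v⁻¹ := by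
  intro w hw
  obtain ⟨u, hu, hu1⟩ := S.ne_one hx
  obtain ⟨v, hv, rfl⟩ := nd C.rgd S.h4 S.h6 hx hy h0 hu hu1 hw
  rw [conj_comm, h1 u hu, h2 v hv]
  refine comm_inv_right (S.cm (isRoot_add S.h4 S.h6 hx hy h0) hy ?_ _ hw v hv)
  rw [cpr_add cs h x y hy, h0, cpr_self cs h hy]
  decide

theorem pos_neg {y : I → ℤ} (hy : IsRoot cs h y) (h1 : ∀ v ∈ X y, e * v * e⁻¹ = v) :
    ∀ v ∈ X (-y), e * v * e⁻¹ = v := by
  have hFp : ∀ r ∈ F, ∀ v ∈ X r, e * v * e⁻¹ = v := by
    intro r hr v hv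
    rw [hc.comm r hr v (by rw [S.ZX r (C.root r (hF.sub r hr))]; exact hv) e hK.mem]
    group
  by_cases hyF : y ∈ F
  · exact hFp _ (hF.neg y hyF)
  rcases dich S hF hK hc hy.neg with h2 | ⟨h2, -⟩
  · exact h2
  exfalso
  obtain ⟨r0, hr0, h0⟩ := hF.max y (S.all y hy)
  obtain ⟨r, hr, -, hr1⟩ := exists_sign S.h4 S.h6 hF hy hyF hr0
    (fun e => h0 ((cpr_zero_iff cs h y (C.root r0 (hF.sub r0 hr0))).1 e))
  have hrr := C.root r (hF.sub r hr)
  obtain ⟨hyr, a1, a2, a3, a4, a5⟩ := S.vroots hy hrr hr1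
  have h3 := pp S hy hrr.neg a1 h1 (hFp _ (hF.neg r hr))
  rw [← sub_eq_add_neg] at h3
  have h5 := pn S hyr hy.neg (by
    rw [cpr_neg_right cs h _ hy, cpr_symm cs h S.h4 S.h6 hyr hy, a4]) h3 h2
  have e1 : y - r + -y = -r := by abel
  rw [e1] at h5
  exact not_both S hrr.neg (hFp _ (hF.neg r hr)) h5

theorem neg_neg' {y : I → ℤ} (hy : IsRoot cs h y) (h1 : ∀ v ∈ X y, e * v * e⁻¹ = v⁻¹) :
    ∀ v ∈ X (-y), e * v * e⁻¹ = v⁻¹ := by
  rcases dich S hF hK hc hy.neg with h2 | ⟨h2, -⟩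
  · exfalso
    have h3 := pos_neg S hF hK hc hy.neg h2
    rw [neg_neg] at h3
    exact not_both S hy h3 h1
  · exact h2

/-- an inverted root group is orthogonal to a centralised one with `OneF` -/
theorem orth_one {y y' : I → ℤ} (hy : IsRoot cs h y) (hy' : IsRoot cs h y') (h1 : ∀ v ∈ X y, e * v * e⁻¹ = v)
    (hone : OneF cs h F y) (h2 : ∀ v ∈ X y', e * v * e⁻¹ = v⁻¹) : cpr cs h y y' = 0 := by
  have key : ∀ y', IsRoot cs h y' → (∀ v ∈ X y', e * v * e⁻¹ = v⁻¹) → cpr cs h y y' ≠ -1 := by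
    intro y' hy' h2 h0
    have hyy := isRoot_add S.h4 S.h6 hy hy' h0
    have h3 := pn S hy hy' h0 h1 h2
    have one : ∀ x, IsRoot cs h x → (∀ v ∈ X x, e * v * e⁻¹ = v⁻¹) → OneF cs h F x := by
      intro x hx h5
      rcases dich S hF hK hc hx with h6 | h6
      · exact absurd h5 (not_both S hx h6)
      · exact h6.2
    obtain ⟨r, hr, e1, e2⟩ := hone
    obtain ⟨r', hr', f1, f2⟩ := one y' hy' h2
    obtain ⟨r'', hr'', g1, g2⟩ := one _ hyy h3
    have hrr := C.root r (hF.sub r hr)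
    have hrr' := C.root r' (hF.sub r' hr')
    by_cases b1 : r' = r
    · rw [b1] at f1
      have hsum : cpr cs h (y + y') r = 2 := by rw [cpr_add cs h y y' hrr, e1, f1]; rfl
      by_cases b2 : r = r''
      · rw [b2] at hsum
        omega
      by_cases b3 : r = -r''
      · rw [b3, cpr_neg_right cs h _ (C.root r'' (hF.sub r'' hr''))] at hsum
        omega
      have := g2 r hr b2 b3
      omega
    by_cases b1' : r' = -r
    · have f1' : cpr cs h y' r = -1 := by
        rw [b1', cpr_neg_right cs h _ hrr] at f1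
        omega
      have hsum : ∀ t ∈ F, cpr cs h (y + y') t = 0 := by
        intro t ht
        have htt := C.root t (hF.sub t ht)
        rw [cpr_add cs h y y' htt]
        by_cases c1 : t = r
        · rw [c1, e1, f1']; rfl
        by_cases c2 : t = -r
        · rw [c2, cpr_neg_right cs h _ hrr, cpr_neg_right cs h _ hrr, e1, f1']; rfl
        rw [e2 t ht c1 c2, f2 t ht (by rw [b1']; exact c2) (by rw [b1', neg_neg]; exact c1)]
        rfl
      have := hsum r'' hr''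
      omega
    · have s1 : cpr cs h (y + y') r = 1 := by
        rw [cpr_add cs h y y' hrr, e1, f2 r hr (Ne.symm b1) (fun e => b1' (by rw [e, neg_neg]))]; rfl
      have s2 : cpr cs h (y + y') r' = 1 := by
        rw [cpr_add cs h y y' hrr', f1, e2 r' hr' b1 b1']; rfl
      have hrr'' := C.root r'' (hF.sub r'' hr'')
      have t1 : r = r'' := by
        by_contra c1
        by_cases c2 : r = -r''
        · rw [c2, cpr_neg_right cs h _ hrr''] at s1
          omega
        · have := g2 r hr c1 c2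
          omega
      have t2 : r' = r'' := by
        by_contra c1
        by_cases c2 : r' = -r''
        · rw [c2, cpr_neg_right cs h _ hrr''] at s2
          omega
        · have := g2 r' hr' c1 c2
          omega
      exact b1 (t2.trans t1.symm)
  have n1 : y ≠ y' := fun e0 => not_both S hy' (e0 ▸ h1) h2
  have n2 : y ≠ -y' := by
    intro e0
    exact not_both S hy h1 (by rw [e0]; exact neg_neg' S hF hK hc hy' h2)
  have a1 := abs_cpr_le_one cs h S.h4 S.h6 hy hy' n1 n2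
  rw [abs_le] at a1
  have a2 := key y' hy' h2
  have a3 := key (-y') hy'.neg (neg_neg' S hF hK hc hy' h2)
  rw [cpr_neg_right cs h _ hy'] at a3
  omega

variable (irr : ∀ J : Set I, J.Nonempty → J ≠ Set.univ → ∃ a ∈ J, ∃ b, b ∉ J ∧ M a b ≠ 2)
include irr

/-- **All or none.** -/
theorem all_or_none {y y' : I → ℤ} (hy : IsRoot cs h y) (hy' : IsRoot cs h y')
    (hone : OneF cs h F y) (h2 : ∀ v ∈ X y', e * v * e⁻¹ = v⁻¹) : ∀ v ∈ X y, e * v * e⁻¹ = v⁻¹ := by
  rcases dich S hF hK hc hy with h1 | ⟨h1, -⟩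
  swap
  · exact h1
  exfalso
  have h0 := orth_one S hF hK hc hy hy' h1 hone h2
  have h0' : cpr cs h y' y = 0 := (cpr_zero_comm cs h hy hy').1 h0
  obtain ⟨x, hx, c1, c2⟩ := conn S.h4 S.h6 irr hy hy'
  have hPx : ∀ v ∈ X x, e * v * e⁻¹ = v := by
    rcases dich S hF hK hc hx with h3 | ⟨h3, -⟩
    · exact h3
    · have := orth_one S hF hK hc hy hx h1 hone h3
      exact absurd ((cpr_zero_comm cs h hy hx).1 this) c1
  have sgn : ∀ {u : I → ℤ}, IsRoot cs h u → ∀ {x : I → ℤ}, IsRoot cs h x → cpr cs h x u ≠ 0 → x ≠ u → x ≠ -u →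
      cpr cs h x u = 1 ∨ cpr cs h x (-u) = 1 := by
    intro u hu x hx c1 n1 n2
    have a1 := abs_cpr_le_one cs h S.h4 S.h6 hx hu n1 n2
    rw [abs_le] at a1
    rw [cpr_neg_right cs h _ hu]
    omega
  have n1 : x ≠ y := by
    rintro rfl
    exact c2 h0
  have n1' : x ≠ -y := by
    rintro rfl
    rw [cpr_neg cs h y hy', h0] at c2
    exact c2 rfl
  have n2 : x ≠ y' := by
    rintro rfl
    exact c1 h0'
  have n2' : x ≠ -y' := by
    rintro rfl
    rw [cpr_neg cs h y' hy, h0'] at c1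
    exact c1 rfl
  -- the sign of `y'`
  have key : ∀ y', IsRoot cs h y' → (∀ v ∈ X y', e * v * e⁻¹ = v⁻¹) → cpr cs h y' y = 0 →
      cpr cs h x y' = 1 → False := by
    intro y' hy' h2 h0' h5
    have hxy := isRoot_sub S.h4 S.h6 hx hy' h5
    have h6 := pn S hx hy'.neg (by rw [cpr_neg_right cs h _ hy', h5]) hPx (neg_neg' S hF hK hc hy' h2)
    rw [← sub_eq_add_neg] at h6
    have h7 := orth_one S hF hK hc hy hxy h1 hone h6
    have h8 := (cpr_zero_comm cs h hy hxy).1 h7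
    rw [cpr_sub cs h x y' hy, h0', sub_zero] at h8
    exact c1 h8
  rcases sgn hy' hx c2 n2 n2' with h5 | h5
  · exact key y' hy' h2 h0' h5
  · exact key (-y') hy'.neg (neg_neg' S hF hK hc hy' h2) (by rw [cpr_neg cs h y' hy, h0']; rfl) h5

/-- the action of an element which does not centralise `L` -/
theorem act_of_not_triv (hnt : ¬ Triv C e) {y : I → ℤ} (hy : IsRoot cs h y) :
    (OneF cs h F y → ∀ v ∈ X y, e * v * e⁻¹ = v⁻¹) ∧ (¬ OneF cs h F y → ∀ v ∈ X y, e * v * e⁻¹ = v) := by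
  constructor
  · intro hone
    by_contra hcon
    apply hnt
    have hall : ∀ y', IsRoot cs h y' → ∀ v ∈ X y', e * v = v * e := by
      intro y' hy' v hv
      rcases dich S hF hK hc hy' with h1 | ⟨h1, -⟩
      · calc e * v = (e * v * e⁻¹) * e := by group
          _ = v * e := by rw [h1 v hv]
      · exact absurd (all_or_none S hF hK hc irr hy hy' hone h1) hcon
    have h1 : G1 cs h X ≤ Subgroup.centralizer ({e} : Set Y) := by
      refine RGD.Sup_le fun x hx a ha => Subgroup.mem_centralizer_iff.2 fun b hb => ?_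
      rw [Set.mem_singleton_iff.1 hb]
      exact hall x hx a ha
    intro l hl
    exact Subgroup.mem_centralizer_iff.1 (h1 hl) e rfl
  · intro hone
    rcases dich S hF hK hc hy with h1 | ⟨-, h1⟩
    · exact h1
    · exact absurd h1 hone

end one

/-- **The output.** -/
theorem out_cls (hF : MaxF C F)
    (irr : ∀ J : Set I, J.Nonempty → J ≠ Set.univ → ∃ a ∈ J, ∃ b, b ∉ J ∧ M a b ≠ 2) : Out C F := by
  intro K K' e e' hK hK' hc hc' hnt hnt'
  have hall : ∀ y, IsRoot cs h y → ∀ v ∈ X y, e * e' * v = v * (e * e') := by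
    intro y hy v hv
    obtain ⟨a1, a2⟩ := act_of_not_triv S hF hK hc irr hnt hy
    obtain ⟨b1, b2⟩ := act_of_not_triv S hF hK' hc' irr hnt' hy
    have key : e * e' * v * (e * e')⁻¹ = v := by
      have e1 : e * e' * v * (e * e')⁻¹ = e * (e' * v * e'⁻¹) * e⁻¹ := by group
      rw [e1]
      by_cases hone : OneF cs h F y
      · rw [b1 hone v hv, a1 hone _ (inv_mem hv), inv_inv]
      · rw [b2 hone v hv, a2 hone v hv]
    calc e * e' * v = (e * e' * v * (e * e')⁻¹) * (e * e') := by group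
      _ = v * (e * e') := by rw [key]
  have h1 : G1 cs h X ≤ Subgroup.centralizer ({e * e'} : Set Y) := by
    refine RGD.Sup_le fun x hx a ha => Subgroup.mem_centralizer_iff.2 fun b hb => ?_
    rw [Set.mem_singleton_iff.1 hb]
    exact hall x hx a ha
  intro l hl
  exact Subgroup.mem_centralizer_iff.1 (h1 hl) _ rfl

omit S in
/-- the standing facts -/
theorem slc (C : Cls cs h p T n X R Z z) (h4 : ∀ i j, M i j ≠ 4) (h6 : ∀ i j, M i j ≠ 6) (hp2 : p ≠ 2)
    (irr : ∀ J : Set I, J.Nonempty → J ≠ Set.univ → ∃ a ∈ J, ∃ b, b ∉ J ∧ M a b ≠ 2)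
    (h2 : ∃ i j : I, i ≠ j) (hsr : ∀ i, sr i ∈ R) (hT : T ≤ G1 cs h X) : SLC C := by
  have hall : ∀ x, IsRoot cs h x → x ∈ R := by
    rintro x ⟨w, i, rfl⟩
    exact C.act _ (hsr i) w
  refine ⟨h4, h6, hall, fun x hx => ?_, hT, hp2⟩
  obtain ⟨y, hy, h1⟩ := exists_nb (cs := cs) (h := h) h4 h6 irr h2 hx
  exact Z_eq_X C h4 h6 hp2 (hall x hx) hy h1

/-! ### Charts -/

section chart

open Cfsg.Agent.Nodes.Chart

variable {G : Type*} [Group G] [Finite G] {Om : Set (Subgroup G)} {q : ℕ} {L : Subgroup G}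

/-- the simply laced types of rank at least two -/
def Simply : Ty → Prop
  | .A n => 2 ≤ n
  | .D _ => True
  | .E6 => True
  | .E7 => True
  | .E8 => True
  | _ => False

omit S in
theorem simply_facts : (τ : Ty) → Simply τ → (∀ i, τ.len i = 1) ∧ (∀ i, τ.long i) ∧ 2 ≤ τ.rk
  | .A _, h => ⟨fun _ => rfl, fun _ => trivial, h⟩
  | .D n, _ => ⟨fun _ => rfl, fun _ => trivial, Nat.le_add_left 2 (n - 2)⟩
  | .E6, _ => ⟨fun _ => rfl, fun _ => trivial, by decide⟩
  | .E7, _ => ⟨fun _ => rfl, fun _ => trivial, by decide⟩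
  | .E8, _ => ⟨fun _ => rfl, fun _ => trivial, by decide⟩

omit S in
/-- the standing facts for the simply laced types -/
theorem slc_of (c : Chart Om q L) {τ : Ty} (hτ : c.IsTy τ) (hs : Simply τ) : SLC c.cls := by
  obtain ⟨f1, f2, f3⟩ := simply_facts τ hs
  obtain ⟨e, he, hR⟩ := hτ
  have : Fact q.Prime := ⟨c.prime⟩
  have hsym : ∀ i j, c.A i j = c.A j i := by
    intro i j
    have := τ.len_rel (e i) (e j)
    rw [f1, f1, mul_one, mul_one] at this
    rw [he, he, this]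
  have hne : ∀ {i j : c.I} {m : ℕ}, m ≠ 1 → c.M i j = m → i ≠ j := by
    rintro i j m hm h0 rfl
    exact hm (h0.symm.trans (c.M.diagonal i))
  refine slc c.cls (fun i j h0 => ?_) (fun i j h0 => ?_) c.odd c.irr ?_ (fun i => (hR i).2 (f2 _)) ?_
  · have h1 := hsym i j
    rcases c.h.rel i j (hne (by decide) h0) with ⟨a, -⟩ | ⟨a, -⟩ | ⟨-, ⟨a, b⟩ | ⟨a, b⟩⟩ | ⟨a, -⟩ <;> omega
  · have h1 := hsym i j
    rcases c.h.rel i j (hne (by decide) h0) with ⟨a, -⟩ | ⟨a, -⟩ | ⟨a, -⟩ | ⟨-, ⟨a, b⟩ | ⟨a, b⟩⟩ <;> omega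
  · refine ⟨e.symm ⟨0, by omega⟩, e.symm ⟨1, by omega⟩, fun h0 => ?_⟩
    have := e.symm.injective h0
    simp at this
  · rw [c.gen]
    exact c.T_le

omit S in
/-- **The simply laced types.** -/
theorem out (c : Chart Om q L) {τ : Ty} (hτ : c.IsTy τ) (hs : Simply τ) (F : Set (c.I → ℤ))
    (hF : MaxF c.cls F) : Out c.cls F := by
  have : Fact q.Prime := ⟨c.prime⟩
  exact out_cls (slc_of c hτ hs) hF c.irr

end chart

end Cfsg.Agent.LOC.Simply
end

-- part: Cit/Nil/LO/OutTwo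
section
set_option linter.all false
open scoped Cfsg.Agent.FastGrp

/-!
# Lie odd sections, the chart part: two commuting `Q₈` with the same involution (S1309, (CV), helper542 #18852)

* `Out2 C F` : `K`, `K'` commute and have the same involution `e`: `e` centralises `L`; `Out2.of_triv`;
* `alt_two` : on a plane with an alternating form: `a a'` and `b a'` are involutions, so `± 1` on `M / N` (`alt_grp`), so
  `a = ± b` there and `e = [a, b]` is trivial;
* `Simply.out2` : `Out2` for the simply laced types.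
-/

set_option autoImplicit false
set_option linter.unusedSectionVars false
set_option linter.dupNamespace false

namespace Cfsg.Agent.LOC.OutTwo

open CoxeterSystem Cfsg.Agent.ChevalleyStructure.CoxeterGeom Cfsg.Agent.Tits.Roots Cfsg.Agent.Tits.Core
  Cfsg.Agent.Tits.RootComb Cfsg.Agent.Nodes.Comb Cfsg.Agent.Nodes.Reps Cfsg.Agent.Nodes.BNOf
  Cfsg.Agent.Nodes.RGDLib Cfsg.Agent.Nodes.PosPair Cfsg.Agent.Nodes.Chart
  Cfsg.Agent.Nodes.Coroot Cfsg.Agent.Nodes.SimplyLaced Cfsg.Agent.Nodes.OppDec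
  Cfsg.Agent.LOC.ChartDefs Cfsg.Agent.LOC.Wt Cfsg.Agent.LOC.FormGrp Cfsg.Agent.LOC.SL Cfsg.Agent.LOC.Simply
open scoped commutatorElement

/-! ### The plane -/

section plane

variable {G : Type*} [Group G]

/-- **Two commuting `Q₈` with the same involution on a plane with an alternating form.** -/
theorem alt_two [Finite G] {M N : Subgroup G} (D : AltD M N) {K K' : Subgroup G} {e : G} (hK : QK K e)
    (hK' : QK K' e) (hKM : K ≤ Subgroup.normalizer (M : Set G)) (hKM' : K' ≤ Subgroup.normalizer (M : Set G))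
    (hKN : ∀ k ∈ K, ∀ c ∈ N, k * c = c * k) (hKN' : ∀ k ∈ K', ∀ c ∈ N, k * c = c * k)
    (hKK : ∀ a ∈ K, ∀ b ∈ K', a * b = b * a) : ∀ m ∈ M, e * m * e⁻¹ * m⁻¹ ∈ N := by
  obtain ⟨a, ha, b, hb, haa, hbb, hab⟩ := hK.com
  obtain ⟨c, hc, -, -, hcc, -, -⟩ := hK'.com
  -- an involution `x c`
  have key : ∀ x ∈ K, x * x = e → (∀ m ∈ M, (x * c) * m * (x * c)⁻¹ * m⁻¹ ∈ N) ∨
      ∀ m ∈ M, (x * c) * m * (x * c)⁻¹ * m ∈ N := by
    intro x hx hxx
    have h1 : x * c * (x * c) = 1 := by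
      calc x * c * (x * c) = x * (c * x) * c := by group
        _ = (x * x) * (c * c) := by rw [← hKK x hx c hc]; group
        _ = 1 := by rw [hxx, hcc, hK.sq]
    refine alt_grp D.le D.cen D.comm D.odd D.card D.nd h1 (mul_mem (hKM hx) (hKM' hc)) (fun d hd => ?_)
    calc x * c * d = x * (c * d) := by group
      _ = (x * d) * c := by rw [hKN' c hc d hd]; group
      _ = d * (x * c) := by rw [hKN x hx d hd]; group
  -- `s = a b⁻¹` is `± 1` on `M / N`
  have conjN : ∀ g : G, (∀ d ∈ N, g * d = d * g) → ∀ d ∈ N, g * d * g⁻¹ = d := fun g hg d hd => by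
    rw [hg d hd]; group
  have hcN : ∀ x ∈ K, ∀ d ∈ N, (x * c) * d = d * (x * c) := by
    intro x hx d hd
    calc x * c * d = x * (c * d) := by group
      _ = (x * d) * c := by rw [hKN' c hc d hd]; group
      _ = d * (x * c) := by rw [hKN x hx d hd]; group
  have hs : (∀ m ∈ M, (a * b⁻¹) * m * (a * b⁻¹)⁻¹ * m⁻¹ ∈ N) ∨ ∀ m ∈ M, (a * b⁻¹) * m * (a * b⁻¹)⁻¹ * m ∈ N := by
    have e1 : a * b⁻¹ = (a * c) * (b * c)⁻¹ := by group
    -- the action of `(b c)⁻¹`
    have hbM : ∀ m ∈ M, (b * c)⁻¹ * m * (b * c) ∈ M := by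
      intro m hm
      have := conj_mem (inv_mem (mul_mem (hKM hb) (hKM' hc))) hm
      rwa [inv_inv] at this
    have hinv : (∀ m ∈ M, (b * c)⁻¹ * m * (b * c) * m⁻¹ ∈ N) ∨ ∀ m ∈ M, (b * c)⁻¹ * m * (b * c) * m ∈ N := by
      rcases key b hb hbb with h2 | h2
      · left
        intro m hm
        have h3 := h2 _ (hbM m hm)
        have h4 : b * c * ((b * c)⁻¹ * m * (b * c)) * (b * c)⁻¹ * ((b * c)⁻¹ * m * (b * c))⁻¹ =
            ((b * c)⁻¹ * m * (b * c) * m⁻¹)⁻¹ := by group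
        rw [h4] at h3
        exact inv_mem_iff.1 h3
      · right
        intro m hm
        have h3 := h2 _ (hbM m hm)
        have h4 : b * c * ((b * c)⁻¹ * m * (b * c)) * (b * c)⁻¹ * ((b * c)⁻¹ * m * (b * c)) =
            m * ((b * c)⁻¹ * m * (b * c)) := by group
        rw [h4] at h3
        have h5 : (b * c)⁻¹ * m * (b * c) * m = m * ((b * c)⁻¹ * m * (b * c)) * m * m⁻¹ := by
          have h6 : m * ((b * c)⁻¹ * m * (b * c)) * m = m * (m * ((b * c)⁻¹ * m * (b * c))) := by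
            have := D.cen _ h3 m hm
            rw [this]
          have h7 : (b * c)⁻¹ * m * (b * c) * m = m⁻¹ * (m * ((b * c)⁻¹ * m * (b * c)) * m) := by group
          rw [h7, h6]
          have h8 : m * ((b * c)⁻¹ * m * (b * c)) * m * m⁻¹ = m * ((b * c)⁻¹ * m * (b * c)) := by group
          rw [← mul_assoc m⁻¹, inv_mul_cancel, one_mul]
          rw [← h6]
          group
        rw [h5]
        have h8 : m * ((b * c)⁻¹ * m * (b * c)) * m * m⁻¹ = m * ((b * c)⁻¹ * m * (b * c)) := by group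
        rw [h8]
        exact h3
    have step : ∀ m ∈ M, (a * b⁻¹) * m * (a * b⁻¹)⁻¹ =
        (a * c) * ((b * c)⁻¹ * m * (b * c)) * (a * c)⁻¹ := by
      intro m _
      rw [e1]; group
    have swapN : ∀ d ∈ N, ∀ m ∈ M, d * m = m * d := D.cen
    rcases key a ha haa with h2 | h2 <;> rcases hinv with h3 | h3
    · left
      intro m hm
      rw [step m hm]
      have h4 := h2 _ (hbM m hm)
      have h5 := h3 m hm
      have h6 : a * c * ((b * c)⁻¹ * m * (b * c)) * (a * c)⁻¹ * m⁻¹ =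
          (a * c * ((b * c)⁻¹ * m * (b * c)) * (a * c)⁻¹ * ((b * c)⁻¹ * m * (b * c))⁻¹) *
            ((b * c)⁻¹ * m * (b * c) * m⁻¹) := by group
      rw [h6]
      exact mul_mem h4 h5
    · right
      intro m hm
      rw [step m hm]
      have h4 := h2 _ (hbM m hm)
      have h5 := h3 m hm
      have h6 : a * c * ((b * c)⁻¹ * m * (b * c)) * (a * c)⁻¹ * m =
          (a * c * ((b * c)⁻¹ * m * (b * c)) * (a * c)⁻¹ * ((b * c)⁻¹ * m * (b * c))⁻¹) *
            ((b * c)⁻¹ * m * (b * c) * m) := by group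
      rw [h6]
      exact mul_mem h4 h5
    · right
      intro m hm
      rw [step m hm]
      set w := (b * c)⁻¹ * m * (b * c) with hw
      have h4 := h2 w (hbM m hm)
      have h5 := h3 m hm
      -- `(a c) w (a c)⁻¹ = d w⁻¹`, `w = d' m`
      have h6 : a * c * w * (a * c)⁻¹ * m = (a * c * w * (a * c)⁻¹ * w) * (w⁻¹ * m) := by group
      have h7 : w⁻¹ * m = ((w * m⁻¹)⁻¹ : G) := by
        have h8 : w * m⁻¹ * m = m * (w * m⁻¹) := swapN _ h5 m hm
        have h9 : w * m⁻¹ = m⁻¹ * w := by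
          calc w * m⁻¹ = m⁻¹ * (m * (w * m⁻¹)) := by group
            _ = m⁻¹ * (w * m⁻¹ * m) := by rw [h8]
            _ = m⁻¹ * w := by group
        rw [h9]; group
      rw [h6, h7]
      exact mul_mem h4 (inv_mem h5)
    · left
      intro m hm
      rw [step m hm]
      set w := (b * c)⁻¹ * m * (b * c) with hw
      have h4 := h2 w (hbM m hm)
      have h5 := h3 m hm
      have h6 : a * c * w * (a * c)⁻¹ * m⁻¹ = (a * c * w * (a * c)⁻¹ * w) * (w⁻¹ * m⁻¹) := by group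
      have h7 : w⁻¹ * m⁻¹ = ((m * w)⁻¹ : G) := by group
      have h8 : m * w = w * m := by
        have h9 : w * m * m = m * (w * m) := swapN _ h5 m hm
        calc m * w = (m * (w * m)) * m⁻¹ := by group
          _ = (w * m * m) * m⁻¹ := by rw [h9]
          _ = w * m := by group
      rw [h6, h7, h8]
      exact mul_mem h4 (inv_mem h5)
  -- `e = [a b⁻¹, b]` is trivial on `M / N`
  have hee : e = (a * b⁻¹) * b * (a * b⁻¹)⁻¹ * b⁻¹ := by
    have : (a * b⁻¹) * b * (a * b⁻¹)⁻¹ * b⁻¹ = (a * b) * (b * a)⁻¹ := by group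
    rw [this, hab]; group
  intro m hm
  set s := a * b⁻¹ with hsd
  have hsM : s ∈ Subgroup.normalizer (M : Set G) := mul_mem (hKM ha) (inv_mem (hKM hb))
  have hbN : ∀ d ∈ N, b * d * b⁻¹ = d := conjN b (hKN b hb)
  have hbN' : ∀ d ∈ N, b⁻¹ * d * b = d := by
    intro d hd
    have := hbN d hd
    calc b⁻¹ * d * b = b⁻¹ * (b * d * b⁻¹) * b := by rw [this]
      _ = d := by group
  -- `u = b⁻¹ m b`, `s⁻¹ u s`
  set u := b⁻¹ * m * b with hu
  have huM : u ∈ M := by
    have := conj_mem (inv_mem (hKM hb)) hm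
    rwa [inv_inv] at this
  set w := s⁻¹ * u * s with hw
  have hwM : w ∈ M := by
    have := conj_mem (inv_mem hsM) huM
    rwa [inv_inv] at this
  have e1 : e * m * e⁻¹ = s * (b * w * b⁻¹) * s⁻¹ := by
    rw [hw, hu, hee]; group
  have e2 : s * w * s⁻¹ = u := by rw [hw]; group
  have hbw : b * w * b⁻¹ ∈ M := conj_mem (hKM hb) hwM
  rcases hs with hs | hs
  · -- `s` trivial
    have h3 := hs w hwM
    rw [e2] at h3
    have h4 := hs _ hbw
    have h5 : e * m * e⁻¹ * m⁻¹ = (s * (b * w * b⁻¹) * s⁻¹ * (b * w * b⁻¹)⁻¹) * (b * (w * u⁻¹) * b⁻¹) := by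
      rw [e1, hu]; group
    have h6 : w * u⁻¹ ∈ N := by
      have : w * u⁻¹ = (u * w⁻¹)⁻¹ := by group
      rw [this]
      exact inv_mem h3
    rw [h5, hbN _ h6]
    exact mul_mem h4 h6
  · -- `s` inverts
    have h3 := hs w hwM
    rw [e2] at h3
    have h4 := hs _ hbw
    have h5 : e * m * e⁻¹ * m⁻¹ = (s * (b * w * b⁻¹) * s⁻¹ * (b * w * b⁻¹)) * (b * (u * w)⁻¹ * b⁻¹) := by
      rw [e1, hu]; group
    rw [h5, hbN _ (inv_mem h3)]
    exact mul_mem h4 (inv_mem h3)

end plane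

variable {I W Y : Type*} [Fintype I] [DecidableEq I] [Group W] [Fintype W] [Group Y] {M : CoxeterMatrix I}
  {cs : CoxeterSystem M W} {A : I → I → ℤ} {h : IsCartan M A} {p : ℕ} {T : Subgroup Y} {n : I → Y}
  {X : (I → ℤ) → Subgroup Y} {R : Set (I → ℤ)} {Z : (I → ℤ) → Subgroup Y} {z : (I → ℤ) → Y}

/-- **The second output for a type**: two commuting `Q₈` with the same involution `e`: `e` centralises `L`. -/
def Out2 (C : Cls cs h p T n X R Z z) (F : Set (I → ℤ)) : Prop :=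
  ∀ (K K' : Subgroup Y) (e : Y), QK K e → QK K' e → Cen C F K → Cen C F K' →
    (∀ a ∈ K, ∀ b ∈ K', a * b = b * a) → Triv C e

theorem Out2.of_triv {C : Cls cs h p T n X R Z z} {F : Set (I → ℤ)}
    (H : ∀ (K : Subgroup Y) (e : Y), QK K e → Cen C F K → Triv C e) : Out2 C F :=
  fun K _ e hK _ hc _ _ => H K e hK hc

section simply

variable {C : Cls cs h p T n X R Z z} {F : Set (I → ℤ)} [Finite Y] [Fact p.Prime] (S : SLC C) (hF : MaxF C F)
include S hF

theorem out2_cls : Out2 C F := by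
  intro K K' e hK hK' hc hc' hKK
  have hall : ∀ y, IsRoot cs h y → ∀ v ∈ X y, e * v * e⁻¹ = v := by
    intro y hy
    rcases dich S hF hK hc hy with h1 | ⟨h1, r, hr, hr1, h0⟩
    · exact h1
    exfalso
    have hrr := C.root r (hF.sub r hr)
    have D := S.alt_data hF hy hr hr1 h0
    have hpos := (cpr_pos_iff cs h y hrr).1 (by omega : 0 < cpr cs h y r)
    have h2 := alt_two D hK hK' (wt_nor C S.hT hF.sub hr hpos hc) (wt_nor C S.hT hF.sub hr hpos hc')
      (fun k hk c hc1 => hc.comm r hr c hc1 k hk) (fun k hk c hc1 => hc'.comm r hr c hc1 k hk) hKK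
    obtain ⟨v, hv, hv1⟩ := S.ne_one hy
    have h3 := h2 v (X_le_MM (mem_Lam_self hy) hv)
    rw [h1 v hv, S.ZX r hrr] at h3
    have h4 : v⁻¹ * v⁻¹ ∈ X y := mul_mem (inv_mem hv) (inv_mem hv)
    have h5 : v⁻¹ * v⁻¹ ∈ X y ⊓ X r := Subgroup.mem_inf.2 ⟨h4, h3⟩
    rw [X_inf_X C.rgd hy hrr (ne_of_cpr hrr (by omega)), Subgroup.mem_bot] at h5
    apply hv1
    exact inv_eq_one.1 (sq_eq_one (S.odd_X hy) (inv_mem hv) h5)
  have h1 : G1 cs h X ≤ Subgroup.centralizer ({e} : Set Y) := by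
    refine RGD.Sup_le fun x hx a ha => Subgroup.mem_centralizer_iff.2 fun b hb => ?_
    rw [Set.mem_singleton_iff.1 hb]
    calc e * a = (e * a * e⁻¹) * e := by group
      _ = a * e := by rw [hall x hx a ha]
  intro l hl
  exact Subgroup.mem_centralizer_iff.1 (h1 hl) e rfl

end simply

section chart

variable {G : Type*} [Group G] [Finite G] {Om : Set (Subgroup G)} {q : ℕ} {L : Subgroup G}

/-- **The simply laced types.** -/
theorem out2 (c : Chart Om q L) {τ : Ty} (hτ : c.IsTy τ) (hs : Simply τ) (F : Set (c.I → ℤ))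
    (hF : MaxF c.cls F) : Out2 c.cls F := by
  have : Fact q.Prime := ⟨c.prime⟩
  exact out2_cls (slc_of c hτ hs) hF

end chart

end Cfsg.Agent.LOC.OutTwo
end

-- part: Cit/Nil/LO/OutTwoAll
section
set_option linter.all false
open scoped Cfsg.Agent.FastGrp

/-!
# Lie odd sections: two commuting `Q₈` over the same involution (S1309, (n8), helper818)

Continuation of `OutTwo.lean` (helper320).

* `pair` : **PAIR LEMMA**: `x` centralises or inverts `M / N`, `x^b = e x`: `e` centralises `M / N`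
  [`x = a a'`, `a ∈ K`, `a' ∈ K'`, `a² = a'² = e` is an involution];
* `cent_of_mod`, `exists_x`, `cen_sup`;
* `inn_pair` : the same, if the involutions centralising a subgroup `N` act as `1` or as `z₀ ∈ N`;
* `frame2` : the plug.
-/

set_option autoImplicit false
set_option linter.unusedSectionVars false
set_option linter.dupNamespace false

namespace Cfsg.Agent.LOC.OutTwo

open CoxeterSystem Cfsg.Agent.ChevalleyStructure.CoxeterGeom Cfsg.Agent.Tits.Roots Cfsg.Agent.Tits.Core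
  Cfsg.Agent.Tits.RootComb Cfsg.Agent.Nodes.Comb Cfsg.Agent.Nodes.SubComb Cfsg.Agent.Nodes.Reps
  Cfsg.Agent.Nodes.Coroot Cfsg.Agent.Nodes.PosPair Cfsg.Agent.Nodes.BNOf Cfsg.Agent.Nodes.RGDLib
  Cfsg.Agent.Nodes.Chart Cfsg.Agent.Nodes.ClsNorm Cfsg.Agent.Nodes.ChartLoc Cfsg.Agent.Nodes.ChartFrame
  Cfsg.Agent.Nodes.SimplyLaced Cfsg.Agent.LOC.ChartDefs Cfsg.Agent.LOC.Wt Cfsg.Agent.LOC.FormGrp Cfsg.Agent.LOC.SL
  Cfsg.Agent.LOC.Simply

/-! ### Groups -/

section grp

variable {G : Type*} [Group G]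

/-- the involution `x = a a'` and the element `b` -/
theorem exists_x {K K' : Subgroup G} {e : G} (hK : QK K e) (hK' : QK K' e) (hc : ∀ a ∈ K, ∀ b ∈ K', a * b = b * a) :
    ∃ x ∈ K ⊔ K', ∃ b ∈ K, x * x = 1 ∧ b * x * b⁻¹ = e * x := by
  obtain ⟨a, ha, b, hb, haa, -, hab⟩ := hK.com
  obtain ⟨c, hc', -, -, hcc, -, -⟩ := hK'.com
  have h1 := hc a ha c hc'
  have h2 := hc b hb c hc'
  refine ⟨a * c, mul_mem (Subgroup.mem_sup_left ha) (Subgroup.mem_sup_right hc'), b, hb, ?_, ?_⟩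
  · calc a * c * (a * c) = a * (c * a) * c := by group
      _ = (a * a) * (c * c) := by rw [← h1]; group
      _ = 1 := by rw [haa, hcc, hK.sq]
  · have h3 : b * a = e * (a * b) := by
      rw [hab, ← mul_assoc, hK.sq, one_mul]
    calc b * (a * c) * b⁻¹ = (b * a) * c * b⁻¹ := by group
      _ = e * a * (b * c) * b⁻¹ := by rw [h3]; group
      _ = e * (a * c) := by rw [h2]; group

/-- the involutions centralising `N` act as `1` or as `z₀ ∈ N` -/
theorem inn_pair {A : Type*} [Group A] (φ : G →* A) {N : Subgroup G} {z₀ : G} (hz : z₀ ∈ N)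
    (inn : ∀ x : G, x * x = 1 → (∀ a ∈ N, x * a = a * x) → φ x = 1 ∨ φ x = φ z₀)
    {K K' : Subgroup G} {e : G} (hK : QK K e) (hK' : QK K' e) (hc : ∀ a ∈ K, ∀ b ∈ K', a * b = b * a)
    (hN : ∀ k ∈ K, ∀ a ∈ N, k * a = a * k) (hN' : ∀ k ∈ K', ∀ a ∈ N, k * a = a * k) : φ e = 1 := by
  obtain ⟨x, hx, b, hb, hxx, hbx⟩ := exists_x hK hK' hc
  have hxN : ∀ a ∈ N, x * a = a * x := by
    have h1 : K ⊔ K' ≤ Subgroup.centralizer (N : Set G) := sup_le
      (fun k hk => Subgroup.mem_centralizer_iff.2 fun a ha => (hN k hk a ha).symm)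
      (fun k hk => Subgroup.mem_centralizer_iff.2 fun a ha => (hN' k hk a ha).symm)
    exact fun a ha => (Subgroup.mem_centralizer_iff.1 (h1 hx) a ha).symm
  have h2 : φ b * φ x * (φ b)⁻¹ = φ e * φ x := by
    rw [← map_mul, ← map_inv, ← map_mul, hbx, map_mul]
  have h3 : φ b * φ x * (φ b)⁻¹ = φ x := by
    rcases inn x hxx hxN with h | h
    · rw [h, mul_one, mul_inv_cancel]
    · rw [h, ← map_mul, hN b hb z₀ hz, map_mul, mul_inv_cancel_right]
  rw [h3] at h2
  exact (mul_eq_right.1 h2.symm)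

end grp

/-! ### Charts -/

variable {I W Y : Type*} [Fintype I] [DecidableEq I] [Group W] [Fintype W] [Group Y] {M : CoxeterMatrix I}
  {cs : CoxeterSystem M W} {A : I → I → ℤ} {h : IsCartan M A} {p : ℕ} {T : Subgroup Y} {n : I → Y}
  {X : (I → ℤ) → Subgroup Y} {R : Set (I → ℤ)} {Z : (I → ℤ) → Subgroup Y} {z : (I → ℤ) → Y}
  {C : Cls cs h p T n X R Z z} {F : Set (I → ℤ)} {K K' : Subgroup Y} {e : Y}

theorem cen_sup (h1 : Cen C F K) (h2 : Cen C F K') : Cen C F (K ⊔ K') where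
  comm := fun r hr a ha => by
    have h3 : K ⊔ K' ≤ Subgroup.centralizer ({a} : Set Y) := sup_le
      (fun k hk => Subgroup.mem_centralizer_singleton_iff.2 (h1.comm r hr a ha k hk))
      (fun k hk => Subgroup.mem_centralizer_singleton_iff.2 (h2.comm r hr a ha k hk))
    exact fun k hk => Subgroup.mem_centralizer_singleton_iff.1 (h3 hk)
  nor := by
    have h3 : K ⊔ K' ≤ Subgroup.normalizer (G1 cs h X : Set Y) := sup_le h1.nor h2.nor
    exact fun k hk => h3 hk

/-! ### The plug -/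

section Plug

variable {G : Type*} [Group G] {Om : Set (Subgroup G)} {q : ℕ} {L : Subgroup G}

/-- **Plug**: `K`, `K'` are commuting `Q8`'s over the same involution normalising `L` and centralising a maximal frame
of members of `Om` in `L`. -/
theorem frame2 (C : Chart Om q L) (hO : ∀ K ∈ Om, ∀ g, Cfsg.Agent.Cit.cj g K ∈ Om)
    (hout : ∀ F, MaxF C.cls F → Out2 C.cls F)
    {κ : Type*} [Finite κ] (J : κ → Subgroup G) (hJ : ∀ i, J i ∈ Om) (hJL : ∀ i, J i ≤ L)
    (hc : ∀ i j, i ≠ j → Cfsg.Agent.Cit.TypeDet.cm (J i) (J j)) (hmax : ∀ P ∈ Om, P ≤ L → ¬ ∀ k, Cfsg.Agent.Cit.TypeDet.cm P (J k))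
    {K K' : Subgroup G} {e : G} (hK : QK K e) (hK' : QK K' e) (hKK : ∀ a ∈ K, ∀ b ∈ K', a * b = b * a)
    (hKL : ∀ k ∈ K, k ∈ Subgroup.normalizer (L : Set G)) (hKL' : ∀ k ∈ K', k ∈ Subgroup.normalizer (L : Set G))
    (hKJ : ∀ i, ∀ a ∈ J i, ∀ k ∈ K, k * a = a * k) (hKJ' : ∀ i, ∀ a ∈ J i, ∀ k ∈ K', k * a = a * k) :
    ∀ l ∈ L, e * l = l * e := by
  obtain ⟨s, d, FI⟩ := exists_frameIn C (K := J) (fun i => ⟨hJ i, hJL i⟩) hc
  have hmax' := FI.max hO (fun P hP hh => hmax P hP.1 hP.2 hh)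
  set F : Set (C.I → ℤ) := {r | ∃ i, r = s i ∨ r = -s i} with hF
  have hFR : ∀ r ∈ F, r ∈ C.R := by
    rintro r ⟨i, rfl | rfl⟩
    · exact FI.R i
    · exact Nodes.ClsNorm.neg_mem C.cls (FI.R i)
  have hM : MaxF C.cls F := by
    refine ⟨hFR, ?_, ?_, ?_⟩
    · rintro r ⟨i, rfl | rfl⟩
      · exact ⟨i, Or.inr rfl⟩
      · exact ⟨i, Or.inl (neg_neg _)⟩
    · rintro r ⟨i, hi⟩ t ⟨j, hj⟩ h1 h2
      have hij : i ≠ j := by
        rintro rfl
        rcases hi with rfl | rfl <;> rcases hj with rfl | rfl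
        · exact h1 rfl
        · exact h2 rfl
        · exact h2 (neg_neg _).symm
        · exact h1 rfl
      have h0 := FI.orth i j hij
      rcases hi with rfl | rfl <;> rcases hj with rfl | rfl <;>
        simp only [form_neg_left, form_neg_right, h0, neg_zero]
    · intro x hx
      by_contra hcon
      push Not at hcon
      exact hmax' x hx fun k => hcon _ ⟨k, Or.inl rfl⟩
  have hcc : ∀ (K : Subgroup G), (∀ k ∈ K, k ∈ Subgroup.normalizer (L : Set G)) →
      (∀ i, ∀ a ∈ J i, ∀ k ∈ K, k * a = a * k) → Cen C.cls F (cj d K) := by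
    intro K h1 h2
    refine ⟨?_, ?_⟩
    · intro r hr a ha k hk
      obtain ⟨i, hi⟩ := hr
      have ha' : a ∈ cj d (J i) := by
        rw [FI.eq]
        unfold Nodes.Perp.KK
        rcases hi with h3 | h3
        · rw [← h3]; exact (le_sup_left : C.Z r ≤ _) ha
        · have h4 : s i = -r := by rw [h3, neg_neg]
          rw [h4, neg_neg]
          exact (le_sup_right : C.Z r ≤ _) ha
      rw [mem_cj] at ha' hk
      have h3 := h2 _ _ ha' _ hk
      have h4 : k * a = d * ((d⁻¹ * k * d) * (d⁻¹ * a * d)) * d⁻¹ := by group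
      have h5 : a * k = d * ((d⁻¹ * a * d) * (d⁻¹ * k * d)) * d⁻¹ := by group
      rw [h4, h3, ← h5]
    · intro k hk
      rw [C.gen]
      rw [mem_cj] at hk
      have h3 := h1 _ hk
      have hdn : d ∈ Subgroup.normalizer (L : Set G) := Subgroup.le_normalizer FI.mem
      have h5 : k = d * (d⁻¹ * k * d) * d⁻¹ := by group
      rw [h5]
      exact mul_mem (mul_mem hdn h3) (inv_mem hdn)
  have h0 := hout F hM (cj d K) (cj d K') _ (hK.conj d) (hK'.conj d) (hcc K hKL hKJ) (hcc K' hKL' hKJ') (by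
    intro a ha b hb
    rw [mem_cj] at ha hb
    have h3 := hKK _ ha _ hb
    have h4 : a * b = d * ((d⁻¹ * a * d) * (d⁻¹ * b * d)) * d⁻¹ := by group
    have h5 : b * a = d * ((d⁻¹ * b * d) * (d⁻¹ * a * d)) * d⁻¹ := by group
    rw [h4, h3, ← h5])
  intro l hl
  have h1 := h0 (d * l * d⁻¹) (by
    rw [C.gen]
    exact mul_mem (mul_mem FI.mem hl) (inv_mem FI.mem))
  have h2 : d * (e * l) * d⁻¹ = d * (l * e) * d⁻¹ := by
    have e1 : d * (e * l) * d⁻¹ = d * e * d⁻¹ * (d * l * d⁻¹) := by group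
    have e2 : d * (l * e) * d⁻¹ = d * l * d⁻¹ * (d * e * d⁻¹) := by group
    rw [e1, h1, ← e2]
  exact mul_left_cancel (mul_right_cancel h2)

end Plug

end Cfsg.Agent.LOC.OutTwo
end

-- part: Cit/Nil/ROne/MTwoInst
section
set_option linter.all false
open scoped Cfsg.Agent.FastGrp

/-!
# (6b), `r = 1`, `m = 2`, nil C-pairs: no such group (bb #12195, helper454)

* `W.toMTwo` : `W Z K`, one class, nil C-pairs, (C3), `m = 2` for one Sylow subgroup: the world `MTwo.W Z K`;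
* `World.mtwo_false` : `World Z K`, nil C-pairs, `m = 2` : contradiction, with S1174 for `F*(G)`
  (`CloEnd.Crit1174`);
* `World.three_of_nil` : `World Z K`, nil C-pairs : `m ≥ 3` (for all Sylow subgroups).
-/

set_option autoImplicit false
set_option linter.style.haveILetI false
set_option linter.unusedSectionVars false

namespace Cfsg.Agent.Cit.Nil.ROne

open Subgroup Cfsg Cit Cfsg.Agent.OddOrderLocal.NilParts

variable {G : Type*} [Group G] [Finite G] {Z : Set G} {K : G → Subgroup G} {z u v g s : G}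

namespace W

variable (h : W Z K)

include h

/-- an element of `S` permutes `C_S` -/
theorem conj_mem_CS {S : Subgroup G} (hs : s ∈ S) (hz : z ∈ CS Z K S) : s * z * s⁻¹ ∈ CS Z K S := by
  have h1 : cj s S = S := mem_normalizer_iff_cj.1 (le_normalizer hs)
  have h2 := (h.cj_CS s S hz.1).2 hz
  rwa [h1] at h2

/-- a member whose involution is centralised by `S` is in `S` -/
theorem mem_CS_of_cent (S : Sylow 2 G) (hz : z ∈ Z) (hc : ∀ s ∈ S, s * z = z * s) : z ∈ CS Z K S := by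
  have h1 : IsPGroup 2 (K z ⊔ S : Subgroup G) := IsPGroup.to_sup_of_normal_left' (h.two hz) S.isPGroup'
    fun s hs => h.mem_norm hz (hc s hs)
  have h2 := S.is_maximal' h1 le_sup_right
  refine ⟨hz, ?_⟩
  rw [← h2]
  exact le_sup_left

/-- the numbers `|C_S|` are equal -/
theorem ncard_CS (S T : Sylow 2 G) : (CS Z K (S : Subgroup G)).ncard = (CS Z K (T : Subgroup G)).ncard := by
  haveI : Fact (Nat.Prime 2) := ⟨Nat.prime_two⟩
  obtain ⟨g, hg⟩ := MulAction.exists_smul_eq G T S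
  have hgS : (S : Subgroup G) = cj g T := by
    rw [← hg]
    rfl
  rw [hgS]
  exact h.ncard_CS_cj g T

theorem CS_eq (S : Sylow 2 G) (h2 : (CS Z K (S : Subgroup G)).ncard = 2) (hz : z ∈ CS Z K S) (hu : u ∈ CS Z K S)
    (hne : z ≠ u) (hv : v ∈ CS Z K S) : v = z ∨ v = u := by
  by_contra hcon
  rw [not_or] at hcon
  have h3 : ({v, z, u} : Set G) ⊆ CS Z K S := by
    intro x hx
    rcases hx with rfl | rfl | rfl
    · exact hv
    · exact hz
    · exact hu
  have h4 := Set.ncard_le_ncard h3 (Set.toFinite _)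
  rw [h2, Set.ncard_insert_of_notMem (by
    rintro (h5 | h5)
    · exact hcon.1 h5
    · exact hcon.2 h5), Set.ncard_pair hne] at h4
  omega

/-- the neighbours of `z` generate a 2-group -/
theorem two_A (hnil : NilP Z K) (hz : z ∈ Z) : IsPGroup 2 (MTwo.A Z K z) := by
  refine (isPGroup_oP 2 (centralizer {z})).to_le ((closure_le _).2 fun u hu => ?_)
  obtain ⟨N, hN1, hN2, hN3, huN⟩ := hnil z hz u hu.right hu.2.2
  exact le_oP hN1 hN3 hN2 huN

/-- **the world of `m = 2`** -/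
theorem toMTwo (hcls : OneCls Z) (hnil : NilP Z K) (h3 : C3 Z K)
    (h2 : ∀ S : Sylow 2 G, (CS Z K (S : Subgroup G)).ncard = 2) : MTwo.W Z K where
  conj := h.conjZ
  conjK := h.conjK
  one := hcls
  sq := h.sq
  ne := h.ne
  mem := h.mem
  card _ hz := h.card8 hz
  four _ hz _ hk h1 h2 := h.sq_eq hz hk h1 h2
  E z hz u hu hne hc := (h.csymm hz hu hne fun k hk => (hc k hk).symm).2
  three z hz u hu v hv T hT h1 h4 h5 := by
    obtain ⟨S, hS⟩ := hT.exists_le_sylow
    by_contra hcon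
    rw [not_or, not_or] at hcon
    rcases h.CS_eq S (h2 S) ⟨hz, h1.trans hS⟩ ⟨hu, h4.trans hS⟩ hcon.1 ⟨hv, h5.trans hS⟩ with h6 | h6
    · exact hcon.2.1 h6.symm
    · exact hcon.2.2 h6.symm
  prod z u he ht := by
    obtain ⟨S, hzS, huS⟩ := h.exists_sylow_of_cp he.left he.right he.2.2
    have hzu : z * u = u * z := he.2.2.2 z (h.mem z he.left) u (h.mem u he.right)
    have h4 : z * u ∈ CS Z K S := by
      refine h.mem_CS_of_cent S ht fun s hs => ?_
      rw [← mul_inv_eq_iff_eq_mul]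
      have h5 : s * (z * u) * s⁻¹ = (s * z * s⁻¹) * (s * u * s⁻¹) := by group
      rw [h5]
      have hneq : s * z * s⁻¹ ≠ s * u * s⁻¹ := fun h6 => he.ne (mul_left_cancel (mul_right_cancel h6))
      rcases h.CS_eq S (h2 S) hzS huS he.ne (h.conj_mem_CS hs hzS) with h6 | h6 <;>
        rcases h.CS_eq S (h2 S) hzS huS he.ne (h.conj_mem_CS hs huS) with h7 | h7
      · exact absurd (h6.trans h7.symm) hneq
      · rw [h6, h7]
      · rw [h6, h7, hzu]
      · exact absurd (h6.trans h7.symm) hneq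
    rcases h.CS_eq S (h2 S) hzS huS he.ne h4 with h5 | h5
    · exact h.ne u he.right (mul_eq_left.1 h5)
    · exact h.ne z he.left (mul_eq_right.1 h5)
  syl z u he := by
    obtain ⟨S, hzS, huS⟩ := h.exists_sylow_of_cp he.left he.right he.2.2
    refine ⟨S, hzS.2, huS.2, fun s hs => ?_⟩
    have hneq : s * z * s⁻¹ ≠ s * u * s⁻¹ := fun h6 => he.ne (mul_left_cancel (mul_right_cancel h6))
    rcases h.CS_eq S (h2 S) hzS huS he.ne (h.conj_mem_CS hs hzS) with h6 | h6 <;>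
      rcases h.CS_eq S (h2 S) hzS huS he.ne (h.conj_mem_CS hs huS) with h7 | h7
    · exact absurd (h6.trans h7.symm) hneq
    · exact Or.inl ⟨h6, h7⟩
    · exact Or.inr ⟨h6, h7⟩
    · exact absurd (h6.trans h7.symm) hneq
  ex z hz := by
    obtain ⟨S, hzS⟩ := h.exists_sylow hz
    have h4 : ∃ u ∈ CS Z K (S : Subgroup G), u ≠ z := by
      by_contra hcon
      push Not at hcon
      have h5 : CS Z K (S : Subgroup G) ⊆ {z} := fun u hu => hcon u hu
      have h6 := Set.ncard_le_ncard h5 (Set.toFinite _)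
      rw [h2 S, Set.ncard_singleton] at h6
      omega
    obtain ⟨u, huS, hne⟩ := h4
    exact ⟨u, hz, huS.1, h.com hz huS.1 S.isPGroup' hzS.2 huS.2 hne.symm⟩
  two _ hz := h.two_A hnil hz
  c3 := h3

end W

/-! ### The end -/

namespace World

variable (w : World Z K)

include w

/-- `O(C(t)) = 1` -/
theorem oddCore_cent {t : G} (ht : orderOf t = 2) : oddCore (centralizer {t}) = ⊥ := by
  have h1 := w.free t ht
  unfold centralizerPPrimeCore at h1
  exact (Subgroup.map_eq_bot_iff_of_injective _ (Subgroup.subtype_injective _)).1 h1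

/-- `O(G) = 1` -/
theorem oddCore_eq_bot : oddCore G = ⊥ := by
  haveI : Fact (Nat.Prime 2) := ⟨Nat.prime_two⟩
  by_contra hne
  have hn : (oddCore G).Normal := inferInstance
  have h1 := w.fsimp.le (N := oddCore G) (fun g _ n hn' => hn.conj_mem n hn' g) hne
  have h2 : (Nat.card (oddCore G)).Coprime 2 := Lib.Cores.pPrimeCore_coprime 2
  have h3 := w.even.trans (card_dvd_of_le h1)
  have h4 := Nat.dvd_gcd h3 (dvd_refl 2)
  rw [h2] at h4
  omega

/-- **`m = 2` with nil C-pairs is impossible** -/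
theorem mtwo_false (hnil : NilP Z K) (h2 : ∃ S : Sylow 2 G, (CS Z K (S : Subgroup G)).ncard = 2)
    (hstr : CloEnd.Crit1174 ↥(generalizedFittingSubgroup G)) : False := by
  obtain ⟨S0, hS0⟩ := h2
  have hM := w.w.toMTwo w.one hnil w.c3 fun S => (w.w.ncard_CS S S0).trans hS0
  obtain ⟨-, z, hz, -⟩ := w.two
  refine hM.false_of ⟨z, hz⟩ (X := generalizedFittingSubgroup G) w.fsimp.nor w.simple w.na w.fsimp.cen
    (fun z hz => w.mem_fstar hz) hstr w.oddCore_eq_bot fun z u he => w.oddCore_cent ?_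
  exact orderOf_eq_prime (by rw [pow_two]; exact hM.prod_sq he) (hM.prod_ne he)

/-- **`m ≥ 3`** -/
theorem three_of_nil (hnil : NilP Z K) (hstr : CloEnd.Crit1174 ↥(generalizedFittingSubgroup G))
    (S : Sylow 2 G) : 3 ≤ (CS Z K (S : Subgroup G)).ncard := by
  by_contra hcon
  obtain ⟨T, z, hz, u, hu, hne, h1, h2⟩ := w.two
  have h3 : ({z, u} : Set G) ⊆ CS Z K (T : Subgroup G) := by
    intro x hx
    rcases hx with rfl | rfl
    · exact ⟨hz, h1⟩
    · exact ⟨hu, h2⟩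
  have h4 := Set.ncard_le_ncard h3 (Set.toFinite _)
  rw [Set.ncard_pair hne, w.w.ncard_CS T S] at h4
  exact w.mtwo_false hnil ⟨S, by omega⟩ hstr

end World

end Cfsg.Agent.Cit.Nil.ROne
end
end
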