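import Cfsg.Agent.Cit.Nil.RTwoM.Base_m3
import Cfsg.Agent.Cit.Nil.RG.Tri
import Cfsg.Agent.Cit.Nil.LO.FormQ_m3
import Cfsg.Agent.Cit.TyTrans_m3
import Cfsg.Agent.Cit.Nil.CompR.TPm_m3
import Cfsg.Agent.Cit.Nil.Three.Lem_m3
import Cfsg.Agent.Cit.Nil.RFour.Gen_m3
import Cfsg.Agent.Cit.Nil.LO.Wt_m3
import Cfsg.Agent.Cit.Nil.SC_m3
import Cfsg.Agent.Omega.Lie.Out.Orth_m3
import Cfsg.Agent.KFacts.He.Outer
import Cfsg.Agent.PermutationGroups.AutQuaternion
import Cfsg.Agent.Schreier.Tools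
import Cfsg.Agent.SignalizersComponents.CompBasic
import Cfsg.Agent.Omega.NoFF.ThmJFam
import Cfsg.Agent.FastGrp
import Cfsg.Agent.Prune
set_option linter.all false

section
prune_inst 0x7ffcfefbaff9bddfffff7e7ffffddffffdfdffffffdffffbfffdfbffffff6b6ffbe5fbafffecd8ffcef7e2be30f87b53f9fee77fef6bdc7ffffd5ff45ffbff9fbfefbfad71d7bc3e1ffc6ffffbf37ffffffffffffffffffffffffffffffffffffffdffffffff

-- part: Cit/Nil/CompR/QuoC
section
prune_inst 0x4022000000000000200000000000000200000000000000000008000000000001002000100000080000000060110000000210000000000000000004010000000200000000000000000000000000000000000000000000000000000000200000000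
set_option linter.all false
open scoped Cfsg.Agent.FastGrp

-- part: Cit/Nil/CompR/MTwoA
section
/-!
# S1309 (n6), COMP, `r = 2`, `AllOne`, (M2): the steps (A) and (end) of helper386's proof (bb R18 #20410)

`BB Z K z` : the C-partners of `z`.

`M2H Z K` : the input of (M2) as a structure on hypotheses ((0), no 3-clique, (b1), (b3), (b4));
`M2H.not_acts` : **(A)**; `M2H.cent` : an element of `B(a)` commuting with `z` centralises `X_z`;
`M2H.eq_of_cp` : **(end)** `B(b) = B(z)` for all `b ∈ B(a)`;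
`M2H.frame` : every point lies in the frame `{B(a), B(z)}`.
-/

set_option autoImplicit false
set_option linter.style.haveILetI false
set_option linter.unusedSectionVars false

namespace Cfsg.Agent.Cit.Nil.CompR

open Subgroup Cfsg Cfsg.Agent.Cit Cfsg.Agent.Cit.Nil.AN
open Cfsg.Agent.Cit.Nil.ROne (CP CS TT OneCls)
open Cfsg.Agent.OddOrderLocal.NilParts Cfsg.Agent.StdEven.Syl

variable {G : Type*} [Group G] {Z : Set G} {K : G → Subgroup G} {z u v x y g s a b c t e : G}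

/-- the C-partners of `z` -/
def BB (Z : Set G) (K : G → Subgroup G) (z : G) : Set G := {u | u ∈ Z ∧ CP K z u}

/-- `g` centralises `X_z` -/
def CeX (Z : Set G) (K : G → Subgroup G) (z g : G) : Prop := ∀ b ∈ BB Z K z, Ce g (K b)

/-- the input of (M2) -/
structure M2H (Z : Set G) (K : G → Subgroup G) : Prop where
  /-- (0) -/
  e_notMem : ∀ u ∈ Z, ∀ v ∈ Z, CP K u v → u * v ∉ Z
  /-- (0) -/
  e_mul : ∀ u ∈ Z, ∀ v ∈ Z, CP K u v → ∀ x ∈ Om Z K (u * v), x * (u * v) ∈ Z
  /-- no 3-clique -/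
  no3 : ∀ z ∈ Z, ∀ a ∈ Z, ∀ b ∈ Z, CP K z a → CP K z b → ¬ CP K a b
  /-- (b1): an element of `B(a)` commuting with `z` acts on `X_z` as `1` or as `a` -/
  b1 : ∀ z ∈ Z, ∀ a ∈ Z, CP K z a → ∀ t ∈ BB Z K a, t * z = z * t → CeX Z K z t ∨ CeX Z K z (t * a)
  /-- (b3): two commuting type I partners of `a` in `B(z)` whose product is a third one -/
  b3 : ∀ z ∈ Z, ∀ a ∈ Z, CP K z a → ∃ x₁ x₂ : G, x₁ ∈ BB Z K z ∧ x₂ ∈ BB Z K z ∧ x₁ * x₂ ∈ BB Z K z ∧
    x₁ * a = a * x₁ ∧ x₂ * a = a * x₂ ∧ x₁ * a ∈ Z ∧ x₂ * a ∈ Z ∧ x₁ * x₂ * a ∈ Z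
  /-- (b4): the commuting graph on `B(a)` is connected -/
  b4 : ∀ z ∈ Z, ∀ a ∈ Z, CP K z a → ∀ b ∈ BB Z K a,
    Relation.ReflTransGen (fun x y => x ∈ BB Z K a ∧ y ∈ BB Z K a ∧ x * y = y * x) z b

namespace M2H

variable [Finite G] (m : M2H Z K) (h : GW Z K) (ao : AllOne Z K)

include m h ao

omit m [Finite G] in
/-- `B(a)` contains a point which is not `z` -/
theorem exists_ne [Finite G] (hz : z ∈ Z) (ha : a ∈ Z) (hc : CP K z a) :
    ∃ y ∈ BB Z K a, y ≠ z ∧ ¬ Cm (K z) (K y) := by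
  have h1 : z ∈ Om Z K a := om_of_cm h ha hz hc.symm.2
  obtain ⟨y, hy, hyz, hn⟩ := exists_not_cm h h1 (ao.not_nil a ha z hz hc.symm)
  have hyO := cl_sub h1 hy
  refine ⟨y, ⟨hyO.1, ?_⟩, hyz, hn⟩
  have hya : y ≠ a := by
    rintro rfl
    exact hn hc.2
  exact (cp_iff h ha).2 (cm_of_om h ha hyO hya)

/-- `z` does not centralise `X_a` -/
theorem not_ceX (hz : z ∈ Z) (ha : a ∈ Z) (hc : CP K z a) : ¬ CeX Z K a z := by
  intro h1
  obtain ⟨y, hy, hyz, hn⟩ := exists_ne h ao hz ha hc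
  exact hn (h.csymm hy.1 hz hyz (h1 y hy)).symm.2

/-- **(A)** -/
theorem not_acts (hz : z ∈ Z) (ha : a ∈ Z) (hc : CP K z a) (ht : t ∈ BB Z K a) :
    ¬ CeX Z K z (t * a) := by
  intro hta
  have hae : t * a = a * t := (h.comm_of_cp ha ht.1 ht.2).symm
  -- `e' = a t`
  have hE : ∀ x ∈ BB Z K z, x * (a * t) ∈ Z := fun x hx => by
    refine m.e_mul a ha t ht.1 ht.2 x ⟨hx.1, ?_⟩
    rw [← hae]
    exact hta x hx
  have key : ∀ x ∈ BB Z K z, x * a = a * x → x * a ∈ Z → CeX Z K a (x * z) := by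
    intro x hx hxa hxaZ
    rcases m.b1 a ha z hz hc.symm x hx hxa with h1 | h1
    · exfalso
      -- `x` centralises `X_a`
      have h2 : Ce (x * a) (K t) := (h1 t ht).mul (ce_of_cm h ha ht.2.symm.2)
      have h3 : x * (a * t) = (x * a) * t := by group
      by_cases h4 : t = x * a
      · -- `x = t a ∈ E`
        have h5 : a * t = x := by
          rw [h4, hxa, ← mul_assoc, h.sq a ha, one_mul]
        exact m.e_notMem a ha t ht.1 ht.2 (by rw [h5]; exact hx.1)
      · have h5 : CP K t (x * a) := h.csymm ht.1 hxaZ h4 h2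
        have h6 := m.e_notMem (x * a) hxaZ t ht.1 h5.symm
        rw [← h3] at h6
        exact h6 (hE x hx)
    · exact h1
  obtain ⟨x₁, x₂, hx₁, hx₂, hx₃, c1, c2, e1, e2, e3⟩ := m.b3 z hz a ha hc
  have c3 : x₁ * x₂ * a = a * (x₁ * x₂) := by rw [mul_assoc, c2, ← mul_assoc, c1, mul_assoc]
  have k1 := key x₁ hx₁ c1 e1
  have k2 := key x₂ hx₂ c2 e2
  have k3 := key _ hx₃ c3 e3
  refine m.not_ceX h ao hz ha hc fun b hb => ?_
  have z1 : z * x₁ = x₁ * z := h.comm_of_cp hz hx₁.1 hx₁.2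
  have z2 : z * x₂ = x₂ * z := h.comm_of_cp hz hx₂.1 hx₂.2
  have zz' : z * z = 1 := h.sq z hz
  have s1 : (x₁ * x₂) * (x₁ * x₂) = 1 := h.sq _ hx₃.1
  have h7 : Ce ((x₁ * z) * ((x₂ * z) * (x₁ * x₂ * z))) (K b) := (k1 b hb).mul ((k2 b hb).mul (k3 b hb))
  have h8 : (x₁ * z) * ((x₂ * z) * (x₁ * x₂ * z)) = z := by
    calc (x₁ * z) * ((x₂ * z) * (x₁ * x₂ * z)) = x₁ * (z * x₂) * (z * (x₁ * x₂)) * z := by group
      _ = x₁ * (x₂ * z) * (z * (x₁ * x₂)) * z := by rw [z2]
      _ = x₁ * x₂ * (z * z) * (x₁ * x₂) * z := by group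
      _ = (x₁ * x₂) * (x₁ * x₂) * z := by rw [zz', mul_one]
      _ = z := by rw [s1, one_mul]
  rwa [h8] at h7

/-- an element of `B(a)` commuting with `z` centralises `X_z` -/
theorem cent (hz : z ∈ Z) (ha : a ∈ Z) (hc : CP K z a) (ht : t ∈ BB Z K a) (htz : t * z = z * t) :
    CeX Z K z t :=
  (m.b1 z hz a ha hc t ht htz).resolve_right (m.not_acts h ao hz ha hc ht)

theorem sub (hz : z ∈ Z) (ha : a ∈ Z) (hc : CP K z a) (ht : t ∈ BB Z K a) (htz : t * z = z * t) :
    BB Z K z ⊆ BB Z K t := by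
  intro b hb
  have h1 := m.cent h ao hz ha hc ht htz b hb
  have hne : b ≠ t := by
    rintro rfl
    exact m.no3 z hz a ha b ht.1 hc hb.2 ht.2
  exact ⟨hb.1, (h.csymm hb.1 ht.1 hne h1).symm⟩

theorem eq_step (hz : z ∈ Z) (ha : a ∈ Z) (hc : CP K z a) (ht : t ∈ BB Z K a) (htz : t * z = z * t) :
    BB Z K t = BB Z K z := by
  refine Set.Subset.antisymm ?_ (m.sub h ao hz ha hc ht htz)
  exact m.sub h ao ht.1 ha ht.2.symm ⟨hz, hc.symm⟩ htz.symm

/-- **(end)** -/
theorem eq_of_cp (hz : z ∈ Z) (ha : a ∈ Z) (hc : CP K z a) (hb : b ∈ BB Z K a) : BB Z K b = BB Z K z := by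
  have h1 := m.b4 z hz a ha hc b hb
  induction h1 with
  | refl => rfl
  | @tail x y h1 h2 ih =>
    rw [m.eq_step h ao h2.1.1 ha h2.1.2.symm h2.2.1 h2.2.2.symm]
    exact ih h2.1

/-- the non-nil classes of `C(x)` -/
theorem nn (hz : z ∈ Z) (ha : a ∈ Z) (hc : CP K z a) : NN Z K z = {BB Z K z} := by
  have h1 : a ∈ Om Z K z := om_of_cm h hz ha hc.2
  have h2 : Cl Z K z a = BB Z K z := by
    ext v
    constructor
    · intro hv
      have hvO := cl_sub h1 hv
      have hvz : v ≠ z := by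
        rintro rfl
        exact not_mem_of_not_nil h hz h1 (ao.not_nil _ hz a ha hc) hv
      exact ⟨hvO.1, (cp_iff h hz).2 (cm_of_om h hz hvO hvz)⟩
    · intro hv
      exact ao.cls z hz a ha v hv.1 hc hv.2
  ext A
  constructor
  · rintro ⟨u, hu, hn, rfl⟩
    have huz : u ≠ z := by
      rintro rfl
      exact hn (mem_oP_self h hz)
    have h3 : CP K z u := (cp_iff h hz).2 (cm_of_om h hz hu huz)
    have h4 := ao.cls z hz a ha u hu.1 hc h3
    rw [Set.mem_singleton_iff, ← h2]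
    exact cl_eq h1 h4
  · intro hA
    rw [Set.mem_singleton_iff] at hA
    rw [hA, ← h2]
    exact ⟨a, h1, ao.not_nil z hz a ha hc, rfl⟩

/-- **the frame `{B(a), B(z)}`** -/
theorem frame (hz : z ∈ Z) (ha : a ∈ Z) (hc : CP K z a) :
    Frm Z K {BB Z K a, BB Z K z} := by
  have hne : BB Z K a ≠ BB Z K z := by
    intro e
    have h1 : a ∈ BB Z K a := by
      rw [e]
      exact ⟨ha, hc⟩
    exact h1.2.1 rfl
  -- all points of `B(a)` have partners `B(z)`, and conversely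
  have p1 : ∀ b ∈ BB Z K a, BB Z K b = BB Z K z := fun b hb => m.eq_of_cp h ao hz ha hc hb
  have p2 : ∀ b ∈ BB Z K z, BB Z K b = BB Z K a := fun b hb => m.eq_of_cp h ao ha hz hc.symm hb
  have cm1 : ∀ x ∈ BB Z K a, ∀ y ∈ BB Z K z, Cm (K x) (K y) := by
    intro x hx y hy
    rw [← p1 x hx] at hy
    exact hy.2.2
  refine ⟨⟨_, Or.inl rfl, _, Or.inr rfl, hne⟩, ?_, ?_, ?_, ?_⟩
  · rintro A (rfl | rfl) x hx
    · exact hx.1
    · exact hx.1
  · rintro A (rfl | rfl)
    · exact ⟨z, hz, hc.symm⟩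
    · exact ⟨a, ha, hc⟩
  · rintro A (rfl | rfl) B (rfl | rfl) hAB x hx y hy
    · exact absurd rfl hAB
    · exact cm1 x hx y hy
    · exact (cm1 y hy x hx).symm
    · exact absurd rfl hAB
  · rintro A (rfl | rfl) x hx
    · rw [m.nn h ao hx.1 ha hx.2.symm, p1 x hx]
      ext D
      constructor
      · rintro rfl
        exact ⟨Or.inr rfl, fun e => hne (Set.mem_singleton_iff.1 e).symm⟩
      · rintro ⟨rfl | rfl, h1⟩
        · exact absurd rfl h1
        · rfl
    · rw [m.nn h ao hx.1 hz hx.2.symm, p2 x hx]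
      ext D
      constructor
      · rintro rfl
        exact ⟨Or.inl rfl, fun e => hne (Set.mem_singleton_iff.1 e)⟩
      · rintro ⟨rfl | rfl, h1⟩
        · rfl
        · exact absurd rfl h1

/-- every point with a C-partner lies in a frame -/
theorem exists_frame (hz : z ∈ Z) (ha : a ∈ Z) (hc : CP K z a) :
    ∃ F, Frm Z K F ∧ ∃ A ∈ F, z ∈ A :=
  ⟨_, m.frame h ao hz ha hc, _, Or.inl rfl, hz, hc.symm⟩

end M2H

end Cfsg.Agent.Cit.Nil.CompR
end

-- part: Cit/Nil/CompR/Quo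
section
/-!
# S1309 (6b), (n6): the block world, part 1: `Hyp` and `MOne` for the quotient (helper386)

`G` plays `C(a)`, `Om` is a conjugation invariant set of members of `G` (a union of classes of the non-commuting graph),
not nil, `ONE`: `zz K zz L` centralises all members if `K`, `L` commute.

* `NC Om` : the centraliser of the members; `f : G →* H` surjective with kernel `NC Om`;
* `BQ.conj_cases` : `f g` commutes with `f (zz K)`: `g` fixes `zz K` or moves it to a C-partner;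
* `BQ.cm_of_map` : members whose images commute commute; `BQ.map_inj`;
* `BQ.four_comm` : an element of order 4 of a member commuting with `zz L` modulo `NC` commutes with it;
* `BQ.hyp_img` : **`Hyp (img f Om)`**; `BQ.mone` : commuting images have the same involution;
* `BQ.fibre` : the members over `f (zz K)`.
-/

set_option autoImplicit false
set_option linter.style.haveILetI false
set_option linter.unusedSectionVars false

namespace Cfsg.Agent.Cit.Nil.CompR

open Subgroup Cfsg Cfsg.Agent.Cit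
open RG (WR ZZ Ov RR CP)
open Cfsg.Agent.Cit.QuoCen (equivMap orderOf_map zz_map_of_inf)

variable {G H : Type*} [Group G] [Group H] {Om : Set (Subgroup G)} {K L M : Subgroup G} {f : G →* H}
  {g n x y z t k l : G}

/-- the centraliser of the members -/
def NC (Om : Set (Subgroup G)) : Subgroup G := centralizer {k | ∃ K ∈ Om, k ∈ K}

theorem mem_NC : n ∈ NC Om ↔ ∀ K ∈ Om, ∀ k ∈ K, n * k = k * n := by
  rw [NC, mem_centralizer_iff]
  constructor
  · intro h K hK k hk
    exact (h k ⟨K, hK, hk⟩).symm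
  · rintro h k ⟨K, hK, hk⟩
    exact (h K hK k hk).symm

/-- the block -/
structure BQ (Om : Set (Subgroup G)) : Prop where
  w : WR Om
  hyp : Hyp Om
  nn : ∀ K ∈ Om, zz K ∉ Cfsg.pCore 2 G
  one : ∀ K ∈ Om, ∀ L ∈ Om, IndDefs.Cm K L → ∀ M ∈ Om, ∀ x ∈ M, zz K * zz L * x = x * (zz K * zz L)

theorem NC_conj (w : WR Om) (hn : n ∈ NC Om) (g : G) : g * n * g⁻¹ ∈ NC Om := by
  rw [mem_NC] at hn ⊢
  intro K hK k hk
  have h1 : g⁻¹ * k * g ∈ cj g⁻¹ K := by
    have := conj_mem_cj (g := g⁻¹) hk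
    rwa [inv_inv] at this
  have h2 := hn _ (w.conj K hK g⁻¹) _ h1
  calc g * n * g⁻¹ * k = g * (n * (g⁻¹ * k * g)) * g⁻¹ := by group
    _ = g * (g⁻¹ * k * g * n) * g⁻¹ := by rw [h2]
    _ = _ := by group

namespace BQ

variable (b : BQ Om)

include b

/-- `zz K` is not in `NC` -/
theorem zz_not (hK : K ∈ Om) : zz K ∉ NC Om := by
  intro h0
  apply b.nn K hK
  -- the elements `x ∈ ⟨members⟩ ∩ NC` with `x² = 1` form a normal 2-subgroup
  obtain ⟨X, hX⟩ : ∃ X : Subgroup G, X = closure {k | ∃ K ∈ Om, k ∈ K} := ⟨_, rfl⟩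
  have hXN : ∀ n ∈ NC Om, ∀ x ∈ X, n * x = x * n := by
    intro n hn x hx
    rw [hX] at hx
    have h1 : X ≤ centralizer {n} := by
      rw [hX, closure_le]
      rintro k ⟨K, hK, hk⟩
      exact mem_centralizer_singleton_iff.2 (mem_NC.1 hn K hK k hk).symm
    rw [hX] at h1
    exact (mem_centralizer_singleton_iff.1 (h1 hx)).symm
  have hXc : ∀ g : G, ∀ x ∈ X, g * x * g⁻¹ ∈ X := by
    intro g x hx
    rw [hX] at hx ⊢
    induction hx using closure_induction with
    | mem x hx =>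
      obtain ⟨K, hK, hk⟩ := hx
      exact subset_closure ⟨_, b.w.conj K hK g, conj_mem_cj hk⟩
    | one => rw [mul_one, mul_inv_cancel]; exact one_mem _
    | mul x y _ _ hx hy =>
      have e : g * (x * y) * g⁻¹ = (g * x * g⁻¹) * (g * y * g⁻¹) := by group
      rw [e]; exact mul_mem hx hy
    | inv x _ hx =>
      have e : g * x⁻¹ * g⁻¹ = (g * x * g⁻¹)⁻¹ := by group
      rw [e]; exact inv_mem hx
  let T : Subgroup G :=
    { carrier := {x | x ∈ X ∧ x ∈ NC Om ∧ x * x = 1}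
      one_mem' := ⟨one_mem _, one_mem _, one_mul 1⟩
      mul_mem' := by
        rintro x y ⟨hx, hx', hxx⟩ ⟨hy, hy', hyy⟩
        refine ⟨mul_mem hx hy, mul_mem hx' hy', ?_⟩
        have e := hXN x hx' y hy
        calc x * y * (x * y) = x * (y * x) * y := by group
          _ = x * (x * y) * y := by rw [e]
          _ = (x * x) * (y * y) := by group
          _ = 1 := by rw [hxx, hyy, one_mul]
      inv_mem' := by
        rintro x ⟨hx, hx', hxx⟩
        refine ⟨inv_mem hx, inv_mem hx', ?_⟩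
        rw [← mul_inv_rev, hxx, inv_one] }
  have hTn : T.Normal := by
    refine ⟨fun x hx g => ⟨hXc g x hx.1, NC_conj b.w hx.2.1 g, ?_⟩⟩
    calc g * x * g⁻¹ * (g * x * g⁻¹) = g * (x * x) * g⁻¹ := by group
      _ = 1 := by rw [hx.2.2, mul_one, mul_inv_cancel]
  have hT2 : IsPGroup 2 T := by
    rintro ⟨x, hx⟩
    refine ⟨1, Subtype.ext ?_⟩
    show x ^ 2 ^ 1 = 1
    rw [pow_one, pow_two]; exact hx.2.2
  have h1 : T ≤ Cfsg.pCore 2 G := Lib.Cores.le_pCore hTn hT2
  refine h1 ⟨?_, h0, b.w.zs hK⟩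
  rw [hX]
  exact subset_closure ⟨K, hK, b.w.zm hK⟩

/-- `K ∩ NC = 1` -/
theorem inf_NC (hK : K ∈ Om) (hx : x ∈ K) (hn : x ∈ NC Om) : x = 1 := by
  rcases b.w.central hK hx (fun k hk => mem_NC.1 hn K hK k hk) with h1 | h1
  · exact h1
  · rw [h1] at hn
    exact absurd hn (b.zz_not hK)

theorem not_abel (hK : K ∈ Om) : ¬ ∀ k ∈ K, ∀ l ∈ K, k * l = l * k := by
  intro hc
  obtain ⟨y, hy, hyy⟩ := b.w.exists_four hK
  obtain ⟨v, hv, hvv, h2, h3⟩ := b.w.exists_anti hK hy hyy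
  obtain ⟨h4, -⟩ := b.w.anti hK hy hv hyy hvv h2 h3
  rw [hc v hv y hy] at h4
  exact b.w.zn hK (right_eq_mul.1 h4)

variable [Finite G]

/-- `f g` commutes with `f (zz K)` -/
theorem conj_cases (hK : K ∈ Om) (hg : g * zz K * g⁻¹ * (zz K)⁻¹ ∈ NC Om) :
    g * zz K * g⁻¹ = zz K ∨ CP Om (zz K) (g * zz K * g⁻¹) := by
  by_cases hne : g * zz K * g⁻¹ = zz K
  · exact Or.inl hne
  right
  refine b.w.CP_of_cen (z := zz K) ⟨hK, rfl⟩ (fun k hk => ?_) (Ne.symm hne)
  have h1 := mem_NC.1 hg K hK k hk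
  have e : g * zz K * g⁻¹ = g * zz K * g⁻¹ * (zz K)⁻¹ * zz K := by group
  rw [e, mul_assoc, ← b.w.cen hK hk, ← mul_assoc, h1, mul_assoc]

/-- `f (zz K) = f (zz L)` -/
theorem eq_cases (hK : K ∈ Om) (_hL : L ∈ Om) (hg : zz L * (zz K)⁻¹ ∈ NC Om) : zz K = zz L ∨ CP Om (zz K) (zz L) := by
  by_cases hne : zz K = zz L
  · exact Or.inl hne
  right
  refine b.w.CP_of_cen (z := zz K) ⟨hK, rfl⟩ (fun k hk => ?_) hne
  have h1 := mem_NC.1 hg K hK k hk
  have e : zz L = zz L * (zz K)⁻¹ * zz K := by group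
  rw [e, mul_assoc, ← b.w.cen hK hk, ← mul_assoc, h1, mul_assoc]

/-- two members over the same involution or over a C-pair -/
theorem comm_of (hK : K ∈ Om) (hL : L ∈ Om) (h : zz K = zz L ∨ CP Om (zz K) (zz L)) (hne : K ≠ L) :
    IndDefs.Cm K L := by
  rcases h with h | h
  · exact b.w.comm K hK L hL h hne
  · exact h.2 K ⟨hK, rfl⟩ L ⟨hL, rfl⟩

theorem mul_mem_NC (hK : K ∈ Om) (hL : L ∈ Om) (h : IndDefs.Cm K L) : zz K * zz L ∈ NC Om :=
  mem_NC.2 fun M hM x hx => b.one K hK L hL h M hM x hx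

/-- members whose images commute -/
theorem cm_of_map (hf : f.ker = NC Om) (hK : K ∈ Om) (hL : L ∈ Om) (hc : IndDefs.Cm (K.map f) (L.map f)) :
    IndDefs.Cm K L := by
  have h0 : ∀ k ∈ K, ∀ l ∈ L, k * l * k⁻¹ * l⁻¹ ∈ NC Om := by
    intro k hk l hl
    rw [← hf, MonoidHom.mem_ker, map_mul, map_mul, map_mul, hc (f k) ⟨k, hk, rfl⟩ (f l) ⟨l, hl, rfl⟩, map_inv, map_inv]
    group
  have h0' : ∀ k ∈ K, ∀ l ∈ L, l * k * l⁻¹ * k⁻¹ ∈ NC Om := by
    intro k hk l hl
    have h1 := inv_mem (h0 k hk l hl)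
    have e : (k * l * k⁻¹ * l⁻¹)⁻¹ = l * k * l⁻¹ * k⁻¹ := by group
    rwa [e] at h1
  -- one side
  have side : ∀ {K L : Subgroup G}, K ∈ Om → L ∈ Om → (∀ k ∈ K, ∀ l ∈ L, l * k * l⁻¹ * k⁻¹ ∈ NC Om) →
      ∀ l ∈ L, l * zz K * l⁻¹ = zz K := by
    intro K L hK hL h0 l hl
    rcases b.conj_cases hK (h0 _ (b.w.zm hK) l hl) with h1 | h1
    · exact h1
    · exfalso
      apply b.not_abel hK
      intro a ha k hk
      have h2 := h1.2 K ⟨hK, rfl⟩ (cj l K) ⟨b.w.conj K hK l, b.w.zcj hK l⟩ a ha (l * k * l⁻¹) (conj_mem_cj hk)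
      have h3 := mem_NC.1 (h0 k hk l hl) K hK a ha
      have e : l * k * l⁻¹ = l * k * l⁻¹ * k⁻¹ * k := by group
      obtain ⟨m, hm⟩ : ∃ m, m = l * k * l⁻¹ * k⁻¹ := ⟨_, rfl⟩
      rw [e, ← hm] at h2
      rw [← hm] at h3
      have h4 : m * (a * k) = m * (k * a) := by
        calc m * (a * k) = m * a * k := by group
          _ = a * m * k := by rw [h3]
          _ = a * (m * k) := by group
          _ = m * k * a := h2
          _ = m * (k * a) := by group
      exact mul_left_cancel h4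
  have h1 := side hK hL h0'
  -- `L` normalises `K`
  have h2 : ∀ l ∈ L, cj l K = K := by
    intro l hl
    by_cases e1 : l = 1
    · rw [e1, cj_one]
    by_cases e2 : l = zz L
    · obtain ⟨y, hy, hyy⟩ := b.w.exists_four hL
      have h3 := b.w.h3 L hL K hK y hy hyy (by
        have := h1 y hy
        rwa [mul_inv_eq_iff_eq_mul] at this)
      rw [e2, ← hyy, cj_mul, h3, h3]
    · exact b.w.h3 L hL K hK l hl (b.w.sq_eq hL hl e1 e2) (by
        have := h1 l hl
        rwa [mul_inv_eq_iff_eq_mul] at this)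
  intro k hk l hl
  have h3 : k * l * k⁻¹ * l⁻¹ ∈ K := by
    have h4 : l * k⁻¹ * l⁻¹ ∈ K := by rw [← h2 l hl]; exact conj_mem_cj (inv_mem hk)
    have e : k * l * k⁻¹ * l⁻¹ = k * (l * k⁻¹ * l⁻¹) := by group
    rw [e]; exact mul_mem hk h4
  have h4 := b.inf_NC hK h3 (h0 k hk l hl)
  rwa [mul_inv_eq_one, mul_inv_eq_iff_eq_mul] at h4

theorem not_cm_self (hK : K ∈ Om) : ¬ IndDefs.Cm K K := fun h => b.not_abel hK h

theorem ker_inf (hf : f.ker = NC Om) (hK : K ∈ Om) : K ⊓ f.ker = ⊥ := by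
  rw [eq_bot_iff, hf]
  rintro x ⟨h1, h2⟩
  rw [mem_bot]
  exact b.inf_NC hK h1 h2

theorem zz_map (hf : f.ker = NC Om) (hK : K ∈ Om) : zz (K.map f) = f (zz K) :=
  zz_map_of_inf b.hyp hK (b.ker_inf hf hK)

theorem f_eq (hf : f.ker = NC Om) (hK : K ∈ Om) (hL : L ∈ Om) :
    f (zz K) = f (zz L) ↔ zz K = zz L ∨ CP Om (zz K) (zz L) := by
  constructor
  · intro h
    apply b.eq_cases hK hL
    rw [← hf, MonoidHom.mem_ker, map_mul, map_inv, h, mul_inv_cancel]
  · rintro (h | h)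
    · rw [h]
    · have h1 : zz K * zz L ∈ f.ker := by
        rw [hf]
        exact b.mul_mem_NC hK hL (h.2 K ⟨hK, rfl⟩ L ⟨hL, rfl⟩)
      rw [MonoidHom.mem_ker, map_mul] at h1
      have h2 : f (zz L) * f (zz L) = 1 := by rw [← map_mul, b.w.zs hL, map_one]
      exact mul_right_cancel (h1.trans h2.symm)

/-- the members are determined by their images -/
theorem map_inj (hf : f.ker = NC Om) (hK : K ∈ Om) (hL : L ∈ Om) (h : K.map f = L.map f) : K = L := by
  by_contra hne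
  have h1 : f (zz K) = f (zz L) := by rw [← b.zz_map hf hK, ← b.zz_map hf hL, h]
  have h2 := b.comm_of hK hL ((b.f_eq hf hK hL).1 h1) hne
  apply b.not_cm_self hK
  apply b.cm_of_map hf hK hK
  intro x hx y hy
  rw [h] at hy
  obtain ⟨k, hk, rfl⟩ := hx
  obtain ⟨l, hl, rfl⟩ := hy
  rw [← map_mul, ← map_mul, h2 k hk l hl]

/-- an element of order 4 of a member which commutes with `zz L` modulo `NC` commutes with it -/
theorem four_comm (hK : K ∈ Om) (hL : L ∈ Om) (hy : y ∈ K) (hyy : y * y = zz K)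
    (h0 : y * zz L * y⁻¹ * (zz L)⁻¹ ∈ NC Om) : y * zz L = zz L * y := by
  rcases b.conj_cases hL h0 with h1 | h1
  · rwa [mul_inv_eq_iff_eq_mul] at h1
  exfalso
  obtain ⟨u, hu⟩ : ∃ u, u = zz L := ⟨_, rfl⟩
  rw [← hu] at h0 h1
  have hu2 : u * u = 1 := by rw [hu]; exact b.w.zs hL
  have hui : u⁻¹ = u := inv_eq_of_mul_eq_one_right hu2
  obtain ⟨m, hm⟩ : ∃ m, m = y * u * y⁻¹ * u⁻¹ := ⟨_, rfl⟩
  rw [← hm] at h0
  have hmy : m * y = y * m := mem_NC.1 h0 K hK y hy
  have hmu : m * u = u * m := by rw [hu]; exact mem_NC.1 h0 L hL _ (b.w.zm hL)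
  have e1 : y * u * y⁻¹ = m * u := by rw [hm]; group
  have hm2 : m * m = 1 := by
    have h2 : y * u * y⁻¹ * (y * u * y⁻¹) = 1 := by
      rw [show y * u * y⁻¹ * (y * u * y⁻¹) = y * (u * u) * y⁻¹ by group, hu2]; group
    rw [e1] at h2
    calc m * m = m * m * (u * u) := by rw [hu2, mul_one]
      _ = m * (m * u) * u := by group
      _ = m * (u * m) * u := by rw [hmu]
      _ = m * u * (m * u) := by group
      _ = 1 := h2
  have hmi : m⁻¹ = m := inv_eq_of_mul_eq_one_right hm2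
  -- `u` commutes with `z = y²`
  have e2 : zz K * u * (zz K)⁻¹ = u := by
    rw [← hyy]
    calc y * y * u * (y * y)⁻¹ = y * (y * u * y⁻¹) * y⁻¹ := by group
      _ = y * (m * u) * y⁻¹ := by rw [e1]
      _ = (y * m) * u * y⁻¹ := by group
      _ = (m * y) * u * y⁻¹ := by rw [hmy]
      _ = m * (y * u * y⁻¹) := by group
      _ = m * (m * u) := by rw [e1]
      _ = (m * m) * u := by group
      _ = u := by rw [hm2, one_mul]
  have e3 : u * zz K * u⁻¹ = zz K := by
    rw [mul_inv_eq_iff_eq_mul] at e2 ⊢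
    exact e2.symm
  -- `u y u⁻¹ = m y`
  have e4 : u * y * u⁻¹ = m * y := by
    have h2 : y * u = m * u * y := by rw [← e1]; group
    have h3 : u * y = m * (y * u) := by
      rw [h2]
      calc u * y = (m * m) * (u * y) := by rw [hm2, one_mul]
        _ = m * (m * u * y) := by group
    rw [h3, mul_assoc, mul_assoc, mul_inv_cancel, mul_one]
  have h5 : m * y ∈ cj u K := by rw [← e4]; exact conj_mem_cj hy
  have h6 : zz (cj u K) = zz K := by rw [b.w.zcj hK, e3]
  by_cases h7 : cj u K = K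
  · rw [h7] at h5
    have h8 : m ∈ K := by
      have := mul_mem h5 (inv_mem hy)
      rwa [mul_inv_cancel_right] at this
    have h9 := b.inf_NC hK h8 h0
    rw [h9, one_mul] at e1
    exact h1.1 e1.symm
  · have h8 := b.w.comm _ (b.w.conj K hK u) _ hK h6 h7 _ h5
    obtain ⟨v, hv, hvv, h9, h10⟩ := b.w.exists_anti hK hy hyy
    obtain ⟨h11, -⟩ := b.w.anti hK hy hv hyy hvv h9 h10
    have h12 : m * (y * v) = m * (v * y) := by
      calc m * (y * v) = m * y * v := by group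
        _ = v * (m * y) := h8 v hv
        _ = (v * m) * y := by group
        _ = (m * v) * y := by rw [mem_NC.1 h0 K hK v hv]
        _ = m * (v * y) := by group
    have h13 := mul_left_cancel h12
    rw [h11] at h13
    exact b.w.zn hK (right_eq_mul.1 h13)

/-- **the images are a family with `Hyp`** -/
theorem hyp_img (hs : Function.Surjective f) (hf : f.ker = NC Om) : Hyp (img f Om) := by
  haveI : Fact (Nat.Prime 2) := ⟨Nat.prime_two⟩
  haveI : Finite H := Finite.of_surjective f hs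
  refine ⟨?_, ?_, ?_, ?_, ?_, ?_⟩
  · rintro _ ⟨K, hK, rfl⟩ g'
    obtain ⟨g, rfl⟩ := hs g'
    exact ⟨cj g K, b.w.conj K hK g, cj_map f g K⟩
  · rintro _ ⟨K, hK, rfl⟩
    exact HasQS.of_equiv (equivMap (b.ker_inf hf hK)) (b.hyp.quat K hK)
  · rintro _ ⟨K, hK, rfl⟩ t ⟨k, hk, rfl⟩ ht2
    rw [b.zz_map hf hK]
    rw [orderOf_map (b.ker_inf hf hK) hk] at ht2
    rw [b.hyp.uniq K hK k hk ht2]
  · rintro _ ⟨K, hK, rfl⟩
    rw [b.zz_map hf hK]
    obtain ⟨z, hz⟩ : ∃ z, z = zz K := ⟨_, rfl⟩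
    rw [← hz]
    obtain ⟨N, hN⟩ : ∃ N : Subgroup G, N = (centralizer {f z}).comap f := ⟨_, rfl⟩
    have hmN : ∀ {g : G}, g ∈ N ↔ f g * f z = f z * f g := by
      intro g
      rw [hN, mem_comap, mem_centralizer_singleton_iff]
    obtain ⟨R, hR⟩ : ∃ R : Subgroup G, R = sSup {L | L ∈ Om ∧ f (zz L) = f z} := ⟨_, rfl⟩
    have hLR : ∀ L ∈ Om, f (zz L) = f z → L ≤ R := by
      intro L hL h1
      rw [hR]
      exact le_sSup ⟨hL, h1⟩
    have hRN : R ≤ N := by
      rw [hR]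
      refine sSup_le ?_
      rintro L ⟨hL, h1⟩ l hl
      rw [hmN, ← h1, ← map_mul, ← map_mul, b.w.cen hL hl]
    have hKR : K ≤ R := hLR K hK (by rw [hz])
    have hRn : (R.subgroupOf N).Normal := by
      rw [normal_subgroupOf_iff_le_normalizer hRN]
      intro g hg
      rw [hmN] at hg
      have key : ∀ g : G, f g * f z = f z * f g → cj g R ≤ R := by
        intro g hg
        rw [hR, cj_def, Subgroup.map_le_iff_le_comap]
        refine sSup_le ?_
        rintro L ⟨hL, h1⟩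
        rw [← Subgroup.map_le_iff_le_comap, ← cj_def]
        refine le_sSup ⟨b.w.conj L hL g, ?_⟩
        rw [b.w.zcj hL, map_mul, map_mul, map_inv, h1, hg, mul_inv_cancel_right]
      rw [mem_normalizer_iff_cj]
      refine le_antisymm (key g hg) ?_
      have h1 := cj_mono g (key g⁻¹ (by rw [map_inv, inv_mul_eq_iff_eq_mul, ← mul_assoc, hg, mul_inv_cancel_right]))
      rwa [cj_cj_inv] at h1
    have hKn : (K.subgroupOf R).Normal := by
      rw [normal_subgroupOf_iff_le_normalizer hKR]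
      rw [hR]
      refine sSup_le ?_
      rintro L ⟨hL, h1⟩
      by_cases hne : K = L
      · rw [hne]; exact le_normalizer
      · have h2 := b.comm_of hK hL ((b.f_eq hf hK hL).1 (by rw [h1, hz])) hne
        intro l hl
        rw [mem_normalizer_iff]
        intro x
        have h3 : ∀ x ∈ K, l * x * l⁻¹ = x := fun x hx => by rw [← h2 x hx l hl, mul_inv_cancel_right]
        constructor
        · intro hx
          rw [h3 x hx]; exact hx
        · intro hx
          have h4 : l⁻¹ * (l * x * l⁻¹) * l = l * x * l⁻¹ := by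
            have h5 := h2 _ hx l⁻¹ (inv_mem hl)
            rw [← h5, inv_mul_cancel_right]
          have e : x = l⁻¹ * (l * x * l⁻¹) * l := by group
          rw [e, h4]; exact hx
    have h1 : (K.subgroupOf N).IsSubnormal := by
      refine IsSubnormal.trans (H := K.subgroupOf N) (K := R.subgroupOf N)
        (fun x hx => hKR hx) ?_ hRn.isSubnormal
      let e : (R.subgroupOf N) →* R :=
        { toFun := fun x => ⟨((x : N) : G), x.2⟩
          map_one' := rfl
          map_mul' := fun _ _ => rfl }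
      convert hKn.isSubnormal.comap e using 1
      ext x
      rfl
    let φ : N →* centralizer {f z} :=
      { toFun := fun x => ⟨f x, mem_centralizer_singleton_iff.2 (hmN.1 x.2)⟩
        map_one' := by apply Subtype.ext; simp
        map_mul' := fun x y => by apply Subtype.ext; simp }
    have hφ : Function.Surjective φ := by
      rintro ⟨x, hx⟩
      obtain ⟨g, rfl⟩ := hs x
      exact ⟨⟨g, hmN.2 (mem_centralizer_singleton_iff.1 hx)⟩, rfl⟩
    convert h1.map hφ using 1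
    ext x
    simp only [mem_subgroupOf, mem_map]
    constructor
    · rintro ⟨k, hk, hkx⟩
      exact ⟨⟨k, hRN (hKR hk)⟩, hk, Subtype.ext hkx⟩
    · rintro ⟨k, hk, rfl⟩
      exact ⟨k, hk, rfl⟩
  · rintro _ ⟨K, hK, rfl⟩ _ ⟨L, hL, rfl⟩ hKL
    by_cases hne : K = L
    · left; rw [hne]
    right
    rw [b.zz_map hf hK, b.zz_map hf hL] at hKL
    have h1 := b.comm_of hK hL ((b.f_eq hf hK hL).1 hKL) hne
    have h2 : ⁅K.map f, L.map f⁆ = ⊥ := by
      rw [commutator_eq_bot_iff_le_centralizer]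
      rintro _ ⟨k, hk, rfl⟩
      rw [mem_centralizer_iff]
      rintro _ ⟨l, hl, rfl⟩
      rw [← map_mul, ← map_mul, h1 k hk l hl]
    rw [h2]
    exact bot_le
  · rintro _ ⟨K, hK, rfl⟩ _ ⟨L, hL, rfl⟩ _ ⟨y, hy, rfl⟩ hy2 hy4 hyz
    rw [b.zz_map hf hL] at hyz
    rw [orderOf_map (b.ker_inf hf hK) hy] at hy4
    have h1 : y ≠ 1 := by
      rintro rfl
      rw [orderOf_one] at hy4
      omega
    have h2 : y ≠ zz K := by
      rintro rfl
      rw [(b.w.zz_spec hK).2] at hy4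
      omega
    have hyy := b.w.sq_eq hK hy h1 h2
    have h3 := b.four_comm hK hL hy hyy (by
      rw [← hf, MonoidHom.mem_ker, map_mul, map_mul, map_mul, map_inv, map_inv, hyz]
      group)
    have h4 := b.w.h3 K hK L hL y hy hyy h3
    rw [mem_normalizer_iff_cj, ← cj_map, h4]

/-- commuting images have the same involution -/
theorem mone (hf : f.ker = NC Om) (hK : K ∈ Om) (hL : L ∈ Om) (hc : IndDefs.Cm (K.map f) (L.map f)) :
    zz (K.map f) = zz (L.map f) := by
  have h1 := b.cm_of_map hf hK hL hc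
  rw [b.zz_map hf hK, b.zz_map hf hL, b.f_eq hf hK hL]
  by_cases h2 : zz K = zz L
  · exact Or.inl h2
  · exact Or.inr (b.w.CP_of_cen (z := zz K) ⟨hK, rfl⟩ (fun k hk => (h1 k hk _ (b.w.zm hL)).symm) h2)

theorem card_img (hf : f.ker = NC Om) (hK : K ∈ Om) : Nat.card (K.map f) = 8 := by
  rw [← Nat.card_congr (equivMap (b.ker_inf hf hK)).toEquiv, b.w.card hK]

/-- **the members over `f (zz K)`** -/
theorem fibre (hf : f.ker = NC Om) (hK : K ∈ Om) : {M | M ∈ img f Om ∧ zz M = f (zz K)} =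
    (Subgroup.map f) '' {L | L ∈ Om ∧ (zz K = zz L ∨ CP Om (zz K) (zz L))} := by
  ext M
  constructor
  · rintro ⟨⟨L, hL, rfl⟩, h1⟩
    rw [b.zz_map hf hL] at h1
    exact ⟨L, ⟨hL, (b.f_eq hf hK hL).1 h1.symm⟩, rfl⟩
  · rintro ⟨L, ⟨hL, h1⟩, rfl⟩
    refine ⟨⟨L, hL, rfl⟩, ?_⟩
    rw [b.zz_map hf hL]
    exact ((b.f_eq hf hK hL).2 h1).symm

theorem fibre_ncard (hf : f.ker = NC Om) (hK : K ∈ Om) : {M | M ∈ img f Om ∧ zz M = f (zz K)}.ncard =
    {L | L ∈ Om ∧ (zz K = zz L ∨ CP Om (zz K) (zz L))}.ncard := by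
  rw [b.fibre hf hK]
  exact Set.ncard_image_of_injOn fun L hL M hM h => b.map_inj hf hL.1 hM.1 h

end BQ

end Cfsg.Agent.Cit.Nil.CompR
end

-- part: Cit/Nil/CompR/QuoC
section
/-!
# S1309 (n6), COMP, `AllOne`, the block worlds `C(z)/C(X_z)` (helper386)

World: `WR Ω`, `T0 Ω`, `AllOne (ZZ Ω) (RR Ω)`.

* `OmB Ω z` : the members of `C(z)` over the C-partners of `z`;
* `BlkC Ω z` : the hypotheses; `BlkC.t0B`, `BlkC.conn`, `BlkC.nn`; **`BlkC.qt : QT (OmB Ω z) f`** (helper197's provider);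
* `BlkC.bq : BQ (OmB Ω z)`; **`BlkC.mone`**; `BlkC.ker_iff` : the kernel is `CeX`;
* `move` : `⟨R_x : x ∈ B(v)⟩` is transitive on `B(v)` (no C-pair inside `B(v)`) and centralises `R_v`;
* **`BlkC.cls_eq`** : one class; **`BlkC.c3`**, **`BlkC.c3_img`** : (C3); **`BlkC.fibre_ncard`**.
-/

set_option autoImplicit false
set_option linter.style.haveILetI false
set_option linter.unusedSectionVars false

namespace Cfsg.Agent.Cit.Nil.CompR

open Subgroup Cfsg Cfsg.Agent.Cit
open Cfsg.Agent.Cit.Nil.ROne (CP)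
open Cfsg.Agent.Cit.Nil.AN (Cm Ce Om Cl OneC St cl_sub cl_symm cl_refl cl_eq cl_step cl_trans)
open RG (WR ZZ Ov RR)
open IndDefs (comp T0 NIL mem_comp_self comp_symm comp_trans mem_comp_of)
open RTwoM.Quo (QM QT)
open Cfsg.Agent.OddOrderLocal.NilParts

section move

variable {G : Type*} [Group G] [Finite G] {Z : Set G} {K : G → Subgroup G} {z u v x y g h a b c : G}

/-- a step: `⟨R_x, R_y⟩` moves `x` to `y` -/
theorem move_step (hw : GW Z K) (no : ∀ x ∈ BB Z K v, ∀ y ∈ BB Z K v, ¬ CP K x y) (hv : v ∈ Z)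
    (hx : x ∈ BB Z K v) (hy : y ∈ BB Z K v) : ∃ h : G, Ce h (K v) ∧ h * x * h⁻¹ = y := by
  haveI : Fact (Nat.Prime 2) := ⟨Nat.prime_two⟩
  obtain ⟨D, hD⟩ : ∃ D : Subgroup G, D = K x ⊔ K y := ⟨_, rfl⟩
  have hxD : K x ≤ D := by rw [hD]; exact le_sup_left
  have hyD : K y ≤ D := by rw [hD]; exact le_sup_right
  have hDc : ∀ d ∈ D, Ce d (K v) := by
    have h1 : D ≤ centralizer (K v : Set G) := by
      rw [hD]
      refine sup_le ?_ ?_
      · intro k hk
        rw [mem_centralizer_iff]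
        exact fun l hl => hx.2.2 l hl k hk
      · intro k hk
        rw [mem_centralizer_iff]
        exact fun l hl => hy.2.2 l hl k hk
    intro d hd k hk
    exact (mem_centralizer_iff.1 (h1 hd) k hk).symm
  obtain ⟨P, hP⟩ := (((hw.two hx.1).comap_of_injective D.subtype D.subtype_injective :
    IsPGroup 2 ((K x).subgroupOf D))).exists_le_sylow
  obtain ⟨Q, hQ⟩ := (((hw.two hy.1).comap_of_injective D.subtype D.subtype_injective :
    IsPGroup 2 ((K y).subgroupOf D))).exists_le_sylow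
  obtain ⟨g, hg⟩ := MulAction.exists_smul_eq D P Q
  have hgS : (Q : Subgroup D) = cj g (P : Subgroup D) := by
    rw [← hg]
    rfl
  have h1 : cj (g : G) (K x) ≤ (Q : Subgroup D).map D.subtype := by
    have h2 : cj (g : G) (K x) = (cj g ((K x).subgroupOf D)).map D.subtype := by
      rw [cj_map, map_subgroupOf_eq_of_le hxD]
      rfl
    rw [h2, hgS]
    exact Subgroup.map_mono (cj_mono g hP)
  have h2 : K y ≤ (Q : Subgroup D).map D.subtype := by
    rw [← map_subgroupOf_eq_of_le hyD]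
    exact Subgroup.map_mono hQ
  have h3 : IsPGroup 2 ((Q : Subgroup D).map D.subtype) := Q.isPGroup'.map _
  refine ⟨g, hDc _ g.2, ?_⟩
  by_contra hne
  have hgx : (g : G) * x * (g : G)⁻¹ ∈ Z := hw.conjZ x hx.1 g
  have h4 : CP K ((g : G) * x * (g : G)⁻¹) y := hw.com _ h3 hgx hy.1 (by rw [hw.conjK x hx.1]; exact h1) h2 hne
  refine no _ ⟨hgx, ?_⟩ y hy h4
  rw [cp_iff hw hv]
  have h5 : (g : G) * v * (g : G)⁻¹ = v := by rw [hDc _ g.2 v (hw.mem v hv), mul_inv_cancel_right]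
  have h6 := cm_conj hw hv hx.1 (g : G) hx.2.2
  rwa [h5] at h6

/-- **`⟨R_x : x ∈ B(v)⟩` is transitive on the classes in `B(v)` and centralises `R_v`** -/
theorem move (hw : GW Z K) (no : ∀ x ∈ BB Z K v, ∀ y ∈ BB Z K v, ¬ CP K x y) (hv : v ∈ Z)
    (hx : x ∈ BB Z K v) (hy : y ∈ BB Z K v) : ∃ h : G, Ce h (K v) ∧ h * x * h⁻¹ = y :=
  move_step hw no hv hx hy

end move

/-! ### The members of `C(z)` over the C-partners of `z` -/

section pow

variable {G : Type*} [Group G] [Finite G] {K : Subgroup G} {c h : G}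

/-- a power of `h c` is a 3-element which acts as `c` on `K` -/
theorem c3_pow (hcK : cj c K = K) (hc3 : IsPGroup 3 (zpowers c)) (hh : ∀ k ∈ K, h * k = k * h) :
    ∃ n : ℕ, IsPGroup 3 (zpowers ((h * c) ^ n)) ∧ ∀ k ∈ K, (h * c) ^ n * k * ((h * c) ^ n)⁻¹ = c * k * c⁻¹ := by
  haveI : Fact (Nat.Prime 3) := ⟨Nat.prime_three⟩
  have hact : ∀ n : ℕ, ∀ k ∈ K, (h * c) ^ n * k * ((h * c) ^ n)⁻¹ = c ^ n * k * (c ^ n)⁻¹ ∧ c ^ n * k * (c ^ n)⁻¹ ∈ K := by
    intro n
    induction n with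
    | zero => intro k hk; simpa using hk
    | succ n ih =>
      intro k hk
      obtain ⟨h1, h2⟩ := ih k hk
      have h3 : c * (c ^ n * k * (c ^ n)⁻¹) * c⁻¹ ∈ K := by
        have h4 : c * (c ^ n * k * (c ^ n)⁻¹) * c⁻¹ ∈ cj c K := conj_mem_cj h2
        rwa [hcK] at h4
      have e1 : c ^ (n + 1) * k * (c ^ (n + 1))⁻¹ = c * (c ^ n * k * (c ^ n)⁻¹) * c⁻¹ := by
        rw [pow_succ']; group
      have e2 : (h * c) ^ (n + 1) * k * ((h * c) ^ (n + 1))⁻¹ =
          h * (c * ((h * c) ^ n * k * ((h * c) ^ n)⁻¹) * c⁻¹) * h⁻¹ := by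
        obtain ⟨p, hp⟩ : ∃ p, p = (h * c) ^ n := ⟨_, rfl⟩
        rw [pow_succ' (h * c), ← hp]
        group
      refine ⟨?_, by rw [e1]; exact h3⟩
      rw [e1, e2, h1, hh _ h3, mul_inv_cancel_right]
  -- the order of `c` is a power of 3
  obtain ⟨a, ha⟩ : ∃ a, orderOf c = 3 ^ a := by
    obtain ⟨a, ha⟩ := (IsPGroup.iff_card.1 hc3)
    exact ⟨a, by rw [← Nat.card_zpowers, ha]⟩
  obtain ⟨m, hm, e⟩ : ∃ m, ¬ 3 ∣ m ∧ orderOf (h * c) = 3 ^ (orderOf (h * c)).factorization 3 * m :=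
    ⟨_, Nat.not_dvd_ordCompl Nat.prime_three (orderOf_pos _).ne', (Nat.ordProj_mul_ordCompl_eq_self _ 3).symm⟩
  have hcop : Nat.Coprime m (3 ^ a) := Nat.Coprime.pow_right _ ((Nat.Prime.coprime_iff_not_dvd Nat.prime_three).2 hm).symm
  refine ⟨m ^ (3 ^ a).totient, ?_, ?_⟩
  · obtain ⟨b, hb⟩ : ∃ b, b = (orderOf (h * c)).factorization 3 := ⟨_, rfl⟩
    rw [← hb] at e
    have h1 : ((h * c) ^ (m ^ (3 ^ a).totient)) ^ (3 ^ b) = 1 := by
      rw [← pow_mul]
      apply orderOf_dvd_iff_pow_eq_one.1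
      rw [e, mul_comm]
      exact Nat.mul_dvd_mul_right (dvd_pow_self m (Nat.totient_pos.2 (by positivity)).ne') _
    obtain ⟨j, -, hj⟩ := (Nat.dvd_prime_pow Nat.prime_three).1 (orderOf_dvd_of_pow_eq_one h1)
    exact IsPGroup.of_card (n := j) (by rw [Nat.card_zpowers, hj])
  · intro k hk
    rw [(hact _ k hk).1]
    have h1 : m ^ (3 ^ a).totient ≡ 1 [MOD orderOf c] := by rw [ha]; exact Nat.ModEq.pow_totient hcop
    have h2 : c ^ (m ^ (3 ^ a).totient) = c ^ 1 := pow_eq_pow_iff_modEq.2 h1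
    rw [h2, pow_one]

/-- restriction to a subgroup -/
theorem c3_norm {C : Subgroup G} {A : Subgroup C} {p : C} {c : G} (hc : cj c (A.map C.subtype) = A.map C.subtype)
    (h : ∀ k ∈ A.map C.subtype, (p : G) * k * (p : G)⁻¹ = c * k * c⁻¹) : p ∈ normalizer (A : Set C) := by
  rw [mem_normalizer_iff_cj]
  apply map_injective C.subtype_injective
  rw [cj_map]
  refine eq_of_le_of_card_ge ?_ (by rw [card_cj])
  intro x hx
  rw [mem_cj] at hx
  have h1 : (p : G) * ((p : G)⁻¹ * x * p) * (p : G)⁻¹ = c * ((p : G)⁻¹ * x * p) * c⁻¹ := h _ hx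
  have h2 : x = (p : G) * ((p : G)⁻¹ * x * p) * (p : G)⁻¹ := by group
  have h3 : c * ((p : G)⁻¹ * x * p) * c⁻¹ ∈ cj c (A.map C.subtype) := conj_mem_cj hx
  rw [hc, ← h1] at h3
  rw [h2]
  exact h3

/-- (C3) passes to the image -/
theorem c3_map {M H : Type*} [Group M] [Group H] [Finite M] {A : Subgroup M} {f : M →* H} (hA : A ⊓ f.ker = ⊥)
    (h8 : Nat.card A = 8) (h : Nil.C3 A) : Nil.C3 (A.map f) := by
  obtain ⟨Q, hQ, hQ8, c, hcK, -, hc3, q, hq, hcq⟩ := h
  have hQA : Q = A := eq_of_le_of_card_ge hQ.1 (by rw [hQ8, h8])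
  subst hQA
  have h9 : Nat.card (Q.map f) = 8 := by
    rw [← Nat.card_congr (QuoCen.equivMap hA).toEquiv, h8]
  have h10 : f c ∈ normalizer (Q.map f : Set H) := by
    rw [mem_normalizer_iff_cj, ← cj_map, mem_normalizer_iff_cj.1 hcK]
  refine ⟨Q.map f, ⟨le_rfl, IsPGroup.of_card (n := 3) (by rw [h9]; norm_num), by rw [relIndex_self]; norm_num⟩, h9,
    f c, h10, h10, ?_, f q, ⟨q, hq, rfl⟩, ?_⟩
  · rw [← MonoidHom.map_zpowers]
    exact hc3.map f
  · intro h11
    apply hcq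
    have h12 : c * q * c⁻¹ * q⁻¹ ∈ Q ⊓ f.ker := by
      rw [mem_inf]
      refine ⟨mul_mem ?_ (inv_mem hq), ?_⟩
      · have h13 : c * q * c⁻¹ ∈ cj c Q := conj_mem_cj hq
        rwa [mem_normalizer_iff_cj.1 hcK] at h13
      · rw [MonoidHom.mem_ker, map_mul, map_mul, map_mul, h11, map_inv, map_inv]
        group
    rw [hA, mem_bot, mul_inv_eq_one, mul_inv_eq_iff_eq_mul] at h12
    exact h12

end pow

section defs

variable {G : Type*} [Group G]

/-- the members of `C(z)` over the C-partners of `z` -/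
def OmB (Ω : Set (Subgroup G)) (z : G) : Set (Subgroup ↥(centralizer ({z} : Set G))) :=
  {A | A.map (centralizer {z}).subtype ∈ Ω ∧ RG.CP Ω z (zz (A.map (centralizer {z}).subtype))}

variable {Ω : Set (Subgroup G)} {K L M : Subgroup G} {z u v w x y g s a b c : G}
  {A B : Subgroup ↥(centralizer ({z} : Set G))}

theorem OmB_sub : OmB Ω z ⊆ restr Ω (centralizer {z}) := fun _ h => h.1

theorem le_of_cp (w : WR Ω) (hz : z ∈ ZZ Ω) (hL : L ∈ Ω) (hc : RG.CP Ω z (zz L)) : L ≤ centralizer {z} := by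
  obtain ⟨K, hK⟩ := hz
  intro l hl
  rw [mem_centralizer_singleton_iff]
  exact (hc.2 K hK L ⟨hL, rfl⟩ z (w.Ov_mem hK) l hl).symm

theorem mem_OmB (w : WR Ω) (hz : z ∈ ZZ Ω) (hL : L ∈ Ω) (hc : RG.CP Ω z (zz L)) :
    L.subgroupOf (centralizer {z}) ∈ OmB Ω z := by
  have h1 := map_subgroupOf_eq_of_le (le_of_cp w hz hL hc)
  exact ⟨by rw [h1]; exact hL, by rw [h1]; exact hc⟩

theorem OmB_eq (A : Subgroup ↥(centralizer ({z} : Set G))) :
    A = (A.map (centralizer {z}).subtype).subgroupOf (centralizer {z}) := by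
  rw [subgroupOf, comap_map_eq_self_of_injective (centralizer {z}).subtype_injective]

variable [Finite G]

/-- the involution of a member of `C(z)` -/
theorem zzB (hyp : Hyp Ω) (hA : A ∈ OmB Ω z) :
    ((zz A : ↥(centralizer ({z} : Set G))) : G) = zz (A.map (centralizer {z}).subtype) :=
  (zz_map hyp (OmB_sub hA))

end defs

/-- the hypotheses on the block -/
structure BlkC {G : Type*} [Group G] [Finite G] (Ω : Set (Subgroup G)) (z : G) : Prop where
  t0 : T0 Ω
  ao : AllOne (ZZ Ω) (RR Ω)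
  core : Cfsg.pPrimeCore 2 ↥(centralizer ({z} : Set G)) = ⊥
  hz : z ∈ ZZ Ω
  ex : ∃ a ∈ ZZ Ω, RG.CP Ω z a

namespace BlkC

variable {G : Type*} [Group G] [Finite G] {Ω : Set (Subgroup G)} {K L M : Subgroup G} {z u v x y g s a b c : G}
  {A B : Subgroup ↥(centralizer ({z} : Set G))}

variable (β : BlkC Ω z)

include β

theorem wr0 : WR Ω := WR.of_hyp β.t0.hyp β.t0.card

theorem gw : GW (ZZ Ω) (RR Ω) := GW.of_wr β.wr0 β.t0.hyp

theorem conj (hA : A ∈ OmB Ω z) (g : ↥(centralizer ({z} : Set G))) : cj g A ∈ OmB Ω z := by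
  obtain ⟨h1, h2⟩ := hA
  have h3 : (cj g A).map (centralizer {z}).subtype = cj (g : G) (A.map (centralizer {z}).subtype) := cj_map _ g A
  refine ⟨by rw [h3]; exact β.wr0.conj _ h1 _, ?_⟩
  rw [h3, β.wr0.zcj h1]
  have h4 := β.wr0.CP_cj h2 (g : G)
  rwa [mem_centralizer_singleton_iff.1 g.2, mul_inv_cancel_right] at h4

theorem t0B : T0 (OmB Ω z) where
  hyp := QuoCen.hyp_subset (β.t0.hyp.restr _) OmB_sub fun _ hA g => β.conj hA g
  card A hA := by
    rw [Nat.card_congr (A.equivMapOfInjective _ (centralizer {z}).subtype_injective).toEquiv]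
    exact β.t0.card _ hA.1
  core := β.core

/-- the points of `B(z)` -/
theorem mem_BB : u ∈ BB (ZZ Ω) (RR Ω) z ↔ u ∈ ZZ Ω ∧ RG.CP Ω z u := by
  constructor
  · exact fun h => ⟨h.1, (cp_iff_wr β.wr0).1 h.2⟩
  · exact fun h => ⟨h.1, (cp_iff_wr β.wr0).2 h.2⟩

/-- the members of a class -/
theorem path_aux (hu : u ∈ BB (ZZ Ω) (RR Ω) z) (hK : K ∈ Ov Ω u) (hv : v ∈ Cl (ZZ Ω) (RR Ω) z u) :
    v ∈ BB (ZZ Ω) (RR Ω) z ∧ (v = u ∨ ∀ L ∈ Ov Ω v, L.subgroupOf (centralizer {z}) ∈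
      comp (OmB Ω z) (K.subgroupOf (centralizer {z}))) := by
  have hg := β.gw
  have huO : u ∈ Om (ZZ Ω) (RR Ω) z := om_of_cm hg β.hz hu.1 hu.2.2
  have hBB : ∀ v ∈ Cl (ZZ Ω) (RR Ω) z u, v ∈ BB (ZZ Ω) (RR Ω) z := by
    intro v hv
    have hvO := cl_sub huO hv
    have hvz : v ≠ z := by
      rintro rfl
      exact not_mem_of_not_nil hg β.hz huO (β.ao.not_nil _ β.hz u hu.1 hu.2) hv
    exact ⟨hvO.1, (cp_iff hg β.hz).2 (cm_of_om hg β.hz hvO hvz)⟩
  refine ⟨hBB v hv, ?_⟩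
  have hv' : Relation.ReflTransGen (St (ZZ Ω) (RR Ω) z) u v := hv
  clear hv
  have hle : ∀ {x : G} {L : Subgroup G}, x ∈ BB (ZZ Ω) (RR Ω) z → L ∈ Ov Ω x →
      L ≤ centralizer {z} ∧ L.subgroupOf (centralizer {z}) ∈ OmB Ω z := by
    intro x L hx hL
    have h1 : RG.CP Ω z (zz L) := by rw [hL.2]; exact (β.mem_BB.1 hx).2
    exact ⟨le_of_cp β.wr0 β.hz hL.1 h1, mem_OmB β.wr0 β.hz hL.1 h1⟩
  induction hv' with
  | refl => exact Or.inl rfl
  | @tail b c h1 h2 ih =>
    have hbB := hBB b h1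
    have hcB := hBB c (Relation.ReflTransGen.tail h1 h2)
    by_cases hcx : c = u
    · exact Or.inl hcx
    right
    intro L hL
    rcases ih with rfl | ih
    · refine mem_comp_of mem_comp_self ⟨(hle hbB hK).2, (hle hcB hL).2, fun h3 => ?_⟩
      exact not_cm_of β.wr0 (Ne.symm hcx) h2.2 hK hL ((cm_subOf_iff (hle hbB hK).1 (hle hcB hL).1).1 h3)
    · by_cases hbc : b = c
      · subst hbc
        exact ih L hL
      · obtain ⟨M, hM⟩ := hbB.1
        refine mem_comp_of (ih M hM) ⟨(hle hbB hM).2, (hle hcB hL).2, fun h3 => ?_⟩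
        exact not_cm_of β.wr0 hbc h2.2 hM hL ((cm_subOf_iff (hle hbB hM).1 (hle hcB hL).1).1 h3)

theorem exists_ov (hA : A ∈ OmB Ω z) : ∃ u ∈ BB (ZZ Ω) (RR Ω) z, ∃ K ∈ Ov Ω u,
    K ≤ centralizer {z} ∧ K = A.map (centralizer {z}).subtype ∧ A = K.subgroupOf (centralizer {z}) :=
  ⟨_, β.mem_BB.2 ⟨⟨_, hA.1, rfl⟩, hA.2⟩, _, ⟨hA.1, rfl⟩, map_subtype_le A, rfl, OmB_eq A⟩

/-- `B(z)` is one class -/
theorem cls_BB (hu : u ∈ BB (ZZ Ω) (RR Ω) z) (hv : v ∈ BB (ZZ Ω) (RR Ω) z) : v ∈ Cl (ZZ Ω) (RR Ω) z u :=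
  β.ao.cls z β.hz u hu.1 v hv.1 hu.2 hv.2

/-- connected -/
theorem conn : ∀ A ∈ OmB Ω z, ∀ B ∈ OmB Ω z, B ∈ comp (OmB Ω z) A := by
  intro A hA B hB
  obtain ⟨u, hu, K, hK, -, -, rfl⟩ := β.exists_ov hA
  obtain ⟨v, hv, L, hL, -, -, rfl⟩ := β.exists_ov hB
  by_cases huv : v = u
  · subst huv
    have hg := β.gw
    have huO : v ∈ Om (ZZ Ω) (RR Ω) z := om_of_cm hg β.hz hu.1 hu.2.2
    obtain ⟨y, hy, hyv, hn⟩ := exists_not_cm hg huO (β.ao.not_nil z β.hz v hu.1 hu.2)
    obtain ⟨hyB, h1⟩ := β.path_aux hu hK hy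
    have h1' := h1.resolve_left hyv
    obtain ⟨M, hM⟩ := hyB.1
    obtain ⟨-, h2⟩ := β.path_aux hyB hM (cl_symm huO hy)
    exact comp_trans (h1' M hM) (h2.resolve_left hyv.symm L hL)
  · exact (β.path_aux hu hK (β.cls_BB hu hv)).2.resolve_left huv L hL

/-- not nil -/
theorem not_nil (hA : A ∈ OmB Ω z) : ¬ NIL A := by
  intro h1
  obtain ⟨u, hu, K, hK, -, h2, -⟩ := β.exists_ov hA
  apply β.ao.not_nil z β.hz u hu.1 hu.2
  rw [oP_def]
  refine ⟨zz A, h1, ?_⟩
  have h3 := zzB β.t0.hyp hA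
  rw [← h2, hK.2] at h3
  exact h3

theorem exists_OmB : ∃ A, A ∈ OmB Ω z := by
  obtain ⟨a, ha, hc⟩ := β.ex
  obtain ⟨K, hK⟩ := ha
  exact ⟨_, mem_OmB β.wr0 β.hz hK.1 (by rw [hK.2]; exact hc)⟩

theorem nn : ∃ A ∈ OmB Ω z, ¬ NIL A := by
  obtain ⟨A, hA⟩ := β.exists_OmB
  exact ⟨A, hA, β.not_nil hA⟩

variable {H : Type*} [Group H] {f : ↥(centralizer ({z} : Set G)) →* H}

/-- **helper197's provider** -/
theorem qt (hs : Function.Surjective f) (hf : f.ker = NC (OmB Ω z)) : QT (OmB Ω z) f where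
  t0 := β.t0B
  conn := β.conn
  nn := β.nn
  surj := hs
  ker g := by
    rw [← MonoidHom.mem_ker, hf, mem_NC]

/-- the world `WR` of the block -/
theorem wr : WR (OmB Ω z) := WR.of_hyp β.t0B.hyp β.t0B.card

/-- commuting members lie over the same involution or over a C-pair -/
theorem cp_of_cm (hA : A ∈ OmB Ω z) (hB : B ∈ OmB Ω z) (hc : IndDefs.Cm A B) :
    zz (A.map (centralizer {z}).subtype) = zz (B.map (centralizer {z}).subtype) ∨
      RG.CP Ω (zz (A.map (centralizer {z}).subtype)) (zz (B.map (centralizer {z}).subtype)) := by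
  by_cases hne : zz (A.map (centralizer {z}).subtype) = zz (B.map (centralizer {z}).subtype)
  · exact Or.inl hne
  right
  refine β.wr0.CP_of_cen (z := zz (A.map (centralizer {z}).subtype)) ⟨hA.1, rfl⟩ ?_ hne
  rintro _ ⟨a, ha, rfl⟩
  obtain ⟨b, hb, hbz⟩ := β.wr0.zm hB.1
  rw [← hbz]
  exact congrArg Subtype.val (hc a ha b hb).symm

/-- `ONE` for the members -/
theorem oneB : ∀ A ∈ OmB Ω z, ∀ B ∈ OmB Ω z, IndDefs.Cm A B → ∀ M ∈ OmB Ω z, ∀ x ∈ M,
    zz A * zz B * x = x * (zz A * zz B) := by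
  intro A hA B hB hc M hM x hx
  have e1 := zzB β.t0.hyp hA
  have e2 := zzB β.t0.hyp hB
  apply Subtype.ext
  rw [Subgroup.coe_mul, Subgroup.coe_mul, Subgroup.coe_mul, Subgroup.coe_mul, e1, e2]
  rcases β.cp_of_cm hA hB hc with h1 | h1
  · rw [h1, β.wr0.zs hB.1, one_mul, mul_one]
  · have hu : zz (A.map (centralizer {z}).subtype) ∈ BB (ZZ Ω) (RR Ω) z := β.mem_BB.2 ⟨⟨_, hA.1, rfl⟩, hA.2⟩
    have hv : zz (B.map (centralizer {z}).subtype) ∈ BB (ZZ Ω) (RR Ω) z := β.mem_BB.2 ⟨⟨_, hB.1, rfl⟩, hB.2⟩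
    have hm : zz (M.map (centralizer {z}).subtype) ∈ BB (ZZ Ω) (RR Ω) z := β.mem_BB.2 ⟨⟨_, hM.1, rfl⟩, hM.2⟩
    exact β.ao.one z β.hz _ hu.1 hu.2 _ (cl_refl _ _) _ (β.cls_BB hu hv) ((cp_iff_wr β.wr0).2 h1).2 _
      (β.cls_BB hu hm) _ (WR.le_RR ⟨hM.1, rfl⟩ ⟨x, hx, rfl⟩)

/-- the block as a `BQ` -/
theorem bq : BQ (OmB Ω z) where
  w := β.wr
  hyp := β.t0B.hyp
  nn A hA := β.not_nil hA
  one := β.oneB

/-- the image family has `Hyp` -/
theorem hyp_img (hs : Function.Surjective f) (hf : f.ker = NC (OmB Ω z)) : Hyp (img f (OmB Ω z)) :=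
  β.bq.hyp_img hs hf

/-- commuting members of the image have the same involution -/
theorem mone (hf : f.ker = NC (OmB Ω z)) : ∀ P ∈ img f (OmB Ω z), ∀ Q ∈ img f (OmB Ω z),
    (∀ k ∈ P, ∀ l ∈ Q, k * l = l * k) → zz P = zz Q := by
  rintro _ ⟨A, hA, rfl⟩ _ ⟨B, hB, rfl⟩ hc
  exact β.bq.mone hf hA hB hc

theorem card_img (hf : f.ker = NC (OmB Ω z)) : ∀ P ∈ img f (OmB Ω z), Nat.card P = 8 := by
  rintro _ ⟨A, hA, rfl⟩
  exact β.bq.card_img hf hA

/-- the C-pairs of the block are C-pairs of `G` -/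
theorem cp_of_cpB (hA : A ∈ OmB Ω z) (hB : B ∈ OmB Ω z) (hc : RG.CP (OmB Ω z) (zz A) (zz B)) :
    RG.CP Ω (zz (A.map (centralizer {z}).subtype)) (zz (B.map (centralizer {z}).subtype)) := by
  refine (β.cp_of_cm hA hB (hc.2 A ⟨hA, rfl⟩ B ⟨hB, rfl⟩)).resolve_left fun h => hc.1 (Subtype.ext ?_)
  rw [zzB β.t0.hyp hA, zzB β.t0.hyp hB, h]

theorem cpB_of_cp (hA : A ∈ OmB Ω z) (hB : B ∈ OmB Ω z)
    (hc : RG.CP Ω (zz (A.map (centralizer {z}).subtype)) (zz (B.map (centralizer {z}).subtype))) :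
    RG.CP (OmB Ω z) (zz A) (zz B) := by
  refine ⟨fun h => hc.1 ?_, fun A' hA' B' hB' a ha b hb => ?_⟩
  · rw [← zzB β.t0.hyp hA, ← zzB β.t0.hyp hB, h]
  · apply Subtype.ext
    refine hc.2 (A'.map (centralizer {z}).subtype) ⟨hA'.1.1, ?_⟩ (B'.map (centralizer {z}).subtype) ⟨hB'.1.1, ?_⟩ _
      ⟨a, ha, rfl⟩ _ ⟨b, hb, rfl⟩
    · rw [← zzB β.t0.hyp hA, ← hA'.2, zzB β.t0.hyp hA'.1]
    · rw [← zzB β.t0.hyp hB, ← hB'.2, zzB β.t0.hyp hB'.1]

/-- **the members over `f (zz A)`** -/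
theorem fibre_ncard (hf : f.ker = NC (OmB Ω z)) (hA : A ∈ OmB Ω z) :
    {M | M ∈ img f (OmB Ω z) ∧ zz M = zz (A.map f)}.ncard =
      {L | L ∈ Ω ∧ RG.CP Ω z (zz L) ∧ (zz (A.map (centralizer {z}).subtype) = zz L ∨
        RG.CP Ω (zz (A.map (centralizer {z}).subtype)) (zz L))}.ncard := by
  rw [β.bq.zz_map hf hA, β.bq.fibre_ncard hf hA]
  rw [← Set.ncard_image_of_injective _ (map_injective (centralizer ({z} : Set G)).subtype_injective)]
  congr 1
  ext L
  constructor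
  · rintro ⟨B, ⟨hB, h1⟩, rfl⟩
    refine ⟨hB.1, hB.2, ?_⟩
    rcases h1 with h1 | h1
    · left
      rw [← zzB β.t0.hyp hA, ← zzB β.t0.hyp hB, h1]
    · exact Or.inr (β.cp_of_cpB hA hB h1)
  · rintro ⟨h1, h2, h3⟩
    have h4 := map_subgroupOf_eq_of_le (le_of_cp β.wr0 β.hz h1 h2)
    have h5 := mem_OmB β.wr0 β.hz h1 h2
    refine ⟨L.subgroupOf (centralizer {z}), ⟨h5, ?_⟩, h4⟩
    rcases h3 with h3 | h3
    · left
      apply Subtype.ext
      rw [zzB β.t0.hyp hA, zzB β.t0.hyp h5, h4, h3]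
    · exact Or.inr (β.cpB_of_cp hA h5 (by rw [h4]; exact h3))

/-! ### one class, (C3) -/

/-- an element of `G` moving a member of the block to a member of the block can be chosen in `C(z)` -/
theorem exists_corr (no : ∀ v ∈ ZZ Ω, ∀ x ∈ BB (ZZ Ω) (RR Ω) v, ∀ y ∈ BB (ZZ Ω) (RR Ω) v, ¬ CP (RR Ω) x y)
    (hK : K ∈ Ω) (hKz : RG.CP Ω z (zz K)) (hL : L ∈ Ω) (hLz : RG.CP Ω z (zz L)) (hg : cj g K = L) :
    ∃ h : G, (∀ l ∈ L, h * l = l * h) ∧ h * g ∈ centralizer ({z} : Set G) := by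
  have hw := β.gw
  have hv : zz L ∈ ZZ Ω := ⟨L, hL, rfl⟩
  have hzv : z ∈ BB (ZZ Ω) (RR Ω) (zz L) := ⟨β.hz, (cp_iff_wr β.wr0).2 hLz.symm⟩
  have hgz : g * z * g⁻¹ ∈ BB (ZZ Ω) (RR Ω) (zz L) := by
    refine ⟨hw.conjZ z β.hz g, (cp_iff_wr β.wr0).2 ?_⟩
    have h1 := β.wr0.CP_cj hKz.symm g
    rwa [← β.wr0.zcj hK, hg] at h1
  obtain ⟨h, h1, h2⟩ := move hw (no _ hv) hv hgz hzv
  refine ⟨h, fun l hl => h1 l (WR.le_RR ⟨hL, rfl⟩ hl), ?_⟩
  rw [mem_centralizer_singleton_iff]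
  have h3 : h * g * z * (h * g)⁻¹ = z := by
    calc h * g * z * (h * g)⁻¹ = h * (g * z * g⁻¹) * h⁻¹ := by group
      _ = z := h2
  rwa [mul_inv_eq_iff_eq_mul] at h3

/-- **one class** -/
theorem cls_eq (no : ∀ v ∈ ZZ Ω, ∀ x ∈ BB (ZZ Ω) (RR Ω) v, ∀ y ∈ BB (ZZ Ω) (RR Ω) v, ¬ CP (RR Ω) x y)
    (h1 : ∀ K ∈ Ω, ∀ L ∈ Ω, ∃ g, cj g K = L) (hA : A ∈ OmB Ω z) : cls A = OmB Ω z := by
  ext B
  constructor
  · rintro ⟨g, rfl⟩
    exact β.conj hA g
  · intro hB
    obtain ⟨g, hg⟩ := h1 _ hA.1 _ hB.1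
    obtain ⟨h, h2, h3⟩ := β.exists_corr no hA.1 hA.2 hB.1 hB.2 hg
    refine ⟨⟨h * g, h3⟩, ?_⟩
    apply map_injective (centralizer ({z} : Set G)).subtype_injective
    rw [cj_map]
    show _ = cj (h * g) _
    rw [cj_mul, hg]
    symm
    ext x
    rw [mem_cj]
    constructor
    · intro hx
      have h4 := h2 _ hx
      have h5 : x = h⁻¹ * x * h := by
        calc x = h * (h⁻¹ * x * h) * h⁻¹ := by group
          _ = (h⁻¹ * x * h) * h * h⁻¹ := by rw [h4]
          _ = h⁻¹ * x * h := by group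
      rw [h5]; exact hx
    · intro hx
      have h4 := h2 _ hx
      have h5 : h⁻¹ * x * h = x := by
        rw [mul_assoc, ← h4, inv_mul_cancel_left]
      rw [h5]; exact hx

/-- **(C3) in `C(z)`** -/
theorem c3 (no : ∀ v ∈ ZZ Ω, ∀ x ∈ BB (ZZ Ω) (RR Ω) v, ∀ y ∈ BB (ZZ Ω) (RR Ω) v, ¬ CP (RR Ω) x y)
    (hA : A ∈ OmB Ω z) (h3 : Nil.C3 (A.map (centralizer {z}).subtype)) : Nil.C3 A := by
  haveI : Fact (Nat.Prime 3) := ⟨Nat.prime_three⟩
  obtain ⟨Q, hQ, hQ8, c, hcK, -, hc3, q, hq, hcq⟩ := h3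
  have hcj := mem_normalizer_iff_cj.1 hcK
  obtain ⟨h, h2, hz⟩ := β.exists_corr no hA.1 hA.2 hA.1 hA.2 hcj
  obtain ⟨n, hn1, hn2⟩ := c3_pow (K := A.map (centralizer {z}).subtype) hcj hc3 h2
  refine ⟨A, ⟨le_rfl, IsPGroup.of_card (n := 3) (by rw [β.t0B.card A hA]; norm_num), by rw [relIndex_self]; norm_num⟩,
    β.t0B.card A hA, ⟨h * c, hz⟩ ^ n, ?_, ?_, ?_, ?_⟩
  · exact c3_norm hcj hn2
  · exact c3_norm hcj hn2
  · have h4 : zpowers ((⟨h * c, hz⟩ : ↥(centralizer ({z} : Set G))) ^ n) =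
        (zpowers ((h * c) ^ n)).subgroupOf (centralizer {z}) := by
      apply map_injective (centralizer ({z} : Set G)).subtype_injective
      rw [MonoidHom.map_zpowers, map_subgroupOf_eq_of_le]
      · rfl
      · rw [zpowers_le]
        exact pow_mem hz n
    rw [h4]
    exact hn1.comap_of_injective _ (centralizer {z}).subtype_injective
  · obtain ⟨q', hq', rfl⟩ := hQ.1 hq
    refine ⟨q', hq', fun h5 => hcq ?_⟩
    have h6 := congrArg Subtype.val h5
    rw [Subgroup.coe_mul, Subgroup.coe_mul] at h6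
    have h7 : (h * c) ^ n * (centralizer {z}).subtype q' * ((h * c) ^ n)⁻¹ = (centralizer {z}).subtype q' := by
      rw [mul_inv_eq_iff_eq_mul]
      exact h6
    rw [hn2 _ ⟨q', hq', rfl⟩] at h7
    exact mul_inv_eq_iff_eq_mul.1 h7

/-- (C3) of the image -/
theorem c3_img (hf : f.ker = NC (OmB Ω z))
    (no : ∀ v ∈ ZZ Ω, ∀ x ∈ BB (ZZ Ω) (RR Ω) v, ∀ y ∈ BB (ZZ Ω) (RR Ω) v, ¬ CP (RR Ω) x y)
    (hA : A ∈ OmB Ω z) (h3 : Nil.C3 (A.map (centralizer {z}).subtype)) : Nil.C3 (A.map f) :=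
  c3_map (β.bq.ker_inf hf hA) (β.t0B.card A hA) (β.c3 no hA h3)

/-- one class of the image -/
theorem oneCls_img (hs : Function.Surjective f)
    (no : ∀ v ∈ ZZ Ω, ∀ x ∈ BB (ZZ Ω) (RR Ω) v, ∀ y ∈ BB (ZZ Ω) (RR Ω) v, ¬ CP (RR Ω) x y)
    (h1 : ∀ K ∈ Ω, ∀ L ∈ Ω, ∃ g, cj g K = L) (hA : A ∈ OmB Ω z) : cls (A.map f) = img f (OmB Ω z) := by
  ext P
  constructor
  · rintro ⟨g, rfl⟩
    obtain ⟨g, rfl⟩ := hs g
    exact ⟨cj g A, β.conj hA g, cj_map f g A⟩
  · rintro ⟨B, hB, rfl⟩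
    rw [← β.cls_eq no h1 hA] at hB
    obtain ⟨g, rfl⟩ := hB
    exact ⟨f g, cj_map f g A⟩

/-- **the world `W2` of `C(z)`** -/
theorem w2B (no : ∀ x ∈ BB (ZZ Ω) (RR Ω) z, ∀ y ∈ BB (ZZ Ω) (RR Ω) z, ¬ CP (RR Ω) x y)
    (h2 : ∀ u ∈ ZZ Ω, (Ov Ω u).ncard = 2) : RTwo.W2 (OmB Ω z) where
  hyp := β.t0B.hyp
  card := β.t0B.card
  two := by
    intro A hA
    obtain ⟨u, hu⟩ : ∃ u, u = zz (A.map (centralizer {z}).subtype) := ⟨_, rfl⟩
    have huZ : u ∈ ZZ Ω := ⟨_, hA.1, hu.symm⟩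
    obtain ⟨K, L, hKL, e⟩ := Set.ncard_eq_two.1 (h2 u huZ)
    have hex : ∃ L ∈ Ov Ω u, L ≠ A.map (centralizer {z}).subtype ∧
        ∀ M ∈ Ov Ω u, M = A.map (centralizer {z}).subtype ∨ M = L := by
      have h3 : A.map (centralizer {z}).subtype ∈ Ov Ω u := ⟨hA.1, hu.symm⟩
      rw [e] at h3 ⊢
      rcases h3 with h3 | h3
      · exact ⟨L, Or.inr rfl, by rw [h3]; exact hKL.symm, fun M hM => by rw [h3]; exact hM⟩
      · exact ⟨K, Or.inl rfl, by rw [h3]; exact hKL, fun M hM => by rw [h3]; exact hM.symm⟩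
    obtain ⟨L, hL, hne, hall⟩ := hex
    have hLz : RG.CP Ω z (zz L) := by rw [hL.2, hu]; exact hA.2
    have h4 := map_subgroupOf_eq_of_le (le_of_cp β.wr0 β.hz hL.1 hLz)
    have h5 := mem_OmB β.wr0 β.hz hL.1 hLz
    refine ⟨_, h5, fun h6 => hne (by rw [← h6, h4]), ?_, ?_⟩
    · apply Subtype.ext
      rw [zzB β.t0.hyp h5, zzB β.t0.hyp hA, h4, hL.2, hu]
    · intro M hM hMz
      have h6 : M.map (centralizer {z}).subtype ∈ Ov Ω u := by
        refine ⟨hM.1, ?_⟩
        rw [← zzB β.t0.hyp hM, hMz, zzB β.t0.hyp hA, hu]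
      rcases hall _ h6 with h7 | h7
      · left
        exact map_injective (centralizer ({z} : Set G)).subtype_injective h7
      · right
        apply map_injective (centralizer ({z} : Set G)).subtype_injective
        rw [h7, h4]
  one := by
    intro A hA B hB hc
    apply Subtype.ext
    rw [zzB β.t0.hyp hA, zzB β.t0.hyp hB]
    refine (β.cp_of_cm hA hB hc).resolve_right fun h => ?_
    exact no _ (β.mem_BB.2 ⟨⟨_, hA.1, rfl⟩, hA.2⟩) _ (β.mem_BB.2 ⟨⟨_, hB.1, rfl⟩, hB.2⟩) ((cp_iff_wr β.wr0).2 h)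

end BlkC

end Cfsg.Agent.Cit.Nil.CompR
end

private theorem dce_edd402365f8f : _root_.True := by
  try have : _root_.True := by simp only [_root_.Cfsg.Agent.Cit.Nil.CompR.NC.eq_1]
  exact _root_.True.intro
end

-- part: Cit/Nil/CompR/MTwoZero
section
set_option linter.all false
open scoped Cfsg.Agent.FastGrp

/-!
# S1309 (n6), COMP, `r = 2`, (M2): the step (0) of helper386's proof (bb R18 #20410)

`No3 Z K` : no 3-cliques of C-partners.

* `GW.e_notMem` : the product of a C-pair is not a point;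
* `GW.e_mul` : if `u v` (`u`, `v` a C-pair) centralises `R_x` then `x u v` is a point.
-/

set_option autoImplicit false
set_option linter.style.haveILetI false
set_option linter.unusedSectionVars false

namespace Cfsg.Agent.Cit.Nil.CompR

open Subgroup Cfsg Cfsg.Agent.Cit Cfsg.Agent.Cit.Nil.AN
open Cfsg.Agent.Cit.Nil.ROne (CP CS TT OneCls)
open Cfsg.Agent.OddOrderLocal.NilParts Cfsg.Agent.StdEven.Syl

variable {G : Type*} [Group G] {Z : Set G} {K : G → Subgroup G} {z u v x y g s a b c t e : G}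

/-- no 3-clique -/
def No3 (Z : Set G) (K : G → Subgroup G) : Prop :=
  ∀ z ∈ Z, ∀ a ∈ Z, ∀ b ∈ Z, CP K z a → CP K z b → ¬ CP K a b

namespace GW

variable (h : GW Z K) (n3 : No3 Z K)

include h n3

/-- **(0)**, first part -/
theorem e_notMem (hu : u ∈ Z) (hv : v ∈ Z) (hc : CP K u v) : u * v ∉ Z := by
  intro he
  have huv := h.comm_of_cp hu hv hc
  have h1 : CP K u (u * v) := by
    refine h.csymm hu he (fun e => h.ne v hv (mul_eq_left.1 e.symm)) ?_
    exact Ce.mul (fun k hk => (h.cent hu hk).symm) (h.cen_of_cp hv hc)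
  have h2 : CP K v (u * v) := by
    refine h.csymm hv he (fun e => h.ne u hu (mul_eq_right.1 e.symm)) ?_
    exact Ce.mul (h.cen_of_cp hu hc.symm) (fun k hk => (h.cent hv hk).symm)
  exact n3 u hu v hv (u * v) he hc h1 h2

omit n3 in
/-- `S` acts on `C_S` -/
theorem conj_CS {S : Subgroup G} (hs : s ∈ S) (hz : z ∈ CS Z K S) : s * z * s⁻¹ ∈ CS Z K S := by
  refine ⟨h.conjZ z hz.1 s, ?_⟩
  rw [h.conjK z hz.1]
  rintro _ ⟨k, hk, rfl⟩
  exact mul_mem (mul_mem hs (hz.2 hk)) (inv_mem hs)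

theorem cs_pair {S : Subgroup G} (hS : IsPGroup 2 S) (hu : u ∈ CS Z K S) (hv : v ∈ CS Z K S) (hc : CP K u v)
    (hx : x ∈ CS Z K S) : x = u ∨ x = v := by
  by_contra hn
  push Not at hn
  exact n3 u hu.1 v hv.1 x hx.1 hc (h.com S hS hu.1 hx.1 hu.2 hx.2 hn.1.symm)
    (h.com S hS hv.1 hx.1 hv.2 hx.2 hn.2.symm)

/-- **(0)**, second part -/
theorem e_mul [Finite G] (hu : u ∈ Z) (hv : v ∈ Z) (hc : CP K u v) (hx : x ∈ Om Z K (u * v)) : x * (u * v) ∈ Z := by
  haveI : Fact (Nat.Prime 2) := ⟨Nat.prime_two⟩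
  obtain ⟨S, hSu, hSv⟩ := h.exists_sylow_of_cp hu hv hc
  have huv := h.comm_of_cp hu hv hc
  have hle : (S : Subgroup G) ≤ centralizer {u * v} := by
    intro s hs
    rw [mem_centralizer_singleton_iff]
    have key : s * (u * v) * s⁻¹ = u * v := by
      have e1 : s * (u * v) * s⁻¹ = (s * u * s⁻¹) * (s * v * s⁻¹) := by group
      rw [e1]
      rcases h.cs_pair n3 S.isPGroup' hSu hSv hc (h.conj_CS hs hSu) with h1 | h1 <;>
        rcases h.cs_pair n3 S.isPGroup' hSu hSv hc (h.conj_CS hs hSv) with h2 | h2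
      · exact absurd (mul_left_cancel (mul_right_cancel (h1.trans h2.symm))) hc.1
      · rw [h1, h2]
      · rw [h1, h2, huv]
      · exact absurd (mul_left_cancel (mul_right_cancel (h1.trans h2.symm))) hc.1
    exact mul_inv_eq_iff_eq_mul.1 key
  have hxle : K x ≤ centralizer {u * v} := fun k hk => mem_centralizer_singleton_iff.2 (hx.2 k hk).symm
  have h1 := isSyl_top_of_sylow S
  have h2 : IsSyl (S : Subgroup G) (centralizer {u * v}) := ⟨hle, h1.two, fun X hX _ hSX => h1.max X hX le_top hSX⟩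
  obtain ⟨m, hm, hmx⟩ := h2.exists_conj (h.two hx.1) hxle
  have hm' : m * (u * v) = u * v * m := mem_centralizer_singleton_iff.1 hm
  have h3 : m * x * m⁻¹ ∈ CS Z K (S : Subgroup G) := by
    refine ⟨h.conjZ x hx.1 m, ?_⟩
    rw [h.conjK x hx.1]
    rintro _ ⟨k, hk, rfl⟩
    exact hmx k hk
  have h4 : m * (x * (u * v)) * m⁻¹ = (m * x * m⁻¹) * (u * v) := by
    calc m * (x * (u * v)) * m⁻¹ = (m * x * m⁻¹) * (m * (u * v)) * m⁻¹ := by group
      _ = (m * x * m⁻¹) * (u * v * m) * m⁻¹ := by rw [hm']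
      _ = _ := by group
  have h5 : m * (x * (u * v)) * m⁻¹ ∈ Z := by
    rw [h4]
    rcases h.cs_pair n3 S.isPGroup' hSu hSv hc h3 with h6 | h6
    · rw [h6, ← mul_assoc, h.sq u hu, one_mul]; exact hv
    · rw [h6, huv, ← mul_assoc, h.sq v hv, one_mul]; exact hu
  have h6 := h.conjZ _ h5 m⁻¹
  have h7 : m⁻¹ * (m * (x * (u * v)) * m⁻¹) * m⁻¹⁻¹ = x * (u * v) := by group
  rwa [h7] at h6

end GW

end Cfsg.Agent.Cit.Nil.CompR
end

-- part: Cit/Nil/CompR/QuoM
section
prune_inst 0x3000410044220000001800002000002000000002000000002040000009080040a004000100200310000008c0600000600080000000100000000000004000000000010002803c0c00300000008000000000000000000000000000000000000000000000000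
set_option linter.all false
open scoped Cfsg.Agent.FastGrp

/-!
# S1309 (n6), `AllOne`, 3-cliques: the block worlds `C(z)/C(X_z)` (helper386)

* `Tri Z K` : every C-pair `(z,u)` lies in the 3-clique `{z, u, z u}`; `tri_of` : it holds if there is one 3-clique;
* `move3` : `⟨R_x : x ∈ B(v)⟩` is transitive on the pairs `{x, v x}`, `x ∈ B(v)`;
* **`BlkC.w4`** : the images of the members form a world `W4`, if there are two members over each point;
* **`BlkC.c3_tri`**, `BlkC.c3_tri_img` : (C3).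
-/

set_option autoImplicit false
set_option linter.style.haveILetI false
set_option linter.unusedSectionVars false

namespace Cfsg.Agent.Cit.Nil.CompR

open Subgroup Cfsg Cfsg.Agent.Cit
open Cfsg.Agent.Cit.Nil.ROne (CP CS)
open Cfsg.Agent.Cit.Nil.AN (Cm Ce Om Cl OneC St cl_sub cl_symm cl_refl cl_eq cl_step cl_trans)
open RG (WR ZZ Ov RR)
open IndDefs (comp T0 NIL mem_comp_self comp_symm comp_trans mem_comp_of)
open RTwoM.Quo (QM QT)
open Cfsg.Agent.OddOrderLocal.NilParts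

section tri

variable {G : Type*} [Group G] [Finite G] {Z : Set G} {K : G → Subgroup G} {z u v x y g h a b c : G}

/-- every C-pair lies in a 3-clique -/
def Tri (Z : Set G) (K : G → Subgroup G) : Prop :=
  ∀ z ∈ Z, ∀ u ∈ Z, CP K z u → z * u ∈ Z ∧ CP K z (z * u) ∧ CP K u (z * u)

theorem eq_mul_of (hw : GW Z K) (hz : z ∈ Z) (hu : u ∈ Z) (hc : CP K z u) (e : z * u * b = 1) : b = z * u := by
  have h1 := hw.comm_of_cp hz hu hc
  have h2 : b = (z * u)⁻¹ := eq_inv_of_mul_eq_one_right e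
  rw [h2, mul_inv_rev, hw.inv hz, hw.inv hu, h1]

/-- one 3-clique suffices -/
theorem tri_of (hw : GW Z K) (ao : AllOne Z K) (hn : ¬ No3 Z K) : Tri Z K := by
  classical
  unfold No3 at hn
  push Not at hn
  obtain ⟨z₀, hz₀, a₀, ha₀, b₀, hb₀, c1, c2, c3⟩ := hn
  obtain ⟨S₀, hS₀⟩ := (hw.isPGroup_clique {z₀, a₀, b₀} (by
    intro x hx
    simp only [Finset.mem_insert, Finset.mem_singleton] at hx
    rcases hx with rfl | rfl | rfl <;> assumption) (by
    intro x hx y hy hne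
    simp only [Finset.mem_insert, Finset.mem_singleton] at hx hy
    rcases hx with rfl | rfl | rfl <;> rcases hy with rfl | rfl | rfl
    · exact absurd rfl hne
    · exact c1
    · exact c2
    · exact c1.symm
    · exact absurd rfl hne
    · exact c3
    · exact c2.symm
    · exact c3.symm
    · exact absurd rfl hne)).exists_le_sylow
  have hS : ∀ x ∈ ({z₀, a₀, b₀} : Finset G), K x ≤ (S₀ : Subgroup G) := fun x hx =>
    (le_iSup₂ (f := fun x (_ : x ∈ ({z₀, a₀, b₀} : Finset G)) => K x) x hx).trans hS₀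
  have h3 : 3 ≤ (CS Z K (S₀ : Subgroup G)).ncard := by
    have h4 : (({z₀, a₀, b₀} : Finset G) : Set G) ⊆ CS Z K (S₀ : Subgroup G) := by
      intro x hx
      refine ⟨?_, hS x hx⟩
      simp only [Finset.coe_insert, Finset.coe_singleton, Set.mem_insert_iff, Set.mem_singleton_iff] at hx
      rcases hx with rfl | rfl | rfl <;> assumption
    have h5 := Set.ncard_le_ncard h4 (Set.toFinite _)
    rwa [Set.ncard_coe_finset, Finset.card_eq_three.2 ⟨z₀, a₀, b₀, c1.1, c2.1, c3.1, rfl⟩] at h5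
  intro z hz u hu hc
  obtain ⟨S, hSz, hSu⟩ := hw.exists_sylow_of_cp hz hu hc
  obtain ⟨g, hg⟩ := MulAction.exists_smul_eq G S₀ S
  have hgS : (S : Subgroup G) = cj g S₀ := by
    rw [← hg]
    rfl
  have h6 : 3 ≤ (CS Z K (S : Subgroup G)).ncard := by
    rw [hgS, hw.ncard_CS_cj g S₀]
    exact h3
  obtain ⟨b, hb, hbz, hbu⟩ : ∃ b ∈ CS Z K (S : Subgroup G), b ≠ z ∧ b ≠ u := by
    by_contra hcon
    push Not at hcon
    have h7 : CS Z K (S : Subgroup G) ⊆ {z, u} := by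
      intro b hb
      by_cases hbz : b = z
      · exact Or.inl hbz
      · exact Or.inr (hcon b hb hbz)
    have h8 := Set.ncard_le_ncard h7 (Set.toFinite _)
    have h9 := Set.ncard_insert_le z {u}
    rw [Set.ncard_singleton] at h9
    omega
  have k1 : CP K z b := hw.com S S.isPGroup' hz hb.1 hSz.2 hb.2 hbz.symm
  have k2 : CP K u b := hw.com S S.isPGroup' hu hb.1 hSu.2 hb.2 hbu.symm
  have k3 : b = z * u := eq_mul_of hw hz hu hc (ao.three z hz u hu b hb.1 hc k1 k2)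
  rw [← k3]
  exact ⟨hb.1, k1, k2⟩

/-- a step -/
theorem move3 (hw : GW Z K) (ao : AllOne Z K) (hv : v ∈ Z)
    (hx : x ∈ BB Z K v) (hy : y ∈ BB Z K v) : ∃ h : G, Ce h (K v) ∧ (h * x * h⁻¹ = y ∨ h * x * h⁻¹ = v * y) := by
  haveI : Fact (Nat.Prime 2) := ⟨Nat.prime_two⟩
  obtain ⟨D, hD⟩ : ∃ D : Subgroup G, D = K x ⊔ K y := ⟨_, rfl⟩
  have hxD : K x ≤ D := by rw [hD]; exact le_sup_left
  have hyD : K y ≤ D := by rw [hD]; exact le_sup_right
  have hDc : ∀ d ∈ D, Ce d (K v) := by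
    have h1 : D ≤ centralizer (K v : Set G) := by
      rw [hD]
      refine sup_le ?_ ?_
      · intro k hk
        rw [mem_centralizer_iff]
        exact fun l hl => hx.2.2 l hl k hk
      · intro k hk
        rw [mem_centralizer_iff]
        exact fun l hl => hy.2.2 l hl k hk
    intro d hd k hk
    exact (mem_centralizer_iff.1 (h1 hd) k hk).symm
  obtain ⟨P, hP⟩ := (((hw.two hx.1).comap_of_injective D.subtype D.subtype_injective :
    IsPGroup 2 ((K x).subgroupOf D))).exists_le_sylow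
  obtain ⟨Q, hQ⟩ := (((hw.two hy.1).comap_of_injective D.subtype D.subtype_injective :
    IsPGroup 2 ((K y).subgroupOf D))).exists_le_sylow
  obtain ⟨g, hg⟩ := MulAction.exists_smul_eq D P Q
  have hgS : (Q : Subgroup D) = cj g (P : Subgroup D) := by
    rw [← hg]
    rfl
  have h1 : cj (g : G) (K x) ≤ (Q : Subgroup D).map D.subtype := by
    have h2 : cj (g : G) (K x) = (cj g ((K x).subgroupOf D)).map D.subtype := by
      rw [cj_map, map_subgroupOf_eq_of_le hxD]
      rfl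
    rw [h2, hgS]
    exact Subgroup.map_mono (cj_mono g hP)
  have h2 : K y ≤ (Q : Subgroup D).map D.subtype := by
    rw [← map_subgroupOf_eq_of_le hyD]
    exact Subgroup.map_mono hQ
  have h3 : IsPGroup 2 ((Q : Subgroup D).map D.subtype) := Q.isPGroup'.map _
  refine ⟨g, hDc _ g.2, ?_⟩
  by_cases hne : (g : G) * x * (g : G)⁻¹ = y
  · exact Or.inl hne
  right
  have hgx : (g : G) * x * (g : G)⁻¹ ∈ Z := hw.conjZ x hx.1 g
  have h4 : CP K ((g : G) * x * (g : G)⁻¹) y := hw.com _ h3 hgx hy.1 (by rw [hw.conjK x hx.1]; exact h1) h2 hne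
  have h7 : CP K v ((g : G) * x * (g : G)⁻¹) := by
    rw [cp_iff hw hv]
    have h5 : (g : G) * v * (g : G)⁻¹ = v := by rw [hDc _ g.2 v (hw.mem v hv), mul_inv_cancel_right]
    have h6 := cm_conj hw hv hx.1 (g : G) hx.2.2
    rwa [h5] at h6
  have h8 := ao.three v hv y hy.1 _ hgx hy.2 h7 h4.symm
  exact eq_mul_of hw hv hy.1 hy.2 h8

end tri

/-- (C3) in `C(z)` from a correction -/
theorem c3_sub {G : Type*} [Group G] [Finite G] {z : G} {A : Subgroup ↥(centralizer ({z} : Set G))} (h8 : Nat.card A = 8)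
    {c h q : G} (hcj : cj c (A.map (centralizer {z}).subtype) = A.map (centralizer {z}).subtype)
    (hc3 : IsPGroup 3 (zpowers c)) (h2 : ∀ l ∈ A.map (centralizer {z}).subtype, h * l = l * h)
    (hz : h * c ∈ centralizer ({z} : Set G)) (hq : q ∈ A.map (centralizer {z}).subtype) (hcq : c * q ≠ q * c) :
    Nil.C3 A := by
  haveI : Fact (Nat.Prime 3) := ⟨Nat.prime_three⟩
  obtain ⟨n, hn1, hn2⟩ := c3_pow (K := A.map (centralizer {z}).subtype) hcj hc3 h2
  refine ⟨A, ⟨le_rfl, IsPGroup.of_card (n := 3) (by rw [h8]; norm_num), by rw [relIndex_self]; norm_num⟩,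
    h8, ⟨h * c, hz⟩ ^ n, ?_, ?_, ?_, ?_⟩
  · exact c3_norm hcj hn2
  · exact c3_norm hcj hn2
  · have h4 : zpowers ((⟨h * c, hz⟩ : ↥(centralizer ({z} : Set G))) ^ n) =
        (zpowers ((h * c) ^ n)).subgroupOf (centralizer {z}) := by
      apply map_injective (centralizer ({z} : Set G)).subtype_injective
      rw [MonoidHom.map_zpowers, map_subgroupOf_eq_of_le]
      · rfl
      · rw [zpowers_le]
        exact pow_mem hz n
    rw [h4]
    exact hn1.comap_of_injective _ (centralizer {z}).subtype_injective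
  · obtain ⟨q', hq', rfl⟩ := hq
    refine ⟨q', hq', fun h5 => hcq ?_⟩
    have h6 := congrArg Subtype.val h5
    rw [Subgroup.coe_mul, Subgroup.coe_mul] at h6
    have h7 : (h * c) ^ n * (centralizer {z}).subtype q' * ((h * c) ^ n)⁻¹ = (centralizer {z}).subtype q' := by
      rw [mul_inv_eq_iff_eq_mul]
      exact h6
    rw [hn2 _ ⟨q', hq', rfl⟩] at h7
    exact mul_inv_eq_iff_eq_mul.1 h7

namespace BlkC

variable {G : Type*} [Group G] [Finite G] {Ω : Set (Subgroup G)} {K L M : Subgroup G} {z u v x y g s a b c : G}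
  {A B : Subgroup ↥(centralizer ({z} : Set G))} {H : Type*} [Group H] {f : ↥(centralizer ({z} : Set G)) →* H}

variable (β : BlkC Ω z)

include β

/-- **the world `W4`** -/
theorem w4 (hs : Function.Surjective f) (hf : f.ker = NC (OmB Ω z)) (tri : Tri (ZZ Ω) (RR Ω))
    (h2 : ∀ u ∈ ZZ Ω, (Ov Ω u).ncard = 2) : RFour.W4 (img f (OmB Ω z)) where
  hyp := β.hyp_img hs hf
  card := β.card_img hf
  one := β.mone hf
  four := by
    rintro _ ⟨A, hA, rfl⟩
    obtain ⟨u, hu⟩ : ∃ u, u = zz (A.map (centralizer {z}).subtype) := ⟨_, rfl⟩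
    rw [β.fibre_ncard hf hA, ← hu]
    have huB : u ∈ BB (ZZ Ω) (RR Ω) z := by rw [hu]; exact β.mem_BB.2 ⟨⟨_, hA.1, rfl⟩, hA.2⟩
    obtain ⟨t1, t2, t3⟩ := tri z β.hz u huB.1 huB.2
    have hne : u ≠ z * u := fun h => β.gw.ne z β.hz (by
      have h4 : 1 * u = z * u := by rw [one_mul]; exact h
      exact (mul_right_cancel h4).symm)
    have e : {L | L ∈ Ω ∧ RG.CP Ω z (zz L) ∧ (u = zz L ∨ RG.CP Ω u (zz L))} = Ov Ω u ∪ Ov Ω (z * u) := by
      ext L
      constructor
      · rintro ⟨h1, h3, h4 | h4⟩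
        · exact Or.inl ⟨h1, h4.symm⟩
        · right
          refine ⟨h1, ?_⟩
          exact eq_mul_of β.gw β.hz huB.1 huB.2 (β.ao.three z β.hz u huB.1 (zz L) ⟨L, h1, rfl⟩ huB.2
            ((cp_iff_wr β.wr0).2 h3) ((cp_iff_wr β.wr0).2 h4))
      · rintro (⟨h1, h3⟩ | ⟨h1, h3⟩)
        · exact ⟨h1, by rw [h3]; exact (cp_iff_wr β.wr0).1 huB.2, Or.inl h3.symm⟩
        · exact ⟨h1, by rw [h3]; exact (cp_iff_wr β.wr0).1 t2, Or.inr (by rw [h3]; exact (cp_iff_wr β.wr0).1 t3)⟩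
    have hd : Disjoint (Ov Ω u) (Ov Ω (z * u)) := by
      rw [Set.disjoint_left]
      rintro L ⟨-, h1⟩ ⟨-, h3⟩
      exact hne (h1.symm.trans h3)
    rw [e, Set.ncard_union_eq hd (Set.toFinite _) (Set.toFinite _), h2 u huB.1, h2 _ t1]

/-- **(C3) in `C(z)`** -/
theorem c3_tri (hA : A ∈ OmB Ω z) (h3 : Nil.C3 (A.map (centralizer {z}).subtype)) : Nil.C3 A := by
  haveI : Fact (Nat.Prime 3) := ⟨Nat.prime_three⟩
  obtain ⟨Q, hQ, hQ8, c, hcK, -, hc3, q, hq, hcq⟩ := h3
  have hcj := mem_normalizer_iff_cj.1 hcK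
  obtain ⟨L, hL⟩ : ∃ L, L = A.map (centralizer {z}).subtype := ⟨_, rfl⟩
  rw [← hL] at hQ hcK hcj
  have hLO : L ∈ Ω := by rw [hL]; exact hA.1
  have hLz : RG.CP Ω z (zz L) := by rw [hL]; exact hA.2
  have hw := β.gw
  have hv : zz L ∈ ZZ Ω := ⟨L, hLO, rfl⟩
  have hzv : z ∈ BB (ZZ Ω) (RR Ω) (zz L) := ⟨β.hz, (cp_iff_wr β.wr0).2 hLz.symm⟩
  have hcv : c * zz L * c⁻¹ = zz L := by rw [← β.wr0.zcj hLO, hcj]
  have hcz : c * z * c⁻¹ ∈ BB (ZZ Ω) (RR Ω) (zz L) := by
    refine ⟨hw.conjZ z β.hz c, (cp_iff_wr β.wr0).2 ?_⟩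
    have h1 := β.wr0.CP_cj hLz.symm c
    rwa [hcv] at h1
  obtain ⟨h, h1, h2⟩ := move3 hw β.ao hv hcz hzv
  have hh : ∀ l ∈ L, h * l = l * h := fun l hl => h1 l (WR.le_RR ⟨hLO, rfl⟩ hl)
  have h8 := β.t0B.card A hA
  rcases h2 with h2 | h2
  · refine c3_sub (h := h) h8 (by rw [← hL]; exact hcj) hc3 (by rw [← hL]; exact hh) ?_ (by rw [← hL]; exact hQ.1 hq) hcq
    rw [mem_centralizer_singleton_iff]
    have h3 : h * c * z * (h * c)⁻¹ = z := by
      calc h * c * z * (h * c)⁻¹ = h * (c * z * c⁻¹) * h⁻¹ := by group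
        _ = z := h2
    rwa [mul_inv_eq_iff_eq_mul] at h3
  · -- `p = h c` swaps `z` and `v z`
    obtain ⟨p, hp⟩ : ∃ p, p = h * c := ⟨_, rfl⟩
    have hpz : p * z * p⁻¹ = zz L * z := by
      calc p * z * p⁻¹ = h * (c * z * c⁻¹) * h⁻¹ := by rw [hp]; group
        _ = zz L * z := h2
    have hpv : p * zz L * p⁻¹ = zz L := by
      calc p * zz L * p⁻¹ = h * (c * zz L * c⁻¹) * h⁻¹ := by rw [hp]; group
        _ = zz L := by rw [hcv, hh _ (β.wr0.zm hLO), mul_inv_cancel_right]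
    have hpp : p * p * z * (p * p)⁻¹ = z := by
      calc p * p * z * (p * p)⁻¹ = p * (p * z * p⁻¹) * p⁻¹ := by group
        _ = p * (zz L * z) * p⁻¹ := by rw [hpz]
        _ = (p * zz L * p⁻¹) * (p * z * p⁻¹) := by group
        _ = zz L * (zz L * z) := by rw [hpv, hpz]
        _ = z := by rw [← mul_assoc, β.wr0.zs hLO, one_mul]
    have hcc : ∀ l ∈ L, c * l * c⁻¹ ∈ L := fun l hl => by
      have h4 : c * l * c⁻¹ ∈ cj c L := conj_mem_cj hl
      rwa [hcj] at h4
    have hcc' : ∀ l ∈ L, c⁻¹ * l * c ∈ L := fun l hl => by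
      have h4 : l ∈ cj c L := by rw [hcj]; exact hl
      rwa [mem_cj] at h4
    have hpa : ∀ l ∈ L, p * l * p⁻¹ = c * l * c⁻¹ := fun l hl => by
      calc p * l * p⁻¹ = h * (c * l * c⁻¹) * h⁻¹ := by rw [hp]; group
        _ = c * l * c⁻¹ := by rw [hh _ (hcc l hl), mul_inv_cancel_right]
    have hodd : ∃ k : ℕ, (c * c) ^ k = c := by
      obtain ⟨j, hj⟩ := IsPGroup.iff_card.1 hc3
      rw [Nat.card_zpowers] at hj
      obtain ⟨k, hk⟩ : Odd (orderOf c) := by rw [hj]; exact Odd.pow (by decide)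
      refine ⟨k + 1, ?_⟩
      rw [← pow_two, ← pow_mul]
      have h4 : 2 * (k + 1) = (2 * k + 1) + 1 := by ring
      rw [h4, pow_succ, ← hk, pow_orderOf_eq_one, one_mul]
    refine c3_sub (c := c * c) (h := p * p * (c * c)⁻¹) (q := q) h8 ?_ ?_ ?_ ?_ ?_ ?_
    · rw [← hL, cj_mul, hcj, hcj]
    · exact hc3.to_le (zpowers_le.2 (mul_mem (mem_zpowers c) (mem_zpowers c)))
    · rw [← hL]
      intro l hl
      have m1 := hcc' _ (hcc' l hl)
      have m2 := hcc' l hl
      obtain ⟨l', hl'⟩ : ∃ l', l' = c⁻¹ * (c⁻¹ * l * c) * c := ⟨_, rfl⟩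
      rw [← hl'] at m1
      have e1 : p * (p * l' * p⁻¹) * p⁻¹ = l := by
        rw [hpa _ m1]
        have m3 := hcc _ m1
        rw [hpa _ m3, hl']
        group
      calc p * p * (c * c)⁻¹ * l = (p * (p * l' * p⁻¹) * p⁻¹) * (p * p * (c * c)⁻¹) := by rw [hl']; group
        _ = l * (p * p * (c * c)⁻¹) := by rw [e1]
    · rw [inv_mul_cancel_right, mem_centralizer_singleton_iff]
      rwa [mul_inv_eq_iff_eq_mul] at hpp
    · rw [← hL]; exact hQ.1 hq
    · intro h4
      obtain ⟨k, hk⟩ := hodd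
      apply hcq
      have h5 : Commute (c * c) q := h4
      have h6 := h5.pow_left k
      rw [hk] at h6
      exact h6

/-- (C3) of the image -/
theorem c3_tri_img (hf : f.ker = NC (OmB Ω z)) (hA : A ∈ OmB Ω z) (h3 : Nil.C3 (A.map (centralizer {z}).subtype)) :
    Nil.C3 (A.map f) :=
  c3_map (β.bq.ker_inf hf hA) (β.t0B.card A hA) (β.c3_tri hA h3)

end BlkC

end Cfsg.Agent.Cit.Nil.CompR
end

-- part: Cit/Nil/Unbal/Held
section
prune_inst 0x10004100042000000000000000000000200000000000000020000000080000410000000030100300010000a060080020118800090000000000000200400000000001208200340c00300000008800000000000000000000000000000000000000000000000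
set_option linter.all false
open scoped Cfsg.Agent.FastGrp

/-!
# S1309, unbalanced groups: the Held group

* `card_SS` : `n ≥ 1` members over `z` generate a group of order `2 * 4 ^ n`;
* `false_of_perfect` : `K` in a perfect group which centralises `zz K`, at most 4 members over `zz K`: impossible;
* `held` : the world `W3` is impossible for `F*(G) ≃ He`.
-/

set_option autoImplicit false
set_option linter.style.haveILetI false
set_option linter.unusedSectionVars false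

namespace Cfsg.Agent.Cit.Nil.Unbal.Held

open Subgroup Cfsg Cit Nil Nil.RG QuaternionGroup
open scoped commutatorElement

section count

variable {G : Type*} [Group G] [Finite G] {Om : Set (Subgroup G)} {z : G}

theorem SS_insert {K : Subgroup G} {𝒦 : Set (Subgroup G)} : SS (insert K 𝒦) = K ⊔ SS 𝒦 := by
  apply le_antisymm
  · refine SS_le ?_
    rintro L (rfl | hL)
    · exact le_sup_left
    · exact (le_SS hL).trans le_sup_right
  · exact sup_le (le_SS (Set.mem_insert _ _)) (SS_mono (Set.subset_insert _ _))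

/-- the order of the group generated by members over `z` -/
theorem card_SS (h : WR Om) : ∀ (n : ℕ) (𝒦 : Set (Subgroup G)), 𝒦.ncard = n + 1 → 𝒦 ⊆ Ov Om z →
    Nat.card (SS 𝒦) = 2 * 4 ^ (n + 1) := by
  intro n
  induction n with
  | zero =>
    intro 𝒦 hn h𝒦
    obtain ⟨K, rfl⟩ := Set.ncard_eq_one.1 hn
    have h1 : SS {K} = K := by
      apply le_antisymm
      · refine SS_le ?_
        rintro L rfl
        exact le_rfl
      · exact le_SS rfl
    rw [h1, h.card (h𝒦 rfl).1]; norm_num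
  | succ n ih =>
    intro 𝒦 hn h𝒦
    obtain ⟨K, hK⟩ : 𝒦.Nonempty := by
      rw [Set.nonempty_iff_ne_empty]; rintro rfl; rw [Set.ncard_empty] at hn; omega
    have h1 := Set.ncard_sdiff_singleton_add_one hK (Set.toFinite 𝒦)
    have h2 : (𝒦 \ {K}).ncard = n + 1 := by omega
    have h3 := ih (𝒦 \ {K}) h2 (Set.sdiff_subset.trans h𝒦)
    have h4 : SS 𝒦 = K ⊔ SS (𝒦 \ {K}) := by
      rw [← SS_insert, Set.insert_sdiff_singleton, Set.insert_eq_of_mem hK]
    have hcom : K ≤ centralizer (SS (𝒦 \ {K}) : Set G) := by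
      intro k hk
      rw [mem_centralizer_iff]
      intro w hw
      refine (SS_comm (x := k) (fun L hL l hl => ?_) hw).symm
      exact h.Ov_comm (h𝒦 hK) (h𝒦 hL.1) (fun h1 => hL.2 h1.symm) hk hl
    have h5 := Omega.NoFF.ThmJFam.card_sup_inf hcom
    obtain ⟨L, hL⟩ : (𝒦 \ {K}).Nonempty := by
      rw [Set.nonempty_iff_ne_empty]; intro h6; rw [h6, Set.ncard_empty] at h2; omega
    have hz1 : z ≠ 1 := h.zz_ne ⟨K, h𝒦 hK⟩
    have hzz : z * z = 1 := h.zz_sq ⟨K, h𝒦 hK⟩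
    have h6 : K ⊓ SS (𝒦 \ {K}) = zpowers z := by
      apply le_antisymm
      · rintro x ⟨hx, hx'⟩
        have hx2 : x ∈ SS (𝒦 \ {K}) := hx'
        rcases h.SS_inf (h𝒦 hK) (Set.sdiff_subset.trans h𝒦) (fun h7 : K ∈ 𝒦 \ {K} => h7.2 rfl) hx hx2 with rfl | rfl
        · exact one_mem _
        · exact mem_zpowers _
      · rw [zpowers_le]
        exact ⟨h.Ov_mem (h𝒦 hK), h.zz_SS hL (Set.sdiff_subset.trans h𝒦)⟩
    have h7 : Nat.card (zpowers z) = 2 := by
      rw [Nat.card_zpowers]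
      exact orderOf_eq_prime (by rw [pow_two]; exact hzz) hz1
    rw [← h4, h6, h7, h3, h.card (h𝒦 hK).1] at h5
    have h8 : (4 : ℕ) ^ (n + 1 + 1) = 4 ^ (n + 1) * 4 := pow_succ 4 (n + 1)
    omega

/-- at most 4 members over `z` -/
theorem ncard_le (h : WR Om) {P : Subgroup G} (hP : ∀ K ∈ Ov Om z, K ≤ P) (hc : ¬ 2048 ∣ Nat.card P) :
    (Ov Om z).ncard ≤ 4 := by
  by_contra h1
  push Not at h1
  obtain ⟨n, hn⟩ : ∃ n, (Ov Om z).ncard = n + 1 := ⟨(Ov Om z).ncard - 1, by omega⟩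
  have h2 := card_SS h n (Ov Om z) hn le_rfl
  have h3 : Nat.card (SS (Ov Om z)) ∣ Nat.card P := card_dvd_of_le (SS_le hP)
  apply hc
  refine (Dvd.dvd.trans ?_ h3)
  rw [h2]
  obtain ⟨m, rfl⟩ : ∃ m, n = m + 4 := ⟨n - 4, by omega⟩
  exact ⟨4 ^ m, by rw [show m + 4 + 1 = m + 5 by ring, pow_add]; ring⟩

theorem solvable_mulAut {K : Subgroup G} (e : K ≃* QuaternionGroup 2) : Group.IsSolvable (MulAut K) := by
  have h1 : Nat.card (MulAut K) = 2 ^ 3 * 3 ^ 1 := by
    rw [Nat.card_congr (MulAut.congr e).toEquiv, PermutationGroups.AutQuaternion.card_mulAut]; norm_num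
  have : Finite (MulAut K) := Nat.finite_of_card_ne_zero (by rw [h1]; norm_num)
  exact S0144.result 2 3 3 1 Nat.prime_two Nat.prime_three h1

/-- **a perfect group centralising `z` centralises the members over `z`** (at most 4 members) -/
theorem comm_of_perfect (h : WR Om) {P K : Subgroup G} (hP : ⁅P, P⁆ = P) (hPz : ∀ p ∈ P, p * z = z * p)
    (hK : K ∈ Ov Om z) (hr : (Ov Om z).ncard ≤ 4) : ∀ p ∈ P, ∀ k ∈ K, p * k = k * p := by
  have hn : ∀ p ∈ P, cj p K = K := by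
    let f : P →* Equiv.Perm (Ov Om z) :=
      { toFun := fun p =>
          { toFun := fun L => ⟨cj (p : G) L, h.Ov_cj' L.2 (hPz p p.2)⟩
            invFun := fun L => ⟨cj (p : G)⁻¹ L, h.Ov_cj' L.2 (hPz _ (inv_mem p.2))⟩
            left_inv := fun L => Subtype.ext (by
              change cj (p : G)⁻¹ (cj (p : G) L) = L
              rw [← cj_mul, inv_mul_cancel, cj_one])
            right_inv := fun L => Subtype.ext (by
              change cj (p : G) (cj (p : G)⁻¹ L) = L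
              rw [← cj_mul, mul_inv_cancel, cj_one]) }
        map_one' := by
          ext L
          change _ ∈ cj (1 : G) L ↔ _
          rw [cj_one]; rfl
        map_mul' := fun p q => by
          ext L
          change _ ∈ cj ((p : G) * q) L ↔ _ ∈ cj (p : G) (cj (q : G) L)
          rw [cj_mul] }
    intro p hp
    have h1 := Schreier.Tools.perm_eq_one hP (by rwa [Nat.card_coe_set_eq]) f ⟨p, hp⟩ ⟨K, hK⟩
    exact congrArg Subtype.val h1
  have hPK : P ≤ normalizer (K : Set G) := fun p hp => mem_normalizer_iff_cj.2 (hn p hp)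
  let ψ : P →* MulAut K := (normalizerMonoidHom K).comp (inclusion hPK)
  haveI := solvable_mulAut (h.q8 K hK.1).some
  intro p hp k hk
  have h1 := Schreier.Tools.hom_eq_one hP ψ ⟨p, hp⟩
  have h2 : p * k * p⁻¹ = k := congrArg (fun α : MulAut K => ((α ⟨k, hk⟩ : K) : G)) h1
  rw [mul_inv_eq_iff_eq_mul] at h2
  exact h2

end count

/-! ### The Held group -/

section he

open Cfsg.Agent.SporadicRecognition.HeldModel Cfsg.Agent.KFacts.He.Lv

/-- the property of an involution `t` used below -/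
def Fact (X : Type*) [Group X] (t : X) : Prop :=
  ∀ Q : Subgroup X, Q ≤ centralizer {t} → IsPGroup 2 Q → (∀ c, c * t = t * c → ∀ q ∈ Q, c * q * c⁻¹ ∈ Q) →
    (∀ q ∈ Q, q * q = 1) ∨ (Nat.card Q ∣ 128 ∧ ⁅centralizer {t}, centralizer {t}⁆ = centralizer ({t} : Set X) ∧
      ∀ p, p * t = t * p → (∀ c, c * t = t * c → p * c = c * p) → p = 1 ∨ p = t)

theorem Fact.congr {X Y : Type*} [Group X] [Group Y] (e : X ≃* Y) {t : X} (h : Fact X t) : Fact Y (e t) := by
  intro Q hQ h2 hc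
  have hmem : ∀ x : X, x ∈ centralizer {t} ↔ e x ∈ centralizer {e t} := by
    intro x
    rw [mem_centralizer_singleton_iff, mem_centralizer_singleton_iff, ← map_mul, ← map_mul]
    exact ⟨fun h => congrArg e h, fun h => e.injective h⟩
  have hcm : (centralizer {t}).map e.toMonoidHom = centralizer {e t} := by
    ext y
    constructor
    · rintro ⟨x, hx, rfl⟩
      exact (hmem x).1 hx
    · intro hy
      refine ⟨e.symm y, (hmem _).2 ?_, e.apply_symm_apply y⟩
      rwa [e.apply_symm_apply]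
  have hcard : Nat.card (Q.comap e.toMonoidHom) = Nat.card Q := by
    have h3 : (Q.comap e.toMonoidHom).map e.toMonoidHom = Q := map_comap_eq_self_of_surjective e.surjective Q
    rw [← card_map_of_injective (f := e.toMonoidHom) e.injective, h3]
  rcases h (Q.comap e.toMonoidHom) (fun x hx => (hmem x).2 (hQ hx))
    (h2.comap_of_injective e.toMonoidHom e.injective) (by
      intro c hc' q hq
      change e (c * q * c⁻¹) ∈ Q
      rw [map_mul, map_mul, map_inv]
      exact hc (e c) (by rw [← map_mul, ← map_mul, hc']) _ hq) with h3 | ⟨h3, h4, h5⟩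
  · left
    intro q hq
    have h4 := h3 (e.symm q) (by
      change e (e.symm q) ∈ Q
      rwa [e.apply_symm_apply])
    have h5 := congrArg e h4
    rwa [map_mul, e.apply_symm_apply, map_one] at h5
  · right
    refine ⟨by rwa [hcard] at h3, ?_, ?_⟩
    · rw [← hcm, ← map_commutator, h4]
    · intro p hp hpc
      rcases h5 (e.symm p) (by
        apply e.injective
        rw [map_mul, map_mul, e.apply_symm_apply]; exact hp) (by
          intro c hc'
          apply e.injective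
          rw [map_mul, map_mul, e.apply_symm_apply]
          exact hpc _ (by rw [← map_mul, ← map_mul, hc'])) with h6 | h6
      · left
        have := congrArg e h6
        rwa [e.apply_symm_apply, map_one] at this
      · right
        have := congrArg e h6
        rwa [e.apply_symm_apply] at this

/-- the class of `z` -/
theorem fact_z : Fact Cfsg.Spor.He KFacts.He.Bound.z := by
  intro Q hQ h2 hc
  right
  have h1 := KFacts.TwoSix.Sheet.sheet_of KFacts.He.Hyp.hyp.inj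
  rw [KFacts.He.Hyp.hyp.map_zz, KFacts.He.Hyp.hyp.range] at h1
  refine ⟨?_, h1.perf, ?_⟩
  · rw [← h1.cardR]
    exact card_dvd_of_le (h1.core Q hQ h2 fun p hp y hy => hc p (mem_centralizer_singleton_iff.1 hp) y hy)
  · intro p hp hpc
    exact h1.cR p (mem_centralizer_singleton_iff.2 hp) fun r hr =>
      hpc r (mem_centralizer_singleton_iff.1 (h1.RP hr))

/-- the class of `a`: an invariant 2-subgroup of `C(a)` is elementary abelian -/
theorem sq_a (Q : Subgroup Cfsg.Spor.He) (hQ : Q ≤ centralizer {(gn .a : Cfsg.Spor.He)}) (h2 : IsPGroup 2 Q)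
    (hc : ∀ c : Cfsg.Spor.He, c * gn .a = gn .a * c → ∀ q ∈ Q, c * q * c⁻¹ ∈ Q) : ∀ q ∈ Q, q * q = 1 := by
  have hA := OddHalf.D4.Spor.HeSheet.twoA
  set L := KFacts.He.TwoACent.L with hL
  set V := KFacts.He.TwoACent.V with hV
  have hcV : ∀ x ∈ V, ∀ y ∈ V, x * y = y * x := fun x hx y hy => hA.comm x (hA.VL hx) y hy
  have hLa : ∀ l ∈ L, l * gn .a = gn .a * l := fun l hl => hA.comm l hl _ hA.vV
  -- `Q ⊓ L ≤ V`
  have hQL : Q ⊓ L ≤ V := by
    rcases hA.simp (Q ⊓ L) inf_le_right (fun l hl n hn =>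
      ⟨hc l (hLa l hl) n hn.1, L.mul_mem (L.mul_mem hl hn.2) (L.inv_mem hl)⟩) with h3 | h3
    · exact h3
    · exfalso
      have h4 : L ≤ Q := by rw [← h3]; exact inf_le_left
      have h5 : IsPGroup 2 L := h2.to_le h4
      haveI := KFacts.He.Hyp.finHe
      haveI : _root_.Fact (Nat.Prime 2) := ⟨Nat.prime_two⟩
      haveI : Group.IsNilpotent L := h5.isNilpotent
      haveI : Group.IsSolvable L := inferInstance
      have h6 := Schreier.Tools.hom_eq_one hA.perf (MonoidHom.id L) ⟨gn .a, hA.VL hA.vV⟩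
      exact hA.v1 (congrArg Subtype.val h6)
  have hQV : ∀ q ∈ Q, q ∈ V := by
    intro q hq
    refine hA.cen q fun l hl => ?_
    have h3 := OddHalf.D4.Spor.HeOf.eq_of_central hA.perf hcV hA.comm (MulAut.conj q).toMonoidHom (by
      intro l hl
      refine hQL ⟨?_, ?_⟩
      · have h4 := hc l (hLa l hl) q⁻¹ (Q.inv_mem hq)
        have h5 := Q.mul_mem hq h4
        have h6 : (MulAut.conj q).toMonoidHom l * l⁻¹ = q * (l * q⁻¹ * l⁻¹) := by
          simp [mul_assoc]
        rwa [h6]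
      · exact L.mul_mem (hA.norm q (mem_centralizer_singleton_iff.1 (hQ hq)) l hl) (L.inv_mem hl)) l hl
    have h4 : q * l * q⁻¹ = l := by simpa using h3
    rwa [mul_inv_eq_iff_eq_mul] at h4
  intro q hq
  rcases KFacts.He.TwoACent.V_eq (hQV q hq) with h3 | h3 | h3 | h3
  · rw [h3, one_mul]
  · rw [h3, hA.vv]
  · rw [h3, KFacts.He.TwoACent.v_mul_self]
  · have h4 := hcV _ KFacts.He.TwoACent.v_mem_V _ hA.vV
    rw [h3]
    calc KFacts.He.TwoACent.v * gn .a * (KFacts.He.TwoACent.v * gn .a) =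
        KFacts.He.TwoACent.v * (gn .a * KFacts.He.TwoACent.v) * gn .a := by group
      _ = (KFacts.He.TwoACent.v * KFacts.He.TwoACent.v) * (gn .a * gn .a) := by rw [← h4]; group
      _ = 1 := by rw [KFacts.He.TwoACent.v_mul_self, hA.vv, one_mul]

theorem fact_a : Fact Cfsg.Spor.He (gn .a) := fun Q hQ h2 hc => Or.inl (sq_a Q hQ h2 hc)

/-- every involution of the Held group -/
theorem fact {X : Type*} [Group X] (h : Cfsg.Spor.IsoHe X) {t : X} (ht : t * t = 1) (h1 : t ≠ 1) : Fact X t := by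
  obtain ⟨e⟩ := h
  have hs : e t * e t = 1 := by rw [← map_mul, ht, map_one]
  have hs1 : e t ≠ 1 := fun h2 => h1 (by
    have := congrArg e.symm h2
    rwa [e.symm_apply_apply, map_one] at this)
  have key : ∀ (u g : Cfsg.Spor.He), g * u * g⁻¹ = e t → Fact Cfsg.Spor.He u → Fact X t := by
    intro u g hg hu
    have h2 := (hu.congr (MulAut.conj g)).congr e.symm
    rw [MulAut.conj_apply, hg, e.symm_apply_apply] at h2
    exact h2
  rcases KFacts.He.Classes.two_classes_a hs hs1 with ⟨g, hg⟩ | ⟨g, hg⟩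
  · exact key _ g hg fact_z
  · exact key _ g hg fact_a

/-- `O(C(t)) = 1` -/
def Bal (X : Type*) [Group X] (t : X) : Prop :=
  ∀ I : Subgroup X, (∀ i ∈ I, i * t = t * i) → (∀ c, c * t = t * c → ∀ i ∈ I, c * i * c⁻¹ ∈ I) →
    Odd (Nat.card I) → I = ⊥

theorem Bal.congr {X Y : Type*} [Group X] [Group Y] (e : X ≃* Y) {t : X} (h : Bal X t) : Bal Y (e t) := by
  intro I hI hc ho
  have h3 : (I.comap e.toMonoidHom).map e.toMonoidHom = I := map_comap_eq_self_of_surjective e.surjective I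
  have hcard : Nat.card (I.comap e.toMonoidHom) = Nat.card I := by
    rw [← card_map_of_injective (f := e.toMonoidHom) e.injective, h3]
  have h4 := h (I.comap e.toMonoidHom) (fun i hi => e.injective (by
    rw [map_mul, map_mul]; exact hI _ hi)) (by
      intro c hc' i hi
      change e (c * i * c⁻¹) ∈ I
      rw [map_mul, map_mul, map_inv]
      exact hc (e c) (by rw [← map_mul, ← map_mul, hc']) _ hi) (by rwa [hcard])
  rw [← h3, h4, Subgroup.map_bot]

theorem bal_a : Bal Cfsg.Spor.He (gn .a) := by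
  intro I hI hc ho
  have hA := OddHalf.D4.Spor.HeSheet.twoA
  set L := KFacts.He.TwoACent.L with hL
  set V := KFacts.He.TwoACent.V with hV
  haveI := KFacts.He.Hyp.finHe
  have hcV : ∀ x ∈ V, ∀ y ∈ V, x * y = y * x := fun x hx y hy => hA.comm x (hA.VL hx) y hy
  have hLa : ∀ l ∈ L, l * gn .a = gn .a * l := fun l hl => hA.comm l hl _ hA.vV
  have hcop : ∀ x ∈ I, x ∈ V → x = 1 := by
    intro x hx hxV
    have h1 : Nat.Coprime (Nat.card I) (Nat.card V) := by
      rw [hA.cardV]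
      exact Nat.Coprime.pow_right 2 ho.coprime_two_right
    exact (Subgroup.disjoint_def.1 (Subgroup.disjoint_of_coprime_natCard h1)) hx hxV
  have hIL : ∀ x ∈ I, x ∈ L → x = 1 := by
    intro x hx hxL
    rcases hA.simp (I ⊓ L) inf_le_right (fun l hl n hn =>
      ⟨hc l (hLa l hl) n hn.1, L.mul_mem (L.mul_mem hl hn.2) (L.inv_mem hl)⟩) with h3 | h3
    · exact hcop x hx (h3 ⟨hx, hxL⟩)
    · exfalso
      have h4 : gn .a ∈ I := by
        have : gn .a ∈ I ⊓ L := by rw [h3]; exact hA.VL hA.vV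
        exact this.1
      exact hA.v1 (hcop _ h4 hA.vV)
  rw [eq_bot_iff]
  intro q hq
  rw [mem_bot]
  refine hcop q hq (hA.cen q fun l hl => ?_)
  have h1 : q * l * q⁻¹ * l⁻¹ = 1 := by
    refine hIL _ ?_ ?_
    · have h4 := hc l (hLa l hl) q⁻¹ (I.inv_mem hq)
      have h5 := I.mul_mem hq h4
      have h6 : q * l * q⁻¹ * l⁻¹ = q * (l * q⁻¹ * l⁻¹) := by group
      rwa [h6]
    · exact L.mul_mem (hA.norm q (hI q hq) l hl) (L.inv_mem hl)
  rwa [mul_inv_eq_one, mul_inv_eq_iff_eq_mul] at h1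

/-- `O(C(t)) = 1` for all involutions of the Held group -/
theorem bal {X : Type*} [Group X] (h : Cfsg.Spor.IsoHe X) {t : X} (ht : t * t = 1) (h1 : t ≠ 1) : Bal X t := by
  obtain ⟨e⟩ := h
  have hs : e t * e t = 1 := by rw [← map_mul, ht, map_one]
  have hs1 : e t ≠ 1 := fun h2 => h1 (by
    have := congrArg e.symm h2
    rwa [e.symm_apply_apply, map_one] at this)
  have key : ∀ (u g : Cfsg.Spor.He), g * u * g⁻¹ = e t → Bal Cfsg.Spor.He u → Bal X t := by
    intro u g hg hu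
    have h2 := (hu.congr (MulAut.conj g)).congr e.symm
    rw [MulAut.conj_apply, hg, e.symm_apply_apply] at h2
    exact h2
  rcases KFacts.He.Classes.two_classes_a hs hs1 with ⟨g, hg⟩ | ⟨g, hg⟩
  · exact key _ g hg (OddHalf.D4.Spor.HeSheet.bal_of_hyp KFacts.He.Hyp.hyp)
  · exact key _ g hg bal_a

end he

/-! ### The conclusion -/

section main

variable {G : Type*} [Group G] [Finite G]

theorem index_dvd {X : Subgroup G} [X.Normal] (hcen : centralizer (X : Set G) = ⊥) (hHe : Cfsg.Spor.IsoHe X) :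
    X.index ∣ 2 := by
  have h1 : (MulAut.conj : X →* MulAut X).range.comap (MulAut.conjNormal (H := X)) = X := by
    ext g
    constructor
    · rintro ⟨l, hl⟩
      have h3 : (l : G)⁻¹ * g ∈ centralizer (X : Set G) := by
        rw [mem_centralizer_iff]
        intro x hx
        have h6 : (l : G) * x * (l : G)⁻¹ = g * x * g⁻¹ :=
          congrArg (fun α : MulAut X => ((α ⟨x, hx⟩ : X) : G)) hl
        calc x * ((l : G)⁻¹ * g) = (l : G)⁻¹ * ((l : G) * x * (l : G)⁻¹) * g := by group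
          _ = (l : G)⁻¹ * (g * x * g⁻¹) * g := by rw [h6]
          _ = (l : G)⁻¹ * g * x := by group
      rw [hcen, mem_bot, inv_mul_eq_one] at h3
      rw [← h3]
      exact l.2
    · intro hg
      exact ⟨⟨g, hg⟩, MulEquiv.ext fun x => Subtype.ext rfl⟩
  rcases KFacts.He.Outer.index_le_two hHe with h2 | h2
  · have h3 : X = ⊤ := by
      rw [← h1, Subgroup.index_eq_one.1 h2]; rfl
    rw [h3, index_top]; norm_num
  · haveI := Subgroup.normal_of_index_eq_two h2
    have h3 : X.index = (MulAut.conj : X →* MulAut X).range.relIndex (MulAut.conjNormal (H := X)).range := by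
      conv_lhs => rw [← h1]
      rw [index_comap]
    rw [h3, ← h2]
    exact relIndex_dvd_index_of_normal _ _

/-- **the Held group**: no family of quaternion groups of order 8 satisfies `Hyp` -/
theorem he_false {Om : Set (Subgroup G)} (h : Hyp Om) (h8 : ∀ K ∈ Om, Nat.card K = 8) {K : Subgroup G}
    (hK : K ∈ Om) (fs : AssemblyNil.FS G) (hHe : Cfsg.Spor.IsoHe ↥(generalizedFittingSubgroup G)) : False := by
  have w := WR.of_hyp h h8
  obtain ⟨X, hX⟩ : ∃ X, X = generalizedFittingSubgroup G := ⟨_, rfl⟩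
  have hXn : X.Normal := by rw [hX]; exact Lib.GenFitting.genFitting_normal (G := G)
  have hcen : centralizer (X : Set G) = ⊥ := by rw [hX]; exact End.centralizer_fstar fs.simple fs.na
  rw [← hX] at hHe
  have hi := index_dvd hcen hHe
  have hcases : ∀ g k : G, g ∈ X ∨ k ∈ X ∨ g * k ∈ X := by
    intro g k
    rcases (Nat.dvd_prime Nat.prime_two).1 hi with h1 | h1
    · left; rw [Subgroup.index_eq_one.1 h1]; trivial
    · have h2 := Subgroup.mul_mem_iff_of_index_two h1 (a := g) (b := k)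
      by_cases h3 : g ∈ X
      · exact Or.inl h3
      · by_cases h4 : k ∈ X
        · exact Or.inr (Or.inl h4)
        · exact Or.inr (Or.inr (h2.2 ⟨fun h5 => absurd h5 h3, fun h5 => absurd h5 h4⟩))
  obtain ⟨z, hz⟩ : ∃ z, z = zz K := ⟨_, rfl⟩
  have hKz : K ∈ Ov Om z := ⟨hK, hz.symm⟩
  obtain ⟨y, hy, hyX, hyy⟩ : ∃ y ∈ K, y ∈ X ∧ y * y = z := by
    obtain ⟨a, ha, haa⟩ := w.exists_four hK
    obtain ⟨b, hb, hbb, h1, h2⟩ := w.exists_anti hK ha haa
    have h3 := (w.anti hK ha hb haa hbb h1 h2).2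
    rcases hcases a b with h4 | h4 | h4
    · exact ⟨a, ha, h4, by rw [hz]; exact haa⟩
    · exact ⟨b, hb, h4, by rw [hz]; exact hbb⟩
    · exact ⟨a * b, mul_mem ha hb, h4, by rw [hz]; exact h3⟩
  have hzX : z ∈ X := by rw [← hyy]; exact mul_mem hyX hyX
  have hzz : z * z = 1 := by rw [hz]; exact w.zs hK
  have hz1 : z ≠ 1 := by rw [hz]; exact w.zn hK
  -- the group generated by the members over `z`
  obtain ⟨n, hn⟩ : ∃ n, (Ov Om z).ncard = n + 1 := by
    refine ⟨(Ov Om z).ncard - 1, ?_⟩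
    have : 0 < (Ov Om z).ncard := (Set.ncard_pos (Set.toFinite _)).2 ⟨K, hKz⟩
    omega
  have hcard := card_SS w n (Ov Om z) hn le_rfl
  have h2E : IsPGroup 2 (SS (Ov Om z)) := by
    refine IsPGroup.of_card (n := 2 * (n + 1) + 1) ?_
    rw [hcard, show (4 : ℕ) = 2 ^ 2 by norm_num, ← pow_mul, pow_succ, mul_comm]
  have hconj : ∀ c : G, c * z = z * c → ∀ q ∈ SS (Ov Om z), c * q * c⁻¹ ∈ SS (Ov Om z) := by
    intro c hc
    have h1 : SS (Ov Om z) ≤ (SS (Ov Om z)).comap (MulAut.conj c).toMonoidHom := by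
      refine SS_le fun L hL q hq => ?_
      have h2 : c * q * c⁻¹ ∈ cj c L := conj_mem_cj hq
      exact le_SS (w.Ov_cj' hL hc) h2
    exact fun q hq => h1 hq
  have hcomz : ∀ q ∈ SS (Ov Om z), q * z = z * q := by
    have h1 : SS (Ov Om z) ≤ centralizer {z} := by
      refine SS_le fun L hL q hq => ?_
      rw [mem_centralizer_singleton_iff, ← hL.2]
      exact w.cen hL.1 hq
    exact fun q hq => mem_centralizer_singleton_iff.1 (h1 hq)
  rcases fact hHe (t := ⟨z, hzX⟩) (Subtype.ext hzz) (fun h1 => hz1 (congrArg Subtype.val h1))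
    ((SS (Ov Om z)).subgroupOf X) (by
      intro q hq
      rw [mem_centralizer_singleton_iff]
      exact Subtype.ext (hcomz q hq))
    (h2E.comap_subtype) (by
      intro c hc q hq
      exact hconj c (congrArg Subtype.val hc) q hq) with h1 | ⟨h1, h2, h3⟩
  · have h2 := h1 ⟨y, hyX⟩ (le_SS hKz hy)
    apply hz1
    rw [← hyy]
    exact congrArg Subtype.val h2
  · -- at most 4 members
    have h4 : Nat.card (SS (Ov Om z)) ∣ 256 := by
      have h5 : X.relIndex (SS (Ov Om z)) ∣ 2 := (relIndex_dvd_index_of_normal _ _).trans hi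
      have h6 : Nat.card ((SS (Ov Om z)).subgroupOf X) = Nat.card (X.subgroupOf (SS (Ov Om z))) := by
        rw [← card_map_of_injective X.subtype_injective, ← card_map_of_injective (SS (Ov Om z)).subtype_injective,
          subgroupOf_map_subtype, subgroupOf_map_subtype, inf_comm]
      have h7 := (X.subgroupOf (SS (Ov Om z))).card_mul_index
      rw [← h7, ← h6]
      exact mul_dvd_mul h1 h5
    have hr : (Ov Om z).ncard ≤ 4 := ncard_le w (P := SS (Ov Om z)) (fun K hK => le_SS hK) (by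
      intro h5
      have := Nat.le_of_dvd (by norm_num) (h5.trans h4)
      omega)
    have h5 := comm_of_perfect w (P := (centralizer {(⟨z, hzX⟩ : X)}).map X.subtype) (by
      rw [← map_commutator, h2]) (by
      rintro _ ⟨p, hp, rfl⟩
      exact congrArg Subtype.val (mem_centralizer_singleton_iff.1 hp)) hKz hr
    rcases h3 ⟨y, hyX⟩ (Subtype.ext (by
        change y * z = z * y
        rw [← hyy, mul_assoc])) (fun c hc => Subtype.ext (h5 c ⟨c, mem_centralizer_singleton_iff.2 hc, rfl⟩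
        y hy).symm) with h6 | h6
    · have h7 : y = 1 := congrArg Subtype.val h6
      apply hz1
      rw [← hyy, h7, one_mul]
    · have h7 : y = z := congrArg Subtype.val h6
      apply hz1
      have h8 := hyy
      rw [h7, hzz] at h8
      exact h8.symm

/-- `O(C_G(v)) = 1` for `v ∈ F*(G) ≃ He` -/
theorem core_bot (fs : AssemblyNil.FS G) (hHe : Cfsg.Spor.IsoHe ↥(generalizedFittingSubgroup G)) {v : G}
    (hv : v * v = 1) (h1 : v ≠ 1) (hvX : v ∈ generalizedFittingSubgroup G) :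
    centralizerPPrimeCore 2 v = ⊥ := by
  obtain ⟨X, hX⟩ : ∃ X, X = generalizedFittingSubgroup G := ⟨_, rfl⟩
  have hXn : X.Normal := by rw [hX]; exact Lib.GenFitting.genFitting_normal (G := G)
  have hcen : centralizer (X : Set G) = ⊥ := by rw [hX]; exact End.centralizer_fstar fs.simple fs.na
  rw [← hX] at hHe hvX
  have hi := index_dvd hcen hHe
  have hodd : Odd (Nat.card (centralizerPPrimeCore 2 v)) := by
    have h3 : Nat.card (centralizerPPrimeCore 2 v) = Nat.card (pPrimeCore 2 ↥(centralizer ({v} : Set G))) :=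
      card_map_of_injective (Subgroup.subtype_injective _)
    rw [h3]
    exact Nat.coprime_two_right.mp (Lib.Cores.pPrimeCore_coprime 2)
  have hn : ∀ c : G, c * v = v * c → ∀ i ∈ centralizerPPrimeCore 2 v, c * i * c⁻¹ ∈ centralizerPPrimeCore 2 v := by
    rintro c hc _ ⟨x, hx, rfl⟩
    exact ⟨_, (Lib.Cores.pPrimeCore_normal 2).conj_mem x hx ⟨c, mem_centralizer_singleton_iff.2 hc⟩, rfl⟩
  have hcv : ∀ i ∈ centralizerPPrimeCore 2 v, i * v = v * i := by
    rintro _ ⟨x, -, rfl⟩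
    exact mem_centralizer_singleton_iff.1 x.2
  -- `O(C(v)) ≤ X`
  have hle : centralizerPPrimeCore 2 v ≤ X := by
    intro x hx
    have h3 : Odd (orderOf x) := by
      have h4 : orderOf (⟨x, hx⟩ : centralizerPPrimeCore 2 v) ∣ Nat.card (centralizerPPrimeCore 2 v) :=
        orderOf_dvd_natCard _
      rw [Subgroup.orderOf_mk] at h4
      exact Odd.of_dvd_nat hodd h4
    have h4 : x ^ 2 ∈ X := by
      rcases (Nat.dvd_prime Nat.prime_two).1 hi with h5 | h5
      · rw [Subgroup.index_eq_one.1 h5]; trivial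
      · exact Subgroup.sq_mem_of_index_two h5 x
    obtain ⟨m, hm⟩ := h3
    have h5 : x = (x ^ 2) ^ (m + 1) := by
      rw [← pow_mul, show 2 * (m + 1) = (2 * m + 1) + 1 by ring, pow_succ, ← hm, pow_orderOf_eq_one, one_mul]
    rw [h5]
    exact pow_mem h4 _
  have h3 := bal hHe (t := ⟨v, hvX⟩) (Subtype.ext hv) (fun h => h1 (congrArg Subtype.val h))
    ((centralizerPPrimeCore 2 v).subgroupOf X) (fun i hi => Subtype.ext (hcv i hi))
    (fun c hc i hi => hn c (congrArg Subtype.val hc) i hi) (by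
      rw [← card_map_of_injective X.subtype_injective, map_subgroupOf_eq_of_le hle]
      exact hodd)
  rw [← map_subgroupOf_eq_of_le hle, h3, Subgroup.map_bot]

end main

end Cfsg.Agent.Cit.Nil.Unbal.Held
end

-- part: Cit/Nil/Unbal/HeldQ
section
prune_inst 0x10004100042200000000000000000000000000000000000020400000080000410000000000100210010000a000000000108800090010000000000200400004010000000080180c00100000008800000000000000000000000000000000000000200000000
set_option linter.all false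
open scoped Cfsg.Agent.FastGrp

/-!
# S1309, the Held group, members of arbitrary order

`he_false_q` : `F*(G) ≃ He`, `Hyp Om`, the members are 2-nilpotent: impossible.
-/

set_option autoImplicit false
set_option linter.style.haveILetI false
set_option linter.unusedSectionVars false

namespace Cfsg.Agent.Cit.Nil.Unbal.HeldQ

open Subgroup Cfsg Cit Nil Nil.RG
open Cfsg.Agent.Cit.Nil.Unbal.Held (SS_insert index_dvd core_bot)
open scoped commutatorElement

section count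

variable {G : Type*} [Group G] [Finite G]

/-- a family of pairwise commuting subgroups with centre `⟨z⟩` -/
structure Fam (z : G) (𝒦 : Set (Subgroup G)) : Prop where
  zz : z * z = 1
  z1 : z ≠ 1
  mem : ∀ L ∈ 𝒦, z ∈ L
  card : ∀ L ∈ 𝒦, 8 ≤ Nat.card L
  cen : ∀ L ∈ 𝒦, ∀ x ∈ L, (∀ k ∈ L, x * k = k * x) → x = 1 ∨ x = z
  comm : ∀ L ∈ 𝒦, ∀ M ∈ 𝒦, L ≠ M → ∀ a ∈ L, ∀ b ∈ M, a * b = b * a

theorem Fam.mono {z : G} {𝒦 𝒦' : Set (Subgroup G)} (h : Fam z 𝒦) (hs : 𝒦' ⊆ 𝒦) : Fam z 𝒦' where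
  zz := h.zz
  z1 := h.z1
  mem := fun L hL => h.mem L (hs hL)
  card := fun L hL => h.card L (hs hL)
  cen := fun L hL => h.cen L (hs hL)
  comm := fun L hL M hM => h.comm L (hs hL) M (hs hM)

theorem Fam.card_SS {z : G} : ∀ (n : ℕ) (𝒦 : Set (Subgroup G)), Fam z 𝒦 → 𝒦.ncard = n + 1 →
    2 * 4 ^ (n + 1) ≤ Nat.card (SS 𝒦) := by
  intro n
  induction n with
  | zero =>
    intro 𝒦 h hn
    obtain ⟨K, rfl⟩ := Set.ncard_eq_one.1 hn
    refine le_trans ?_ (Subgroup.card_le_of_le (le_SS (𝒦 := {K}) rfl))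
    have := h.card K rfl
    omega
  | succ n ih =>
    intro 𝒦 h hn
    obtain ⟨K, hK⟩ : 𝒦.Nonempty := by
      rw [Set.nonempty_iff_ne_empty]; rintro rfl; rw [Set.ncard_empty] at hn; omega
    have h1 := Set.ncard_sdiff_singleton_add_one hK (Set.toFinite 𝒦)
    have h2 : (𝒦 \ {K}).ncard = n + 1 := by omega
    have h3 := ih (𝒦 \ {K}) (h.mono Set.sdiff_subset) h2
    have h4 : SS 𝒦 = K ⊔ SS (𝒦 \ {K}) := by
      rw [← SS_insert, Set.insert_sdiff_singleton, Set.insert_eq_of_mem hK]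
    have hcom : K ≤ centralizer (SS (𝒦 \ {K}) : Set G) := by
      intro k hk
      rw [mem_centralizer_iff]
      intro w hw
      refine (SS_comm (x := k) (fun L hL l hl => ?_) hw).symm
      exact h.comm K hK L hL.1 (fun h1 => hL.2 h1.symm) k hk l hl
    have h5 := Omega.NoFF.ThmJFam.card_sup_inf hcom
    have h6 : Nat.card (K ⊓ SS (𝒦 \ {K}) : Subgroup G) ≤ 2 := by
      have h7 : K ⊓ SS (𝒦 \ {K}) ≤ zpowers z := by
        rintro x ⟨hx, hx'⟩
        rcases h.cen K hK x hx (fun k hk => (mem_centralizer_iff.1 (hcom hk) x hx')) with h8 | h8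
        · rw [h8]; exact one_mem _
        · rw [h8]; exact mem_zpowers _
      refine (Subgroup.card_le_of_le h7).trans ?_
      rw [Nat.card_zpowers]
      exact orderOf_le_of_pow_eq_one (by norm_num) (by rw [pow_two]; exact h.zz)
    rw [← h4] at h5
    have h8 := h.card K hK
    have h9 : (4 : ℕ) ^ (n + 1 + 1) = 4 ^ (n + 1) * 4 := pow_succ 4 (n + 1)
    have h10 : 8 * (2 * 4 ^ (n + 1)) ≤ Nat.card (SS 𝒦) * 2 :=
      calc 8 * (2 * 4 ^ (n + 1)) ≤ Nat.card K * Nat.card (SS (𝒦 \ {K})) := Nat.mul_le_mul h8 h3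
        _ = Nat.card (SS 𝒦) * Nat.card (K ⊓ SS (𝒦 \ {K}) : Subgroup G) := h5.symm
        _ ≤ Nat.card (SS 𝒦) * 2 := Nat.mul_le_mul_left _ h6
    omega

end count

/-! ### The Held group -/

section he

open Cfsg.Agent.SporadicRecognition.HeldModel Cfsg.Agent.KFacts.He.Lv

/-- the property of an involution `t` used below -/
def Fact (X : Type*) [Group X] (t : X) : Prop :=
  ∀ Q : Subgroup X, Q ≤ centralizer {t} → IsPGroup 2 Q → (∀ c, c * t = t * c → ∀ q ∈ Q, c * q * c⁻¹ ∈ Q) →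
    (∀ q ∈ Q, q * q = 1) ∨ (Nat.card Q ∣ 128 ∧ ⁅centralizer {t}, centralizer {t}⁆ = centralizer ({t} : Set X) ∧
      ((∀ q ∈ Q, q = 1 ∨ q = t) ∨ ∃ q ∈ Q, q * q = 1 ∧ q ≠ 1 ∧ q ≠ t))

theorem Fact.congr {X Y : Type*} [Group X] [Group Y] (e : X ≃* Y) {t : X} (h : Fact X t) : Fact Y (e t) := by
  intro Q hQ h2 hc
  have hmem : ∀ x : X, x ∈ centralizer {t} ↔ e x ∈ centralizer {e t} := by
    intro x
    rw [mem_centralizer_singleton_iff, mem_centralizer_singleton_iff, ← map_mul, ← map_mul]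
    exact ⟨fun h => congrArg e h, fun h => e.injective h⟩
  have hcm : (centralizer {t}).map e.toMonoidHom = centralizer {e t} := by
    ext y
    constructor
    · rintro ⟨x, hx, rfl⟩
      exact (hmem x).1 hx
    · intro hy
      refine ⟨e.symm y, (hmem _).2 ?_, e.apply_symm_apply y⟩
      rwa [e.apply_symm_apply]
  have hcard : Nat.card (Q.comap e.toMonoidHom) = Nat.card Q := by
    have h3 : (Q.comap e.toMonoidHom).map e.toMonoidHom = Q := map_comap_eq_self_of_surjective e.surjective Q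
    rw [← card_map_of_injective (f := e.toMonoidHom) e.injective, h3]
  have hq : ∀ q ∈ Q, e.symm q ∈ Q.comap e.toMonoidHom := by
    intro q hq
    change e (e.symm q) ∈ Q
    rwa [e.apply_symm_apply]
  rcases h (Q.comap e.toMonoidHom) (fun x hx => (hmem x).2 (hQ hx))
    (h2.comap_of_injective e.toMonoidHom e.injective) (by
      intro c hc' q hq
      change e (c * q * c⁻¹) ∈ Q
      rw [map_mul, map_mul, map_inv]
      exact hc (e c) (by rw [← map_mul, ← map_mul, hc']) _ hq) with h3 | ⟨h3, h4, h5⟩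
  · left
    intro q hq'
    have h5 := congrArg e (h3 _ (hq q hq'))
    rwa [map_mul, e.apply_symm_apply, map_one] at h5
  · right
    refine ⟨by rwa [hcard] at h3, ?_, ?_⟩
    · rw [← hcm, ← map_commutator, h4]
    · rcases h5 with h5 | ⟨q, hq1, hq2, hq3, hq4⟩
      · left
        intro q hq'
        rcases h5 _ (hq q hq') with h6 | h6
        · left
          have := congrArg e h6
          rwa [e.apply_symm_apply, map_one] at this
        · right
          have := congrArg e h6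
          rwa [e.apply_symm_apply] at this
      · right
        refine ⟨e q, hq1, by rw [← map_mul, hq2, map_one], fun h6 => hq3 ?_, fun h6 => hq4 (e.injective h6)⟩
        exact e.injective (by rw [h6, map_one])

theorem exists_inv {G : Type*} [Group G] {z : G} {P R E : Subgroup G} (h : KFacts.TwoSix.SheetDef.Half z P R E)
    {Y : Subgroup G} (hY : E ≤ Y) : ∃ q ∈ Y, q * q = 1 ∧ q ≠ 1 ∧ q ≠ z := by
  by_contra hcon
  push Not at hcon
  haveI : Finite E := Nat.finite_of_card_ne_zero (by rw [h.cardE]; norm_num)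
  have h1 : (E : Set G) ⊆ {1, z} := by
    intro x hx
    by_cases hx1 : x = 1
    · exact Or.inl hx1
    · exact Or.inr (hcon x (hY hx) (h.sqE x hx) hx1)
  have h2 : (E : Set G).ncard ≤ 2 := (Set.ncard_le_ncard h1 (Set.toFinite _)).trans (Set.ncard_insert_le _ _ |>.trans (by simp))
  have h3 : (E : Set G).ncard = 16 := by rw [← h.cardE]; exact (Nat.card_coe_set_eq _).symm
  omega

/-- the class of `z` -/
theorem fact_z : Fact Cfsg.Spor.He KFacts.He.Bound.z := by
  intro Q hQ h2 hc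
  right
  have h1 := KFacts.TwoSix.Sheet.sheet_of KFacts.He.Hyp.hyp.inj
  rw [KFacts.He.Hyp.hyp.map_zz, KFacts.He.Hyp.hyp.range] at h1
  have h3 := h1.core Q hQ h2 fun p hp y hy => hc p (mem_centralizer_singleton_iff.1 hp) y hy
  refine ⟨?_, h1.perf, ?_⟩
  · rw [← h1.cardR]
    exact card_dvd_of_le h3
  · rcases h1.sub Q h3 fun p hp y hy => hc p (mem_centralizer_singleton_iff.1 hp) y hy with h4 | h4 | h4 | h4
    · exact Or.inl h4
    · exact Or.inr (exists_inv h1.h1 h4.ge)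
    · exact Or.inr (exists_inv h1.h2 h4.ge)
    · exact Or.inr (exists_inv h1.h1 (h1.h1.ER.trans h4.ge))

/-- the class of `a` -/
theorem fact_a : Fact Cfsg.Spor.He (gn .a) := fun Q hQ h2 hc => Or.inl (Held.sq_a Q hQ h2 hc)

/-- every involution of the Held group -/
theorem fact {X : Type*} [Group X] (h : Cfsg.Spor.IsoHe X) {t : X} (ht : t * t = 1) (h1 : t ≠ 1) : Fact X t := by
  obtain ⟨e⟩ := h
  have hs : e t * e t = 1 := by rw [← map_mul, ht, map_one]
  have hs1 : e t ≠ 1 := fun h2 => h1 (by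
    have := congrArg e.symm h2
    rwa [e.symm_apply_apply, map_one] at this)
  have key : ∀ (u g : Cfsg.Spor.He), g * u * g⁻¹ = e t → Fact Cfsg.Spor.He u → Fact X t := by
    intro u g hg hu
    have h2 := (hu.congr (MulAut.conj g)).congr e.symm
    rw [MulAut.conj_apply, hg, e.symm_apply_apply] at h2
    exact h2
  rcases KFacts.He.Classes.two_classes_a hs hs1 with ⟨g, hg⟩ | ⟨g, hg⟩
  · exact key _ g hg fact_z
  · exact key _ g hg fact_a

end he

/-! ### The conclusion -/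

section main

variable {G : Type*} [Group G] [Finite G]

/-- a perfect group acting on at most 4 subgroups by conjugation normalises them -/
theorem norm_of_perfect {𝒦 : Set (Subgroup G)} {P : Subgroup G} (hP : ⁅P, P⁆ = P)
    (hact : ∀ p ∈ P, ∀ L ∈ 𝒦, cj p L ∈ 𝒦) (hr : 𝒦.ncard ≤ 4) : ∀ p ∈ P, ∀ L ∈ 𝒦, cj p L = L := by
  let f : P →* Equiv.Perm 𝒦 :=
    { toFun := fun p =>
        { toFun := fun L => ⟨cj (p : G) L, hact p p.2 L L.2⟩
          invFun := fun L => ⟨cj (p : G)⁻¹ L, hact _ (inv_mem p.2) L L.2⟩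
          left_inv := fun L => Subtype.ext (by
            change cj (p : G)⁻¹ (cj (p : G) L) = L
            rw [← cj_mul, inv_mul_cancel, cj_one])
          right_inv := fun L => Subtype.ext (by
            change cj (p : G) (cj (p : G)⁻¹ L) = L
            rw [← cj_mul, mul_inv_cancel, cj_one]) }
      map_one' := by
        ext L
        change _ ∈ cj (1 : G) L ↔ _
        rw [cj_one]; rfl
      map_mul' := fun p q => by
        ext L
        change _ ∈ cj ((p : G) * q) L ↔ _ ∈ cj (p : G) (cj (q : G) L)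
        rw [cj_mul] }
  intro p hp L hL
  have h1 := Schreier.Tools.perm_eq_one hP (by rwa [Nat.card_coe_set_eq]) f ⟨p, hp⟩ ⟨L, hL⟩
  exact congrArg Subtype.val h1

/-- **the Held group**: no family of 2-nilpotent subgroups satisfies `Hyp` -/
theorem he_false_q {Om : Set (Subgroup G)} (h : Hyp Om) (hn : ∀ K ∈ Om, NilK K) {K : Subgroup G}
    (hK : K ∈ Om) (fs : AssemblyNil.FS G) (hHe : Cfsg.Spor.IsoHe ↥(generalizedFittingSubgroup G)) : False := by
  haveI : _root_.Fact (Nat.Prime 2) := ⟨Nat.prime_two⟩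
  have hfs := fs
  obtain ⟨X, hX⟩ : ∃ X, X = generalizedFittingSubgroup G := ⟨_, rfl⟩
  have hXn : X.Normal := by rw [hX]; exact Lib.GenFitting.genFitting_normal (G := G)
  have hcen : centralizer (X : Set G) = ⊥ := by rw [hX]; exact End.centralizer_fstar fs.simple fs.na
  have hHe' := hHe
  rw [← hX] at hHe
  have hi := index_dvd hcen hHe
  have hcases : ∀ g k : G, g ∈ X ∨ k ∈ X ∨ g * k ∈ X := by
    intro g k
    rcases (Nat.dvd_prime Nat.prime_two).1 hi with h1 | h1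
    · left; rw [Subgroup.index_eq_one.1 h1]; trivial
    · have h2 := Subgroup.mul_mem_iff_of_index_two h1 (a := g) (b := k)
      by_cases h3 : g ∈ X
      · exact Or.inl h3
      · by_cases h4 : k ∈ X
        · exact Or.inr (Or.inl h4)
        · exact Or.inr (Or.inr (h2.2 ⟨fun h5 => absurd h5 h3, fun h5 => absurd h5 h4⟩))
  -- the members
  have hyx : ∀ L ∈ Om, ∃ y ∈ L, y ∈ X ∧ y * y = zz L := by
    intro L hL
    obtain ⟨Q, hQ⟩ := Hyp.exists_syl L
    obtain ⟨c, v, n, hq⟩ := h.exists_gq hL hQ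
    have hd : c ^ 2 ^ n * c ^ 2 ^ n = zz L := by
      rw [← pow_add, ← two_mul, ← pow_succ']; exact hq.z_eq
    have hdm : c ^ 2 ^ n ∈ L := pow_mem (hQ.1 hq.c_mem) _
    rcases hcases v (c ^ 2 ^ n) with h4 | h4 | h4
    · exact ⟨v, hQ.1 hq.v_mem, h4, hq.v_sq⟩
    · exact ⟨_, hdm, h4, hd⟩
    · refine ⟨v * c ^ 2 ^ n, mul_mem (hQ.1 hq.v_mem) hdm, h4, ?_⟩
      calc (v * c ^ 2 ^ n) * (v * c ^ 2 ^ n) = (v * c ^ 2 ^ n) * ((c ^ 2 ^ n)⁻¹ * v) := by rw [hq.conj_pow]
        _ = v * v := by group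
        _ = zz L := hq.v_sq
  have hzX : ∀ L ∈ Om, zz L ∈ X := by
    intro L hL
    obtain ⟨y, -, hy, hyy⟩ := hyx L hL
    rw [← hyy]; exact mul_mem hy hy
  have hO : ∀ L ∈ Om, OO L = ⊥ := fun L hL => ROne.OO_eq_bot h hL
    (core_bot hfs hHe' (h.zz_mul hL) (h.zz_ne hL) (by rw [← hX]; exact hzX L hL))
  have hsyl : ∀ L ∈ Om, Syl L L := by
    intro L hL
    obtain ⟨Q, hQ⟩ := Hyp.exists_syl L
    have h1 := hn L hL Q hQ
    rw [hO L hL, bot_sup_eq] at h1
    rwa [le_antisymm hQ.1 h1] at hQ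
  have hcomm : ∀ L ∈ Om, ∀ M ∈ Om, zz L = zz M → L ≠ M → ∀ a ∈ L, ∀ b ∈ M, a * b = b * a := by
    intro L hL M hM hz hne
    rcases h.h2 L hL M hM hz with h1 | h1
    · exact absurd h1 hne
    · rw [hO L hL, bot_inf_eq, le_bot_iff, commutator_eq_bot_iff_le_centralizer] at h1
      intro a ha b hb
      exact (mem_centralizer_iff.1 (h1 ha) b hb).symm
  obtain ⟨z, hz⟩ : ∃ z, z = zz K := ⟨_, rfl⟩
  have hKz : K ∈ Ov Om z := ⟨hK, hz.symm⟩
  obtain ⟨y, hy, hyX, hyy⟩ := hyx K hK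
  rw [← hz] at hyy
  have hzX' : z ∈ X := by rw [hz]; exact hzX K hK
  have hzz : z * z = 1 := by rw [hz]; exact h.zz_mul hK
  have hz1 : z ≠ 1 := by rw [hz]; exact h.zz_ne hK
  have hact : ∀ c : G, c * z = z * c → ∀ L ∈ Ov Om z, cj c L ∈ Ov Om z := by
    intro c hc L hL
    refine ⟨h.conj L hL.1 c, ?_⟩
    rw [h.zz_cj hL.1, hL.2, hc, mul_inv_cancel_right]
  have fam : Fam z (Ov Om z) := by
    refine ⟨hzz, hz1, fun L hL => by rw [← hL.2]; exact h.zz_mem hL.1, fun L hL => ?_, fun L hL x hx hxk => ?_,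
      fun L hL M hM hne => hcomm L hL.1 M hM.1 (by rw [hL.2, hM.2]) hne⟩
    · obtain ⟨n, ⟨e⟩⟩ := h.isGQ hL.1 (hsyl L hL.1)
      haveI : NeZero (2 ^ (n + 1)) := ⟨by positivity⟩
      rw [Nat.card_congr e.toEquiv, Nat.card_eq_fintype_card, QuaternionGroup.card]
      have h1 : 2 ^ 1 ≤ 2 ^ (n + 1) := Nat.pow_le_pow_right (by norm_num) (by omega)
      omega
    · obtain ⟨c, v, n, hq⟩ := h.exists_gq hL.1 (hsyl L hL.1)
      rw [hL.2] at hq
      by_cases hx1 : x = 1
      · exact Or.inl hx1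
      right
      rcases hq.cov x hx with ⟨i, rfl⟩ | ⟨i, rfl⟩
      · refine hq.eq_z hx ?_ hx1
        have h1 := hxk v hq.v_mem
        rw [hq.conj_pow] at h1
        have h2 : c ^ i = (c ^ i)⁻¹ := mul_right_cancel h1
        nth_rewrite 1 [h2]
        exact inv_mul_cancel _
      · exfalso
        apply hq.not_comm
        have h1 := hxk c hq.c_mem
        have h2 : c ^ i * c = c * c ^ i := by rw [← pow_succ, ← pow_succ']
        have h3 : v * c * c ^ i = c * v * c ^ i := by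
          calc v * c * c ^ i = v * (c * c ^ i) := by group
            _ = v * c ^ i * c := by rw [← h2]; group
            _ = c * v * c ^ i := by rw [h1]; group
        exact mul_right_cancel h3
  have hcomz : ∀ L ∈ Ov Om z, ∀ q ∈ L, q * z = z * q := by
    intro L hL q hq
    rw [← hL.2]
    exact h.comm_zz hL.1 (le_normalizer hq)
  -- `SS (Ov Om z)` is a 2-group
  have h2E : IsPGroup 2 (SS (Ov Om z)) := by
    have h1 : SS (Ov Om z) ≤ (pCore 2 (centralizer ({z} : Set G))).map (centralizer ({z} : Set G)).subtype := by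
      refine SS_le fun L hL x hx => ?_
      have h3 := h.sub L hL.1
      rw [hL.2] at h3
      have h4 : IsPGroup 2 (L.subgroupOf (centralizer ({z} : Set G))) := (hsyl L hL.1).2.1.comap_subtype
      have h5 := SignalizersComponents.CompBasic.subnormal_pGroup_le_pCore h3 h4
      exact ⟨⟨x, mem_centralizer_singleton_iff.2 (hcomz L hL x hx)⟩, h5 hx, rfl⟩
    exact ((Lib.Cores.pCore_isPGroup 2).map _).to_le h1
  have hconj : ∀ c : G, c * z = z * c → ∀ q ∈ SS (Ov Om z), c * q * c⁻¹ ∈ SS (Ov Om z) := by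
    intro c hc
    have h1 : SS (Ov Om z) ≤ (SS (Ov Om z)).comap (MulAut.conj c).toMonoidHom := by
      refine SS_le fun L hL q hq => ?_
      have h2 : c * q * c⁻¹ ∈ cj c L := conj_mem_cj hq
      exact le_SS (hact c hc L hL) h2
    exact fun q hq => h1 hq
  have hcomE : ∀ q ∈ SS (Ov Om z), q * z = z * q := by
    have h1 : SS (Ov Om z) ≤ centralizer {z} := by
      refine SS_le fun L hL q hq => ?_
      rw [mem_centralizer_singleton_iff]
      exact hcomz L hL q hq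
    exact fun q hq => mem_centralizer_singleton_iff.1 (h1 hq)
  have hf := fact hHe (t := ⟨z, hzX'⟩) (Subtype.ext hzz) (fun h1 => hz1 (congrArg Subtype.val h1))
  rcases hf ((SS (Ov Om z)).subgroupOf X) (by
      intro q hq
      rw [mem_centralizer_singleton_iff]
      exact Subtype.ext (hcomE q hq))
    (h2E.comap_subtype) (by
      intro c hc q hq
      exact hconj c (congrArg Subtype.val hc) q hq) with h1 | ⟨h1, h2, -⟩
  · have h2 := h1 ⟨y, hyX⟩ (le_SS hKz hy)
    apply hz1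
    rw [← hyy]
    exact congrArg Subtype.val h2
  · -- at most 4 members
    have h4 : Nat.card (SS (Ov Om z)) ∣ 256 := by
      have h5 : X.relIndex (SS (Ov Om z)) ∣ 2 := (relIndex_dvd_index_of_normal _ _).trans hi
      have h6 : Nat.card ((SS (Ov Om z)).subgroupOf X) = Nat.card (X.subgroupOf (SS (Ov Om z))) := by
        rw [← card_map_of_injective X.subtype_injective, ← card_map_of_injective (SS (Ov Om z)).subtype_injective,
          subgroupOf_map_subtype, subgroupOf_map_subtype, inf_comm]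
      have h7 := (X.subgroupOf (SS (Ov Om z))).card_mul_index
      rw [← h7, ← h6]
      exact mul_dvd_mul h1 h5
    have hr : (Ov Om z).ncard ≤ 4 := by
      by_contra hcon
      push Not at hcon
      obtain ⟨n, hn'⟩ : ∃ n, (Ov Om z).ncard = n + 1 := ⟨(Ov Om z).ncard - 1, by omega⟩
      have h5 := fam.card_SS n _ hn'
      have h6 : Nat.card (SS (Ov Om z)) ≤ 256 := Nat.le_of_dvd (by norm_num) h4
      have h7 : 4 ^ 5 ≤ 4 ^ (n + 1) := Nat.pow_le_pow_right (by norm_num) (by omega)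
      norm_num at h7
      omega
    set P := (centralizer {(⟨z, hzX'⟩ : X)}).map X.subtype with hPdef
    have hPz : ∀ p ∈ P, p * z = z * p := by
      rintro _ ⟨p, hp, rfl⟩
      exact congrArg Subtype.val (mem_centralizer_singleton_iff.1 hp)
    have h5 := norm_of_perfect (𝒦 := Ov Om z) (P := P) (by
      rw [hPdef, ← map_commutator, h2]) (fun p hp L hL => hact p (hPz p hp) L hL) hr
    -- `K ⊓ X`
    rcases hf (K.subgroupOf X) (by
        intro q hq
        rw [mem_centralizer_singleton_iff]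
        exact Subtype.ext (hcomz K hKz q hq))
      ((hsyl K hK).2.1.comap_subtype) (by
        intro c hc q hq
        have h6 : (c : G) ∈ P := ⟨c, mem_centralizer_singleton_iff.2 hc, rfl⟩
        have h7 : (c : G) * q * (c : G)⁻¹ ∈ cj (c : G) K := conj_mem_cj hq
        rw [h5 c h6 K hKz] at h7
        exact h7) with h6 | ⟨-, -, h6 | ⟨q, hq1, hq2, hq3, hq4⟩⟩
    · have h7 := h6 ⟨y, hyX⟩ hy
      apply hz1
      rw [← hyy]
      exact congrArg Subtype.val h7
    · rcases h6 ⟨y, hyX⟩ hy with h7 | h7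
      · have h8 : y = 1 := congrArg Subtype.val h7
        apply hz1
        rw [← hyy, h8, one_mul]
      · have h8 : y = z := congrArg Subtype.val h7
        apply hz1
        have h9 := hyy
        rw [h8, hzz] at h9
        exact h9.symm
    · apply hq4
      apply Subtype.ext
      change (q : G) = z
      rw [hz]
      exact h.eq_zz hK hq1 (congrArg Subtype.val hq2) (fun h7 => hq3 (Subtype.ext h7))

end main

end Cfsg.Agent.Cit.Nil.Unbal.HeldQ
end
end
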